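import Cfsg.Prelude.Def_Sporadic_a

/-! Transport of automorphism groups of set systems along a bijection. -/

set_option autoImplicit false

namespace Cfsg.Agent.Spor.SteinerAut

open Finset Cfsg
open scoped Pointwise

variable {α β : Type*} [DecidableEq α] [DecidableEq β]

theorem mem_aut {B : Set (Finset α)} {g : Equiv.Perm α} :
    g ∈ setSystemAut B ↔ ∀ b, b.image g ∈ B ↔ b ∈ B := by
  rw [setSystemAut, MulAction.mem_stabilizer_set]
  exact forall_congr' fun b => Iff.rfl

theorem conj_mem {B : Set (Finset α)} {B' : Set (Finset β)} (e : α ≃ β) (he : ∀ b, b ∈ B ↔ b.image e ∈ B')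
    {g : Equiv.Perm α} (hg : g ∈ setSystemAut B) : e.permCongr g ∈ setSystemAut B' := by
  rw [mem_aut] at hg ⊢
  intro c
  obtain ⟨b, rfl⟩ : ∃ b : Finset α, b.image e = c := ⟨c.image e.symm, by rw [image_image]; simp⟩
  rw [← he, image_image, show (⇑(e.permCongr g) ∘ ⇑e) = ⇑e ∘ ⇑g from funext fun x => by simp [Equiv.permCongr_apply],
    ← image_image, ← he]
  exact hg b

theorem conj_mem' {B : Set (Finset α)} {B' : Set (Finset β)} (e : α ≃ β) (he : ∀ b, b ∈ B ↔ b.image e ∈ B')
    {g : Equiv.Perm β} (hg : g ∈ setSystemAut B') : e.symm.permCongr g ∈ setSystemAut B :=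
  conj_mem e.symm (fun c => by rw [he, image_image]; simp) hg

/-- The automorphism groups of corresponding systems. -/
def autEquiv {B : Set (Finset α)} {B' : Set (Finset β)} (e : α ≃ β) (he : ∀ b, b ∈ B ↔ b.image e ∈ B') :
    setSystemAut B ≃* setSystemAut B' where
  toFun g := ⟨e.permCongr g, conj_mem e he g.2⟩
  invFun g := ⟨e.symm.permCongr g, conj_mem' e he g.2⟩
  left_inv g := Subtype.ext (Equiv.ext fun x => by simp [Equiv.permCongr_apply])
  right_inv g := Subtype.ext (Equiv.ext fun x => by simp [Equiv.permCongr_apply])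
  map_mul' g h := Subtype.ext (Equiv.ext fun x => by simp [Equiv.permCongr_apply, Equiv.Perm.mul_apply])

theorem autEquiv_apply {B : Set (Finset α)} {B' : Set (Finset β)} (e : α ≃ β) (he : ∀ b, b ∈ B ↔ b.image e ∈ B')
    (g : setSystemAut B) (x : α) : (autEquiv e he g : Equiv.Perm β) (e x) = e ((g : Equiv.Perm α) x) := by
  simp [autEquiv, Equiv.permCongr_apply]

theorem pretransitive {B : Set (Finset α)} {B' : Set (Finset β)} (e : α ≃ β) (he : ∀ b, b ∈ B ↔ b.image e ∈ B')
    {n : ℕ} (h : MulAction.IsMultiplyPretransitive (setSystemAut B') β n) :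
    MulAction.IsMultiplyPretransitive (setSystemAut B) α n := by
  refine ⟨fun x y => ?_⟩
  obtain ⟨g, hg⟩ := h.exists_smul_eq (x.trans e.toEmbedding) (y.trans e.toEmbedding)
  refine ⟨(autEquiv e he).symm g, Function.Embedding.ext fun i => ?_⟩
  have := DFunLike.congr_fun hg i
  show e.symm.permCongr (g : Equiv.Perm β) (x i) = y i
  rw [Equiv.permCongr_apply, Equiv.symm_symm]
  exact (Equiv.symm_apply_eq e).mpr this

end Cfsg.Agent.Spor.SteinerAut
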