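import Cfsg.Agent.Lib.Spor.PlaneFourIso
import Cfsg.Agent.Lib.Spor.SteinerAut

/-! Uniqueness of the projective plane of order four. -/

set_option autoImplicit false

namespace Cfsg.Agent.Spor.PlaneFour

open Finset Cfsg
open scoped Pointwise

variable {α β : Type*} [Fintype α] [DecidableEq α] [Fintype β] [DecidableEq β]

theorem iso (hα : Fintype.card α = 21) (hβ : Fintype.card β = 21) {L : Set (Finset α)} {L' : Set (Finset β)}
    (hL : IsSteinerSystem 2 5 L) (hL' : IsSteinerSystem 2 5 L') : SetSystemIso L L' := by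
  obtain ⟨H, hH⟩ := exists_oval (L := L) ⟨hα, hL⟩
  obtain ⟨H', hH'⟩ := exists_oval (L := L') ⟨hβ, hL'⟩
  let σ : H ≃ H' := Fintype.equivOfCardEq (by rw [Fintype.card_coe, Fintype.card_coe, hH.1, hH'.1])
  obtain ⟨g, ⟨hg, -⟩, -⟩ := extend ⟨hα, hL⟩ hH ⟨hβ, hL'⟩ hH' σ
  exact ⟨g, hg⟩

theorem sharp (hα : Fintype.card α = 21) {L : Set (Finset α)} (hL : IsSteinerSystem 2 5 L) {H : Finset α}
    (hH : H.card = 6 ∧ ∀ l ∈ L, (l ∩ H).card ≤ 2) (σ : Equiv.Perm H) :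
    ∃! g : Equiv.Perm α, g ∈ setSystemAut L ∧ ∀ p : H, g p = σ p := by
  have key : ∀ g : Equiv.Perm α, g ∈ setSystemAut L ↔ (fun k => k.image g) '' L = L := fun g => MulAction.mem_stabilizer_iff
  obtain ⟨g, ⟨hg, hgH⟩, hu⟩ := extend ⟨hα, hL⟩ hH ⟨hα, hL⟩ hH σ
  exact ⟨g, ⟨(key g).mpr hg, hgH⟩, fun g' h' => hu g' ⟨(key g').mp h'.1, h'.2⟩⟩

end Cfsg.Agent.Spor.PlaneFour
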