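import Cfsg.Agent.Lib.Spor.PlaneFourBound
import Cfsg.Agent.Lib.Spor.PlaneFourUnique
import Cfsg.Agent.Lib.Spor.Golay.M24
import Cfsg.Agent.Lib.Spor.Golay.Basic
import Cfsg.Agent.Lib.Spor.Golay.Chain
import Cfsg.Agent.Lib.Classical.SLGroup
import Mathlib.LinearAlgebra.Projectivization.Action
import Mathlib.LinearAlgebra.Projectivization.Cardinality

/-! The three point stabiliser in `M24` is `PSL₃(4)`. -/

set_option autoImplicit false
set_option linter.unusedSectionVars false

namespace Cfsg.Agent.Spor.M21

open Finset Cfsg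
open scoped LinearAlgebra.Projectivization Pointwise

section PG

variable (F : Type*) [Field F] [Fintype F]

/-- The points of the plane over `F`. -/
abbrev Pt := ℙ F (Fin 3 → F)

/-- The lines of the plane over `F`. -/
def pgLines : Set (Finset (Pt F)) :=
  {s | ∃ W : Submodule F (Fin 3 → F), Module.finrank F W = 2 ∧ ∀ x, x ∈ s ↔ x.submodule ≤ W}

variable {F}

theorem pg_card (hF : Fintype.card F = 4) [Fintype (Pt F)] : Fintype.card (Pt F) = 21 := by
  rw [← Nat.card_eq_fintype_card,
    Projectivization.card_of_finrank F (Fin 3 → F) (Module.finrank_fintype_fun_eq_card F |>.trans (Fintype.card_fin 3)),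
    Nat.card_eq_fintype_card, hF]
  decide

theorem pg_steiner (hF : Fintype.card F = 4) [Fintype (Pt F)] [DecidableEq (Pt F)] :
    IsSteinerSystem 2 5 (pgLines F) := by
  classical
  constructor
  · rintro s ⟨W, hW, hs⟩
    have hinj : Function.Injective W.subtype := W.injective_subtype
    have : Set.range (Projectivization.map W.subtype hinj) = (s : Set (Pt F)) := by
      ext x
      rw [mem_coe, hs]
      induction x using Projectivization.ind with | _ v hv =>
      rw [Projectivization.submodule_mk, Submodule.span_singleton_le_iff_mem]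
      constructor
      · rintro ⟨y, hy⟩
        induction y using Projectivization.ind with | _ w hw =>
        rw [Projectivization.map_mk] at hy
        obtain ⟨c, hc⟩ := (Projectivization.mk_eq_mk_iff' F _ _ _ _).mp hy.symm
        rw [← hc]; exact W.smul_mem c w.2
      · intro h
        exact ⟨Projectivization.mk F ⟨v, h⟩ (fun e => hv (congrArg Subtype.val e)), by rw [Projectivization.map_mk]; rfl⟩
    have h := Nat.card_range_of_injective (Projectivization.map_injective W.subtype hinj)
    rw [this, Projectivization.card_of_finrank_two F W hW, Nat.card_eq_fintype_card (α := F), hF] at h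
    simpa using h
  · intro t ht
    obtain ⟨x, y, hxy, rfl⟩ := card_eq_two.mp ht
    have hfr : Module.finrank F ↥(x.submodule ⊔ y.submodule) = 2 := by
      have h := Submodule.finrank_sup_add_finrank_inf_eq x.submodule y.submodule
      rw [Projectivization.finrank_submodule, Projectivization.finrank_submodule] at h
      have : Module.finrank F ↥(x.submodule ⊓ y.submodule) = 0 := by
        have hle := Submodule.finrank_mono (inf_le_left : x.submodule ⊓ y.submodule ≤ x.submodule)
        rw [Projectivization.finrank_submodule] at hle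
        by_contra hne
        have h1 : x.submodule ⊓ y.submodule = x.submodule :=
          Submodule.eq_of_le_of_finrank_eq inf_le_left (by rw [Projectivization.finrank_submodule]; omega)
        have h2 : x.submodule ⊓ y.submodule = y.submodule :=
          Submodule.eq_of_le_of_finrank_eq inf_le_right (by rw [Projectivization.finrank_submodule]; omega)
        exact hxy (Projectivization.submodule_injective (h1.symm.trans h2))
      omega
    refine ⟨univ.filter fun z => z.submodule ≤ x.submodule ⊔ y.submodule,
      ⟨⟨_, hfr, fun z => by simp⟩, by simp [insert_subset_iff]⟩, ?_⟩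
    rintro s ⟨⟨W, hW, hs⟩, hsub⟩
    have hle : x.submodule ⊔ y.submodule ≤ W :=
      sup_le ((hs x).mp (hsub (by simp))) ((hs y).mp (hsub (by simp)))
    have : x.submodule ⊔ y.submodule = W := Submodule.eq_of_le_of_finrank_eq hle (hfr.trans hW.symm)
    ext z; simp [hs, this]

/-- `PSL₃` permutes the lines. -/
theorem pgLines_smul [DecidableEq (Pt F)] (g : Matrix.ProjectiveSpecialLinearGroup (Fin 3) F) {b : Finset (Pt F)}
    (hb : b ∈ pgLines F) : b.image (Projectivization.PSLAction.toPermHom g) ∈ pgLines F := by
  induction g using QuotientGroup.induction_on with | _ A =>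
  obtain ⟨W, hW, hs⟩ := hb
  let f := DistribMulAction.toLinearEquiv F (Fin 3 → F) A
  have hf : ∀ z : Pt F, (A • z).submodule = z.submodule.map (f : (Fin 3 → F) →ₗ[F] (Fin 3 → F)) := fun z => by
    induction z using Projectivization.ind with | _ v hv =>
    rw [Projectivization.smul_mk, Projectivization.submodule_mk, Projectivization.submodule_mk, Submodule.map_span,
      Set.image_singleton]
    rfl
  refine ⟨W.map (f : (Fin 3 → F) →ₗ[F] (Fin 3 → F)), (LinearEquiv.finrank_map_eq f W).trans hW, fun x => ?_⟩
  have hA : ∀ z, Projectivization.PSLAction.toPermHom (QuotientGroup.mk A) z = A • z := fun _ => rfl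
  rw [mem_image]
  constructor
  · rintro ⟨z, hz, rfl⟩
    rw [hA, hf]; exact Submodule.map_mono ((hs z).mp hz)
  · intro h
    refine ⟨A⁻¹ • x, (hs _).mpr ?_, by rw [hA, smul_inv_smul]⟩
    rw [← Submodule.map_le_map_iff_of_injective (f := (f : (Fin 3 → F) →ₗ[F] (Fin 3 → F))) f.injective, ← hf,
      smul_inv_smul]
    exact h

theorem natCard_psl (hF : Fintype.card F = 4) :
    Nat.card (Matrix.ProjectiveSpecialLinearGroup (Fin 3) F) = 20160 := by
  have h1 := Classical.natCard_GL_eq_SL_mul (F := F) 3 (by norm_num)
  have h2 := Classical.natCard_PSL_mul (F := F) 3 (by norm_num)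
  rw [Classical.natCard_units_field, hF, Matrix.card_GL_field, hF, Fin.prod_univ_three] at h1
  rw [Classical.natCard_units_field, hF] at h2
  norm_num at h1 h2
  omega

end PG

section Derived

variable (p q r : GolayPt)

/-- The points of the derived plane. -/
abbrev Rest := {x : GolayPt // x ∉ ({p, q, r} : Finset GolayPt)}

/-- The lines of the derived plane. -/
def derLines : Set (Finset (Rest p q r)) :=
  {l | l.map (Function.Embedding.subtype _) ∪ {p, q, r} ∈ octads}

variable {p q r}

theorem rest_card (hpq : p ≠ q) (hpr : p ≠ r) (hqr : q ≠ r) : Fintype.card (Rest p q r) = 21 := by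
  rw [Fintype.card_subtype_compl, Fintype.card_coe, card_eq_three.mpr ⟨p, q, r, hpq, hpr, hqr, rfl⟩]
  rfl

theorem der_steiner (hpq : p ≠ q) (hpr : p ≠ r) (hqr : q ≠ r) : IsSteinerSystem 2 5 (derLines p q r) := by
  have hT : ({p, q, r} : Finset GolayPt).card = 3 := card_eq_three.mpr ⟨p, q, r, hpq, hpr, hqr, rfl⟩
  have hd : ∀ l : Finset (Rest p q r), Disjoint (l.map (Function.Embedding.subtype _)) ({p, q, r} : Finset GolayPt) :=
    fun l => disjoint_left.mpr fun x hx => by obtain ⟨y, -, rfl⟩ := mem_map.mp hx; exact y.2
  constructor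
  · intro l hl
    have := Golay.octad_card hl
    rw [card_union_of_disjoint (hd l), card_map, hT] at this
    omega
  · intro s hs
    have h5 : (s.map (Function.Embedding.subtype _) ∪ {p, q, r}).card = 5 := by
      rw [card_union_of_disjoint (hd s), card_map, hT, hs]
    obtain ⟨o, ⟨ho, hso⟩, huniq⟩ := Golay.octads_steiner.2 _ h5
    rw [union_subset_iff] at hso
    have hmap : (o.subtype fun x => x ∉ ({p, q, r} : Finset GolayPt)).map (Function.Embedding.subtype _) =
        o \ {p, q, r} := by rw [subtype_map, sdiff_eq_filter]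
    refine ⟨o.subtype fun x => x ∉ ({p, q, r} : Finset GolayPt), ⟨?_, fun x hx => mem_subtype.mpr
      (hso.1 (mem_map_of_mem _ hx))⟩, ?_⟩
    · show _ ∈ octads
      rw [hmap, sdiff_union_of_subset hso.2]; exact ho
    · rintro l ⟨hl, hsl⟩
      have e := huniq _ ⟨hl, union_subset_union (map_subset_map.mpr hsl) subset_rfl⟩
      apply map_injective (Function.Embedding.subtype _)
      rw [hmap, ← e, union_sdiff_right, sdiff_eq_self_of_disjoint (hd l)]

/-- The three point stabiliser. -/
abbrev M21 (p q r : GolayPt) : Subgroup M24 :=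
  MulAction.stabilizer M24 p ⊓ MulAction.stabilizer M24 q ⊓ MulAction.stabilizer M24 r

theorem fix_three (g : M21 p q r) : ∀ x ∈ ({p, q, r} : Finset GolayPt), ((g : M24) : Equiv.Perm GolayPt) x = x := by
  intro x hx
  simp only [mem_insert, mem_singleton] at hx
  rcases hx with rfl | rfl | rfl
  exacts [g.2.1.1, g.2.1.2, g.2.2]

theorem fix_iff (g : M21 p q r) (x : GolayPt) :
    ((g : M24) : Equiv.Perm GolayPt) x ∉ ({p, q, r} : Finset GolayPt) ↔ x ∉ ({p, q, r} : Finset GolayPt) := by
  refine not_congr ⟨fun h => ?_, fun h => by rw [fix_three g x h]; exact h⟩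
  have := fix_three g _ h
  rw [← (((g : M24) : Equiv.Perm GolayPt)).injective this]; exact h

/-- The action on the derived plane. -/
def derHom (p q r : GolayPt) : M21 p q r →* Equiv.Perm (Rest p q r) where
  toFun g := ((g : M24) : Equiv.Perm GolayPt).subtypePerm fun x => fix_iff g x
  map_one' := by ext; rfl
  map_mul' g h := by ext; rfl

theorem derHom_mem (g : M21 p q r) {l : Finset (Rest p q r)} (hl : l ∈ derLines p q r) :
    l.image (derHom p q r g) ∈ derLines p q r := by
  show _ ∈ octads
  have := Golay.smul_octad (g : M24).2 hl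
  have hT : ((g : M24) : Equiv.Perm GolayPt) • ({p, q, r} : Finset GolayPt) = {p, q, r} := by
    rw [smul_finset_def]
    exact (image_congr fun x hx => fix_three g x hx).trans image_id
  rw [smul_finset_union, hT] at this
  convert this using 2
  ext x
  simp only [mem_map, mem_image, mem_smul_finset, Function.Embedding.subtype_apply]
  constructor
  · rintro ⟨y, ⟨z, hz, rfl⟩, rfl⟩
    exact ⟨z, ⟨z, hz, rfl⟩, rfl⟩
  · rintro ⟨w, ⟨z, hz, rfl⟩, rfl⟩
    exact ⟨_, ⟨z, hz, rfl⟩, rfl⟩

theorem derHom_injective : Function.Injective (derHom p q r) := by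
  intro g h e
  refine Subtype.ext (Subtype.ext (Equiv.ext fun x => ?_))
  by_cases hx : x ∈ ({p, q, r} : Finset GolayPt)
  · rw [fix_three g x hx, fix_three h x hx]
  · exact congrArg Subtype.val (DFunLike.congr_fun e ⟨x, hx⟩)

theorem natCard_M21 (hpq : p ≠ q) (hpr : p ≠ r) (hqr : q ≠ r) : Nat.card (M21 p q r) = 20160 := by
  let x : Fin 3 ↪ GolayPt := ⟨![p, q, r], by
    intro i j h
    fin_cases i <;> fin_cases j <;> simp_all [eq_comm]⟩
  have e : MulAction.stabilizer M24 x = M21 p q r := by
    ext g
    simp only [MulAction.mem_stabilizer_iff, Subgroup.mem_inf]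
    constructor
    · intro h
      exact ⟨⟨congrFun (congrArg DFunLike.coe h) 0, congrFun (congrArg DFunLike.coe h) 1⟩,
        congrFun (congrArg DFunLike.coe h) 2⟩
    · rintro ⟨⟨h0, h1⟩, h2⟩
      refine Function.Embedding.ext fun i => ?_
      fin_cases i
      exacts [h0, h1, h2]
  have h := (MulAction.stabilizer M24 x).card_mul_index
  have hidx : (MulAction.stabilizer M24 x).index = Nat.card (Fin 3 ↪ GolayPt) := by
    rw [MulAction.index_stabilizer, ← Set.ncard_univ]
    congr 1
    refine Set.eq_univ_of_forall fun y => ?_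
    obtain ⟨g, hg⟩ := (Golay.M24_pretransitive (n := 3) (by norm_num)).exists_smul_eq x y
    exact ⟨g, hg⟩
  rw [hidx, Golay.card_M24, e, Nat.card_eq_fintype_card (α := Fin 3 ↪ GolayPt),
    Fintype.card_embedding_eq] at h
  rw [show Fintype.card GolayPt = 24 from rfl, Fintype.card_fin] at h
  rw [show Nat.descFactorial 24 3 = 12144 from rfl] at h
  omega

end Derived

/-- A simple subgroup is the only subgroup of its order of small index. -/
theorem subgroup_eq {G : Type*} [Group G] [Finite G] {X Y : Subgroup G} [IsSimpleGroup X]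
    (hX : Nat.card X = 20160) (hY : Nat.card Y = 20160) (hG : Nat.card G ≤ 120960) : X = Y := by
  classical
  have hidx : Y.index ≤ 6 := by
    have := Y.card_mul_index
    rw [hY] at this
    omega
  let φ : X →* Equiv.Perm (G ⧸ Y) := (MulAction.toPermHom G (G ⧸ Y)).comp X.subtype
  have hker : φ.ker = ⊤ := by
    rcases (inferInstance : IsSimpleGroup X).eq_bot_or_eq_top_of_normal φ.ker φ.normal_ker with h | h
    · exfalso
      have := Nat.card_le_card_of_injective φ (φ.ker_eq_bot_iff.mp h)
      rw [hX, Nat.card_perm] at this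
      have h6 : (Nat.card (G ⧸ Y)).factorial ≤ Nat.factorial 6 := Nat.factorial_le hidx
      rw [show Nat.factorial 6 = 720 from rfl] at h6
      omega
    · exact h
  have hle : X ≤ Y := fun g hg => by
    have : φ ⟨g, hg⟩ = 1 := φ.mem_ker.mp (hker ▸ Subgroup.mem_top _)
    have := DFunLike.congr_fun this ((1 : G) : G ⧸ Y)
    simp only [φ, MonoidHom.coe_comp, Function.comp_apply, Subgroup.coe_subtype, MulAction.toPermHom_apply,
      MulAction.toPerm_apply, MulAction.Quotient.smul_coe, smul_eq_mul, mul_one, Equiv.Perm.one_apply] at this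
    simpa [QuotientGroup.eq] using this
  exact Subgroup.eq_of_le_of_card_ge hle (by rw [hX, hY])

theorem iso (p q r : GolayPt) (hpq : p ≠ q) (hpr : p ≠ r) (hqr : q ≠ r) (F : Type*) [Field F] [Fintype F]
    (hF : Fintype.card F = 4) : Nonempty (M21 p q r ≃* Matrix.ProjectiveSpecialLinearGroup (Fin 3) F) := by
  classical
  letI : Fintype (Pt F) := Fintype.ofFinite _
  obtain ⟨e, he⟩ := PlaneFour.iso (rest_card hpq hpr hqr) (pg_card hF) (der_steiner hpq hpr hqr) (pg_steiner hF)
  have he' : ∀ b, b ∈ derLines p q r ↔ b.image e ∈ pgLines F := fun b => by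
    rw [← he]
    exact ⟨Set.mem_image_of_mem _, fun ⟨c, hc, ec⟩ => (image_injective e.injective ec) ▸ hc⟩
  have hder : ∀ g, derHom p q r g ∈ setSystemAut (derLines p q r) := fun g => SteinerAut.mem_aut.mpr fun b =>
    ⟨fun h => by
      have := derHom_mem g⁻¹ h
      rwa [image_image, ← Equiv.Perm.coe_mul, ← map_mul, inv_mul_cancel, map_one, Equiv.Perm.coe_one, image_id] at this,
    derHom_mem g⟩
  have hpsl : ∀ g, Projectivization.PSLAction.toPermHom g ∈ setSystemAut (pgLines F) := fun g =>
    SteinerAut.mem_aut.mpr fun b => ⟨fun h => by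
      have := pgLines_smul g⁻¹ h
      rwa [image_image, ← Equiv.Perm.coe_mul, ← map_mul, inv_mul_cancel, map_one, Equiv.Perm.coe_one, image_id] at this,
    pgLines_smul g⟩
  let ψ : Matrix.ProjectiveSpecialLinearGroup (Fin 3) F →* setSystemAut (pgLines F) :=
    Projectivization.PSLAction.toPermHom.codRestrict _ hpsl
  let χ : M21 p q r →* setSystemAut (pgLines F) :=
    (SteinerAut.autEquiv e he').toMonoidHom.comp ((derHom p q r).codRestrict _ hder)
  have hψ : Function.Injective ψ := fun a b h =>
    Matrix.ProjectiveSpecialLinearGroup.toPermHom_injective (congrArg Subtype.val h)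
  have hχ : Function.Injective χ := fun a b h =>
    derHom_injective (congrArg Subtype.val ((SteinerAut.autEquiv e he').injective h))
  haveI : IsSimpleGroup ψ.range := by
    haveI := Classical.PSL_simple_of_three_le (F := F) (ι := Fin 3) (by simp)
    exact (MonoidHom.ofInjective hψ).symm.isSimpleGroup
  have hXY : ψ.range = χ.range := subgroup_eq
    (by rw [← Nat.card_congr (MonoidHom.ofInjective hψ).toEquiv, natCard_psl hF])
    (by rw [← Nat.card_congr (MonoidHom.ofInjective hχ).toEquiv, natCard_M21 hpq hpr hqr])
    (PlaneFour.card_aut_le ⟨pg_card hF, pg_steiner hF⟩)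
  exact ⟨(MonoidHom.ofInjective hχ).trans ((MulEquiv.subgroupCongr hXY.symm).trans (MonoidHom.ofInjective hψ).symm)⟩

end Cfsg.Agent.Spor.M21
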