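import Cfsg.Prelude.Def_KGroupFacts
import Mathlib

/-!
Triviality of a Schur multiplier, prime by prime: a central element inside the derived group, whose order is a
prime `p`, lies in the derived group of every subgroup of index prime to `p` (transfer).
-/

set_option autoImplicit false
set_option linter.style.haveILetI false
set_option linter.unusedSectionVars false

open scoped commutatorElement

universe u

namespace Cfsg.Agent.Spor.Mult

variable {Γ : Type*} [Group Γ] [Finite Γ]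

/-- Transfer into a subgroup of index prime to the order of a central element of the derived group. -/
theorem mem_derived_of_coprime (H : Subgroup Γ) {z : Γ} (hz : z ∈ Subgroup.center Γ) (hz' : z ∈ commutator Γ)
    (hcop : (orderOf z).Coprime H.index) : z ∈ ⁅H, H⁆ := by
  have htr : MonoidHom.transfer (Abelianization.of (G := H)) z = 1 :=
    Abelianization.commutator_subset_ker (MonoidHom.transfer (Abelianization.of (G := H))) hz'
  rw [MonoidHom.transfer_eq_pow _ z (fun k g₀ _ => by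
    rw [mul_assoc, ← Subgroup.mem_center_iff.1 (pow_mem hz k) g₀, inv_mul_cancel_left])] at htr
  have hmem := (QuotientGroup.eq_one_iff _).1 htr
  have hpow : z ^ H.index ∈ ⁅H, H⁆ := by
    rw [← Subgroup.map_subtype_commutator]; exact ⟨_, hmem, rfl⟩
  obtain ⟨m, hm⟩ := exists_pow_eq_self_of_coprime hcop.symm
  rw [← hm]
  exact pow_mem hpow m

/-- If every preimage condition holds, the kernel of a stem extension is trivial. -/
theorem ker_eq_bot {G : Type*} [Group G] (σ : Γ →* G) (hσ : Cfsg.IsStemExtension σ)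
    (h : ∀ p : ℕ, p.Prime → p ∣ Nat.card σ.ker → ∃ Q : Subgroup G, ¬ p ∣ Q.index ∧
      ∀ z ∈ σ.ker, orderOf z = p → z ∈ ⁅Q.comap σ, Q.comap σ⁆ → False) : σ.ker = ⊥ := by
  by_contra hne
  have hcard : Nat.card σ.ker ≠ 1 := fun e => hne (Subgroup.card_eq_one.1 e)
  obtain ⟨p, hp, hdvd⟩ := Nat.exists_prime_and_dvd hcard
  have : Fact p.Prime := ⟨hp⟩
  obtain ⟨z, hz⟩ := exists_prime_orderOf_dvd_card' p hdvd
  obtain ⟨Q, hQ, hQ'⟩ := h p hp hdvd
  refine hQ' z z.2 (by rw [Subgroup.orderOf_coe]; exact hz) ?_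
  refine mem_derived_of_coprime _ (hσ.2.1 z.2) (hσ.2.2 z.2) ?_
  rw [Subgroup.orderOf_coe, hz, Subgroup.index_comap_of_surjective _ hσ.1]
  exact hp.coprime_iff_not_dvd.2 hQ

omit [Finite Γ] in
/-- A commutative preimage has trivial derived group. -/
theorem no_elt_of_comm (H : Subgroup Γ) (hH : ∀ x ∈ H, ∀ y ∈ H, Commute x y) {z : Γ} {p : ℕ} (hp : p.Prime)
    (hz : orderOf z = p) (hmem : z ∈ ⁅H, H⁆) : False := by
  have : ⁅H, H⁆ ≤ ⊥ := Subgroup.commutator_le.2 fun x hx y hy =>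
    commutatorElement_eq_one_iff_commute.2 (hH x hx y hy)
  rw [Subgroup.mem_bot.1 (this hmem), orderOf_one] at hz
  exact hp.ne_one hz.symm

omit [Finite Γ] in
/-- The preimage of a subgroup is generated by lifts of its generators and the kernel. -/
theorem mem_comap_closure {G : Type*} [Group G] (σ : Γ →* G) (S : Set Γ) {x : Γ}
    (hx : x ∈ (Subgroup.closure (σ '' S)).comap σ) : x ∈ Subgroup.closure S ⊔ σ.ker := by
  rw [← σ.map_closure, Subgroup.comap_map_eq] at hx
  exact hx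

omit [Finite Γ] in
/-- Commutation on the preimage of a subgroup, from commutation of lifts of generators. -/
theorem comm_of_gens {G : Type*} [Group G] (σ : Γ →* G) (hker : σ.ker ≤ Subgroup.center Γ) (S : Set Γ)
    (hS : ∀ a ∈ S, ∀ b ∈ S, Commute a b) :
    ∀ x ∈ (Subgroup.closure (σ '' S)).comap σ, ∀ y ∈ (Subgroup.closure (σ '' S)).comap σ, Commute x y := by
  intro x hx y hy
  have key : ∀ x y : Γ, x ∈ Subgroup.closure (S ∪ (σ.ker : Set Γ)) →
      y ∈ Subgroup.closure (S ∪ (σ.ker : Set Γ)) → Commute x y := by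
    intro x y hx hy
    have h1 : ∀ a ∈ S ∪ (σ.ker : Set Γ), ∀ b ∈ S ∪ (σ.ker : Set Γ), Commute a b := by
      rintro a (ha | ha) b (hb | hb)
      · exact hS a ha b hb
      · exact Subgroup.mem_center_iff.1 (hker hb) a
      · exact (Subgroup.mem_center_iff.1 (hker ha) b).symm
      · exact Subgroup.mem_center_iff.1 (hker hb) a
    refine Subgroup.closure_induction (p := fun t _ => Commute x t) (fun t ht => ?_) (Commute.one_right _)
      (fun _ _ _ _ ha hb => ha.mul_right hb) (fun _ _ ha => ha.inv_right) hy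
    exact Subgroup.closure_induction (p := fun s _ => Commute s t) (fun s hs => h1 s hs t ht) (Commute.one_left _)
      (fun _ _ _ _ ha hb => ha.mul_left hb) (fun _ _ ha => ha.inv_left) hx
  have e : Subgroup.closure S ⊔ σ.ker = Subgroup.closure (S ∪ (σ.ker : Set Γ)) := by
    rw [Subgroup.closure_union, Subgroup.closure_eq]
  exact key x y (e ▸ mem_comap_closure σ S hx) (e ▸ mem_comap_closure σ S hy)

/-- A Sylow subgroup isomorphic to a semidihedral group of order 16 contributes nothing. -/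
theorem semidihedral16 {G : Type*} [Group G] (σ : Γ →* G) (hker : σ.ker ≤ Subgroup.center Γ) {a b : Γ}
    (hb : σ b * σ b = 1) (ha8 : orderOf (σ a) = 8) (hrel : σ b * σ a * σ b = σ a ^ 3)
    {z : Γ} (hz : z ∈ σ.ker) (hmem : z ∈ ⁅(Subgroup.closure (σ '' {a, b})).comap σ, (Subgroup.closure (σ '' {a, b})).comap σ⁆) :
    z = 1 := by
  set c := ⁅a, b⁆ with hc
  have hbinv : (σ b)⁻¹ = σ b := inv_eq_of_mul_eq_one_right hb
  obtain ⟨w, hw, hwe⟩ : ∃ w ∈ σ.ker, b * a * b⁻¹ = a ^ 3 * w :=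
    ⟨(a ^ 3)⁻¹ * (b * a * b⁻¹), by
      rw [MonoidHom.mem_ker, map_mul, map_mul, map_mul, map_inv, map_inv, map_pow, hbinv, hrel, inv_mul_cancel],
      (mul_inv_cancel_left _ _).symm⟩
  have wc : ∀ g : Γ, g * w = w * g := fun g => Subgroup.mem_center_iff.1 (hker hw) g
  have wcp : ∀ (g : Γ) (n : ℕ), Commute g (w ^ n) := fun g n => Commute.pow_right (wc g) n
  have hb2 : b * b ∈ σ.ker := by rw [MonoidHom.mem_ker, map_mul, hb]
  have conj_pow' : ∀ n : ℕ, b * a ^ n * b⁻¹ = a ^ (3 * n) * w ^ n := fun n => by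
    rw [← conj_pow, hwe, (Commute.mul_pow (wc (a ^ 3)) n), ← pow_mul]
  -- conjugating twice by `b`
  have h8 : a ^ 8 * w ^ 4 = 1 := by
    have e1 : b * (b * a * b⁻¹) * b⁻¹ = a := by
      rw [show b * (b * a * b⁻¹) * b⁻¹ = (b * b) * a * (b * b)⁻¹ by group,
        ← Subgroup.mem_center_iff.1 (hker hb2) a, mul_inv_cancel_right]
    rw [hwe, show b * (a ^ 3 * w) * b⁻¹ = (b * a ^ 3 * b⁻¹) * (b * w * b⁻¹) by group, conj_pow', wc b,
      mul_inv_cancel_right] at e1
    refine mul_left_cancel (a := a) ?_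
    rw [mul_one]
    conv_rhs => rw [← e1]
    rw [← mul_assoc, ← pow_succ', mul_assoc, ← pow_succ]
  have hcval : c = (a ^ 2)⁻¹ * w⁻¹ := by
    rw [hc, commutatorElement_def, show a * b * a⁻¹ * b⁻¹ = a * (b * a * b⁻¹)⁻¹ by group, hwe]
    rw [mul_inv_rev, ← mul_assoc, show a * w⁻¹ = w⁻¹ * a from (wcp a 1 |>.inv_right |>.eq |> (by simpa using ·)),
      mul_assoc, show a * (a ^ 3)⁻¹ = (a ^ 2)⁻¹ by group]
    exact ((Commute.inv_right (Commute.inv_left (wc (a ^ 2)))).eq).symm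
  have hc4 : c ^ 4 = 1 := by
    rw [hcval, Commute.mul_pow (Commute.inv_right (Commute.inv_left (wc (a ^ 2)))), inv_pow, inv_pow, ← mul_inv_rev,
      ← pow_mul, (wcp _ 4).symm.eq, h8, inv_one]
  have hac : a * c * a⁻¹ = c := by
    rw [hcval, show a * ((a ^ 2)⁻¹ * w⁻¹) * a⁻¹ = (a ^ 2)⁻¹ * (a * w⁻¹ * a⁻¹) by group,
      (Commute.inv_right (wc a)).eq, mul_inv_cancel_right]
  have hbc : b * c * b⁻¹ = c ^ 3 := by
    rw [hcval, show b * ((a ^ 2)⁻¹ * w⁻¹) * b⁻¹ = (b * a ^ 2 * b⁻¹)⁻¹ * (b * w⁻¹ * b⁻¹) by group, conj_pow',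
      (Commute.inv_right (wc b)).eq, mul_inv_cancel_right,
      Commute.mul_pow (Commute.inv_right (Commute.inv_left (wc (a ^ 2)))), mul_inv_rev, inv_pow, inv_pow, ← pow_mul,
      ← (Commute.inv_right (Commute.inv_left (wcp (a ^ 6) 2))).eq, mul_assoc, ← mul_inv_rev, ← pow_succ']
  let N := Subgroup.zpowers c
  let S := Subgroup.closure ({a, b} : Set Γ) ⊔ σ.ker
  -- the generators normalise `N`
  have e : S = Subgroup.closure (({a, b} : Set Γ) ∪ (σ.ker : Set Γ)) := by
    rw [Subgroup.closure_union, Subgroup.closure_eq]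
  have hSN : ∀ g ∈ S, ∀ n ∈ N, g * n * g⁻¹ ∈ N := by
    intro g hg n hn
    obtain ⟨k, rfl⟩ := Subgroup.mem_zpowers_iff.1 hn
    rw [← conj_zpow]
    refine zpow_mem ?_ k
    refine Subgroup.closure_induction (p := fun s _ => s * c * s⁻¹ ∈ N) ?_ ?_ ?_ ?_
      (e ▸ hg : g ∈ Subgroup.closure _)
    · rintro s ((rfl | rfl) | hs)
      · rw [hac]; exact Subgroup.mem_zpowers c
      · rw [hbc]; exact pow_mem (Subgroup.mem_zpowers c) 3
      · rw [← Subgroup.mem_center_iff.1 (hker hs) c, mul_inv_cancel_right]; exact Subgroup.mem_zpowers c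
    · simp [N]
    · intro s t _ _ hs ht
      obtain ⟨k, hk⟩ := Subgroup.mem_zpowers_iff.1 ht
      rw [show s * t * c * (s * t)⁻¹ = s * (t * c * t⁻¹) * s⁻¹ by group, ← hk, ← conj_zpow]
      exact zpow_mem hs k
    · intro s _ hs
      have key : ∀ i : ℕ, s ^ i * c * (s ^ i)⁻¹ ∈ N := by
        intro i
        induction i with
        | zero => simp [N]
        | succ i ih =>
          obtain ⟨k, hk⟩ := Subgroup.mem_zpowers_iff.1 ih
          rw [pow_succ', show s * s ^ i * c * (s * s ^ i)⁻¹ = s * (s ^ i * c * (s ^ i)⁻¹) * s⁻¹ by group, ← hk,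
            ← conj_zpow]
          exact zpow_mem hs k
      have hinv : s⁻¹ = s ^ (orderOf s - 1) := by
        refine inv_eq_of_mul_eq_one_left ?_
        rw [← pow_succ, Nat.sub_add_cancel (orderOf_pos s), pow_orderOf_eq_one]
      rw [hinv]
      exact key _
  -- commutators of generators lie in `N`
  have hgen : ∀ x ∈ ({a, b} : Set Γ) ∪ (σ.ker : Set Γ), ∀ y ∈ ({a, b} : Set Γ) ∪ (σ.ker : Set Γ), ⁅x, y⁆ ∈ N := by
    rintro x (hx | hx) y (hy | hy)
    · rcases hx with rfl | rfl <;> rcases hy with rfl | rfl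
      · rw [commutatorElement_self]; exact one_mem _
      · exact Subgroup.mem_zpowers c
      · rw [← commutatorElement_inv, ← hc]; exact inv_mem (Subgroup.mem_zpowers c)
      · rw [commutatorElement_self]; exact one_mem _
    · rw [commutatorElement_eq_one_iff_commute.2 (Subgroup.mem_center_iff.1 (hker hy) x)]; exact one_mem _
    · rw [commutatorElement_eq_one_iff_commute.2 (Subgroup.mem_center_iff.1 (hker hx) y).symm]; exact one_mem _
    · rw [commutatorElement_eq_one_iff_commute.2 (Subgroup.mem_center_iff.1 (hker hy) x)]; exact one_mem _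
  have hSS : ⁅S, S⁆ ≤ N := by
    refine Subgroup.commutator_le.2 fun x hx y hy => ?_
    have gS : ∀ g ∈ ({a, b} : Set Γ) ∪ (σ.ker : Set Γ), g ∈ S := fun g hg => e ▸ Subgroup.subset_closure hg
    have h1 : ∀ t ∈ ({a, b} : Set Γ) ∪ (σ.ker : Set Γ), ⁅x, t⁆ ∈ N := fun t ht => by
      refine Subgroup.closure_induction (p := fun s _ => ⁅s, t⁆ ∈ N) (fun s hs => hgen s hs t ht)
        (by simp [commutatorElement_def]) ?_ ?_ (e ▸ hx : x ∈ Subgroup.closure _)
      · intro s s' hs _ i1 i2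
        rw [show ⁅s * s', t⁆ = s * ⁅s', t⁆ * s⁻¹ * ⁅s, t⁆ by simp only [commutatorElement_def]; group]
        exact mul_mem (hSN s (e ▸ hs) _ i2) i1
      · intro s hs i1
        rw [show ⁅s⁻¹, t⁆ = s⁻¹ * ⁅s, t⁆⁻¹ * s⁻¹⁻¹ by simp only [commutatorElement_def]; group]
        exact hSN _ (inv_mem (e ▸ hs)) _ (inv_mem i1)
    refine Subgroup.closure_induction (p := fun s _ => ⁅x, s⁆ ∈ N) h1 (by simp [commutatorElement_def]) ?_ ?_
      (e ▸ hy : y ∈ Subgroup.closure _)
    · intro s s' hs _ i1 i2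
      rw [show ⁅x, s * s'⁆ = ⁅x, s⁆ * (s * ⁅x, s'⁆ * s⁻¹) by simp only [commutatorElement_def]; group]
      exact mul_mem i1 (hSN s (e ▸ hs) _ i2)
    · intro s hs i1
      rw [show ⁅x, s⁻¹⁆ = s⁻¹ * ⁅x, s⁆⁻¹ * s⁻¹⁻¹ by simp only [commutatorElement_def]; group]
      exact hSN _ (inv_mem (e ▸ hs)) _ (inv_mem i1)
  have hcS : (Subgroup.closure (σ '' {a, b})).comap σ = S := by
    rw [← σ.map_closure, Subgroup.comap_map_eq]
  rw [hcS] at hmem
  obtain ⟨k, rfl⟩ := Subgroup.mem_zpowers_iff.1 (hSS hmem)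
  have hσc : σ c = (σ a ^ 2)⁻¹ := by
    rw [hcval, map_mul, map_inv, map_inv, MonoidHom.mem_ker.1 hw, inv_one, mul_one, map_pow]
  have h4 : orderOf (σ c) = 4 := by
    rw [hσc, orderOf_inv, orderOf_pow' _ (by norm_num), ha8]
    norm_num
  have hdvd : (4 : ℤ) ∣ k := by
    have := orderOf_dvd_iff_zpow_eq_one.2 (show σ c ^ k = 1 by rw [← map_zpow]; exact hz)
    rwa [h4] at this
  obtain ⟨m, rfl⟩ := hdvd
  rw [zpow_mul, show (c : Γ) ^ (4 : ℤ) = 1 by rw [show (4 : ℤ) = ((4 : ℕ) : ℤ) from rfl, zpow_natCast, hc4], one_zpow]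

omit [Finite Γ] in
/-- An elementary abelian `p`-group, `p` odd, with an element centralising one generator and inverting the
other: its preimage is commutative. -/
theorem odd_two_gen {G : Type*} [Group G] (σ : Γ →* G) (hker : σ.ker ≤ Subgroup.center Γ) {p : ℕ} (hp : Odd p)
    {x y g : Γ} (hx : σ x ^ p = 1) (hxy : Commute (σ x) (σ y)) (hgx : σ g * σ x * (σ g)⁻¹ = σ x)
    (hgy : σ g * σ y * (σ g)⁻¹ = (σ y)⁻¹) : Commute x y := by
  have central : ∀ {s t : Γ}, σ s = σ t → s * t⁻¹ ∈ Subgroup.center Γ := fun h =>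
    hker (by rw [MonoidHom.mem_ker, map_mul, map_inv, h, mul_inv_cancel])
  have congrL : ∀ {s t u : Γ}, σ s = σ t → ⁅s, u⁆ = ⁅t, u⁆ := fun {s t u} h => by
    have hz : ∀ v, v * (s * t⁻¹) = s * t⁻¹ * v := fun v => Subgroup.mem_center_iff.1 (central h) v
    rw [show s = (s * t⁻¹) * t by group, show ⁅s * t⁻¹ * t, u⁆ = (s * t⁻¹) * ⁅t, u⁆ * (s * t⁻¹)⁻¹ * ⁅s * t⁻¹, u⁆ by
      simp only [commutatorElement_def]; group, ← hz, mul_inv_cancel_right,
      commutatorElement_eq_one_iff_commute.2 (hz u).symm, mul_one]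
  have congrR : ∀ {s t u : Γ}, σ s = σ t → ⁅u, s⁆ = ⁅u, t⁆ := fun h => by
    rw [← commutatorElement_inv, congrL h, commutatorElement_inv]
  have hck : ⁅x, y⁆ ∈ Subgroup.center Γ := hker (by
    rw [MonoidHom.mem_ker, map_commutatorElement]; exact commutatorElement_eq_one_iff_commute.2 hxy)
  have cc : ∀ v, v * ⁅x, y⁆ = ⁅x, y⁆ * v := fun v => Subgroup.mem_center_iff.1 hck v
  have h1 : ⁅x, y⁻¹⁆ = ⁅x, y⁆⁻¹ := by
    rw [show ⁅x, y⁻¹⁆ = y⁻¹ * ⁅x, y⁆⁻¹ * y by simp only [commutatorElement_def]; group,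
      (Commute.inv_right (cc y⁻¹)).eq, inv_mul_cancel_right]
  have hinv : ⁅x, y⁆ = ⁅x, y⁆⁻¹ := by
    have e : ⁅g * x * g⁻¹, g * y * g⁻¹⁆ = g * ⁅x, y⁆ * g⁻¹ := by simp only [commutatorElement_def]; group
    rw [cc g, mul_inv_cancel_right, congrL (s := g * x * g⁻¹) (t := x) (by simpa using hgx),
      congrR (s := g * y * g⁻¹) (t := y⁻¹) (by simpa using hgy), h1] at e
    exact e.symm
  have hpw : ∀ n : ℕ, ⁅x ^ n, y⁆ = ⁅x, y⁆ ^ n := by
    intro n
    induction n with
    | zero => simp [commutatorElement_def]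
    | succ n ih =>
      rw [pow_succ', show ⁅x * x ^ n, y⁆ = x * ⁅x ^ n, y⁆ * x⁻¹ * ⁅x, y⁆ by
        simp only [commutatorElement_def]; group, ih, (Commute.pow_right (cc x) n).eq, mul_inv_cancel_right,
        pow_succ]
  have hxp : ⁅x, y⁆ ^ p = 1 := by
    rw [← hpw, congrL (t := (1 : Γ)) (by rw [map_pow, hx, map_one])]
    simp [commutatorElement_def]
  have hsq : ⁅x, y⁆ * ⁅x, y⁆ = 1 := by nth_rewrite 1 [hinv]; exact inv_mul_cancel _
  obtain ⟨m, rfl⟩ := hp
  rw [pow_succ, pow_mul, sq, hsq, one_pow, one_mul] at hxp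
  exact commutatorElement_eq_one_iff_commute.1 hxp

/-- Trivial multiplier from the vanishing of every stem kernel. -/
theorem trivial_of_forall {G : Type u} [Group G] [Finite G]
    (h : ∀ (Δ : Type u) [Group Δ] [Finite Δ] (σ : Δ →* G), Cfsg.IsStemExtension σ → σ.ker = ⊥) :
    Cfsg.HasCyclicSchurMultiplier G 1 := by
  haveI : Subsingleton (Multiplicative (ZMod 1)) := inferInstanceAs (Subsingleton (ZMod 1))
  refine ⟨⟨G, inferInstance, inferInstance, MonoidHom.id G, ⟨Function.surjective_id, ?_, ?_⟩, ?_⟩, ?_⟩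
  · rw [MonoidHom.ker_id]; exact bot_le
  · rw [MonoidHom.ker_id]; exact bot_le
  · haveI : Unique (MonoidHom.id G).ker := by rw [MonoidHom.ker_id]; infer_instance
    haveI : Unique (Multiplicative (ZMod 1)) := uniqueOfSubsingleton 1
    exact ⟨MulEquiv.ofUnique⟩
  · intro Δ _ _ σ hσ
    refine ⟨1, fun k => ⟨1, ?_⟩⟩
    have hk : (k : Δ) = 1 := Subgroup.mem_bot.1 ((h Δ σ hσ).le k.2)
    exact Subtype.ext (by simp [hk])

end Cfsg.Agent.Spor.Mult
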