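import Cfsg.Agent.Lib.Spor.HexacodeAut
import Cfsg.Agent.Lib.Spor.Cos.FieldFour
import Cfsg.Prelude.Def_KGroupFacts

/-!
The triple cover `3.A₆` as the monomial automorphism group of the hexacode.
-/

set_option autoImplicit false
set_option maxRecDepth 100000

namespace Cfsg.Agent.Spor.Hexa.Cover

open Equiv Cfsg.Agent.Spor.Cos
open scoped commutatorElement

theorem omega_eq : F4.w ^ 2 + F4.w + 1 = 0 := by
  rw [sq]; decide

/-- A monomial map: a permutation and the scalars. -/
@[ext]
structure Mono where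
  /-- the permutation -/
  perm : Perm (Fin 6)
  /-- the scalars -/
  coef : Fin 6 → F4ˣ

namespace Mono

instance : One Mono := ⟨⟨1, fun _ => 1⟩⟩
instance : Mul Mono := ⟨fun x y => ⟨x.perm * y.perm, fun i => x.coef i * y.coef (x.perm.symm i)⟩⟩
instance : Inv Mono := ⟨fun x => ⟨x.perm⁻¹, fun i => (x.coef (x.perm i))⁻¹⟩⟩

theorem one_perm : (1 : Mono).perm = 1 := rfl
theorem one_coef (i : Fin 6) : (1 : Mono).coef i = 1 := rfl
theorem mul_perm (x y : Mono) : (x * y).perm = x.perm * y.perm := rfl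
theorem mul_coef (x y : Mono) (i : Fin 6) : (x * y).coef i = x.coef i * y.coef (x.perm.symm i) := rfl
theorem inv_perm (x : Mono) : x⁻¹.perm = x.perm⁻¹ := rfl
theorem inv_coef (x : Mono) (i : Fin 6) : x⁻¹.coef i = (x.coef (x.perm i))⁻¹ := rfl

instance : Group Mono :=
  Group.ofLeftAxioms
    (fun x y z => Mono.ext (mul_assoc _ _ _) (funext fun i => by
      simp only [mul_coef, mul_perm, mul_assoc]; rfl))
    (fun x => Mono.ext (one_mul _) (funext fun i => by simp [mul_coef, one_coef, one_perm, Perm.one_def]))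
    (fun x => Mono.ext (inv_mul_cancel _) (funext fun i => by
      simp [mul_coef, inv_coef, inv_perm, one_coef, Perm.inv_def]))

/-- Monomial maps as pairs. -/
def toProd : Mono ≃ Perm (Fin 6) × (Fin 6 → F4ˣ) where
  toFun x := (x.perm, x.coef)
  invFun p := ⟨p.1, p.2⟩
  left_inv _ := rfl
  right_inv _ := rfl

instance : Finite Mono := Finite.of_equiv _ toProd.symm

end Mono

/-- The monomial automorphisms of the hexacode. -/
def three6 : Subgroup Mono where
  carrier := {x | Pres F4.w x.perm x.coef}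
  one_mem' := pres_const F4.card_eq F4.w omega_eq 1
  mul_mem' := fun h h' => pres_mul F4.w h h'
  inv_mem' := fun {x} h => by
    have hp : ∀ n : ℕ, Pres F4.w (x ^ n).perm (x ^ n).coef := by
      intro n
      induction n with
      | zero => rw [pow_zero]; exact pres_const F4.card_eq F4.w omega_eq 1
      | succ n ih => rw [pow_succ]; exact pres_mul F4.w ih h
    have e : x⁻¹ = x ^ (orderOf x - 1) := by
      refine inv_eq_of_mul_eq_one_right ?_
      rw [← pow_succ', Nat.sub_add_cancel (orderOf_pos x), pow_orderOf_eq_one]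
    show Pres F4.w x⁻¹.perm x⁻¹.coef
    rw [e]; exact hp _

instance : Finite ↥three6 := inferInstanceAs (Finite {x : Mono // x ∈ three6})

/-- The permutation of the six coordinates. -/
def proj : ↥three6 →* ↥(alternatingGroup (Fin 6)) where
  toFun x := ⟨x.1.perm, (perms F4.card_eq F4.w omega_eq _).1 ⟨_, x.2⟩⟩
  map_one' := rfl
  map_mul' _ _ := rfl

theorem proj_surjective : Function.Surjective proj := fun σ => by
  obtain ⟨c, hc⟩ := (perms F4.card_eq F4.w omega_eq σ.1).2 σ.2
  exact ⟨⟨⟨σ.1, c⟩, hc⟩, rfl⟩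

/-- The scalars. -/
def scal : F4ˣ →* ↥three6 where
  toFun a := ⟨⟨1, fun _ => a⟩, pres_const F4.card_eq F4.w omega_eq a⟩
  map_one' := rfl
  map_mul' _ _ := Subtype.ext (Mono.ext (one_mul _).symm rfl)

theorem scal_injective : Function.Injective scal := fun a b h =>
  congrFun (congrArg (fun x : ↥three6 => x.1.coef) h) 0

theorem scal_central (a : F4ˣ) (x : ↥three6) : x * scal a = scal a * x := by
  refine Subtype.ext (Mono.ext ?_ (funext fun i => ?_))
  · exact (mul_one _).trans (one_mul _).symm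
  · show x.1.coef i * a = a * x.1.coef i
    exact mul_comm _ _

theorem proj_scal (a : F4ˣ) : proj (scal a) = 1 := rfl

theorem exists_scal_of_proj {x : ↥three6} (h : proj x = 1) : ∃ a, x = scal a := by
  have h1 : x.1.perm = 1 := congrArg Subtype.val h
  have h2 : Pres F4.w 1 x.1.coef := h1 ▸ x.2
  exact ⟨x.1.coef 0, Subtype.ext (Mono.ext h1
    (funext fun i => const_of_pres F4.card_eq F4.w omega_eq h2 i 0))⟩

theorem card_units : Nat.card F4ˣ = 3 := by
  rw [Nat.card_units, Nat.card_eq_fintype_card, F4.card_eq]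

/-- Two disjoint three-cycles. -/
def cyc1 : ↥(alternatingGroup (Fin 6)) :=
  ⟨swap 0 1 * swap 1 2, Perm.mem_alternatingGroup.2 (by decide)⟩

/-- The second three-cycle. -/
def cyc2 : ↥(alternatingGroup (Fin 6)) :=
  ⟨swap 3 4 * swap 4 5, Perm.mem_alternatingGroup.2 (by decide)⟩

theorem not_fixed : ∀ a b c d e f : Fin 3, ok (fun i => swap 4 5 (swap 3 4 i)) ![a, b, c, d, e, f] → a ≠ c := by
  decide +kernel

theorem lifts_not_commute {x y : ↥three6} (hx : proj x = cyc1) (hy : proj y = cyc2) : x * y ≠ y * x := by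
  intro h
  have hpx : x.1.perm = swap 0 1 * swap 1 2 := congrArg Subtype.val hx
  have hpy : y.1.perm = swap 3 4 * swap 4 5 := congrArg Subtype.val hy
  have h0 : x.1.coef 0 * y.1.coef (x.1.perm.symm 0) = y.1.coef 0 * x.1.coef (y.1.perm.symm 0) :=
    congrFun (congrArg (fun z : ↥three6 => z.1.coef) h) 0
  rw [show y.1.perm.symm 0 = 0 by rw [hpy]; decide, show x.1.perm.symm 0 = 2 by rw [hpx]; decide,
    mul_comm (y.1.coef 0)] at h0
  have h02 := mul_left_cancel h0
  choose c hc using fun i => exists_index F4.card_eq F4.w omega_eq (y.1.coef i)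
  have hok := (pres_iff F4.card_eq F4.w omega_eq _ c _ hc).1 y.2
  have e : c = ![c 0, c 1, c 2, c 3, c 4, c 5] := by funext i; fin_cases i <;> rfl
  have hperm : (y.1.perm.symm : Fin 6 → Fin 6) = fun i => swap 4 5 (swap 3 4 i) := by
    rw [hpy]; decide
  rw [e, hperm] at hok
  refine not_fixed _ _ _ _ _ _ hok ?_
  have hv : φ F4.w (sc (c 0)) = φ F4.w (sc (c 2)) := by rw [← hc, ← hc, h02]
  have hv' := (φ_bijective F4.card_eq F4.w omega_eq).1 hv
  have hinj : Function.Injective sc := by decide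
  exact hinj hv'

/-- The pullback of `3.A₆` along a map to `A₆`. -/
def pull {Q : Type*} [Group Q] (θ : Q →* ↥(alternatingGroup (Fin 6))) : Subgroup (↥three6 × Q) :=
  (proj.comp (MonoidHom.fst _ _)).eqLocus (θ.comp (MonoidHom.snd _ _))

/-- The projection of the pullback. -/
def down {Q : Type*} [Group Q] (θ : Q →* ↥(alternatingGroup (Fin 6))) : ↥(pull θ) →* Q :=
  (MonoidHom.snd _ _).comp (pull θ).subtype

/-- The scalars in the pullback. -/
def scalP {Q : Type*} [Group Q] (θ : Q →* ↥(alternatingGroup (Fin 6))) : F4ˣ →* ↥(pull θ) :=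
  ((MonoidHom.inl _ _).comp scal).codRestrict _ fun a => by
    show proj (scal a) = θ 1
    rw [proj_scal, map_one]

section Pull

variable {Q : Type*} [Group Q] (θ : Q →* ↥(alternatingGroup (Fin 6)))

theorem down_surjective : Function.Surjective (down θ) := fun q => by
  obtain ⟨h, hh⟩ := proj_surjective (θ q)
  exact ⟨⟨(h, q), hh⟩, rfl⟩

theorem scalP_injective : Function.Injective (scalP θ) := fun a b h =>
  scal_injective (congrArg (fun x : ↥(pull θ) => x.1.1) h)

theorem scalP_central (a : F4ˣ) : scalP θ a ∈ Subgroup.center ↥(pull θ) :=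
  Subgroup.mem_center_iff.2 fun g => Subtype.ext (Prod.ext (scal_central a g.1.1)
    (show g.1.2 * 1 = 1 * g.1.2 by rw [mul_one, one_mul]))

theorem down_ker : (down θ).ker = (scalP θ).range := by
  ext x
  constructor
  · intro hx
    have h2 : x.1.2 = 1 := hx
    have h1 : proj x.1.1 = 1 := by rw [show proj x.1.1 = θ x.1.2 from x.2, h2, map_one]
    obtain ⟨a, ha⟩ := exists_scal_of_proj h1
    exact ⟨a, Subtype.ext (Prod.ext ha.symm h2.symm)⟩
  · rintro ⟨a, rfl⟩; rfl

theorem scalP_mem_commutator {u v : Q} (hu : θ u = cyc1) (hv : θ v = cyc2) (huv : Commute u v) (a : F4ˣ) :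
    scalP θ a ∈ commutator ↥(pull θ) := by
  obtain ⟨x, hx⟩ := proj_surjective cyc1
  obtain ⟨y, hy⟩ := proj_surjective cyc2
  let X : ↥(pull θ) := ⟨(x, u), hx.trans hu.symm⟩
  let Y : ↥(pull θ) := ⟨(y, v), hy.trans hv.symm⟩
  have hcyc : Commute cyc1 cyc2 := by
    rw [← hu, ← hv]; exact huv.map θ
  obtain ⟨b, hb⟩ := exists_scal_of_proj (x := ⁅x, y⁆) (by
    rw [map_commutatorElement, hx, hy]; exact commutatorElement_eq_one_iff_commute.2 hcyc)
  have hb1 : b ≠ 1 := by
    rintro rfl
    rw [map_one, commutatorElement_eq_one_iff_commute] at hb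
    exact lifts_not_commute hx hy hb.eq
  have hXY : ⁅X, Y⁆ = scalP θ b := by
    refine Subtype.ext (Prod.ext hb ?_)
    show ⁅u, v⁆ = 1
    exact commutatorElement_eq_one_iff_commute.2 huv
  have hmem : scalP θ b ∈ commutator ↥(pull θ) := by
    rw [← hXY, commutator_eq_closure]; exact Subgroup.subset_closure ⟨X, Y, rfl⟩
  haveI : Fact (Nat.Prime 3) := ⟨Nat.prime_three⟩
  obtain ⟨k, hk⟩ := (Subgroup.mem_zpowers_iff).1 (mem_zpowers_of_prime_card card_units hb1 (g' := a))
  rw [← hk, map_zpow]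
  exact zpow_mem hmem k

theorem down_stem {u v : Q} (hu : θ u = cyc1) (hv : θ v = cyc2) (huv : Commute u v) :
    Cfsg.IsStemExtension (down θ) := by
  refine ⟨down_surjective θ, ?_, ?_⟩
  · rw [down_ker]; rintro _ ⟨a, rfl⟩; exact scalP_central θ a
  · rw [down_ker]; rintro _ ⟨a, rfl⟩; exact scalP_mem_commutator θ hu hv huv a

theorem finite_pull [Finite Q] : Finite ↥(pull θ) := inferInstance

end Pull

theorem cyc_comm : Commute cyc1 cyc2 := by
  unfold Commute SemiconjBy; decide

theorem cyc_cube : cyc1 ^ 3 = 1 ∧ cyc2 ^ 3 = 1 := by decide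

end Cfsg.Agent.Spor.Hexa.Cover
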