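import Cfsg.Prelude.Def_Classical

/-! A field isomorphism induces an isomorphism of special unitary groups. -/

set_option autoImplicit false

namespace Cfsg.Agent.Spor.SUCongr

open Matrix Cfsg

variable {n : ℕ} {F F' : Type*} [Field F] [Field F'] (q : ℕ)

theorem map_mem (φ : F ≃+* F') {s : SpecialLinearGroup (Fin n) F} (hs : s ∈ SU n F q) :
    SpecialLinearGroup.map (φ : F →+* F') s ∈ SU n F' q := by
  intro u v
  have key : ∀ w : Fin n → F, slToMat n F' (SpecialLinearGroup.map (φ : F →+* F') s) *ᵥ (φ ∘ w) = φ ∘ (slToMat n F s *ᵥ w) :=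
    fun w => funext fun i => (RingHom.map_mulVec (φ : F →+* F') _ w i).symm
  have hf : ∀ a b : Fin n → F, hermForm n F' q (φ ∘ a) (φ ∘ b) = φ (hermForm n F q a b) := fun a b => by
    simp [hermForm, map_sum, map_mul, map_pow]
  obtain ⟨a, rfl⟩ : ∃ a, φ ∘ a = u := ⟨φ.symm ∘ u, funext fun i => φ.apply_symm_apply _⟩
  obtain ⟨b, rfl⟩ : ∃ b, φ ∘ b = v := ⟨φ.symm ∘ v, funext fun i => φ.apply_symm_apply _⟩
  rw [key, key, hf, hf, hs a b]

/-- The induced isomorphism. -/
def equiv (φ : F ≃+* F') : SU n F q ≃* SU n F' q where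
  toFun s := ⟨_, map_mem q φ s.2⟩
  invFun s := ⟨_, map_mem q φ.symm s.2⟩
  left_inv s := Subtype.ext (Subtype.ext (Matrix.ext fun i j => φ.symm_apply_apply _))
  right_inv s := Subtype.ext (Subtype.ext (Matrix.ext fun i j => φ.apply_symm_apply _))
  map_mul' s t := Subtype.ext (map_mul (SpecialLinearGroup.map (φ : F →+* F')) _ _)

/-- Derived groups correspond. -/
theorem commutator_equiv {G G' : Type*} [Group G] [Group G'] (e : G ≃* G') :
    Nonempty (commutator G ≃* commutator G') := by
  refine ⟨((commutator G).equivMapOfInjective e.toMonoidHom e.injective).trans (MulEquiv.subgroupCongr ?_)⟩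
  rw [commutator_def, commutator_def, Subgroup.map_commutator, Subgroup.map_top_of_surjective e.toMonoidHom e.surjective]

end Cfsg.Agent.Spor.SUCongr
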