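import Cfsg.Agent.Lib.Lie.Carmichael
import Cfsg.Prelude.Def_KGroupFacts

/-!
The triple cover `3.A₇` inside `SU₃(5)`, recognised by Carmichael's relations modulo the scalars.
-/

set_option autoImplicit false
set_option maxRecDepth 100000

namespace Cfsg.Agent.Spor.TripleSeven

open Cfsg.Agent.Lie.Carmichael
open scoped commutatorElement

/-- The field with 25 elements as `𝔽₅[ω]`. -/
abbrev R : Type := QuadraticAlgebra (ZMod 5) (-1) (-1)

abbrev SLR : Type := Matrix.SpecialLinearGroup (Fin 3) R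

/-- The five matrices. -/
def mats : Fin 5 → Matrix (Fin 3) (Fin 3) R :=
  ![!![⟨0, 3⟩, ⟨1, 4⟩, ⟨3, 3⟩; ⟨0, 2⟩, ⟨1, 4⟩, ⟨2, 2⟩; ⟨4, 1⟩, ⟨0, 0⟩, ⟨4, 3⟩],
    !![⟨3, 4⟩, ⟨0, 3⟩, ⟨2, 0⟩; ⟨0, 0⟩, ⟨4, 1⟩, ⟨2, 1⟩; ⟨3, 4⟩, ⟨0, 2⟩, ⟨3, 0⟩],
    !![⟨2, 1⟩, ⟨4, 3⟩, ⟨0, 0⟩; ⟨2, 0⟩, ⟨2, 2⟩, ⟨1, 2⟩; ⟨3, 0⟩, ⟨3, 3⟩, ⟨1, 2⟩],
    !![⟨1, 1⟩, ⟨0, 4⟩, ⟨3, 0⟩; ⟨2, 2⟩, ⟨0, 4⟩, ⟨4, 0⟩; ⟨1, 1⟩, ⟨0, 3⟩, ⟨4, 0⟩],
    !![⟨0, 0⟩, ⟨4, 4⟩, ⟨0, 0⟩; ⟨0, 0⟩, ⟨0, 0⟩, ⟨1, 0⟩; ⟨0, 1⟩, ⟨0, 0⟩, ⟨0, 0⟩]]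

theorem mats_det : ∀ i, (mats i).det = 1 := by
  simp only [Matrix.det_fin_three]
  decide +kernel

/-- The matrices in `SL₃(25)`. -/
def X (i : Fin 5) : SLR := ⟨mats i, mats_det i⟩

/-- The scalar `ω`. -/
def W : SLR := ⟨!![⟨0, 1⟩, 0, 0; 0, ⟨0, 1⟩, 0; 0, 0, ⟨0, 1⟩], by
  simp only [Matrix.det_fin_three]; decide +kernel⟩

theorem W_cube : W ^ 3 = 1 := by decide +kernel

theorem W_ne_one : W ≠ 1 := by decide +kernel

theorem W_central (M : SLR) : M * W = W * M := by
  have hW : ((W : SLR) : Matrix (Fin 3) (Fin 3) R) = Matrix.scalar (Fin 3) (⟨0, 1⟩ : R) := by decide +kernel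
  refine Subtype.ext ?_
  rw [Matrix.SpecialLinearGroup.coe_mul, Matrix.SpecialLinearGroup.coe_mul, hW]
  exact (Matrix.scalar_commute _ (fun r => Commute.all _ r) _).eq.symm

theorem X_cube : ∀ i, X i ^ 3 = 1 := by decide +kernel

theorem X_pair : ∀ i j : Fin 5, i ≠ j → (X i * X j) ^ 2 = 1 ∨ (X i * X j) ^ 2 = W ∨ (X i * X j) ^ 2 = W ^ 2 := by
  decide +kernel

/-- The word commuting with the first element modulo scalars. -/
def wordY {M : Type*} [Monoid M] (x : Fin 5 → M) : M := x 1 * x 2 * x 4 * x 1 * x 2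

theorem W_eq : X 0 * wordY X = W * (wordY X * X 0) := by decide +kernel

theorem cyc_wordY : cyc (0 : Fin 5) * wordY cyc = wordY cyc * cyc (0 : Fin 5) := by decide +kernel

/-- The generators of the cover. -/
def gen (i : Fin 5) : SLR × alternatingGroup (Pt (Fin 5)) := (X i, cyc i)

/-- The cover. -/
def cover : Subgroup (SLR × alternatingGroup (Pt (Fin 5))) := Subgroup.closure (Set.range gen)

/-- The generators in the cover. -/
def genC (i : Fin 5) : cover := ⟨gen i, Subgroup.subset_closure ⟨i, rfl⟩⟩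

theorem genC_closure : Subgroup.closure (Set.range genC) = ⊤ := by
  have h : (Subgroup.closure (Set.range genC)).map cover.subtype = (⊤ : Subgroup cover).map cover.subtype := by
    rw [MonoidHom.map_closure, ← Set.range_comp, ← MonoidHom.range_eq_map, Subgroup.range_subtype]
    rfl
  exact Subgroup.map_injective cover.subtype_injective h

/-- The projection. -/
def proj : cover →* alternatingGroup (Pt (Fin 5)) := (MonoidHom.snd _ _).comp cover.subtype

theorem proj_surjective : Function.Surjective proj := by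
  rw [← MonoidHom.range_eq_top, eq_top_iff, ← closure_cyc, Subgroup.closure_le]
  rintro _ ⟨i, rfl⟩
  exact ⟨genC i, rfl⟩

theorem commutator_W : ⁅gen 0, wordY gen⁆ = ((W, 1) : SLR × alternatingGroup (Pt (Fin 5))) := by
  rw [commutatorElement_def, mul_inv_eq_iff_eq_mul, mul_inv_eq_iff_eq_mul]
  refine Prod.ext ?_ ?_
  · show X 0 * wordY X = W * wordY X * X 0
    rw [W_eq, mul_assoc]
  · show cyc (0 : Fin 5) * wordY cyc = 1 * wordY cyc * cyc (0 : Fin 5)
    rw [one_mul, cyc_wordY]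

/-- The scalar in the cover. -/
def wC : cover := ⁅genC 0, wordY genC⁆

theorem wC_val : (wC : SLR × alternatingGroup (Pt (Fin 5))) = (W, 1) := commutator_W

theorem wC_central : wC ∈ Subgroup.center cover :=
  Subgroup.mem_center_iff.2 fun g => Subtype.ext (by
    rw [Subgroup.coe_mul, Subgroup.coe_mul, wC_val]
    exact Prod.ext (W_central _) (show g.1.2 * 1 = 1 * g.1.2 by rw [mul_one, one_mul]))

theorem ker_eq : proj.ker = Subgroup.zpowers wC := by
  have hle : Subgroup.zpowers wC ≤ proj.ker := Subgroup.zpowers_le.2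
    (show proj wC = 1 from congrArg Prod.snd wC_val)
  haveI : (Subgroup.zpowers wC).Normal := ⟨fun n hn g => by
    rwa [Subgroup.mem_center_iff.1 (Subgroup.zpowers_le.2 wC_central hn) g, mul_inv_cancel_right]⟩
  let q := QuotientGroup.mk' (Subgroup.zpowers wC)
  have h3 : ∀ i, q (genC i) ^ 3 = 1 := fun i => by
    rw [← map_pow, show genC i ^ 3 = 1 from Subtype.ext (Prod.ext (X_cube i) (by
      show cyc i ^ 3 = 1
      revert i; decide +kernel)), map_one]
  have h2 : ∀ i j, i ≠ j → (q (genC i) * q (genC j)) ^ 2 = 1 := fun i j hij => by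
    rw [← map_mul, ← map_pow, QuotientGroup.mk'_apply, QuotientGroup.eq_one_iff]
    have hs : ((genC i * genC j) ^ 2 : cover).1.2 = 1 := by
      show (cyc i * cyc j) ^ 2 = 1
      revert i j; decide +kernel
    rcases X_pair i j hij with h | h | h
    · exact ⟨0, Subtype.ext (Prod.ext (by simp only [zpow_zero]; exact h.symm) (by simp only [zpow_zero]; exact hs.symm))⟩
    · exact ⟨1, Subtype.ext (by simp only [zpow_one]; rw [wC_val]; exact Prod.ext h.symm hs.symm)⟩
    · exact ⟨(2 : ℕ), Subtype.ext (by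
        simp only [zpow_natCast]; rw [SubgroupClass.coe_pow, wC_val]; exact Prod.ext h.symm (by rw [hs]; exact one_pow 2))⟩
  have hgen : Subgroup.closure (Set.range fun i => q (genC i)) = ⊤ := by
    rw [show (fun i => q (genC i)) = ⇑q ∘ genC from rfl, Set.range_comp, ← MonoidHom.map_closure, genC_closure,
      Subgroup.map_top_of_surjective q (QuotientGroup.mk'_surjective _)]
  let π := QuotientGroup.lift (Subgroup.zpowers wC) proj hle
  have hbij := Lie.Carmichael.bijective h3 h2 hgen π (fun i => rfl)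
  refine le_antisymm (fun g hg => ?_) hle
  have : q g = 1 := hbij.1 (by rw [map_one]; exact hg)
  exact (QuotientGroup.eq_one_iff g).1 this

theorem orderOf_wC : orderOf wC = 3 := by
  haveI := Fact.mk Nat.prime_three
  refine orderOf_eq_prime (Subtype.ext ?_) fun h => W_ne_one ?_
  · rw [SubgroupClass.coe_pow, wC_val]; exact Prod.ext W_cube (one_pow 3)
  · have := congrArg Prod.fst (congrArg Subtype.val h)
    rwa [wC_val] at this

theorem finite_cover : Finite cover := by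
  haveI : Finite R := Finite.of_equiv _ (QuadraticAlgebra.equivProd (R := ZMod 5) (-1) (-1)).symm
  exact inferInstance

/-- The triple cover. -/
theorem stem : Cfsg.IsStemExtension proj ∧ IsCyclic proj.ker ∧ Nat.card proj.ker = 3 := by
  rw [ker_eq]
  refine ⟨⟨proj_surjective, ?_, ?_⟩, inferInstance, ?_⟩
  · rw [ker_eq, Subgroup.zpowers_le]; exact wC_central
  · rw [ker_eq, Subgroup.zpowers_le, commutator_def]
    exact Subgroup.commutator_mem_commutator (Subgroup.mem_top _) (Subgroup.mem_top _)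
  · rw [Nat.card_zpowers, orderOf_wC]

end Cfsg.Agent.Spor.TripleSeven
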