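import Cfsg.Agent.Lib.Spor.FourGenCheck
import Cfsg.Agent.Lib.Grp.Baer

/-! If a set of involutions is closed under conjugation by its members and the product of any two
members has order dividing 3, then any four members generate a group whose order divides
`2 * 3 ^ 10`, and so, in a finite group generated by the set, every product of two members lies
in the largest normal 3-subgroup. -/

set_option autoImplicit false
set_option maxRecDepth 100000

namespace Cfsg.Agent.Spor.FourGen

open Cfsg.Agent.Spor.Coset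

theorem ev_take {G : Type*} [Group G] (g g' : ℕ → G) :
    ∀ w : List ℕ, (∀ s ∈ w, g s = g' s) → ev g w = ev g' w
  | [], _ => rfl
  | s :: w, h => by
    simp only [ev]
    rw [h s (List.mem_cons_self ..), ev_take g g' w fun t ht => h t (List.mem_cons_of_mem _ ht)]

/-- A group generated by the first `k + 1` generators, over the one generated by the first `k`. -/
theorem card_step {F : Type*} [Group F] (g : ℕ → F) (C : Cert) (hc : C.check = true) (k : ℕ)
    (hn : C.n = k + 1) (hsub : C.sub = (List.range k).map fun s => [s])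
    (hw : ∀ w ∈ C.rels, ∀ s ∈ w, s < k + 1) (hinv : ∀ s < k + 1, g s * g s = 1)
    (hrels : ∀ w ∈ C.rels, ev g w = 1) (B : ℕ)
    (hB : Finite (Subgroup.closure {x | ∃ s < k, g s = x}) ∧
      Nat.card (Subgroup.closure {x | ∃ s < k, g s = x}) ≤ B) :
    Finite (Subgroup.closure {x | ∃ s < k + 1, g s = x}) ∧
      Nat.card (Subgroup.closure {x | ∃ s < k + 1, g s = x}) ≤ C.N * B := by
  set K := Subgroup.closure {x | ∃ s < k + 1, g s = x} with hK
  set L := Subgroup.closure {x | ∃ s < k, g s = x} with hL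
  have hLK : L ≤ K := Subgroup.closure_mono fun x ⟨s, hs, e⟩ => ⟨s, by omega, e⟩
  let g' : ℕ → K := fun s =>
    if h : s < k + 1 then ⟨g s, Subgroup.subset_closure ⟨s, h, rfl⟩⟩ else 1
  have hg' : ∀ s < k + 1, (g' s : F) = g s := fun s h => by simp only [g', dif_pos h]
  have hev : ∀ w : List ℕ, (∀ s ∈ w, s < k + 1) → ((ev g' w : K) : F) = ev g w := fun w h => by
    show K.subtype (ev g' w) = _
    rw [ev_map]
    exact ev_take _ _ w fun s hs => hg' s (h s hs)
  have hidx := C.index_le g' hc (H := L.subgroupOf K)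
    (fun s hs => Subtype.ext (by rw [Subgroup.coe_mul, hg' s (hn ▸ hs)]; exact hinv s (hn ▸ hs)))
    (by
      apply Subgroup.map_injective K.subtype_injective
      rw [MonoidHom.map_closure, ← MonoidHom.range_eq_map, Subgroup.range_subtype]
      show Subgroup.closure _ = Subgroup.closure _
      congr 1
      ext x
      constructor
      · rintro ⟨y, ⟨s, hs, rfl⟩, rfl⟩
        exact ⟨s, hn ▸ hs, (hg' s (hn ▸ hs)).symm⟩
      · rintro ⟨s, hs, rfl⟩
        exact ⟨g' s, ⟨s, hn.symm ▸ hs, rfl⟩, hg' s hs⟩)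
    (fun w h => Subtype.ext (by rw [hev w (hw w h)]; simpa using hrels w h))
    (fun w h => by
      rw [hsub, List.mem_map] at h
      obtain ⟨s, hs, rfl⟩ := h
      rw [List.mem_range] at hs
      rw [Subgroup.mem_subgroupOf]
      simp only [ev, mul_one]
      rw [hg' s (by omega)]
      exact Subgroup.subset_closure ⟨s, hs, rfl⟩)
  have : Finite L := hB.1
  have hcard : Nat.card (L.subgroupOf K) = Nat.card L :=
    Nat.card_congr (Subgroup.subgroupOfEquivOfLe hLK).toEquiv
  have hmul : (L.subgroupOf K).index * Nat.card L = Nat.card K := by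
    rw [← hcard]; exact Subgroup.index_mul_card _
  have hne : Nat.card K ≠ 0 := by
    rw [← hmul]; exact Nat.mul_ne_zero hidx.1.index_ne_zero Nat.card_pos.ne'
  exact ⟨Nat.finite_of_card_ne_zero hne, hmul ▸ Nat.mul_le_mul hidx.2 hB.2⟩

/-- The words of the presentation. -/
def presRels : Set (FreeGroup (Fin 4)) :=
  {r | (∃ i : Fin 4, r = FreeGroup.of i * FreeGroup.of i) ∨
    ∃ w ∈ relsOf pairs,
      r = ev (fun s => if h : s < 4 then FreeGroup.of (⟨s, h⟩ : Fin 4) else 1) w}

/-- The universal group. -/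
abbrev Univ : Type := PresentedGroup presRels

/-- Its generators. -/
def gen (s : ℕ) : Univ := if h : s < 4 then PresentedGroup.of ⟨s, h⟩ else 1

theorem gen_inv {s : ℕ} (hs : s < 4) : gen s * gen s = 1 := by
  rw [gen, dif_pos hs, PresentedGroup.of, ← map_mul]
  exact PresentedGroup.one_of_mem (Or.inl ⟨_, rfl⟩)

theorem gen_rels {w : List ℕ} (hw : w ∈ relsOf pairs) : ev gen w = 1 := by
  have h := PresentedGroup.one_of_mem (rels := presRels) (Or.inr ⟨w, hw, rfl⟩)
  rw [ev_map] at h
  rw [← h]
  refine ev_take _ _ w fun s _ => ?_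
  unfold gen
  split <;> rfl

theorem univ_le : Finite Univ ∧ Nat.card Univ ≤ 2187 * (9 * (3 * 2)) := by
  obtain ⟨h4, h3, h2, w4, w3, w2⟩ := pairs_sub
  simp only [List.all_eq_true, decide_eq_true_eq] at w4 w3 w2
  have k1 : Finite (Subgroup.closure {x | ∃ s < 1, gen s = x}) ∧
      Nat.card (Subgroup.closure {x | ∃ s < 1, gen s = x}) ≤ 2 := by
    have he : {x : Univ | ∃ s < 1, gen s = x} = {gen 0} := by
      ext x
      simp [Nat.lt_one_iff, eq_comm]
    rw [he, ← Subgroup.zpowers_eq_closure]
    have ho : orderOf (gen 0) ∣ 2 :=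
      orderOf_dvd_of_pow_eq_one (by rw [pow_two]; exact gen_inv (by norm_num))
    have hfo : IsOfFinOrder (gen 0) :=
      isOfFinOrder_iff_pow_eq_one.mpr
        ⟨2, by norm_num, by rw [pow_two]; exact gen_inv (by norm_num)⟩
    exact ⟨hfo.finite_zpowers.to_subtype,
      by rw [Nat.card_zpowers]; exact Nat.le_of_dvd (by norm_num) ho⟩
  have k2 := card_step gen c2 check2 1 rfl rfl w2 (fun s hs => gen_inv (by omega))
    (fun w h => gen_rels (h2 w h)) 2 k1
  have k3 := card_step gen c3 check3 2 rfl rfl w3 (fun s hs => gen_inv (by omega))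
    (fun w h => gen_rels (h3 w h)) _ k2
  have k4 := card_step gen c4 check4 3 rfl rfl w4 (fun s hs => gen_inv (by omega))
    (fun w h => gen_rels (h4 w h)) _ k3
  have htop : Subgroup.closure {x : Univ | ∃ s < 4, gen s = x} = ⊤ := by
    rw [eq_top_iff, ← PresentedGroup.closure_range_of presRels]
    refine Subgroup.closure_mono ?_
    rintro _ ⟨i, rfl⟩
    exact ⟨i, i.isLt, by simp [gen]⟩
  rw [show (3 + 1) = 4 from rfl, htop] at k4
  have : Finite (⊤ : Subgroup Univ) := k4.1
  exact ⟨Finite.of_equiv _ Subgroup.topEquiv.toEquiv, by simpa [c4, c3, c2] using k4.2⟩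

/-- The step of the action. -/
def step (s : ℕ) (a : Fin c4.N) : Fin c4.N :=
  if h : c4.tgt a s < c4.N then ⟨_, h⟩ else a

theorem step_val {s : ℕ} (hs : s < 4) (a : Fin c4.N) :
    (step s a : ℕ) = c4.tgt a s ∧ c4.tgt (c4.tgt a s) s = a := by
  have h := action_basic
  simp only [List.all_eq_true, List.mem_range, Bool.and_eq_true, decide_eq_true_eq,
    beq_iff_eq] at h
  obtain ⟨h1, h2⟩ := h a a.isLt s hs
  exact ⟨by simp [step, h1], h2⟩

/-- The permutation of a generator. -/
def perm (s : Fin 4) : Equiv.Perm (Fin c4.N) where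
  toFun := step s
  invFun := step s
  left_inv a := Fin.ext (by
    rw [(step_val s.isLt _).1, (step_val s.isLt a).1, (step_val s.isLt a).2])
  right_inv a := Fin.ext (by
    rw [(step_val s.isLt _).1, (step_val s.isLt a).1, (step_val s.isLt a).2])

/-- The permutations, indexed by naturals. -/
def permN (s : ℕ) : Equiv.Perm (Fin c4.N) := if h : s < 4 then perm ⟨s, h⟩ else 1

theorem ev_perm : ∀ (w : List ℕ), (∀ s ∈ w, s < 4) → ∀ a : Fin c4.N,
    (ev permN w a : ℕ) = w.foldr (fun s x => c4.tgt x s) (a : ℕ)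
  | [], _, a => rfl
  | s :: w, h, a => by
    have hs := h s (List.mem_cons_self ..)
    rw [ev, Equiv.Perm.mul_apply, permN, dif_pos hs]
    show (step s _ : ℕ) = _
    rw [(step_val hs _).1, ev_perm w (fun t ht => h t (List.mem_cons_of_mem _ ht)) a,
      List.foldr_cons]

theorem rels_lt {w : List ℕ} (hw : w ∈ relsOf pairs) : ∀ s ∈ w, s < 4 := by
  have hp := pairs_lt
  simp only [List.all_eq_true, List.mem_append, decide_eq_true_eq] at hp
  simp only [relsOf, List.mem_map] at hw
  obtain ⟨p, hp', rfl⟩ := hw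
  intro s hs
  simp only [List.mem_append] at hs
  apply hp p hp'
  tauto

theorem perm_rels : ∀ r ∈ presRels, FreeGroup.lift perm r = 1 := by
  rintro r (⟨i, rfl⟩ | ⟨w, hw, rfl⟩)
  · rw [map_mul, FreeGroup.lift_apply_of]
    ext a
    show (step i (step i a) : ℕ) = (a : ℕ)
    rw [(step_val i.isLt _).1, (step_val i.isLt a).1, (step_val i.isLt a).2]
  · rw [ev_map]
    ext a
    have e : ev (fun s => FreeGroup.lift perm
        (if h : s < 4 then FreeGroup.of (⟨s, h⟩ : Fin 4) else 1)) w = ev permN w :=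
      ev_take _ _ w fun s _ => by unfold permN; split <;> simp
    rw [e, ev_perm w (rels_lt hw) a]
    have h := action_rels
    simp only [List.all_eq_true, List.mem_range, beq_iff_eq] at h
    exact h w hw a a.isLt

theorem univ_ge : 2187 * 54 ≤ Nat.card Univ := by
  have : Finite Univ := univ_le.1
  let φ := PresentedGroup.toGroup perm_rels
  have hgen : ∀ w : List ℕ, φ (ev gen w) = ev permN w := fun w => by
    rw [ev_map]
    refine ev_take _ _ w fun s _ => ?_
    unfold gen permN
    split
    · exact PresentedGroup.toGroup.of _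
    · exact map_one _
  have h0 : 0 < c4.N := by norm_num [c4]
  have hreach : ∀ b : ℕ, ∀ hb : b < c4.N, ∃ f : Univ, φ f ⟨0, h0⟩ = ⟨b, hb⟩ := by
    intro b
    induction b using Nat.strong_induction_on with
    | _ b ih =>
      intro hb
      rcases eq_or_ne b 0 with rfl | h0'
      · exact ⟨1, by simp⟩
      have h := action_tree
      simp only [List.all_eq_true, List.mem_range, Bool.or_eq_true, beq_iff_eq,
        Bool.and_eq_true, decide_eq_true_eq] at h
      obtain ⟨h1, h2⟩ := (h b hb).resolve_left h0'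
      obtain ⟨f, hf⟩ := ih _ h1 (h1.trans hb)
      have hs : c4.par b % 4 < 4 := Nat.mod_lt _ (by norm_num)
      refine ⟨gen (c4.par b % 4) * f, ?_⟩
      rw [map_mul, Equiv.Perm.mul_apply, hf, gen, dif_pos hs, PresentedGroup.toGroup.of]
      apply Fin.ext
      show (step _ _ : ℕ) = b
      rw [(step_val hs _).1]
      exact h2
  choose P hP using hreach
  obtain ⟨hnd, hfix, hlt, hlen⟩ := action_k
  simp only [List.all_eq_true, beq_iff_eq, decide_eq_true_eq] at hfix hlt
  let q : Fin c4.N × Fin kWords.length → Univ := fun bk =>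
    P bk.1 bk.1.isLt * ev gen (kWords[bk.2.1])
  have hq : Function.Injective q := by
    rintro ⟨b, k⟩ ⟨b', k'⟩ h
    have h' := congrArg φ h
    simp only [q, map_mul, hgen] at h'
    have hz : ∀ k : Fin kWords.length, ev permN kWords[k.1] ⟨0, h0⟩ = ⟨0, h0⟩ := fun k => by
      apply Fin.ext
      rw [ev_perm _ (hlt _ (List.getElem_mem _))]
      exact hfix _ (List.getElem_mem _)
    have hbb : b = b' := by
      have := DFunLike.congr_fun h' ⟨0, h0⟩
      rw [Equiv.Perm.mul_apply, Equiv.Perm.mul_apply, hz, hz, hP, hP] at this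
      exact Fin.ext (by simpa using congrArg Fin.val this)
    subst hbb
    rw [mul_right_inj] at h'
    have h1 : (1 : ℕ) < c4.N := by norm_num [c4]
    have e := congrArg Fin.val (DFunLike.congr_fun h' ⟨1, h1⟩)
    rw [ev_perm _ (hlt _ (List.getElem_mem _)), ev_perm _ (hlt _ (List.getElem_mem _))] at e
    have := (hnd.getElem_inj_iff (hi := by simp) (hj := by simp)
      (i := k.1) (j := k'.1)).mp (by simpa using e)
    rw [Prod.mk.injEq]
    exact ⟨rfl, Fin.ext this⟩
  have := Nat.card_le_card_of_injective q hq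
  simpa [hlen, c4] using this

theorem univ_card : Nat.card Univ = 2 * 3 ^ 10 :=
  le_antisymm (univ_le.2.trans (by norm_num)) (le_trans (by norm_num) univ_ge)

/-- Four members of the set generate a group whose order divides `2 * 3 ^ 10`. -/
theorem card_dvd {G : Type*} [Group G] (S : Set G) (hinv : ∀ x ∈ S, x * x = 1)
    (hconj : ∀ x ∈ S, ∀ y ∈ S, x * y * x ∈ S) (h3 : ∀ x ∈ S, ∀ y ∈ S, (x * y) ^ 3 = 1)
    (v : Fin 4 → G) (hv : ∀ i, v i ∈ S) :
    Finite (Subgroup.closure (Set.range v)) ∧
      Nat.card (Subgroup.closure (Set.range v)) ∣ 2 * 3 ^ 10 := by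
  have hrel : ∀ r ∈ presRels, FreeGroup.lift v r = 1 := by
    rintro r (⟨i, rfl⟩ | ⟨w, hw, rfl⟩)
    · simpa using hinv _ (hv i)
    · rw [ev_map]
      set g : ℕ → G := fun s =>
        FreeGroup.lift v (if h : s < 4 then FreeGroup.of (⟨s, h⟩ : Fin 4) else 1)
      simp only [relsOf, List.mem_map] at hw
      obtain ⟨p, hp, rfl⟩ := hw
      have hsh := pairs_shape
      simp only [List.all_eq_true, List.mem_cons, List.not_mem_nil, or_false,
        Bool.or_eq_true, Bool.and_eq_true, beq_iff_eq] at hsh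
      have hlt := pairs_lt
      simp only [List.all_eq_true, List.mem_append, decide_eq_true_eq] at hlt
      have hg : ∀ s, s < 4 → g s ∈ S := fun s hs => by
        simp only [g, dif_pos hs, FreeGroup.lift_apply_of]
        exact hv _
      have hmem : ∀ u, (u = p.1 ∨ u = p.2) → ev g u ∈ S := by
        intro u hu
        have hl : ∀ s ∈ u, s < 4 := fun s hs =>
          hlt p hp s (by rcases hu with rfl | rfl <;> simp [hs])
        rcases hsh p hp u hu with h1 | ⟨h1, h2⟩
        · obtain ⟨x, rfl⟩ := List.length_eq_one_iff.mp h1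
          simpa [ev] using hg x (hl x (by simp))
        · obtain ⟨x, y, z, rfl⟩ := List.length_eq_three.mp h1
          simp only [List.getD_cons_zero, List.getD_cons_succ] at h2
          subst h2
          simpa [ev, mul_assoc] using
            hconj _ (hg x (hl x (by simp))) _ (hg y (hl y (by simp)))
      have := h3 _ (hmem _ (Or.inl rfl)) _ (hmem _ (Or.inr rfl))
      simpa [ev_append, pow_three, mul_assoc] using this
  let ψ := PresentedGroup.toGroup hrel
  have hr : ψ.range = Subgroup.closure (Set.range v) := by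
    rw [MonoidHom.range_eq_map, ← PresentedGroup.closure_range_of presRels, MonoidHom.map_closure]
    congr 1
    rw [← Set.range_comp]
    congr 1
    funext i
    exact PresentedGroup.toGroup.of hrel
  have : Finite Univ := univ_le.1
  rw [← hr]
  exact ⟨(Set.finite_range ψ).to_subtype, univ_card ▸ Subgroup.card_range_dvd ψ⟩

/-- Products of two members lie in the largest normal 3-subgroup. -/
theorem mul_mem_pCore {G : Type*} [Group G] [Finite G] (S : Set G) (hinv : ∀ x ∈ S, x * x = 1)
    (hconj : ∀ g : G, ∀ x ∈ S, g * x * g⁻¹ ∈ S) (h3 : ∀ x ∈ S, ∀ y ∈ S, (x * y) ^ 3 = 1)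
    {a b : G} (ha : a ∈ S) (hb : b ∈ S) : a * b ∈ Cfsg.pCore 3 G := by
  have : Fact (Nat.Prime 3) := ⟨Nat.prime_three⟩
  refine Cfsg.Agent.Grp.baer_suzuki (a * b) fun g => ?_
  have hsi : ∀ x ∈ S, x⁻¹ = x := fun x hx => inv_eq_of_mul_eq_one_left (hinv x hx)
  let v : Fin 4 → G := ![a, b, g * a * g⁻¹, g * b * g⁻¹]
  have hv : ∀ i, v i ∈ S := by
    intro i; fin_cases i <;> simp [v, ha, hb, hconj]
  obtain ⟨-, hdvd⟩ := card_dvd S hinv
    (fun x hx y hy => by simpa [hsi x hx] using hconj x y hy) h3 v hv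
  set H := Subgroup.closure (Set.range v)
  obtain ⟨P⟩ : Nonempty (Sylow 3 H) := inferInstance
  have hP : (P : Subgroup H).index ∣ 2 := by
    have h1 : (P : Subgroup H).index ∣ 2 * 3 ^ 10 := (Subgroup.index_dvd_card _).trans hdvd
    have h2 : ¬ 3 ∣ (P : Subgroup H).index := P.not_dvd_index
    exact (Nat.Coprime.dvd_of_dvd_mul_right
      (Nat.Coprime.pow_right _ ((Nat.prime_three.coprime_iff_not_dvd.mpr h2).symm)) h1)
  have hPn : (P : Subgroup H).Normal := by
    rcases (Nat.dvd_prime Nat.prime_two).mp hP with h | h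
    · rw [Subgroup.index_eq_one.mp h]; infer_instance
    · exact Subgroup.normal_of_index_eq_two h
  have hmem : ∀ x : H, x ^ 3 = 1 → x ∈ (P : Subgroup H) := by
    intro x hx
    have h2 : x ^ 2 ∈ (P : Subgroup H) := by
      obtain ⟨k, hk⟩ := hP
      rw [hk, pow_mul]
      exact Subgroup.pow_mem _ (Subgroup.pow_index_mem _ x) k
    have := Subgroup.pow_mem _ h2 2
    rwa [← pow_mul, show 2 * 2 = 3 + 1 from rfl, pow_add, hx, one_mul, pow_one] at this
  have hle : Subgroup.closure {a * b, g * (a * b) * g⁻¹} ≤ (P : Subgroup H).map H.subtype := by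
    rw [Subgroup.closure_le]
    have hm : ∀ x y, x ∈ S → y ∈ S → x ∈ H → y ∈ H → x * y ∈ (P : Subgroup H).map H.subtype :=
      fun x y hx hy hxH hyH => ⟨⟨x * y, H.mul_mem hxH hyH⟩,
        hmem _ (Subtype.ext (by simpa using h3 x hx y hy)), rfl⟩
    have hvH : ∀ i, v i ∈ H := fun i => Subgroup.subset_closure ⟨i, rfl⟩
    rintro x (rfl | rfl)
    · exact hm a b ha hb (hvH 0) (hvH 1)
    · have := hm (g * a * g⁻¹) (g * b * g⁻¹) (hconj g a ha) (hconj g b hb) (hvH 2) (hvH 3)
      rw [SetLike.mem_coe]
      convert this using 1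
      group
  exact (IsPGroup.map P.isPGroup' H.subtype).to_le hle

end Cfsg.Agent.Spor.FourGen
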