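import Cfsg.Agent.Lib.Spor.ThreeTransSys
import Cfsg.Agent.Lib.Spor.FourGen
import Cfsg.Agent.Lib.Grp.Subnormal
import Cfsg.Agent.Lib.Transfer.Cores

/-! The two perpendicularity equivalences of a class of 3-transpositions and the cores at 2 and 3. -/

set_option autoImplicit false
set_option linter.style.haveILetI false

namespace Cfsg.Agent.Spor.ThreeTrans

variable {G : Type*} [Group G] {D : Set G}

/-- The same commuting members. -/
def perpTwo (D : Set G) (a b : G) : Prop := a ∈ D ∧ b ∈ D ∧ ∀ e ∈ D, Commute a e ↔ Commute b e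

/-- The same other commuting members. -/
def perpThree (D : Set G) (a b : G) : Prop :=
  a ∈ D ∧ b ∈ D ∧ {y : G | y ∈ D ∧ y ≠ a ∧ Commute a y} = {y : G | y ∈ D ∧ y ≠ b ∧ Commute b y}

theorem perpTwo_commute {a b : G} (h : perpTwo D a b) : Commute a b :=
  (h.2.2 b h.2.1).mpr (Commute.refl b)

theorem isSys_perpTwo (h : IsThreeTranspositionClass D) : IsSys D (perpTwo D) where
  refl a ha := ⟨ha, ha, fun _ _ => Iff.rfl⟩
  symm h' := ⟨h'.2.1, h'.1, fun e he => (h'.2.2 e he).symm⟩
  trans h1 h2 := ⟨h1.1, h2.2.1, fun e he => (h1.2.2 e he).trans (h2.2.2 e he)⟩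
  inv g {a b} h' := ⟨conj_mem h g h'.1, conj_mem h g h'.2.1, fun e he => by
    have e1 : e = g * (g⁻¹ * e * g⁻¹⁻¹) * g⁻¹ := by group
    rw [e1, commute_conj_iff, commute_conj_iff]
    exact h'.2.2 _ (conj_mem h g⁻¹ he)⟩
  mem h' := ⟨h'.1, h'.2.1⟩
  uniform h' he _ := (Commute.symm_iff.trans (h'.2.2 _ he)).trans Commute.symm_iff

theorem perpThree_not_commute {a b : G} (h : perpThree D a b) (hne : a ≠ b) : ¬ Commute a b := fun hc =>
  ((Set.ext_iff.mp h.2.2 b).mp ⟨h.2.1, hne.symm, hc⟩).2.1 rfl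

theorem isSys_perpThree (h : IsThreeTranspositionClass D) : IsSys D (perpThree D) where
  refl a ha := ⟨ha, ha, rfl⟩
  symm h' := ⟨h'.2.1, h'.1, h'.2.2.symm⟩
  trans h1 h2 := ⟨h1.1, h2.2.1, h1.2.2.trans h2.2.2⟩
  inv g {a b} h' := ⟨conj_mem h g h'.1, conj_mem h g h'.2.1, by
    ext y
    have e1 : y = g * (g⁻¹ * y * g⁻¹⁻¹) * g⁻¹ := by group
    have key := Set.ext_iff.mp h'.2.2 (g⁻¹ * y * g⁻¹⁻¹)
    have hm : y ∈ D ↔ g⁻¹ * y * g⁻¹⁻¹ ∈ D :=
      ⟨fun hy => conj_mem h g⁻¹ hy, fun hy => e1 ▸ conj_mem h g hy⟩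
    have hneq : ∀ c : G, (y ≠ g * c * g⁻¹ ↔ g⁻¹ * y * g⁻¹⁻¹ ≠ c) := fun c => by
      refine not_congr ⟨fun e => by rw [e]; group, fun e => by rw [← e]; group⟩
    have hcm : ∀ c : G, (Commute (g * c * g⁻¹) y ↔ Commute c (g⁻¹ * y * g⁻¹⁻¹)) := fun c => by
      conv_lhs => rw [e1]
      exact commute_conj_iff g c _
    simp only [Set.mem_setOf_eq, hm, hneq, hcm] at key ⊢
    exact key⟩
  mem h' := ⟨h'.1, h'.2.1⟩
  uniform {x y e} h' he hex := by
    have hx : e ≠ x := fun c => hex (by rw [c]; exact ⟨h'.1, h'.1, rfl⟩)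
    have hy : e ≠ y := fun c => hex (by rw [c]; exact ⟨h'.2.1, h'.1, h'.2.2.symm⟩)
    constructor
    · intro hc; exact ((Set.ext_iff.mp h'.2.2 e).mp ⟨he, hx, hc.symm⟩).2.2.symm
    · intro hc; exact ((Set.ext_iff.mp h'.2.2 e).mpr ⟨he, hy, hc.symm⟩).2.2.symm

theorem commute_of_sq (h : IsThreeTranspositionClass D) {a b : G} (ha : a ∈ D) (hb : b ∈ D)
    (h2 : (a * b) ^ 2 = 1) : Commute a b := by
  have h2' : a * b = (a * b)⁻¹ := eq_inv_of_mul_eq_one_left (by rwa [← pow_two])
  rw [mul_inv_rev, inv_eq h.1 ha, inv_eq h.1 hb] at h2'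
  exact h2'

theorem pow_three_of_not_commute (h : IsThreeTranspositionClass D) {a b : G} (ha : a ∈ D) (hb : b ∈ D)
    (hab : ¬ Commute a b) : (a * b) ^ 3 = 1 :=
  (h.1.2 a ha b hb).resolve_left fun h2 => hab (commute_of_sq h ha hb h2)

theorem sq_of_commute (h : IsThreeTranspositionClass D) {a b : G} (ha : a ∈ D) (hb : b ∈ D)
    (hab : Commute a b) : (a * b) ^ 2 = 1 := by
  rw [hab.mul_pow, pow_two, pow_two, mul_self h.1 ha, mul_self h.1 hb, mul_one]

theorem eq_one_of_core [Finite G] {p q : ℕ} [Fact p.Prime] [Fact q.Prime] (hpq : p ≠ q) {x : G}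
    (hx : x ∈ pCore p G) (hq : x ^ q = 1) : x = 1 := by
  obtain ⟨k, hk⟩ := Transfer.pCore_isPGroup p G ⟨x, hx⟩
  have hk' : x ^ p ^ k = 1 := congrArg Subtype.val hk
  refine orderOf_eq_one_iff.mp (Nat.eq_one_of_dvd_coprimes ?_ (orderOf_dvd_of_pow_eq_one hk')
    (orderOf_dvd_of_pow_eq_one hq))
  exact Nat.Coprime.pow_left k ((Nat.coprime_primes Fact.out Fact.out).mpr hpq)

variable [Finite G]

theorem eq_of_commute_core (h : IsThreeTranspositionClass D) {a b : G} (ha : a ∈ D) (hb : b ∈ D)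
    (hab : a * b ∈ pCore 3 G) (hc : Commute a b) : a = b := by
  haveI : Fact (Nat.Prime 2) := ⟨Nat.prime_two⟩
  haveI : Fact (Nat.Prime 3) := ⟨Nat.prime_three⟩
  exact (eq_inv_of_mul_eq_one_left (eq_one_of_core (by norm_num) hab (sq_of_commute h ha hb hc))).trans
    (inv_eq h.1 hb)

theorem commute_of_core_two (h : IsThreeTranspositionClass D) {a b : G} (ha : a ∈ D) (hb : b ∈ D)
    (hab : a * b ∈ pCore 2 G) : Commute a b := by
  haveI : Fact (Nat.Prime 2) := ⟨Nat.prime_two⟩
  haveI : Fact (Nat.Prime 3) := ⟨Nat.prime_three⟩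
  by_contra hc
  have := eq_one_of_core (by norm_num) hab (pow_three_of_not_commute h ha hb hc)
  exact hc (commute_of_sq h ha hb (by rw [this, one_pow]))

theorem mul_symm_mem (h : IsThreeTranspositionClass D) {N : Subgroup G} {a b : G} (ha : a ∈ D)
    (hb : b ∈ D) (hab : a * b ∈ N) : b * a ∈ N := by
  have := N.inv_mem hab
  rwa [mul_inv_rev, inv_eq h.1 ha, inv_eq h.1 hb] at this

theorem mul_trans_mem (h : IsThreeTranspositionClass D) {N : Subgroup G} {a b c : G} (hb : b ∈ D)
    (hab : a * b ∈ N) (hbc : b * c ∈ N) : a * c ∈ N := by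
  have := N.mul_mem hab hbc
  rwa [mul_assoc, mul_self_mul h.1 hb] at this

/-- Products of members with the same commuting sets lie in the 2-core. -/
theorem mul_mem_core_two (h : IsThreeTranspositionClass D) {a b : G} (hab : perpTwo D a b) :
    a * b ∈ pCore 2 G := by
  haveI : Fact (Nat.Prime 2) := ⟨Nat.prime_two⟩
  have hR := isSys_perpTwo h
  set K := sysKer h hR with hK
  let gs : Set G := {x | ∃ u v, perpTwo D a u ∧ perpTwo D a v ∧ x = u * v}
  let T : Subgroup G := Subgroup.closure gs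
  have hTK : T ≤ K := (Subgroup.closure_le _).mpr fun x ⟨u, v, hu, hv, e⟩ =>
    e ▸ mul_mem_sysKer h hR (hR.trans (hR.symm hu) hv)
  have hcc : ∀ x ∈ gs, ∀ y ∈ gs, Commute x y := by
    rintro _ ⟨u, v, hu, hv, rfl⟩ _ ⟨u', v', hu', hv', rfl⟩
    have c : ∀ {s t}, perpTwo D a s → perpTwo D a t → Commute s t := fun hs ht =>
      perpTwo_commute (hR.trans (hR.symm hs) ht)
    exact ((c hu hu').mul_right (c hu hv')).mul_left ((c hv hu').mul_right (c hv hv'))
  have hT2 : IsPGroup 2 T := by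
    haveI : IsMulCommutative T := Subgroup.isMulCommutative_closure hcc
    intro ⟨x, hx⟩
    refine ⟨1, Subtype.ext ?_⟩
    show x ^ 2 ^ 1 = 1
    rw [pow_one]
    induction hx using Subgroup.closure_induction with
    | mem x hx =>
      obtain ⟨u, v, hu, hv, rfl⟩ := hx
      exact sq_of_commute h hu.2.1 hv.2.1 (perpTwo_commute (hR.trans (hR.symm hu) hv))
    | one => rw [one_pow]
    | mul x y hx hy ihx ihy =>
      have : Commute x y := congrArg Subtype.val (IsMulCommutative.is_comm.comm (⟨x, hx⟩ : T) ⟨y, hy⟩)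
      rw [this.mul_pow, ihx, ihy, one_mul]
    | inv x _ ih => rw [inv_pow, ih, inv_one]
  have hTn : (T.subgroupOf K).Normal := by
    refine (Subgroup.normal_subgroupOf_iff_le_normalizer hTK).mpr fun k hk => ?_
    have fwd : ∀ k ∈ K, ∀ x ∈ T, k * x * k⁻¹ ∈ T := by
      intro k hk x hx
      induction hx using Subgroup.closure_induction with
      | mem x hx =>
        obtain ⟨u, v, hu, hv, rfl⟩ := hx
        exact Subgroup.subset_closure ⟨_, _, hR.trans hu (hR.symm ((mem_sysKer h hR).mp hk u hu.2.1)),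
          hR.trans hv (hR.symm ((mem_sysKer h hR).mp hk v hv.2.1)), by group⟩
      | one => simp
      | mul x y _ _ hx hy => rw [show k * (x * y) * k⁻¹ = k * x * k⁻¹ * (k * y * k⁻¹) by group]; exact mul_mem hx hy
      | inv x _ hx => rw [show k * x⁻¹ * k⁻¹ = (k * x * k⁻¹)⁻¹ by group]; exact inv_mem hx
    refine Subgroup.mem_normalizer_iff.mpr fun x => ⟨fwd k hk x, fun hx => ?_⟩
    have := fwd k⁻¹ (inv_mem hk) _ hx
    simpa [mul_assoc] using this
  have hsub : T.IsSubnormal := Subgroup.IsSubnormal.step T K hTK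
    (Subgroup.IsSubnormal.step K ⊤ le_top Subgroup.IsSubnormal.top
      (by haveI := sysKer_normal h hR; infer_instance)) hTn
  exact Grp.le_pCore_of_isSubnormal hsub hT2
    (Subgroup.subset_closure ⟨a, b, hR.refl a hab.1, hab, rfl⟩)

/-- Products of members with the same other commuting members lie in the 3-core. -/
theorem mul_mem_core_three (h : IsThreeTranspositionClass D) {a b : G} (hab : perpThree D a b) :
    a * b ∈ pCore 3 G := by
  haveI : Fact (Nat.Prime 3) := ⟨Nat.prime_three⟩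
  have hR := isSys_perpThree h
  set K := sysKer h hR with hK
  let E : Set G := {u | perpThree D a u}
  let H : Subgroup G := Subgroup.closure E
  let gs : Set G := {x | ∃ u ∈ E, ∃ v ∈ E, x = u * v}
  let T : Subgroup G := Subgroup.closure gs
  have hTK : T ≤ K := (Subgroup.closure_le _).mpr fun x ⟨u, hu, v, hv, e⟩ =>
    e ▸ mul_mem_sysKer h hR (hR.trans (hR.symm hu) hv)
  have hT3 : IsPGroup 3 T := by
    let S : Set H := {x | (x : G) ∈ E}
    have hEH : ∀ g ∈ H, ∀ u ∈ E, g * u * g⁻¹ ∈ E := by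
      intro g hg
      induction hg using Subgroup.closure_induction with
      | mem w hw =>
        intro u hu
        have h1 := hR.inv w (hR.trans (hR.symm hw) hu)
        rw [mul_inv_cancel_right] at h1
        exact hR.trans hw h1
      | one => intro u hu; simpa using hu
      | mul x y _ _ hx hy =>
        intro u hu
        rw [show x * y * u * (x * y)⁻¹ = x * (y * u * y⁻¹) * x⁻¹ by group]
        exact hx _ (hy u hu)
      | inv x _ hx =>
        intro u hu
        have hmaps : Set.MapsTo (fun u => x * u * x⁻¹) E E := fun u hu => hx u hu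
        have hbij := ((Set.toFinite E).injOn_iff_bijOn_of_mapsTo hmaps).mp fun u _ v _ e =>
          mul_left_cancel (mul_right_cancel e)
        obtain ⟨v, hv, rfl⟩ := hbij.surjOn hu
        rwa [show x⁻¹ * (x * v * x⁻¹) * x⁻¹⁻¹ = v by group]
    have key : ∀ x ∈ gs, ∃ y : H, y ∈ pCore 3 H ∧ (y : G) = x := by
      rintro _ ⟨u, hu, v, hv, rfl⟩
      refine ⟨⟨u, Subgroup.subset_closure hu⟩ * ⟨v, Subgroup.subset_closure hv⟩,
        FourGen.mul_mem_pCore S (fun x hx => Subtype.ext (mul_self h.1 hx.2.1))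
          (fun g x hx => hEH g g.2 x hx) (fun x hx y hy => Subtype.ext ?_) hu hv, rfl⟩
      show ((x : G) * y) ^ 3 = 1
      by_cases he : (x : G) = y
      · rw [he, mul_self h.1 hy.2.1, one_pow]
      · exact pow_three_of_not_commute h hx.2.1 hy.2.1 (perpThree_not_commute (hR.trans (hR.symm hx) hy) he)
    have hle : T ≤ (pCore 3 H).map H.subtype := (Subgroup.closure_le _).mpr fun x hx => by
      obtain ⟨y, hy, rfl⟩ := key x hx
      exact ⟨y, hy, rfl⟩
    exact ((Transfer.pCore_isPGroup 3 H).map _).to_le hle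
  have hTn : (T.subgroupOf K).Normal := by
    refine (Subgroup.normal_subgroupOf_iff_le_normalizer hTK).mpr fun k hk => ?_
    have fwd : ∀ k ∈ K, ∀ x ∈ T, k * x * k⁻¹ ∈ T := by
      intro k hk x hx
      induction hx using Subgroup.closure_induction with
      | mem x hx =>
        obtain ⟨u, hu, v, hv, rfl⟩ := hx
        exact Subgroup.subset_closure ⟨_, hR.trans hu (hR.symm ((mem_sysKer h hR).mp hk u hu.2.1)),
          _, hR.trans hv (hR.symm ((mem_sysKer h hR).mp hk v hv.2.1)), by group⟩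
      | one => simp
      | mul x y _ _ hx hy => rw [show k * (x * y) * k⁻¹ = k * x * k⁻¹ * (k * y * k⁻¹) by group]; exact mul_mem hx hy
      | inv x _ hx => rw [show k * x⁻¹ * k⁻¹ = (k * x * k⁻¹)⁻¹ by group]; exact inv_mem hx
    refine Subgroup.mem_normalizer_iff.mpr fun x => ⟨fwd k hk x, fun hx => ?_⟩
    have := fwd k⁻¹ (inv_mem hk) _ hx
    simpa [mul_assoc] using this
  have hsub : T.IsSubnormal := Subgroup.IsSubnormal.step T K hTK
    (Subgroup.IsSubnormal.step K ⊤ le_top Subgroup.IsSubnormal.top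
      (by haveI := sysKer_normal h hR; infer_instance)) hTn
  exact Grp.le_pCore_of_isSubnormal hsub hT3
    (Subgroup.subset_closure ⟨a, hR.refl a hab.1, b, hab, rfl⟩)

/-- Membership modulo the 2-core gives the same commuting members. -/
theorem perpTwo_of_core (h : IsThreeTranspositionClass D) {a b : G} (ha : a ∈ D) (hb : b ∈ D)
    (hab : a * b ∈ pCore 2 G) : perpTwo D a b := by
  haveI := Transfer.pCore_normal' 2 G
  let π := QuotientGroup.mk' (pCore 2 G)
  have key : ∀ a ∈ D, ∀ b ∈ D, a * b ∈ pCore 2 G → ∀ e ∈ D, Commute a e → Commute b e := by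
    intro a ha b hb hab e he hc
    by_contra hnc
    have e1 : π b = π a := by
      have h1 : π a * π b = 1 := by rw [← map_mul]; exact (QuotientGroup.eq_one_iff _).mpr hab
      rw [eq_inv_of_mul_eq_one_right h1, ← map_inv, inv_eq h.1 ha]
    have h2 : π (b * e) ^ 2 = 1 := by
      rw [map_mul, e1, ← map_mul, ← map_pow, sq_of_commute h ha he hc, map_one]
    have h3 : π (b * e) ^ 3 = 1 := by rw [← map_pow, pow_three_of_not_commute h hb he hnc, map_one]
    rw [pow_succ, h2, one_mul] at h3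
    exact hnc (commute_of_core_two h hb he ((QuotientGroup.eq_one_iff _).mp h3))
  exact ⟨ha, hb, fun e he => ⟨key a ha b hb hab e he, key b hb a ha (mul_symm_mem h ha hb hab) e he⟩⟩

/-- Membership modulo the 3-core gives the same other commuting members. -/
theorem perpThree_of_core (h : IsThreeTranspositionClass D) {a b : G} (ha : a ∈ D) (hb : b ∈ D)
    (hab : a * b ∈ pCore 3 G) : perpThree D a b := by
  haveI := Transfer.pCore_normal' 3 G
  let π := QuotientGroup.mk' (pCore 3 G)
  have key : ∀ a ∈ D, ∀ b ∈ D, a * b ∈ pCore 3 G → ∀ e ∈ D, e ≠ a → Commute a e → e ≠ b ∧ Commute b e := by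
    intro a ha b hb hab e he hne hc
    refine ⟨fun he' => hne (by rw [he'] at hc ⊢; exact (eq_of_commute_core h ha hb hab hc).symm), ?_⟩
    by_contra hnc
    have e1 : π b = π a := by
      have h1 : π a * π b = 1 := by rw [← map_mul]; exact (QuotientGroup.eq_one_iff _).mpr hab
      rw [eq_inv_of_mul_eq_one_right h1, ← map_inv, inv_eq h.1 ha]
    have h2 : π (b * e) ^ 2 = 1 := by
      rw [map_mul, e1, ← map_mul, ← map_pow, sq_of_commute h ha he hc, map_one]
    have h3 : π (b * e) ^ 3 = 1 := by rw [← map_pow, pow_three_of_not_commute h hb he hnc, map_one]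
    rw [pow_succ, h2, one_mul] at h3
    have hbe := (QuotientGroup.eq_one_iff _).mp h3
    exact hne (eq_of_commute_core h ha he (mul_trans_mem h hb hab hbe) hc).symm
  refine ⟨ha, hb, Set.ext fun y => ⟨?_, ?_⟩⟩
  · rintro ⟨hy, hne, hc⟩; exact ⟨hy, key a ha b hb hab y hy hne hc⟩
  · rintro ⟨hy, hne, hc⟩; exact ⟨hy, key b hb a ha (mul_symm_mem h ha hb hab) y hy hne hc⟩

omit [Finite G] in
theorem exists_not_commute (h : IsThreeTranspositionClass D) (h2 : ∃ x ∈ D, ∃ y ∈ D, x ≠ y) {a : G}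
    (ha : a ∈ D) : ∃ e ∈ D, ¬ Commute a e := by
  by_contra hcon
  simp only [not_exists, not_and, not_not] at hcon
  obtain ⟨x, hx, y, hy, hne⟩ := h2
  have hc : ∀ g : G, Commute a g := fun g => by
    have hle : Subgroup.closure D ≤ Subgroup.centralizer ({a} : Set G) := (Subgroup.closure_le _).mpr fun e he =>
      Subgroup.mem_centralizer_singleton_iff.mpr (hcon e he).eq.symm
    exact (Subgroup.mem_centralizer_singleton_iff.mp (hle (h.2.2 ▸ Subgroup.mem_top g))).symm
  have hall : ∀ z ∈ D, z = a := fun z hz => by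
    obtain ⟨g, hg⟩ := transitive h ha hz
    rw [← hg, ← (hc g).eq, mul_inv_cancel_right]
  exact hne ((hall x hx).trans (hall y hy).symm)

/-- Members congruent modulo the 2-core are conjugate under it. -/
theorem exists_conj_core_two (h : IsThreeTranspositionClass D) (h2 : ∃ x ∈ D, ∃ y ∈ D, x ≠ y) {a b : G}
    (hab : perpTwo D a b) : ∃ u ∈ pCore 2 G, b = u * a * u⁻¹ := by
  haveI := Transfer.pCore_normal' 2 G
  obtain ⟨e, he, hae⟩ := exists_not_commute h h2 hab.1
  have hbe : ¬ Commute b e := fun c => hae ((hab.2.2 e he).mpr c)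
  have hc := perpTwo_commute hab
  refine ⟨e * (a * b) * e⁻¹, Subgroup.Normal.conj_mem inferInstance _ (mul_mem_core_two h hab) e, ?_⟩
  have hE := h.1
  have ea := mul_self hE hab.1
  have eb := mul_self hE hab.2.1
  have ee := mul_self hE he
  have r1 : a * e * a = e * a * e := braid hE hab.1 he hae
  have r2 : b * e * b = e * b * e := braid hE hab.2.1 he hbe
  have e1 : e * (a * b) * e⁻¹ = (a * e * a) * (b * e * b) := by
    rw [r1, r2, inv_eq hE he]
    simp only [← mul_assoc]
    rw [mul_assoc (e * a) e e, ee, mul_one]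
  have hz : b * a * b = a := by rw [← hc.eq, mul_assoc, eb, mul_one]
  symm
  rw [e1, mul_inv_rev, mul_inv_rev, mul_inv_rev, mul_inv_rev, mul_inv_rev, inv_eq hE hab.1,
    inv_eq hE hab.2.1, inv_eq hE he]
  calc a * e * a * (b * e * b) * a * (b * (e * b) * (a * (e * a)))
      = a * e * a * b * e * (b * a * b) * e * b * a * e * a := by simp only [mul_assoc]
    _ = a * e * a * b * (e * a * e) * b * a * e * a := by rw [hz]; simp only [mul_assoc]
    _ = a * e * a * b * (a * e * a) * b * a * e * a := by rw [r1]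
    _ = a * e * (a * b * a) * e * (a * b * a) * e * a := by simp only [mul_assoc]
    _ = a * (e * b * e) * b * e * a := by
        rw [show a * b * a = b by rw [hc.eq, mul_assoc, ea, mul_one]]; simp only [mul_assoc]
    _ = a * b * e * (b * b) * e * a := by rw [← r2]; simp only [mul_assoc]
    _ = a * b * a := by rw [eb, mul_one, mul_assoc (a * b), ee, mul_one]
    _ = b := by rw [hc.eq, mul_assoc, ea, mul_one]

/-- Members congruent modulo the 3-core are conjugate under it. -/
theorem exists_conj_core_three (h : IsThreeTranspositionClass D) {a b : G}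
    (hab : perpThree D a b) : ∃ u ∈ pCore 3 G, b = u * a * u⁻¹ := by
  by_cases hne : a = b
  · exact ⟨1, one_mem _, by rw [hne, one_mul, inv_one, mul_one]⟩
  refine ⟨a * b, mul_mem_core_three h hab, ?_⟩
  rw [mul_inv_rev, inv_eq h.1 hab.1, inv_eq h.1 hab.2.1, braid h.1 hab.1 hab.2.1 (perpThree_not_commute hab hne)]
  simp [mul_assoc, mul_self_mul h.1 hab.2.1, mul_self h.1 hab.1]

end Cfsg.Agent.Spor.ThreeTrans
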