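import Cfsg.Agent.Lib.Spor.ThreeTransSys

/-! Fischer's transitivity theorems for 3-transposition groups. -/

set_option autoImplicit false

namespace Cfsg.Agent.Spor.ThreeTrans

variable {G : Type*} [Group G] [Finite G] {D : Set G}

/-- The members commuting with `x`, other than `x`. -/
def perp (D : Set G) (x : G) : Set G := {y : G | y ∈ D ∧ y ≠ x ∧ Commute x y}

/-- The members not commuting with `x`. -/
def apart (D : Set G) (x : G) : Set G := {y : G | y ∈ D ∧ ¬ Commute y x}

/-- The group generated by `x` and the members commuting with it. -/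
def localGroup (D : Set G) (x : G) : Subgroup G := Subgroup.closure (insert x (perp D x))

theorem localGroup_commute {x g : G} (hg : g ∈ localGroup D x) : Commute g x := by
  have : localGroup D x ≤ Subgroup.centralizer {x} := by
    rw [localGroup, Subgroup.closure_le]
    rintro y (rfl | ⟨-, -, hy⟩) <;> rw [SetLike.mem_coe, Subgroup.mem_centralizer_singleton_iff]
    exact hy.symm.eq
  exact Subgroup.mem_centralizer_singleton_iff.mp (this hg)

theorem perp_le_localGroup {x y : G} (hy : y ∈ perp D x) : y ∈ localGroup D x :=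
  Subgroup.subset_closure (Set.mem_insert_of_mem _ hy)

theorem self_mem_localGroup (x : G) : x ∈ localGroup D x :=
  Subgroup.subset_closure (Set.mem_insert _ _)

theorem conj_self_eq {x g : G} (hg : Commute g x) : g * x * g⁻¹ = x := by
  rw [hg.eq, mul_inv_cancel_right]

theorem apart_conj (h : IsThreeTranspositionClass D) {x g a : G} (hg : Commute g x)
    (ha : a ∈ apart D x) : g * a * g⁻¹ ∈ apart D x :=
  ⟨conj_mem h g ha.1, fun c => ha.2 (by
    rw [← commute_conj_iff g, conj_self_eq hg]; exact c)⟩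

theorem perp_conj (h : IsThreeTranspositionClass D) (x g : G) :
    perp D (g * x * g⁻¹) = (fun e => g * e * g⁻¹) '' perp D x := by
  ext e
  constructor
  · rintro ⟨he, hne, hc⟩
    refine ⟨g⁻¹ * e * g, ⟨by simpa using conj_mem h g⁻¹ he, ?_, ?_⟩, by simp [mul_assoc]⟩
    · intro e'; apply hne; rw [← e']; simp [mul_assoc]
    · rw [← commute_conj_iff g]; simpa [mul_assoc] using hc
  · rintro ⟨u, ⟨hu, hne, hc⟩, rfl⟩
    exact ⟨conj_mem h g hu, fun e => hne (by simpa using e), (commute_conj_iff g x u).mpr hc⟩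

theorem perp_conj' (h : IsThreeTranspositionClass D) {x g d : G} (hg : Commute g x)
    (hd : d ∈ perp D x) : g * d * g⁻¹ ∈ perp D x := by
  have := perp_conj h x g
  rw [conj_self_eq hg] at this
  rw [this]
  exact ⟨d, hd, rfl⟩

theorem apart_nonempty (H : Hyp D) {x : G} (hx : x ∈ D) : (apart D x).Nonempty := by
  obtain ⟨a, ha, b, hb, hab⟩ := H.nc
  obtain ⟨g, rfl⟩ := transitive H.cls ha hx
  exact ⟨g * b * g⁻¹, conj_mem H.cls g hb, fun c => hab ((commute_conj_iff g b a).mp c).symm⟩

theorem perp_nonempty (H : Hyp D) {x : G} (hx : x ∈ D) : (perp D x).Nonempty := by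
  by_contra he
  rw [Set.not_nonempty_iff_eq_empty] at he
  obtain ⟨a, ha, b, hb, hab⟩ := H.nc
  have hall := comm_closed_eq H (M := {x}) (by simpa using hx) (Set.singleton_nonempty x)
    (fun d hd e he' hde => by
      rw [Set.mem_singleton_iff] at hd ⊢
      subst hd
      by_contra hne
      have : e ∈ perp D d := ⟨he', hne, hde⟩
      rw [he] at this
      exact this)
  have h1 := hall a ha
  have h2 := hall b hb
  rw [Set.mem_singleton_iff] at h1 h2
  exact hab (by rw [h1, h2])

/-- Commuting members apart from `x` are conjugate in the local group. -/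
theorem related_of_commute (h : IsThreeTranspositionClass D) {x a b : G} (hx : x ∈ D)
    (ha : a ∈ apart D x) (hb : b ∈ apart D x) (hab : Commute a b) :
    ∃ g ∈ localGroup D x, g * a * g⁻¹ = b := by
  by_cases hne : a = b
  · exact ⟨1, one_mem _, by simp [hne]⟩
  have hxb : x * b * x = b * x * b := braid h.1 hx hb.1 fun c => hb.2 c.symm
  have hax : a * x * a = x * a * x := braid h.1 ha.1 hx ha.2
  set d := b * (x * a * x) * b with hd
  have hdD : d ∈ D := conj'_mem h hb.1 (conj'_mem h hx ha.1)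
  have h1 : x * d * x = d := by
    calc x * d * x = (x * b * x) * a * (x * b * x) := by rw [hd]; simp only [mul_assoc]
      _ = b * x * (b * a * b) * x * b := by rw [hxb]; simp only [mul_assoc]
      _ = d := by
        rw [← hab.eq, mul_assoc a b b, mul_self h.1 hb.1, mul_one, hd]; simp only [mul_assoc]
  have hc : Commute x d := by
    show x * d = d * x
    calc x * d = x * d * (x * x) := by rw [mul_self h.1 hx, mul_one]
      _ = (x * d * x) * x := by simp only [mul_assoc]
      _ = d * x := by rw [h1]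
  have h2 : d * a * d = b * x * b := by
    calc d * a * d = b * (x * a * x) * (b * a * b) * (x * a * x) * b := by
          rw [hd]; simp only [mul_assoc]
      _ = b * ((x * a * x) * a * (x * a * x)) * b := by
          rw [← hab.eq, mul_assoc a b b, mul_self h.1 hb.1, mul_one]; simp only [mul_assoc]
      _ = b * ((a * x * a) * a * (a * x * a)) * b := by rw [hax]
      _ = b * (a * x * (a * x * a)) * b := by
          simp [mul_assoc, mul_self_mul h.1 ha.1]
      _ = b * x * b := by
          rw [hax]; simp [mul_assoc, mul_self_mul h.1 ha.1, mul_self_mul h.1 hx]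
  have hdx : d ≠ x := by
    intro e
    rw [e] at h2
    have e2 : x * a * x = x * b * x := by rw [h2, hxb]
    exact hne (by simpa using e2)
  refine ⟨x * d, mul_mem (self_mem_localGroup x) (perp_le_localGroup ⟨hdD, hdx, hc⟩), ?_⟩
  calc x * d * a * (x * d)⁻¹ = x * (d * a * d) * x := by
        rw [mul_inv_rev, inv_eq h.1 hdD, inv_eq h.1 hx]; simp only [mul_assoc]
    _ = x * (x * b * x) * x := by rw [h2, hxb]
    _ = b := by simp [mul_assoc, mul_self_mul h.1 hx, mul_self h.1 hx]

/-- Every member commuting with `x` has an apart partner. -/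
theorem exists_apart_partner (H : Hyp D) {x d : G} (hx : x ∈ D) (hd : d ∈ perp D x) :
    ∃ a ∈ apart D x, ¬ Commute a d := by
  have h := H.cls
  by_contra hno
  push Not at hno
  let M : Set G := {d | d ∈ perp D x ∧ ∀ a ∈ apart D x, Commute a d}
  have := noncomm_closed_eq h (M := M) (fun _ hm => hm.1.1) ⟨d, hd, hno⟩ (fun m hm e he hme => by
    have hex : Commute x e := by
      by_contra c
      exact hme (hm.2 e ⟨he, fun c' => c c'.symm⟩).symm
    have hne : e ≠ x := fun e' => hme (e' ▸ hm.1.2.2.symm)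
    refine ⟨⟨he, hne, hex⟩, fun a ha => ?_⟩
    have hg : Commute (m * e) x := (hm.1.2.2.mul_right hex).symm
    have hconj : (m * e) * m * (m * e)⁻¹ = e := by
      rw [mul_inv_rev, inv_eq h.1 he, inv_eq h.1 hm.1.1, braid h.1 hm.1.1 he hme]
      simp [mul_assoc, mul_self_mul h.1 he, mul_self h.1 hm.1.1]
    have ha' : (m * e)⁻¹ * a * (m * e) ∈ apart D x := by
      simpa using apart_conj h hg.inv_left ha
    have h' := (commute_conj_iff (m * e) _ _).mpr (hm.2 _ ha')
    rw [hconj] at h'
    simpa [mul_assoc] using h') x hx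
  exact this.1.2.1 rfl

/-- The number of members commuting with both. -/
noncomputable def both (D : Set G) (x a : G) : Set G := {d | d ∈ perp D x ∧ Commute a d}

theorem both_conj (h : IsThreeTranspositionClass D) {x g : G} (hg : Commute g x) (a : G) :
    both D x (g * a * g⁻¹) = (fun e => g * e * g⁻¹) '' both D x a := by
  ext e
  constructor
  · rintro ⟨he, hc⟩
    refine ⟨g⁻¹ * e * g, ⟨by simpa using perp_conj' h hg.inv_left he, ?_⟩, by simp [mul_assoc]⟩
    rw [← commute_conj_iff g]
    simpa [mul_assoc] using hc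
  · rintro ⟨u, ⟨hu, hc⟩, rfl⟩
    exact ⟨perp_conj' h hg hu, (commute_conj_iff g a u).mpr hc⟩

theorem both_ncard_conj (h : IsThreeTranspositionClass D) {x g : G} (hg : Commute g x) (a : G) :
    (both D x (g * a * g⁻¹)).ncard = (both D x a).ncard := by
  rw [both_conj h hg, Set.ncard_image_of_injective _ fun u v e => by simpa using e]

/-- The local group is transitive on the members apart from `x`. -/
theorem transitive_apart (H : Hyp D) {x a₀ b₀ : G} (hx : x ∈ D) (ha₀ : a₀ ∈ apart D x)
    (hb₀ : b₀ ∈ apart D x) : ∃ g ∈ localGroup D x, g * a₀ * g⁻¹ = b₀ := by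
  have h := H.cls
  let Rel : G → G → Prop := fun a b => ∃ g ∈ localGroup D x, g * a * g⁻¹ = b
  have rtrans : ∀ {a b c}, Rel a b → Rel b c → Rel a c := by
    rintro a b c ⟨g, hg, rfl⟩ ⟨g', hg', rfl⟩
    exact ⟨g' * g, mul_mem hg' hg, by simp [mul_assoc]⟩
  have rsymm : ∀ {a b}, Rel a b → Rel b a := by
    rintro a b ⟨g, hg, rfl⟩
    exact ⟨g⁻¹, inv_mem hg, by simp [mul_assoc]⟩
  have rgen : ∀ {e a}, e ∈ D → e ∈ localGroup D x → Rel a (e * a * e) := fun {e a} he hel =>
    ⟨e, hel, by rw [inv_eq h.1 he]⟩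
  have L1 : ∀ a ∈ apart D x, ∀ b ∈ apart D x, ¬ Rel a b → ¬ Commute a b := fun a ha b hb hr hc =>
    hr (related_of_commute h hx ha hb hc)
  have L2 : ∀ a ∈ apart D x, ∀ b ∈ apart D x, ¬ Rel a b → a * b * a ∈ apart D x := by
    intro a ha b hb hr
    refine ⟨conj'_mem h ha.1 hb.1, fun hc => ?_⟩
    have hc' := (commute_conj_iff a _ _).mpr hc
    rw [inv_eq h.1 ha.1] at hc'
    rw [show a * (a * b * a) * a = b by
      simp [mul_assoc, mul_self_mul h.1 ha.1, mul_self h.1 ha.1], braid h.1 ha.1 hx ha.2] at hc'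
    have hxx := apart_conj h (Commute.refl x) ha
    rw [inv_eq h.1 hx] at hxx
    exact hr (rtrans (rgen hx (self_mem_localGroup x))
      (rsymm (related_of_commute h hx hb hxx hc')))
  have L3' : ∀ a ∈ apart D x, ∀ b ∈ apart D x, ¬ Rel a b → ∀ d ∈ perp D x,
      Commute (a * b * a) d → Commute a d := by
    intro a ha b hb hr d hd hc
    by_contra had
    have h1 : Rel a (d * a * d) := rgen hd.1 (perp_le_localGroup hd)
    have h2 : d * a * d ∈ apart D x := by
      have := apart_conj h hd.2.2.symm ha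
      rwa [inv_eq h.1 hd.1] at this
    have h3 := L1 _ h2 b hb fun e => hr (rtrans h1 e)
    apply h3
    have hc' := (commute_conj_iff a _ _).mpr hc
    rw [inv_eq h.1 ha.1, show a * (a * b * a) * a = b by
      simp [mul_assoc, mul_self_mul h.1 ha.1, mul_self h.1 ha.1],
      braid h.1 ha.1 hd.1 had] at hc'
    exact hc'.symm
  have L3 : ∀ a ∈ apart D x, ∀ b ∈ apart D x, ¬ Rel a b →
      both D x (a * b * a) ⊆ both D x a ∧ both D x (a * b * a) ⊆ both D x b := by
    intro a ha b hb hr
    refine ⟨fun d hd => ⟨hd.1, L3' a ha b hb hr d hd.1 hd.2⟩, fun d hd => ⟨hd.1, ?_⟩⟩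
    refine L3' b hb a ha (fun e => hr (rsymm e)) d hd.1 ?_
    rw [← braid h.1 ha.1 hb.1 (L1 a ha b hb hr)]
    exact hd.2
  by_contra hr₀
  have hr : ¬ Rel a₀ b₀ := hr₀
  set n : G → ℕ := fun a => (both D x a).ncard with hn
  by_cases heq : ∀ a ∈ apart D x, ∀ b ∈ apart D x, n a = n b
  · -- all the counts agree
    have hN : ∀ a ∈ apart D x, ∀ b ∈ apart D x, ¬ Rel a b → both D x a = both D x b := by
      intro a ha b hb hab
      obtain ⟨s1, s2⟩ := L3 a ha b hb hab
      have hc := L2 a ha b hb hab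
      rw [← Set.eq_of_subset_of_ncard_le s1 (heq a ha _ hc).le (Set.toFinite _),
        ← Set.eq_of_subset_of_ncard_le s2 (heq b hb _ hc).le (Set.toFinite _)]
    have hall : ∀ e ∈ apart D x, both D x e = both D x a₀ := by
      intro e he
      by_cases h1 : Rel a₀ e
      · have h2 : ¬ Rel e b₀ := fun h2 => hr (rtrans h1 h2)
        rw [hN e he b₀ hb₀ h2, ← hN a₀ ha₀ b₀ hb₀ hr]
      · exact (hN a₀ ha₀ e he h1).symm
    have hempty : ∀ e ∈ apart D x, ∀ d ∈ perp D x, ¬ Commute e d := by
      intro e he d hd hc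
      obtain ⟨a, ha, had⟩ := exists_apart_partner H hx hd
      have : d ∈ both D x a := by rw [hall a ha, ← hall e he]; exact ⟨hd, hc⟩
      exact had this.2
    have := comm_closed_eq H (M := insert x (perp D x))
      (Set.insert_subset hx fun _ hd => hd.1) ⟨x, Set.mem_insert _ _⟩ (fun d hd e he hde => by
        rcases eq_or_ne e x with rfl | hne
        · exact Set.mem_insert _ _
        rcases hd with rfl | hd
        · exact Set.mem_insert_of_mem _ ⟨he, hne, hde⟩
        by_cases hex : Commute e x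
        · exact Set.mem_insert_of_mem _ ⟨he, hne, hex.symm⟩
        · exact absurd hde.symm (hempty e ⟨he, hex⟩ d hd)) a₀ ha₀.1
    rcases this with e | e
    · exact ha₀.2 (e ▸ Commute.refl x)
    · exact ha₀.2 e.2.2.symm
  · push Not at heq
    obtain ⟨aₘ, haₘ, hmin⟩ := Set.exists_min_image (apart D x) n (Set.toFinite _) ⟨a₀, ha₀⟩
    let O : Set G := {a | a ∈ apart D x ∧ n a = n aₘ}
    have hOC : ∀ g, Commute g x → ∀ a ∈ O, g * a * g⁻¹ ∈ O := fun g hg a ha =>
      ⟨apart_conj h hg ha.1, by rw [← ha.2]; exact both_ncard_conj h hg a⟩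
    let P : Set G := {b | b ∈ apart D x ∧ b ∉ O}
    have hPne : P.Nonempty := by
      obtain ⟨u, hu, v, hv, huv⟩ := heq
      by_cases hu' : n u = n aₘ
      · exact ⟨v, hv, fun hvO => huv (hu'.trans hvO.2.symm)⟩
      · exact ⟨u, hu, fun huO => hu' huO.2⟩
    have hOP : ∀ a ∈ O, ∀ b ∈ P, ¬ Commute a b ∧ a * b * a ∈ O := by
      intro a ha b hb
      have hab : ¬ Rel a b := by
        rintro ⟨g, hg, rfl⟩
        exact hb.2 (hOC g (localGroup_commute hg) a ha)
      refine ⟨L1 a ha.1 b hb.1 hab, L2 a ha.1 b hb.1 hab, le_antisymm ?_ (hmin _ (L2 a ha.1 b hb.1 hab))⟩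
      rw [← ha.2]
      exact Set.ncard_le_ncard (L3 a ha.1 b hb.1 hab).1 (Set.toFinite _)
    let L : Subgroup G := Subgroup.closure {e | e ∈ D ∧ e ∉ O}
    have hgenO : ∀ e ∈ D, e ∉ O → ∀ a ∈ O, e * a * e ∈ O := by
      intro e he heO a ha
      by_cases hex : Commute e x
      · have := hOC e hex a ha
        rwa [inv_eq h.1 he] at this
      · obtain ⟨hnc, hm⟩ := hOP a ha e ⟨⟨he, hex⟩, heO⟩
        rw [← braid h.1 ha.1.1 he hnc]
        exact hm
    have hLO : ∀ g ∈ L, ∀ a ∈ O, g * a * g⁻¹ ∈ O := by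
      intro g hg
      induction hg using Subgroup.closure_induction_left with
      | one => simp
      | mul_left e he y _ ih =>
        intro a ha
        have := hgenO e he.1 he.2 _ (ih a ha)
        simpa [mul_assoc, inv_eq h.1 he.1] using this
      | inv_mul_cancel e he y _ ih =>
        intro a ha
        have := hgenO e he.1 he.2 _ (ih a ha)
        simpa [mul_assoc, inv_eq h.1 he.1] using this
    let X : Set G := {y | ∃ g ∈ L, g * x * g⁻¹ = y}
    have hxO : x ∉ O := fun e => e.1.2 (Commute.refl x)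
    have hxL : x ∈ L := Subgroup.subset_closure ⟨hx, hxO⟩
    have hXD : ∀ y ∈ X, y ∈ D := by rintro y ⟨g, -, rfl⟩; exact conj_mem h g hx
    have hPX : ∀ b ∈ P, b ∈ X := by
      intro b hb
      refine ⟨x * b, mul_mem hxL (Subgroup.subset_closure ⟨hb.1.1, hb.2⟩), ?_⟩
      calc x * b * x * (x * b)⁻¹ = (x * b * x) * (b * x) := by
            rw [mul_inv_rev, inv_eq h.1 hb.1.1, inv_eq h.1 hx]
        _ = (b * x * b) * (b * x) := by rw [braid h.1 hx hb.1.1 fun c => hb.1.2 c.symm]
        _ = b := by simp [mul_assoc, mul_self_mul h.1 hb.1.1, mul_self h.1 hx]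
    have hXO : ∀ y ∈ X, y ∉ O := by
      rintro y ⟨g, hg, rfl⟩ hy
      exact hxO (by simpa [mul_assoc] using hLO g⁻¹ (inv_mem hg) _ hy)
    have hnot : ∀ y ∈ X, ∀ a ∈ O, ¬ Commute a y := by
      rintro y ⟨g, hg, rfl⟩ a ha hc
      have h1 := hLO g⁻¹ (inv_mem hg) a ha
      apply h1.1.2
      rw [← commute_conj_iff g]
      simpa [mul_assoc] using hc
    have hcomm : ∀ y ∈ X, ∀ e ∈ D, e ∉ O → e ∉ X → Commute e y := by
      rintro y ⟨g, hg, rfl⟩ e he heO heX
      have h1 : g⁻¹ * e * g ∉ O := fun c =>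
        heO (by simpa [mul_assoc] using hLO g hg _ c)
      have h2 : g⁻¹ * e * g ∉ X := by
        rintro ⟨g', hg', e'⟩
        exact heX ⟨g * g', mul_mem hg hg', by
          have := congrArg (fun t => g * t * g⁻¹) e'
          simpa [mul_assoc] using this⟩
      have h3 : Commute (g⁻¹ * e * g) x := by
        by_contra c
        exact h2 (hPX _ ⟨⟨by simpa using conj_mem h g⁻¹ he, c⟩, h1⟩)
      have := (commute_conj_iff g _ _).mpr h3
      simpa [mul_assoc] using this
    have huni : ∀ y ∈ X, ∀ z ∈ X, ∀ e ∈ D, e ∉ X → (Commute e y ↔ Commute e z) := by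
      intro y hy z hz e he heX
      by_cases heO : e ∈ O
      · exact iff_of_false (hnot y hy e heO) (hnot z hz e heO)
      · exact iff_of_true (hcomm y hy e he heO heX) (hcomm z hz e he heO heX)
    have hblock : ∀ (k : G), ∀ y ∈ X, k * y * k⁻¹ ∈ X → ∀ z ∈ X, k * z * k⁻¹ ∈ X := by
      rintro k y ⟨l, hl, rfl⟩ ⟨l', hl', e⟩ z ⟨m, hm, rfl⟩
      have hk : Commute (l'⁻¹ * k * l) x := by
        have e' := congrArg (fun t => l'⁻¹ * t * l') e
        simp only [mul_assoc, inv_mul_cancel_left, inv_mul_cancel, mul_one] at e'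
        show l'⁻¹ * k * l * x = x * (l'⁻¹ * k * l)
        conv_rhs => rw [e']
        simp [mul_assoc]
      have hnorm : ∀ g, Commute g x → ∀ u ∈ L, g * u * g⁻¹ ∈ L := by
        intro g hg u hu
        have hle : L ≤ L.comap (MulAut.conj g).toMonoidHom := by
          rw [Subgroup.closure_le]
          rintro v ⟨hv, hvO⟩
          exact Subgroup.subset_closure ⟨conj_mem h g hv, fun c =>
            hvO (by simpa [mul_assoc] using hOC g⁻¹ hg.inv_left _ c)⟩
        exact hle hu
      set t := l'⁻¹ * k * l with ht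
      refine ⟨l' * (t * (l⁻¹ * m) * t⁻¹),
        mul_mem hl' (hnorm t hk _ (mul_mem (inv_mem hl) hm)), ?_⟩
      calc l' * (t * (l⁻¹ * m) * t⁻¹) * x * (l' * (t * (l⁻¹ * m) * t⁻¹))⁻¹
          = l' * t * (l⁻¹ * m) * (t⁻¹ * x * t) * (l⁻¹ * m)⁻¹ * t⁻¹ * l'⁻¹ := by
            simp [mul_assoc]
        _ = k * (m * x * m⁻¹) * k⁻¹ := by
            rw [show t⁻¹ * x * t = x by rw [mul_assoc, ← hk.eq, inv_mul_cancel_left], ht]
            simp [mul_assoc]
    let R : G → G → Prop := fun u v =>
      u ∈ D ∧ v ∈ D ∧ ∀ g, g * u * g⁻¹ ∈ X → g * v * g⁻¹ ∈ X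
    have hxX : x ∈ X := ⟨1, one_mem _, by simp⟩
    have hR : IsSys D R :=
      { refl := fun u hu => ⟨hu, hu, fun _ hg => hg⟩
        symm := fun {u v} huv => ⟨huv.2.1, huv.1, fun g hg => by
          obtain ⟨g₀, hg₀⟩ := transitive h huv.1 hx
          have h1 := huv.2.2 g₀ (hg₀ ▸ hxX)
          have h2 := hblock (g * g₀⁻¹) _ h1 (by simpa [mul_assoc] using hg) x hxX
          rw [← hg₀] at h2
          simpa [mul_assoc] using h2⟩
        trans := fun h1 h2 => ⟨h1.1, h2.2.1, fun g hg => h2.2.2 g (h1.2.2 g hg)⟩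
        inv := fun g {u v} huv => ⟨conj_mem h g huv.1, conj_mem h g huv.2.1, fun k hk => by
          have := huv.2.2 (k * g) (by simpa [mul_assoc] using hk)
          simpa [mul_assoc] using this⟩
        mem := fun huv => ⟨huv.1, huv.2.1⟩
        uniform := fun {u v e} huv he hne => by
          obtain ⟨g₀, hg₀⟩ := transitive h huv.1 hx
          have h1 := huv.2.2 g₀ (hg₀ ▸ hxX)
          have h2 : g₀ * e * g₀⁻¹ ∉ X := fun c => hne ⟨he, huv.1, fun g hg => by
            have h3 := hblock (g * g₀⁻¹) _ c (by simpa [mul_assoc] using hg) x hxX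
            rw [← hg₀] at h3
            simpa [mul_assoc] using h3⟩
          rw [← commute_conj_iff g₀, ← commute_conj_iff g₀ e v, hg₀]
          exact huni x hxX _ h1 _ (conj_mem h g₀ he) h2 }
    obtain ⟨b, hb⟩ := hPne
    have hxb : R x b := ⟨hx, hb.1.1, fun g hg => hblock g x hxX hg b (hPX b hb)⟩
    have haO : aₘ ∈ O := ⟨haₘ, rfl⟩
    have := sys_trivial H hR ⟨x, hx, aₘ, haₘ.1, fun e =>
      hXO aₘ (by simpa using e.2.2 1 (by simpa using hxX)) haO⟩ hxb
    exact hb.1.2 (this ▸ Commute.refl x)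

/-- Non-commutation among the members commuting with `x`. -/
def linked (D : Set G) (x : G) (d e : G) : Prop :=
  d ∈ perp D x ∧ e ∈ perp D x ∧ ¬ Commute d e

/-- Components of that relation. -/
def comp (D : Set G) (x : G) : G → G → Prop := Relation.ReflTransGen (linked D x)

omit [Finite G] in
theorem comp_symm {x d e : G} (hde : comp D x d e) : comp D x e d := by
  induction hde with
  | refl => exact .refl
  | tail _ h ih => exact Relation.ReflTransGen.head ⟨h.2.1, h.1, fun c => h.2.2 c.symm⟩ ih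

omit [Finite G] in
theorem comp_mem {x d e : G} (hd : d ∈ perp D x) (hde : comp D x d e) : e ∈ perp D x := by
  induction hde with
  | refl => exact hd
  | tail _ h _ => exact h.2.1

omit [Finite G] in
theorem commute_of_not_comp {x d e : G} (hd : d ∈ perp D x) (he : e ∈ perp D x)
    (hde : ¬ comp D x d e) : Commute d e := by
  by_contra hc
  exact hde (.single ⟨hd, he, hc⟩)

/-- Moving inside a component, away from the others. -/
theorem exists_move (h : IsThreeTranspositionClass D) {x d d' : G} (hd : d ∈ perp D x)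
    (hdd : comp D x d d') :
    ∃ g ∈ Subgroup.closure (perp D x), g * d * g⁻¹ = d' ∧
      ∀ e ∈ perp D x, ¬ comp D x d e → Commute g e := by
  induction hdd with
  | refl => exact ⟨1, one_mem _, by simp, fun e _ _ => Commute.one_left e⟩
  | @tail u v hdu huv ih =>
    obtain ⟨g, hg, hgu, hge⟩ := ih
    obtain ⟨hu, hv, hnc⟩ := huv
    refine ⟨u * v * g, mul_mem (mul_mem (Subgroup.subset_closure hu) (Subgroup.subset_closure hv)) hg,
      ?_, fun e he hne => ?_⟩
    · calc u * v * g * d * (u * v * g)⁻¹ = (u * v) * (g * d * g⁻¹) * (u * v)⁻¹ := by simp [mul_assoc]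
        _ = (u * v * u) * (v * u) := by
            rw [hgu, mul_inv_rev, inv_eq h.1 hu.1, inv_eq h.1 hv.1]
        _ = (v * u * v) * (v * u) := by rw [braid h.1 hu.1 hv.1 hnc]
        _ = v := by simp [mul_assoc, mul_self_mul h.1 hv.1, mul_self h.1 hu.1]
    · have h1 : ¬ comp D x u e := fun c => hne (hdu.trans c)
      have h2 : ¬ comp D x v e := fun c =>
        hne ((hdu.trans (.single ⟨hu, hv, hnc⟩)).trans c)
      exact ((commute_of_not_comp hu he h1).mul_left (commute_of_not_comp hv he h2)).mul_left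
        (hge e he hne)

/-- The local group fixes each component. -/
theorem comp_conj (h : IsThreeTranspositionClass D) {x g : G} (hx : x ∈ D)
    (hg : g ∈ localGroup D x) : ∀ d ∈ perp D x, comp D x d (g * d * g⁻¹) := by
  have hins : ∀ e ∈ insert x (perp D x), e ∈ D := by
    rintro e (rfl | he)
    · exact hx
    · exact he.1
  have step : ∀ e ∈ insert x (perp D x), ∀ d ∈ perp D x, comp D x d (e * d * e⁻¹) := by
    intro e he d hd
    rw [inv_eq h.1 (hins e he)]
    by_cases hc : Commute e d
    · rw [hc.eq, mul_assoc, mul_self h.1 (hins e he), mul_one]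
      exact .refl
    · rcases he with rfl | he
      · exact absurd hd.2.2 hc
      · refine .single ⟨hd, ?_, fun c => hc ?_⟩
        · have := perp_conj' h he.2.2.symm hd
          rwa [inv_eq h.1 he.1] at this
        · rw [braid h.1 he.1 hd.1 hc] at c
          have c' := (Commute.refl d).mul_right (c.mul_right (Commute.refl d))
          simp [mul_assoc, mul_self h.1 hd.1, mul_self_mul h.1 hd.1] at c'
          exact c'.symm
  induction hg using Subgroup.closure_induction_left with
  | one => intro d _; simp only [one_mul, inv_one, mul_one]; exact .refl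
  | mul_left e he y _ ih =>
    intro d hd
    rw [show e * y * d * (e * y)⁻¹ = e * (y * d * y⁻¹) * e⁻¹ by simp [mul_assoc]]
    exact (ih d hd).trans (step e he _ (comp_mem hd (ih d hd)))
  | inv_mul_cancel e he y _ ih =>
    intro d hd
    rw [inv_eq h.1 (hins e he),
      show e * y * d * (e * y)⁻¹ = e * (y * d * y⁻¹) * e⁻¹ by simp [mul_assoc]]
    exact (ih d hd).trans (step e he _ (comp_mem hd (ih d hd)))

/-- Every apart member commutes with part of each component. -/
theorem exists_commute_in_comp (H : Hyp D) {x c a : G} (hx : x ∈ D) (hc : c ∈ perp D x)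
    (ha : a ∈ apart D x) : ∃ c', comp D x c c' ∧ Commute a c' := by
  have h := H.cls
  by_contra hno
  push Not at hno
  have hnone : ∀ b ∈ apart D x, ¬ Commute b c := by
    intro b hb hbc
    obtain ⟨g, hg, rfl⟩ := transitive_apart H hx ha hb
    have h1 := comp_conj h hx (inv_mem hg) c hc
    refine hno _ h1 ?_
    rw [← commute_conj_iff g]
    simpa [mul_assoc] using hbc
  have hsub : perp D c \ {x} ⊆ perp D x \ {c} := by
    rintro e ⟨⟨he, hne, hce⟩, hex⟩
    rw [Set.mem_singleton_iff] at hex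
    refine ⟨⟨he, hex, ?_⟩, hne⟩
    by_contra hxe
    exact hnone e ⟨he, fun c' => hxe c'.symm⟩ hce.symm
  have hxc : x ∈ perp D c := ⟨hx, hc.2.1.symm, hc.2.2.symm⟩
  have hcard : (perp D c).ncard = (perp D x).ncard := by
    obtain ⟨g, hg⟩ := transitive h hx hc.1
    rw [← hg, perp_conj h, Set.ncard_image_of_injective _ fun u v e => by simpa using e]
  have heq : perp D c \ {x} = perp D x \ {c} :=
    Set.eq_of_subset_of_ncard_le hsub (by
      rw [Set.ncard_diff_singleton_of_mem hxc, Set.ncard_diff_singleton_of_mem hc, hcard])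
      (Set.toFinite _)
  let R : G → G → Prop := fun u v => u ∈ D ∧ v ∈ D ∧ ∀ e ∈ D, Commute e u ↔ Commute e v
  have hR : IsSys D R :=
    { refl := fun u hu => ⟨hu, hu, fun _ _ => Iff.rfl⟩
      symm := fun h1 => ⟨h1.2.1, h1.1, fun e he => (h1.2.2 e he).symm⟩
      trans := fun h1 h2 => ⟨h1.1, h2.2.1, fun e he => (h1.2.2 e he).trans (h2.2.2 e he)⟩
      inv := fun g {u v} h1 => ⟨conj_mem h g h1.1, conj_mem h g h1.2.1, fun e he => by
        have e' : g * (g⁻¹ * e * g) * g⁻¹ = e := by simp [mul_assoc]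
        rw [← e', commute_conj_iff, commute_conj_iff]
        exact h1.2.2 _ (by simpa using conj_mem h g⁻¹ he)⟩
      mem := fun h1 => ⟨h1.1, h1.2.1⟩
      uniform := fun {u v e} h1 he _ => h1.2.2 e he }
  obtain ⟨p, hp, q, hq, hpq⟩ := H.nc
  have hxc' : R x c := ⟨hx, hc.1, fun e he => by
    constructor
    · intro hex
      rcases eq_or_ne e c with rfl | hec
      · exact Commute.refl e
      rcases eq_or_ne e x with rfl | hex'
      · exact hc.2.2
      have : e ∈ perp D c \ {x} := heq ▸ ⟨⟨he, hex', hex.symm⟩, hec⟩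
      exact this.1.2.2.symm
    · intro hec'
      rcases eq_or_ne e x with rfl | hex'
      · exact Commute.refl e
      rcases eq_or_ne e c with rfl | hec
      · exact hc.2.2.symm
      have : e ∈ perp D x \ {c} := heq ▸ ⟨⟨he, hec, hec'.symm⟩, hex'⟩
      exact this.1.2.2.symm⟩
  have := sys_trivial H hR ⟨p, hp, q, hq, fun e => hpq ((e.2.2 p hp).mp (Commute.refl p))⟩ hxc'
  exact hc.2.1 this.symm

/-- The members commuting with `x` are connected by non-commutation. -/
theorem comp_all (H : Hyp D) {x c₀ e₀ : G} (hx : x ∈ D) (hc₀ : c₀ ∈ perp D x)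
    (he₀ : e₀ ∈ perp D x) : comp D x c₀ e₀ := by
  have h := H.cls
  by_contra hdis
  -- `perp c₀` is disconnected as well
  obtain ⟨l, hl, hlx⟩ : ∃ l ∈ perp D c₀, ¬ comp D c₀ x l := by
    by_contra hall
    push Not at hall
    obtain ⟨g, hg⟩ := transitive h hx hc₀.1
    have hmap : ∀ d ∈ perp D x, g * d * g⁻¹ ∈ perp D c₀ := fun d hd => by
      rw [← hg, perp_conj h]; exact ⟨d, hd, rfl⟩
    have h1 := (comp_symm (hall _ (hmap c₀ hc₀))).trans (hall _ (hmap e₀ he₀))
    have h2 := Relation.ReflTransGen.lift (r := linked D c₀) (p := linked D x)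
      (fun u => g⁻¹ * u * g) (fun u v ⟨hu, hv, huv⟩ => by
        rw [← hg, perp_conj h] at hu hv
        obtain ⟨u, hu', rfl⟩ := hu
        obtain ⟨v, hv', rfl⟩ := hv
        rw [commute_conj_iff] at huv
        simpa [linked, mul_assoc] using ⟨hu', hv', huv⟩) _ _ h1
    simp only [Function.onFun, mul_assoc, inv_mul_cancel_left, inv_mul_cancel, mul_one] at h2
    exact hdis h2
  have hxc : x ∈ perp D c₀ := ⟨hx, hc₀.2.1.symm, hc₀.2.2.symm⟩
  have hK : ∀ a ∈ apart D x, Commute a c₀ → comp D c₀ x a := fun a ha hac =>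
    .single ⟨hxc, ⟨ha.1, fun e => ha.2 (e ▸ hc₀.2.2.symm), hac.symm⟩, fun c => ha.2 c.symm⟩
  have hlperp : ∀ u, comp D c₀ l u → u ∈ perp D x := by
    intro u hu
    have hu' := comp_mem hl hu
    have hxu : ¬ comp D c₀ x u := fun c => hlx (c.trans (comp_symm hu))
    exact ⟨hu'.1, fun e => hxu (e ▸ .refl), commute_of_not_comp hxc hu' hxu⟩
  -- members of the component of `l` in `perp c₀` lie in the component of `c₀`
  have hlC : ∀ u, comp D c₀ l u → comp D x c₀ u := by
    intro u hu
    by_contra hne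
    have hu' := hlperp u hu
    obtain ⟨a, ha, hau⟩ := exists_apart_partner H hx hu'
    obtain ⟨c', hc', hac⟩ := exists_commute_in_comp H hx hc₀ ha
    obtain ⟨g, hg, hgc, hge⟩ := exists_move h (comp_mem hc₀ hc') (comp_symm hc')
    have hgx : Commute g x :=
      localGroup_commute (Subgroup.closure_mono (Set.subset_insert _ _) hg)
    have hgu : Commute g u := hge u hu' fun c => hne (hc'.trans c)
    have h1 : Commute (g * a * g⁻¹) c₀ := by
      rw [← hgc]; exact (commute_conj_iff g a c').mpr hac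
    have h2 : ¬ Commute (g * a * g⁻¹) u := by
      rw [← conj_self_eq hgu, commute_conj_iff]; exact hau
    have h3 := apart_conj h hgx ha
    exact hlx (((hK _ h3 h1).trans (.single ⟨comp_mem hxc (hK _ h3 h1), comp_mem hl hu, h2⟩)).trans
      (comp_symm hu))
  -- they have the same apart partners as `c₀`
  have hsame : ∀ u, comp D c₀ l u → ∀ a ∈ apart D x, Commute a u → Commute a c₀ := by
    intro u hu
    have hsub : {a | a ∈ apart D x ∧ Commute a c₀} ⊆ {a | a ∈ apart D x ∧ Commute a u} := by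
      rintro a ⟨ha, hac⟩
      refine ⟨ha, ?_⟩
      by_contra hau
      exact hlx ((hK a ha hac).trans
        ((Relation.ReflTransGen.single ⟨comp_mem hxc (hK a ha hac), comp_mem hl hu, hau⟩).trans
          (comp_symm hu)))
    obtain ⟨g, hg, hgc, -⟩ := exists_move h hc₀ (hlC u hu)
    have hgx : Commute g x :=
      localGroup_commute (Subgroup.closure_mono (Set.subset_insert _ _) hg)
    have himg : {a | a ∈ apart D x ∧ Commute a u} =
        (fun e => g * e * g⁻¹) '' {a | a ∈ apart D x ∧ Commute a c₀} := by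
      ext a
      constructor
      · rintro ⟨ha, hau⟩
        refine ⟨g⁻¹ * a * g, ⟨by simpa using apart_conj h hgx.inv_left ha, ?_⟩, by simp [mul_assoc]⟩
        rw [← commute_conj_iff g, hgc]
        simpa [mul_assoc] using hau
      · rintro ⟨b, ⟨hb, hbc⟩, rfl⟩
        exact ⟨apart_conj h hgx hb, hgc ▸ (commute_conj_iff g b c₀).mpr hbc⟩
    have heq := Set.eq_of_subset_of_ncard_le hsub (by
      rw [himg, Set.ncard_image_of_injective _ fun p q e => by simpa using e]) (Set.toFinite _)
    intro a ha hau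
    have : a ∈ {a | a ∈ apart D x ∧ Commute a c₀} := heq ▸ ⟨ha, hau⟩
    exact this.2
  obtain ⟨a, ha, hac⟩ := exists_apart_partner H hx hc₀
  obtain ⟨u, hu, hau⟩ := exists_commute_in_comp H (x := c₀) hc₀.1 hl
    (a := a) ⟨ha.1, hac⟩
  exact hac (hsame u hu a ha hau)

/-- Transitivity on the members commuting with `x`, by the group they generate. -/
theorem transitive_perp (H : Hyp D) {x y y' : G} (hx : x ∈ D) (hy : y ∈ perp D x)
    (hy' : y' ∈ perp D x) : ∃ g ∈ Subgroup.closure (perp D x), g * y * g⁻¹ = y' :=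
  let ⟨g, hg, e, _⟩ := exists_move H.cls hy (comp_all H hx hy hy')
  ⟨g, hg, e⟩

end Cfsg.Agent.Spor.ThreeTrans

namespace Cfsg.Agent.Spor.ThreeTrans

open scoped commutatorElement

variable {G : Type*} [Group G] [Finite G] {D : Set G}

omit [Finite G] in
theorem exists_noncommute (h : IsThreeTranspositionClass D)
    (hne : ¬ ∀ u v : G, u * v = v * u) : ∃ a ∈ D, ∃ b ∈ D, ¬ Commute a b := by
  by_contra hall
  push Not at hall
  apply hne
  have : IsMulCommutative (Subgroup.closure D) :=
    Subgroup.isMulCommutative_closure (fun a ha b hb => hall a ha b hb)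
  intro u v
  have hu : u ∈ Subgroup.closure D := h.2.2 ▸ Subgroup.mem_top u
  have hv : v ∈ Subgroup.closure D := h.2.2 ▸ Subgroup.mem_top v
  exact congrArg Subtype.val (mul_comm' (⟨u, hu⟩ : Subgroup.closure D) ⟨v, hv⟩)

/-- The hypotheses hold when there is no solvable normal subgroup. -/
theorem hyp_of_no_solvable (hsol : ∀ N : Subgroup G, N.Normal → Group.IsSolvable ↥N → N = ⊥)
    (hperf : ⁅commutator G, commutator G⁆ = commutator G) (h : IsThreeTranspositionClass D) :
    Hyp D where
  cls := h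
  perf := hperf
  solv N hN hs _ := hsol N hN hs
  nc := exists_noncommute h fun hall => by
    have : Group.IsSolvable (⊤ : Subgroup G) :=
      Group.isSolvable_of_comm fun a b => Subtype.ext (hall a b)
    have htop := hsol ⊤ inferInstance this
    obtain ⟨d, hd, -⟩ := h.2.1
    have : d ∈ (⊥ : Subgroup G) := htop ▸ Subgroup.mem_top d
    exact ne_one h.1 hd (Subgroup.mem_bot.mp this)

/-- The hypotheses hold when the derived group is simple and non-abelian. -/
theorem hyp_of_simple (h : IsThreeTranspositionClass D) (hsimple : IsSimpleGroup (commutator G))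
    (hnonab : ∃ x y : commutator G, x * y ≠ y * x) : Hyp D := by
  obtain ⟨x, y, hxy⟩ := hnonab
  have hperf' : commutator (commutator G) = ⊤ := by
    refine ((commutator (commutator G)).normal_of_characteristic.eq_bot_or_eq_top).resolve_left ?_
    intro hbot
    apply hxy
    have : ⁅x, y⁆ ∈ commutator (commutator G) :=
      Subgroup.commutator_mem_commutator (Subgroup.mem_top x) (Subgroup.mem_top y)
    rw [hbot, Subgroup.mem_bot, commutatorElement_eq_one_iff_commute] at this
    exact this.eq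
  have hperf : ⁅commutator G, commutator G⁆ = commutator G := by
    rw [← Subgroup.map_subtype_commutator, hperf', ← MonoidHom.range_eq_map, Subgroup.range_subtype]
  refine ⟨h, hperf, fun N hN hs hle => ?_, exists_noncommute h fun hall => hxy ?_⟩
  · rcases (hN.subgroupOf (commutator G)).eq_bot_or_eq_top with e | e
    · rw [Subgroup.subgroupOf_eq_bot, disjoint_iff, inf_eq_left.mpr hle] at e
      exact e
    · rw [Subgroup.subgroupOf_eq_top] at e
      have hbot := Cfsg.Agent.Grp.eq_bot_of_perfect_of_solvable hperf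
        (Cfsg.Agent.Grp.isSolvable_of_le e hs)
      exact absurd (Subsingleton.elim (h := by
        rw [hbot]; infer_instance) (x * y) (y * x)) hxy
  · exact Subtype.ext (hall x y)

/-- The maximum commuting sets inside a subgroup are conjugate under it. -/
theorem exists_conj_max (h : IsThreeTranspositionClass D) (K : Subgroup G) {E E' : Set G}
    (hE : E ⊆ D) (hc : ∀ a ∈ E, ∀ b ∈ E, Commute a b) (hE' : E' ⊆ D)
    (hc' : ∀ a ∈ E', ∀ b ∈ E', Commute a b) (hK : E ⊆ K) (hK' : E' ⊆ K)
    (hmax : ∀ F : Set G, F ⊆ D → (∀ a ∈ F, ∀ b ∈ F, Commute a b) → F.ncard ≤ E.ncard)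
    (hcard : E'.ncard = E.ncard) : ∃ k ∈ K, ∀ u, u ∈ E' ↔ k * u * k⁻¹ ∈ E := by
  have : Fact (Nat.Prime 2) := ⟨Nat.prime_two⟩
  have key : ∀ F : Set G, F ⊆ D → (∀ a ∈ F, ∀ b ∈ F, Commute a b) → F ⊆ K →
      F.ncard = E.ncard → ∃ P : Sylow 2 K, F = D ∩ ((P : Subgroup K).map K.subtype : Set G) := by
    intro F hF hFc hFK hFn
    let F' : Set K := {u | (u : G) ∈ F}
    have : IsMulCommutative (Subgroup.closure F') :=
      Subgroup.isMulCommutative_closure (fun a ha b hb => Subtype.ext (hFc _ ha _ hb))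
    have hp : IsPGroup 2 (Subgroup.closure F') := by
      intro w
      refine ⟨1, ?_⟩
      obtain ⟨w, hw⟩ := w
      induction hw using Subgroup.closure_induction with
      | mem v hv => exact Subtype.ext (Subtype.ext (by simpa [pow_two] using mul_self h.1 (hF hv)))
      | one => exact one_pow _
      | mul v v' hv hv' e e' =>
        rw [show (⟨v * v', mul_mem hv hv'⟩ : Subgroup.closure F') = ⟨v, hv⟩ * ⟨v', hv'⟩ from rfl,
          Commute.mul_pow (mul_comm' (⟨v, hv⟩ : Subgroup.closure F') ⟨v', hv'⟩), e, e', one_mul]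
      | inv v hv e =>
        rw [show (⟨v⁻¹, inv_mem hv⟩ : Subgroup.closure F') = ⟨v, hv⟩⁻¹ from rfl, inv_pow, e, inv_one]
    obtain ⟨P, hP⟩ := hp.exists_le_sylow
    refine ⟨P, Set.eq_of_subset_of_ncard_le (fun u hu => ⟨hF hu, ⟨⟨u, hFK hu⟩,
      hP (Subgroup.subset_closure (show (⟨u, hFK hu⟩ : K) ∈ F' from hu)), rfl⟩⟩) ?_
      (Set.toFinite _)⟩
    rw [hFn]
    refine hmax _ Set.inter_subset_left ?_
    rintro u ⟨hu, hu'⟩ v ⟨hv, hv'⟩
    rcases h.1.2 u hu v hv with e | e
    · have h2 : u * v * (u * v) = 1 := by rwa [← pow_two]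
      have := inv_eq_of_mul_eq_one_left h2
      rw [mul_inv_rev, inv_eq h.1 hu, inv_eq h.1 hv] at this
      exact this.symm
    · obtain ⟨k, hk⟩ := (P.isPGroup'.map K.subtype) ⟨u * v, mul_mem hu' hv'⟩
      have hk' : (u * v) ^ 2 ^ k = 1 := congrArg Subtype.val hk
      have h1 := orderOf_dvd_of_pow_eq_one e
      have h2 := orderOf_dvd_of_pow_eq_one hk'
      have : orderOf (u * v) ∣ Nat.gcd 3 (2 ^ k) := Nat.dvd_gcd h1 h2
      rw [Nat.Coprime.pow_right k (by norm_num : Nat.Coprime 3 2), Nat.dvd_one,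
        orderOf_eq_one_iff] at this
      rw [eq_inv_of_mul_eq_one_left this, inv_eq h.1 hv]
  obtain ⟨P, hP⟩ := key E hE hc hK rfl
  obtain ⟨P', hP'⟩ := key E' hE' hc' hK' hcard
  obtain ⟨k, hk⟩ := MulAction.exists_smul_eq K P' P
  refine ⟨k, k.2, fun u => ?_⟩
  rw [hP, hP', Set.mem_inter_iff, Set.mem_inter_iff]
  refine and_congr ⟨fun hu => conj_mem h _ hu, fun hu => by
    simpa [mul_assoc] using conj_mem h (k : G)⁻¹ hu⟩ ?_
  rw [← hk, SetLike.mem_coe, SetLike.mem_coe]
  constructor
  · rintro ⟨w, hw, rfl⟩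
    refine ⟨k * w * k⁻¹, ?_, rfl⟩
    rw [Sylow.coe_subgroup_smul]
    exact Subgroup.smul_mem_pointwise_smul w (MulAut.conj k) _ hw
  · rintro ⟨w, hw, e⟩
    rw [SetLike.mem_coe, Sylow.coe_subgroup_smul] at hw
    obtain ⟨w', hw', rfl⟩ := hw
    exact ⟨w', hw', by simpa using e⟩

end Cfsg.Agent.Spor.ThreeTrans
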