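import Cfsg.Agent.Lib.Spor.FischerTrichotomy
import Cfsg.Agent.Lib.Grp.Quasisimple
import Cfsg.Prelude.Def_FischerSpaces

/-! The quasisimple subgroup and primitivity for a class of 3-transpositions. -/

set_option autoImplicit false
set_option linter.style.haveILetI false
set_option linter.unusedSectionVars false

namespace Cfsg.Agent.Spor.FischerStr

open Cfsg
open scoped commutatorElement

universe u

variable {G : Type u} [Group G] [Finite G] {D : Set G}

theorem perfect_of_quasisimple {L : Subgroup G} (hL : IsQuasisimple L) : ⁅L, L⁆ = L := by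
  have h := congrArg (Subgroup.map L.subtype) hL.1.commutator_eq_top
  rwa [commutator_def, Subgroup.map_commutator, ← MonoidHom.range_eq_map, Subgroup.range_subtype] at h

theorem isComponent_of_normal {L : Subgroup G} [hn : L.Normal] (hL : IsQuasisimple L) : IsComponent L :=
  ⟨hn.isSubnormal, hL⟩

theorem le_center_or_top {L A : Subgroup G} (hL : IsQuasisimple L) (hA : A ≤ L)
    (hn : L ≤ Subgroup.normalizer (A : Set G)) : A = L ∨ A ≤ Subgroup.centralizer (L : Set G) := by
  haveI : (A.subgroupOf L).Normal := Subgroup.normal_subgroupOf_of_le_normalizer hn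
  rcases Grp.IsQuasisimple.eq_top_or_le_center hL (A.subgroupOf L) with e | e
  · exact Or.inl (le_antisymm hA (Subgroup.subgroupOf_eq_top.mp e))
  · refine Or.inr fun a ha => Subgroup.mem_centralizer_iff.mpr fun l hl => ?_
    exact congrArg Subtype.val (Subgroup.mem_center_iff.mp (e (show (⟨a, hA ha⟩ : L) ∈ A.subgroupOf L from ha)) ⟨l, hl⟩)

theorem quotient_solvable_contra {L : Subgroup G} (hL : IsQuasisimple L)
    (h : ∀ x : L, x ^ 2 ∈ Subgroup.center L ∨ x ^ 3 ∈ Subgroup.center L) : False := by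
  have h1 : Group.IsSolvable (L ⧸ Subgroup.center L) := OrderTwoThree.isSolvable fun q => by
    obtain ⟨x, rfl⟩ := QuotientGroup.mk'_surjective _ q
    simp only [← map_pow]
    exact (h x).imp (fun e => (QuotientGroup.eq_one_iff _).mpr e) (fun e => (QuotientGroup.eq_one_iff _).mpr e)
  have h2 : Group.IsSolvable (Subgroup.center L) :=
    Group.isSolvable_of_comm fun a b => Subtype.ext (Subgroup.mem_center_iff.mp b.2 a)
  exact Grp.IsQuasisimple.not_isSolvable hL
    (solvable_of_ker_le_range (Subgroup.center L).subtype (QuotientGroup.mk' (Subgroup.center L)) (by simp))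

theorem component_invariant (hD : IsThreeTranspositionClass D) {L : Subgroup G} (hL : IsComponent L) {d : G} (hd : d ∈ D) :
    ∀ x ∈ L, d * x * d⁻¹ ∈ L := by
  let L' := L.map (MulAut.conj d).toMonoidHom
  have hL' : IsComponent L' := Grp.IsComponent.conj hL d
  by_cases he : L' = L
  · exact fun x hx => he.le ⟨x, hx, rfl⟩
  exfalso
  have hc : L ≤ Subgroup.centralizer (L' : Set G) := Grp.IsComponent.commute hL hL' (Ne.symm he)
  refine quotient_solvable_contra hL.2 fun x => ?_
  let y : G := d * (x : G)⁻¹ * d⁻¹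
  have hy : y ∈ L' := ⟨(x : G)⁻¹, inv_mem x.2, rfl⟩
  have hxy : Commute (x : G) y := (Subgroup.mem_centralizer_iff.mp (hc x.2) y hy).symm
  have hk : ∀ k : ℕ, ((x : G) * d * (x : G)⁻¹ * d) ^ k = 1 → x ^ k ∈ Subgroup.center L := fun k hk => by
    rw [show (x : G) * d * (x : G)⁻¹ * d = x * y by simp only [y, ThreeTrans.inv_eq hD.1 hd, mul_assoc],
      hxy.mul_pow, mul_eq_one_iff_eq_inv] at hk
    refine Subgroup.mem_center_iff.mpr fun l => Subtype.ext ?_
    simp only [Subgroup.coe_mul, SubmonoidClass.coe_pow, hk]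
    exact ((Subgroup.mem_centralizer_iff.mp (hc l.2) _ (inv_mem (pow_mem hy k)))).symm
  exact (hD.1.2 _ (conj_mem hD x hd) d hd).imp (hk 2) (hk 3)

theorem component_normal (hD : IsThreeTranspositionClass D) {L : Subgroup G} (hL : IsComponent L) : L.Normal := by
  rw [← Subgroup.normalizer_eq_top_iff, eq_top_iff, ← hD.2.2, Subgroup.closure_le]
  intro d hd
  refine Subgroup.mem_normalizer_iff.mpr fun x => ⟨component_invariant hD hL hd x, fun h => ?_⟩
  have := component_invariant hD hL hd _ h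
  rwa [ThreeTrans.inv_eq hD.1 hd, ← mul_assoc, ← mul_assoc, ThreeTrans.mul_self hD.1 hd, one_mul, mul_assoc,
    ThreeTrans.mul_self hD.1 hd, mul_one] at this

theorem not_centralised (hD : IsThreeTranspositionClass D) {L : Subgroup G} [L.Normal] (hL : IsQuasisimple L)
    {d : G} (hd : d ∈ D) : ¬ ∀ x ∈ L, Commute d x := fun h => by
  have hbot := Grp.eq_bot_of_perfect_of_comm (perfect_of_quasisimple hL)
    ((le_center_of_normal hD L hd h).trans (Subgroup.center_le_centralizer _))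
  haveI := Grp.IsQuasisimple.nontrivial hL
  exact (Subgroup.nontrivial_iff_ne_bot L).mp inferInstance hbot

theorem layer_quasisimple (hD : IsThreeTranspositionClass D) (hD2 : ∃ a ∈ D, ∃ b ∈ D, a ≠ b)
    (h2 : pCore 2 G ≤ Subgroup.center G) (h3 : pCore 3 G ≤ Subgroup.center G) :
    ∃ L : Subgroup G, L.Normal ∧ IsQuasisimple L ∧ generalizedFittingSubgroup G = L ⊔ Subgroup.center G := by
  obtain ⟨L, hL⟩ : ∃ L : Subgroup G, IsComponent L := by
    by_contra hcon
    refine layer_ne_bot hD hD2 h2 h3 (le_bot_iff.mp (sSup_le fun K hK => (hcon ⟨K, hK⟩).elim))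
  haveI := component_normal hD hL
  refine ⟨L, inferInstance, hL.2, ?_⟩
  have hone : ∀ K : Subgroup G, IsComponent K → K = L := by
    intro K hK
    by_contra hne
    haveI := component_normal hD hK
    obtain ⟨d, hd, -⟩ := hD.2.1
    have hx : ∃ x ∈ L, ¬ (d * (x * d * x⁻¹)) ^ 2 = 1 := by
      by_contra hcon
      refine not_centralised hD hL.2 hd (commute_of_all_commute hD (Grp.IsComponent.perfect hL) (solvCentral_component hL) hd
        (fun x hx => component_invariant hD hL hd x hx) fun x hx => commute_of_sq hD.1 hd (conj_mem hD x hd) ?_)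
      by_contra h
      exact hcon ⟨x, hx, h⟩
    have hy : ∃ y ∈ K, ¬ (d * (y * d * y⁻¹)) ^ 3 = 1 := by
      by_contra hcon
      refine not_centralised hD hK.2 hd (commute_of_all_cube hD (Grp.IsComponent.perfect hK) (solvCentral_component hK) hd
        (fun x hx => component_invariant hD hK hd x hx) fun x hx => ?_)
      by_contra h
      exact hcon ⟨x, hx, h⟩
    obtain ⟨x, hx, hx2⟩ := hx
    obtain ⟨y, hy, hy3⟩ := hy
    have hy2 := (hD.1.2 d hd _ (conj_mem hD y hd)).resolve_right hy3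
    have hy2' : (y * d * y⁻¹ * d) ^ 2 = 1 := by
      rw [(commute_of_sq hD.1 hd (conj_mem hD y hd) hy2).symm.mul_pow, pow_two, pow_two,
        ThreeTrans.mul_self hD.1 (conj_mem hD y hd), ThreeTrans.mul_self hD.1 hd, one_mul]
    refine six (u := y * d * y⁻¹ * d) (v := d * (x * d * x⁻¹)) ?_ hy2' ?_
      ((hD.1.2 d hd _ (conj_mem hD x hd)).resolve_left hx2) ?_ ?_
    · exact (Subgroup.mem_centralizer_iff.mp (Grp.IsComponent.commute hK hL hne (conj_mul_mem hD.1 K hd hy)) _
        (mul_conj_mem hD.1 L hd hx)).symm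
    · exact fun e => hy3 (by
        rw [(eq_inv_of_mul_eq_one_left e).trans (ThreeTrans.inv_eq hD.1 hd), ThreeTrans.mul_self hD.1 hd, one_pow])
    · exact fun e => hx2 (by rw [e, one_pow])
    · rw [mul_assoc (y * d * y⁻¹), ThreeTrans.mul_self_mul hD.1 hd]
      exact hD.1.2 _ (conj_mem hD y hd) _ (conj_mem hD x hd)
  rw [generalizedFittingSubgroup, le_antisymm (show layer G ≤ L from sSup_le fun K hK => (hone K hK).le) (Grp.IsComponent.le_layer hL),
    le_antisymm (fitting_le_center hD h2 h3) center_le_fitting]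

/-- Members commuting modulo a quasisimple normal subgroup are congruent modulo it. -/
theorem width_one (hD : IsThreeTranspositionClass D) {L : Subgroup G} [hn : L.Normal] (hL : IsQuasisimple L) {a b : G}
    (ha : a ∈ D) (hb : b ∈ D) (hab : a * b * a⁻¹ * b⁻¹ ∈ L) : a⁻¹ * b ∈ L := by
  by_contra hnot
  rw [ThreeTrans.inv_eq hD.1 ha] at hnot
  let π := QuotientGroup.mk' L
  have hπ : ∀ g, π g = 1 ↔ g ∈ L := fun g => QuotientGroup.eq_one_iff g
  have hb' : ∀ x ∈ L, Commute b (x * a * x⁻¹) := fun x hx => by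
    rcases hD.1.2 _ (conj_mem hD x ha) b hb with e | e
    · exact (commute_of_sq hD.1 (conj_mem hD x ha) hb e).symm
    · exfalso
      refine hnot ((hπ _).mp (eq_one_of_coprime (G := G ⧸ L) (by norm_num : Nat.Coprime 2 3) ?_ ?_))
      · rw [← map_pow, hπ]
        rw [ThreeTrans.inv_eq hD.1 ha, ThreeTrans.inv_eq hD.1 hb] at hab
        simpa [pow_two, mul_assoc] using hab
      · have := congrArg π e
        simpa [map_pow, map_mul, map_inv, (hπ x).mpr hx] using this
  have hba : Commute b a := by simpa using hb' 1 (one_mem L)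
  let T := Subgroup.closure ((fun x => x * a * x⁻¹ * a) '' (L : Set G))
  have hTL : T ≤ L := (Subgroup.closure_le _).mpr (by rintro _ ⟨x, hx, rfl⟩; exact conj_mul_mem hD.1 L ha hx)
  have hTb : ∀ t ∈ T, Commute b t := by
    have : T ≤ Subgroup.centralizer ({b} : Set G) := (Subgroup.closure_le _).mpr (by
      rintro _ ⟨x, hx, rfl⟩
      exact Subgroup.mem_centralizer_singleton_iff.mpr ((hb' x hx).mul_right hba).eq.symm)
    exact fun t ht => (Subgroup.mem_centralizer_singleton_iff.mp (this ht)).symm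
  rcases le_center_or_top hL hTL (normalizes_closure hD.1 ha) with e | e
  · exact not_centralised hD hL hb fun x hx => hTb x (e.symm ▸ hx)
  · exact not_centralised hD hL ha (commute_of_central hD.1 (perfect_of_quasisimple hL) ha
      (fun x hx => hn.conj_mem x hx a) (Subgroup.le_centralizer_iff.mp e)
      fun x hx => Subgroup.subset_closure ⟨x, hx, rfl⟩)

theorem index_le_two (hD : IsThreeTranspositionClass D) (L : Subgroup G) [L.Normal] {a : G} (ha : a ∈ D)
    (h : ∀ d ∈ D, a⁻¹ * d ∈ L) : L.index ≤ 2 := by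
  let π := QuotientGroup.mk' L
  have hπ : Subgroup.zpowers (π a) = ⊤ := by
    rw [eq_top_iff, ← Subgroup.map_top_of_surjective π (QuotientGroup.mk'_surjective L), ← hD.2.2,
      MonoidHom.map_closure, Subgroup.closure_le]
    rintro _ ⟨d, hd, rfl⟩
    have : π a = π d := QuotientGroup.eq.mpr (h d hd)
    exact this ▸ Subgroup.mem_zpowers (π a)
  rw [Subgroup.index, ← Subgroup.card_top (G := G ⧸ L), ← hπ, Nat.card_zpowers]
  exact Nat.le_of_dvd (by norm_num) (orderOf_dvd_of_pow_eq_one (by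
    rw [← map_pow, pow_two, ThreeTrans.mul_self hD.1 ha, map_one]))

theorem index_le_two_of_connected (hD : IsThreeTranspositionClass D) {L : Subgroup G} [hn : L.Normal]
    (hL : IsQuasisimple L) (hc : (commutingGraph D).Connected) : L.index ≤ 2 := by
  obtain ⟨a, ha, -⟩ := hD.2.1
  refine index_le_two hD L ha fun d hd => ?_
  obtain ⟨w⟩ := hc.preconnected ⟨a, ha⟩ ⟨d, hd⟩
  suffices ∀ (x y : D), (commutingGraph D).Walk x y → (x : G)⁻¹ * y ∈ L from this _ _ w
  intro x y w
  induction w with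
  | nil => simp
  | cons hadj _ ih =>
    rename_i u v _ _
    have hc : Commute (u : G) v := ((SimpleGraph.fromRel_adj _ _ _).mp hadj).2.elim id Commute.symm
    have h1 : (u : G)⁻¹ * v ∈ L := width_one hD hL u.2 v.2 (by
      rw [hc.eq, mul_inv_cancel_right, mul_inv_cancel]; exact one_mem L)
    simpa [mul_assoc] using mul_mem h1 ih

/-- An element stabilising a block. -/
theorem block_stab {B : Set G}
    (hB : ∀ g : G, (fun x => g * x * g⁻¹) '' B = B ∨ Disjoint ((fun x => g * x * g⁻¹) '' B) B) {g x : G} (hx : x ∈ B)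
    (hgx : g * x * g⁻¹ ∈ B) : (fun x => g * x * g⁻¹) '' B = B :=
  (hB g).resolve_right fun h => Set.disjoint_left.mp h ⟨x, hx, rfl⟩ hgx

theorem conj_image_mul (g h : G) (B : Set G) :
    (fun x => (g * h) * x * (g * h)⁻¹) '' B = (fun x => g * x * g⁻¹) '' ((fun x => h * x * h⁻¹) '' B) := by
  rw [Set.image_image]
  exact Set.image_congr fun x _ => by group

theorem conj_image_one (B : Set G) : (fun x => (1 : G) * x * 1⁻¹) '' B = B := by simp

theorem primitive_of_index (hD : IsThreeTranspositionClass D) (hD2 : ∃ a ∈ D, ∃ b ∈ D, a ≠ b)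
    (h2 : pCore 2 G ≤ Subgroup.center G) (h3 : pCore 3 G ≤ Subgroup.center G) {L : Subgroup G} [hn : L.Normal]
    (hL : IsQuasisimple L) (hi : L.index ≤ 2) : IsPrimitiveUnderConj D := by
  refine ⟨fun a ha b hb => exists_conj hD ha hb, hD2, fun B hBD hB => ?_⟩
  by_contra hcon
  simp only [not_or, Set.not_subsingleton_iff] at hcon
  obtain ⟨⟨a, ha, b, hb, hab⟩, hne⟩ := hcon
  let M : Subgroup G :=
    { carrier := {g | (fun x => g * x * g⁻¹) '' B = B}
      one_mem' := conj_image_one B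
      mul_mem' := fun {g h} hg hh => by
        show _ = _
        rw [conj_image_mul, hh, hg]
      inv_mem' := fun {g} hg => by
        show _ = _
        conv_lhs => rw [← hg]
        rw [← conj_image_mul, inv_mul_cancel, conj_image_one] }
  have hM : ∀ g : G, g ∈ M ↔ (fun x => g * x * g⁻¹) '' B = B := fun _ => Iff.rfl
  have mem_conj : ∀ g ∈ M, ∀ x ∈ B, g * x * g⁻¹ ∈ B := fun g hg x hx => ((hM g).mp hg).le ⟨x, hx, rfl⟩
  have hBM : ∀ x ∈ B, x ∈ M := fun x hx => block_stab hB hx (by rwa [mul_inv_cancel_right])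
  have mem_of : ∀ g x : G, x ∈ B → g * x * g⁻¹ ∈ B → g ∈ M := fun g x hx hgx => block_stab hB hx hgx
  have key : ∀ x ∈ D, x ∉ B → ∀ y ∈ B, Commute x y → ∀ f ∈ B, Commute x f := by
    intro x hx hxB y hy hxy f hf
    by_contra hc
    refine hxB ?_
    have hxM : x ∈ M := mem_of x y hy (by rw [hxy.eq, mul_inv_cancel_right]; exact hy)
    have h1 := mem_conj _ hxM f hf
    rw [ThreeTrans.inv_eq hD.1 hx, ThreeTrans.braid hD.1 hx (hBD hf) hc] at h1
    have h4 := mem_conj f (hBM f hf) _ h1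
    rwa [ThreeTrans.inv_eq hD.1 (hBD hf), show f * (f * x * f) * f = (f * f) * x * (f * f) by group,
      ThreeTrans.mul_self hD.1 (hBD hf), one_mul, mul_one] at h4
  have hker : ∀ h : G, h⁻¹ * (a * b) * h ∈ M := by
    intro h
    obtain ⟨a', ea⟩ : ∃ t, t = h⁻¹ * a * h := ⟨_, rfl⟩
    obtain ⟨b', eb⟩ : ∃ t, t = h⁻¹ * b * h := ⟨_, rfl⟩
    rw [show h⁻¹ * (a * b) * h = a' * b' by rw [ea, eb]; group]
    have haD : a' ∈ D := by rw [ea]; simpa using conj_mem hD h⁻¹ (hBD ha)
    have hbD : b' ∈ D := by rw [eb]; simpa using conj_mem hD h⁻¹ (hBD hb)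
    by_cases hh : h ∈ M
    · have h1 := mem_conj _ (inv_mem hh) a ha
      have h2 := mem_conj _ (inv_mem hh) b hb
      rw [inv_inv, ← ea] at h1
      rw [inv_inv, ← eb] at h2
      exact mul_mem (hBM _ h1) (hBM _ h2)
    by_cases hsome : ∃ f ∈ B, Commute a' f ∨ Commute b' f
    · obtain ⟨f, hf, hc⟩ := hsome
      have hfB : h * f * h⁻¹ ∉ B := fun hm => hh (mem_of h f hf hm)
      have hback : ∀ t t' : G, t' = h⁻¹ * t * h → (Commute t' f ↔ Commute (h * f * h⁻¹) t) := fun t t' e => by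
        have e' : h * t' * h⁻¹ = t := by rw [e]; group
        constructor
        · intro hc
          have := hc.symm.map (MulAut.conj h)
          simpa [MulAut.conj_apply, e'] using this
        · intro hc
          have := hc.symm.map (MulAut.conj h⁻¹)
          simpa [MulAut.conj_apply, e, mul_assoc] using this
      have hall : ∀ t ∈ B, Commute (h * f * h⁻¹) t := by
        rcases hc with hc | hc
        · exact key _ (conj_mem hD h (hBD hf)) hfB a ha ((hback a a' ea).mp hc)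
        · exact key _ (conj_mem hD h (hBD hf)) hfB b hb ((hback b b' eb).mp hc)
      have fix : ∀ t', Commute t' f → t' ∈ M := fun t' hc => mem_of t' f hf (by
        rw [hc.eq, mul_inv_cancel_right]; exact hf)
      exact mul_mem (fix a' ((hback a a' ea).mpr (hall a ha))) (fix b' ((hback b b' eb).mpr (hall b hb)))
    · simp only [not_exists, not_and, not_or] at hsome
      obtain ⟨ha1, hb1⟩ := hsome a ha
      have aux : ∀ t ∈ B, ∀ t', t' = h⁻¹ * t * h → t' ∈ D → ¬ Commute t' a → t'⁻¹ * (a * h⁻¹) ∈ M := by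
        intro t ht t' e htD hc
        refine mem_of _ t ht ?_
        have e2 : t'⁻¹ * (a * h⁻¹) * t * (t'⁻¹ * (a * h⁻¹))⁻¹ = t' * (a * t' * a) * t' := by
          rw [mul_inv_rev, mul_inv_rev, inv_inv, inv_inv, ThreeTrans.inv_eq hD.1 htD, ThreeTrans.inv_eq hD.1 (hBD ha), e]
          simp only [mul_assoc]
        rw [e2, ← ThreeTrans.braid hD.1 htD (hBD ha) hc,
          show t' * (t' * a * t') * t' = (t' * t') * a * (t' * t') by group, ThreeTrans.mul_self hD.1 htD, one_mul, mul_one]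
        exact ha
      have h1 := aux a ha a' ea haD ha1
      have h2 := aux b hb b' eb hbD hb1
      have h3' := mul_mem h1 (inv_mem h2)
      rwa [mul_inv_rev, inv_inv, mul_assoc, mul_inv_cancel_left, ThreeTrans.inv_eq hD.1 haD] at h3'
  let K : Subgroup G := M.normalCore
  haveI : K.Normal := Subgroup.normalCore_normal M
  have habK : a * b ∈ K := fun h => by
    have := hker h⁻¹
    rwa [inv_inv] at this
  have haL : L ≠ ⊤ → ∀ x ∈ D, x ∉ L := fun htop x hx hxL => htop (by
    rw [eq_top_iff, ← hD.2.2, Subgroup.closure_le]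
    intro y hy
    obtain ⟨g, rfl⟩ := exists_conj hD hx hy
    exact hn.conj_mem x hxL g)
  have h2i : L ≠ ⊤ → L.index = 2 := fun htop => by
    have h1 : L.index ≠ 0 := Subgroup.index_ne_zero_of_finite
    have h1' : L.index ≠ 1 := fun e => htop (Subgroup.index_eq_one.mp e)
    omega
  have hLK : ¬ L ≤ K := by
    intro hle
    have hMtop : ∀ g : G, g ∈ M := by
      intro g
      by_cases htop : L = ⊤
      · exact Subgroup.normalCore_le M (hle (htop ▸ Subgroup.mem_top g))
      by_cases hg : g ∈ L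
      · exact Subgroup.normalCore_le M (hle hg)
      have : g * a ∈ L := (Subgroup.mul_mem_iff_of_index_two (h2i htop)).mpr (iff_of_false hg (haL htop a (hBD ha)))
      have h4 := mul_mem (Subgroup.normalCore_le M (hle this)) (inv_mem (hBM a ha))
      rwa [mul_inv_cancel_right] at h4
    refine hne (Set.Subset.antisymm hBD fun y hy => ?_)
    obtain ⟨g, rfl⟩ := exists_conj hD (hBD ha) hy
    exact mem_conj g (hMtop g) a ha
  have hKL : ∀ x ∈ L, Commute (a * b) x := by
    have hcen : K ⊓ L ≤ Subgroup.centralizer (L : Set G) := by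
      refine (le_center_or_top hL inf_le_right ?_).resolve_left fun e => hLK (e ▸ inf_le_left)
      rw [Subgroup.normalizer_eq_top_iff.mpr inferInstance]
      exact le_top
    refine commute_of_perfect (perfect_of_quasisimple hL) (fun x hx => ?_) fun x hx y hy => ?_
    · rw [mul_assoc x, mul_assoc x]
      exact mul_mem hx (hn.conj_mem _ (inv_mem hx) _)
    · refine (Subgroup.mem_centralizer_iff.mp (hcen (Subgroup.mem_inf.mpr ⟨?_, ?_⟩)) y hy).symm
      · exact mul_mem ((inferInstance : K.Normal).conj_mem _ habK x) (inv_mem habK)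
      · rw [mul_assoc x, mul_assoc x]
        exact mul_mem hx (hn.conj_mem _ (inv_mem hx) _)
  have habL : a * b ∈ L := by
    by_cases htop : L = ⊤
    · rw [htop]; trivial
    exact (Subgroup.mul_mem_iff_of_index_two (h2i htop)).mpr (iff_of_false (haL htop a (hBD ha)) (haL htop b (hBD hb)))
  let Z : Subgroup G := L ⊓ Subgroup.centralizer (L : Set G)
  have hZc : Z ≤ Subgroup.center G := by
    haveI : IsMulCommutative Z := ⟨⟨fun x y => Subtype.ext (Subgroup.mem_centralizer_iff.mp y.2.2 x x.2.1)⟩⟩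
    exact (Grp.le_fittingSubgroup (inferInstance : Z.Normal) (by open scoped IsMulCommutative in infer_instance)).trans
      (fitting_le_center hD h2 h3)
  have hz : a * b ∈ Subgroup.center G :=
    hZc ⟨habL, Subgroup.mem_centralizer_iff.mpr fun x hx => (hKL x hx).eq.symm⟩
  have hz1 : a * b ≠ 1 := fun e => hab ((eq_inv_of_mul_eq_one_left e).trans (ThreeTrans.inv_eq hD.1 (hBD hb)))
  have hcomm : Commute a b := by
    have h := Subgroup.mem_center_iff.mp hz a
    rw [ThreeTrans.mul_self_mul hD.1 (hBD ha)] at h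
    calc a * b = a * (a * b * a) := by rw [← h]
      _ = b * a := by simp only [mul_assoc, ThreeTrans.mul_self_mul hD.1 (hBD ha)]
  refine not_mem_center hD hD2 (hBD ha) (mem_center_of hD.2.2 fun e he => ?_)
  by_contra hc
  refine six (u := a * b) (v := e * a) (Subgroup.mem_center_iff.mp hz (e * a)).symm ?_ hz1 ?_ ?_ ?_
  · rw [hcomm.mul_pow, pow_two, pow_two, ThreeTrans.mul_self hD.1 (hBD ha), ThreeTrans.mul_self hD.1 (hBD hb), one_mul]
  · exact (hD.1.2 e he a (hBD ha)).resolve_left fun h => hc (commute_of_sq hD.1 he (hBD ha) h)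
  · exact fun h => hc (by rw [(eq_inv_of_mul_eq_one_left h).trans (ThreeTrans.inv_eq hD.1 (hBD ha))])
  · rw [← Subgroup.mem_center_iff.mp hz (e * a), mul_assoc, ← mul_assoc a a, ThreeTrans.mul_self hD.1 (hBD ha), one_mul]
    exact hD.1.2 e he b (hBD hb)

theorem class_of_prim (hD : IsThreeTranspositionGroup D) (hp : IsPrimitiveUnderConj D) : IsThreeTranspositionClass D := by
  obtain ⟨a, ha, -⟩ := hp.2.1
  refine ⟨hD.1, ⟨a, ha, Set.ext fun b => ⟨fun hb => isConj_iff.mpr (hp.1 a ha b hb), fun hb => ?_⟩⟩, hD.2.2⟩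
  obtain ⟨g, rfl⟩ := isConj_iff.mp (show IsConj a b from hb)
  exact hD.2.1 g a ha

theorem prim_elim (hp : IsPrimitiveUnderConj D) {B : Set G} (hBD : B ⊆ D)
    (hab : ∃ a ∈ B, ∃ b ∈ B, a ≠ b)
    (h : ∀ g x, x ∈ B → g * x * g⁻¹ ∈ B → ∀ y ∈ B, g * y * g⁻¹ ∈ B) : B = D := by
  refine (hp.2.2 B hBD fun g => ?_).resolve_left fun hs => ?_
  · by_cases hd : Disjoint ((fun x => g * x * g⁻¹) '' B) B
    · exact Or.inr hd
    obtain ⟨_, ⟨x, hx, rfl⟩, hgx⟩ := Set.not_disjoint_iff.mp hd
    refine Or.inl (Set.Subset.antisymm (fun _ ⟨y, hy, e⟩ => e ▸ h g x hx hgx y hy) fun z hz => ?_)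
    have := h g⁻¹ _ hgx (by simpa [mul_assoc] using hx) z hz
    exact ⟨_, this, by group⟩
  · obtain ⟨a, ha, b, hb, hne⟩ := hab
    exact hne (hs ha hb)

theorem pCore_central_of_prim (hD : IsThreeTranspositionClass D) (hp : IsPrimitiveUnderConj D)
    (hw : ∃ a ∈ D, ∃ b ∈ D, a ≠ b ∧ Commute a b) :
    pCore 2 G ≤ Subgroup.center G ∧ pCore 3 G ≤ Subgroup.center G := by
  have all : ∀ (N : Subgroup G) [N.Normal] (d n : G), d ∈ D → n ∈ N → n * d * n⁻¹ ≠ d →
      ∀ y ∈ D, ∃ m ∈ N, m * d * m⁻¹ = y := by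
    intro N _ d n hd hn hne
    have := prim_elim hp (B := {y | ∃ m ∈ N, m * d * m⁻¹ = y}) (fun _ ⟨m, _, e⟩ => e ▸ conj_mem hD m hd)
      ⟨d, ⟨1, one_mem N, by group⟩, _, ⟨n, hn, rfl⟩, fun e => hne e.symm⟩ ?_
    · exact fun y hy => this.symm.le hy
    · rintro g _ ⟨m, hm, rfl⟩ ⟨k, hk, e⟩ _ ⟨m', hm', rfl⟩
      refine ⟨(g * (m' * m⁻¹) * g⁻¹) * k, mul_mem ((inferInstance : N.Normal).conj_mem _ (mul_mem hm' (inv_mem hm)) g) hk, ?_⟩
      rw [show (g * (m' * m⁻¹) * g⁻¹ * k) * d * (g * (m' * m⁻¹) * g⁻¹ * k)⁻¹ =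
        (g * (m' * m⁻¹) * g⁻¹) * (k * d * k⁻¹) * (g * (m' * m⁻¹) * g⁻¹)⁻¹ by group, e]
      group
  obtain ⟨a, ha, b, hb, hab, hc⟩ := hw
  constructor <;> by_contra h
  · haveI : (pCore 2 G).Normal := Grp.pCore_isNormal
    obtain ⟨n, hn, hne⟩ := exists_moved hD h ha
    refine not_mem_center hD hp.2.1 ha (mem_center_of hD.2.2 fun y hy => ?_)
    obtain ⟨m, hm, rfl⟩ := all _ a n ha hn hne y hy
    exact (commute_two hD ha hm).symm
  · haveI : (pCore 3 G).Normal := Grp.pCore_isNormal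
    obtain ⟨n, hn, hne⟩ := exists_moved hD h ha
    obtain ⟨m, hm, e⟩ := all _ a n ha hn hne b hb
    have h3 := cube_three hD ha hm
    rw [e] at h3
    have h2 : (a * b) ^ 2 = 1 := by rw [hc.mul_pow, pow_two, pow_two, ThreeTrans.mul_self hD.1 ha, ThreeTrans.mul_self hD.1 hb, one_mul]
    exact hab ((eq_inv_of_mul_eq_one_left (eq_one_of_coprime (by norm_num : Nat.Coprime 2 3) h2 h3)).trans
      (ThreeTrans.inv_eq hD.1 hb))

/-- The relation of commuting members. -/
def Adj (D : Set G) (x y : G) : Prop := x ∈ D ∧ y ∈ D ∧ Commute x y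

theorem adj_conj (hD : IsThreeTranspositionClass D) (g : G) {x y : G} (h : Relation.ReflTransGen (Adj D) x y) :
    Relation.ReflTransGen (Adj D) (g * x * g⁻¹) (g * y * g⁻¹) := by
  induction h with
  | refl => exact .refl
  | tail _ hbc ih =>
    refine ih.tail ⟨conj_mem hD g hbc.1, conj_mem hD g hbc.2.1, ?_⟩
    have := hbc.2.2.map (MulAut.conj g)
    simpa [MulAut.conj_apply] using this

theorem adj_all (hD : IsThreeTranspositionClass D) (hp : IsPrimitiveUnderConj D)
    (hw : ∃ a ∈ D, ∃ b ∈ D, a ≠ b ∧ Commute a b) :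
    ∀ x ∈ D, ∀ y ∈ D, Relation.ReflTransGen (Adj D) x y := by
  have hsymm : ∀ {x y}, Relation.ReflTransGen (Adj D) x y → Relation.ReflTransGen (Adj D) y x := fun h =>
    haveI : Std.Symm (Adj D) := ⟨fun _ _ h => ⟨h.2.1, h.1, h.2.2.symm⟩⟩
    Std.Symm.symm _ _ h
  intro x hx y hy
  obtain ⟨a, ha, b, hb, hne, hc⟩ := hw
  obtain ⟨g, rfl⟩ := exists_conj hD ha hx
  have := prim_elim hp (B := {z | z ∈ D ∧ Relation.ReflTransGen (Adj D) (g * a * g⁻¹) z}) (fun z hz => hz.1)
    ⟨_, ⟨hx, .refl⟩, g * b * g⁻¹, ⟨conj_mem hD g hb, adj_conj hD g (.single ⟨ha, hb, hc⟩)⟩,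
      fun e => hne (mul_right_injective g (mul_left_injective g⁻¹ e))⟩ ?_
  · exact (this.symm.le hy).2
  · rintro h z ⟨-, hz⟩ ⟨-, hgz⟩ w ⟨hw', hw⟩
    exact ⟨conj_mem hD h hw', hgz.trans (adj_conj hD h ((hsymm hz).trans hw))⟩

theorem connected_of_prim (hD : IsThreeTranspositionClass D) (hp : IsPrimitiveUnderConj D)
    (hw : ∃ a ∈ D, ∃ b ∈ D, a ≠ b ∧ Commute a b) : (commutingGraph D).Connected := by
  obtain ⟨a, ha, -⟩ := hD.2.1
  haveI : Nonempty D := ⟨⟨a, ha⟩⟩
  refine ⟨fun x y => ?_⟩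
  suffices ∀ z, Relation.ReflTransGen (Adj D) (x : G) z → ∀ hz : z ∈ D, (commutingGraph D).Reachable x ⟨z, hz⟩ from
    this y (adj_all hD hp hw x x.2 y y.2) y.2
  intro z hz
  induction hz with
  | refl => exact fun _ => .refl _
  | @tail b c _ hbc ih =>
    intro hcD
    by_cases e : b = c
    · subst e; exact ih hcD
    refine (ih hbc.1).trans (SimpleGraph.Adj.reachable ?_)
    exact (SimpleGraph.fromRel_adj _ _ _).mpr ⟨fun h => e (congrArg Subtype.val h), Or.inl hbc.2.2⟩

theorem perp_maximal (hD : IsThreeTranspositionClass D) (hp : IsPrimitiveUnderConj D)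
    (hw : ∃ a ∈ D, ∃ b ∈ D, a ≠ b ∧ Commute a b) {d : G} (hd : d ∈ D) :
    Subgroup.closure {y : G | y ∈ D ∧ Commute d y} ≠ ⊤ ∧ ∀ H : Subgroup G, IsDSubgroup D H →
      Subgroup.closure {y : G | y ∈ D ∧ Commute d y} ≤ H →
        H = Subgroup.closure {y : G | y ∈ D ∧ Commute d y} ∨ H = ⊤ := by
  refine ⟨fun htop => not_mem_center hD hp.2.1 hd (Subgroup.mem_center_iff.mpr fun g => ?_), fun H hH hle => ?_⟩
  · have hg : g ∈ Subgroup.centralizer ({d} : Set G) := by
      have : Subgroup.closure {y : G | y ∈ D ∧ Commute d y} ≤ Subgroup.centralizer ({d} : Set G) :=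
        (Subgroup.closure_le _).mpr fun y hy => Subgroup.mem_centralizer_singleton_iff.mpr hy.2.eq.symm
      exact this (htop ▸ Subgroup.mem_top g)
    exact Subgroup.mem_centralizer_singleton_iff.mp hg
  by_contra hcon
  simp only [not_or] at hcon
  obtain ⟨hne, htop⟩ := hcon
  obtain ⟨e, he, heH, hde⟩ : ∃ e, e ∈ D ∧ e ∈ H ∧ ¬ Commute d e := by
    by_contra h
    refine hne (le_antisymm ?_ hle)
    rw [← hH]
    exact Subgroup.closure_mono fun y hy => ⟨hy.1, by_contra fun hc => h ⟨y, hy.1, hy.2, hc⟩⟩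
  have hDd : ∀ y ∈ D, Commute d y → y ∈ H := fun y hy hc => hle (Subgroup.subset_closure ⟨hy, hc⟩)
  obtain ⟨B, eB⟩ : ∃ B : Set G, B = {y | ∃ h ∈ H, h * d * h⁻¹ = y} := ⟨_, rfl⟩
  have hdH : d ∈ H := hDd d hd (Commute.refl d)
  have hBD : ∀ y ∈ B, y ∈ D := by rw [eB]; rintro _ ⟨h, _, rfl⟩; exact conj_mem hD h hd
  have hBH : ∀ y ∈ B, y ∈ H := by rw [eB]; rintro _ ⟨h, hh, rfl⟩; exact mul_mem (mul_mem hh hdH) (inv_mem hh)
  have hdB : d ∈ B := by rw [eB]; exact ⟨1, one_mem H, by group⟩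
  have hperp : ∀ b ∈ B, ∀ y ∈ D, Commute b y → y ∈ H := by
    rw [eB]
    rintro _ ⟨h, hh, rfl⟩ y hy hc
    have hc' : Commute d (h⁻¹ * y * h) := by
      have := hc.map (MulAut.conj h⁻¹)
      simpa [MulAut.conj_apply, mul_assoc] using this
    have := hDd _ (by simpa using conj_mem hD h⁻¹ hy) hc'
    simpa [mul_assoc] using mul_mem (mul_mem hh this) (inv_mem hh)
  have hjoin : ∀ x ∈ D, x ∈ H → ∀ b ∈ B, ¬ Commute x b → x ∈ B := by
    intro x hx hxH b hb hc
    rw [eB] at hb ⊢
    obtain ⟨h, hh, rfl⟩ := hb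
    have hbx := ThreeTrans.braid hD.1 (conj_mem hD h hd) hx fun h' => hc h'.symm
    refine ⟨(h * d * h⁻¹) * x * h, mul_mem (mul_mem (mul_mem (mul_mem hh hdH) (inv_mem hh)) hxH) hh, ?_⟩
    obtain ⟨b, eb⟩ : ∃ b, b = h * d * h⁻¹ := ⟨_, rfl⟩
    rw [← eb] at hbx ⊢
    have hb1 : b⁻¹ = b := ThreeTrans.inv_eq hD.1 (eb ▸ conj_mem hD h hd)
    calc b * x * h * d * (b * x * h)⁻¹ = b * x * (h * d * h⁻¹) * (x⁻¹ * b⁻¹) := by group
      _ = (b * x * b) * (x * b) := by rw [← eb, hb1, ThreeTrans.inv_eq hD.1 hx]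
      _ = (x * b * x) * (x * b) := by rw [hbx]
      _ = x := by
        simp only [mul_assoc, ThreeTrans.mul_self_mul hD.1 hx]
        rw [ThreeTrans.mul_self hD.1 (eb ▸ conj_mem hD h hd), mul_one]
  obtain ⟨X, eX⟩ : ∃ X : Set G, X = {x | x ∈ D ∧ x ∈ H ∧ x ∉ B} := ⟨_, rfl⟩
  have hXB : ∀ x ∈ X, ∀ b ∈ B, Commute x b := fun x hx b hb => by
    rw [eX] at hx
    by_contra hc
    exact hx.2.2 (hjoin x hx.1 hx.2.1 b hb hc)
  by_cases hX : ∀ y ∈ D, y ∈ H → y ∈ B
  · refine htop ?_
    have hall : ∀ y, Relation.ReflTransGen (Adj D) d y → y ∈ B := fun y hy => by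
      induction hy with
      | refl => exact hdB
      | tail _ hbc ih => exact hX _ hbc.2.1 (hperp _ ih _ hbc.2.1 hbc.2.2)
    rw [eq_top_iff, ← hD.2.2, Subgroup.closure_le]
    exact fun y hy => hBH y (hall y (adj_all hD hp hw d hd y hy))
  simp only [not_forall] at hX
  obtain ⟨x0, hx0, hx0H, hx0B⟩ := hX
  have hXinv : ∀ c : G, Commute c d → ∀ x ∈ X, c * x * c⁻¹ ∈ X := by
    intro c hc x hx
    rw [eX] at hx ⊢
    have hxB := hXB x (eX ▸ hx)
    have hcx : Commute d (c * x * c⁻¹) := by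
      have := (hxB d hdB).symm.map (MulAut.conj c)
      simpa [MulAut.conj_apply, hc.eq, mul_assoc] using this
    refine ⟨conj_mem hD c hx.1, hDd _ (conj_mem hD c hx.1) hcx, fun hu => hx.2.2 ?_⟩
    have hH' : ∀ b ∈ B, c * b * c⁻¹ ∈ H := fun b hb => by
      have := (hxB b hb).map (MulAut.conj c)
      exact hperp _ hu _ (conj_mem hD c (hBD b hb)) (by simpa [MulAut.conj_apply] using this)
    have step : ∀ s, (s ∈ D ∧ s ∈ H) → ∀ t ∈ H, c * (t * d * t⁻¹) * c⁻¹ ∈ B →
        c * (s * t * d * (s * t)⁻¹) * c⁻¹ ∈ B := by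
      intro s hs t htH ih
      rw [show c * (s * t * d * (s * t)⁻¹) * c⁻¹ = c * (s * (t * d * t⁻¹) * s⁻¹) * c⁻¹ by group]
      have hsB : s * (t * d * t⁻¹) * s⁻¹ ∈ B := by
        rw [eB]
        exact ⟨s * t, mul_mem hs.2 htH, by group⟩
      obtain ⟨b, eb⟩ : ∃ b, b = t * d * t⁻¹ := ⟨_, rfl⟩
      have hbD : b ∈ D := eb ▸ conj_mem hD t hd
      rw [← eb] at ih hsB ⊢
      by_cases hsb : Commute s b
      · rw [hsb.eq, mul_inv_cancel_right]; exact ih
      have hbr := ThreeTrans.braid hD.1 hs.1 hbD hsb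
      refine hjoin _ (conj_mem hD c (hBD _ hsB)) (hH' _ hsB) _ ih fun h' => hsb ?_
      have h'' : Commute (b * s * b) b := by
        have := h'.map (MulAut.conj c⁻¹)
        rw [← hbr]
        simpa [MulAut.conj_apply, mul_assoc, ThreeTrans.inv_eq hD.1 hs.1] using this
      have h3 := h''.map (MulAut.conj b)
      simp only [MulAut.conj_apply, mul_inv_cancel_right] at h3
      rwa [show b * (b * s * b) * b⁻¹ = (b * b) * s * (b * b⁻¹) by group, mul_inv_cancel,
        ThreeTrans.mul_self hD.1 hbD, one_mul, mul_one] at h3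
    have hsub : ∀ h ∈ H, c * (h * d * h⁻¹) * c⁻¹ ∈ B := by
      intro h hh
      rw [← hH] at hh
      induction hh using Subgroup.closure_induction_left with
      | one => rw [one_mul, inv_one, mul_one, hc.eq, mul_inv_cancel_right]; exact hdB
      | inv_mul_cancel s hs t ht ih =>
        rw [ThreeTrans.inv_eq hD.1 hs.1]
        exact step s hs t (hH ▸ ht) ih
      | mul_left s hs t ht ih => exact step s hs t (hH ▸ ht) ih
    have hsurj : ∀ u ∈ B, ∃ b ∈ B, c * b * c⁻¹ = u := by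
      have hf : Set.MapsTo (fun b => c * b * c⁻¹) B B := fun b hb => by
        rw [eB] at hb
        obtain ⟨h, hh, rfl⟩ := hb
        exact hsub h hh
      exact (((Set.toFinite B).injOn_iff_bijOn_of_mapsTo hf).mp
          (fun _ _ _ _ e => mul_right_injective c (mul_left_injective c⁻¹ e))).surjOn
    obtain ⟨b, hb, e'⟩ := hsurj _ hu
    rwa [← mul_right_injective c (mul_left_injective c⁻¹ e')]
  obtain ⟨P, eP⟩ : ∃ P : Subgroup G, P = Subgroup.closure {y | y ∈ D ∧ ∀ x ∈ X, Commute y x} := ⟨_, rfl⟩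
  have hPX : ∀ p ∈ P, ∀ x ∈ X, Commute p x := fun p hp x hx => by
    have : P ≤ Subgroup.centralizer ({x} : Set G) := by
      rw [eP]
      exact (Subgroup.closure_le _).mpr fun y hy => Subgroup.mem_centralizer_singleton_iff.mpr (hy.2 x hx).eq
    exact Subgroup.mem_centralizer_singleton_iff.mp (this hp)
  have hPc : ∀ c : G, Commute c d → ∀ p ∈ P, c * p * c⁻¹ ∈ P := by
    intro c hc p hp
    rw [eP] at hp ⊢
    induction hp using Subgroup.closure_induction with
    | mem y hy =>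
      refine Subgroup.subset_closure ⟨conj_mem hD c hy.1, fun x hx => ?_⟩
      have := (hy.2 _ (hXinv c⁻¹ hc.inv_left x hx)).map (MulAut.conj c)
      simpa [MulAut.conj_apply, mul_assoc] using this
    | one => simp
    | mul a b _ _ ha hb => rw [show c * (a * b) * c⁻¹ = c * a * c⁻¹ * (c * b * c⁻¹) by group]; exact mul_mem ha hb
    | inv a _ ha => rw [show c * a⁻¹ * c⁻¹ = (c * a * c⁻¹)⁻¹ by group]; exact inv_mem ha
  have heB : e ∈ B := hjoin e he heH d hdB fun h => hde h.symm
  have heP : e ∈ P := by rw [eP]; exact Subgroup.subset_closure ⟨he, fun x hx => (hXB x hx e heB).symm⟩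
  have hall := prim_elim hp (B := {y | ∃ p ∈ P, p * d * p⁻¹ = y}) (fun _ ⟨p, _, e'⟩ => e' ▸ conj_mem hD p hd)
    ⟨d, ⟨1, one_mem P, by group⟩, e * d * e⁻¹, ⟨e, heP, rfl⟩, fun h => hde (mul_inv_eq_iff_eq_mul.mp h.symm).symm⟩ (by
      rintro g _ ⟨p, hp, rfl⟩ ⟨q, hq, e'⟩ _ ⟨p', hp', rfl⟩
      obtain ⟨c, ec⟩ : ∃ c, c = q⁻¹ * g * p := ⟨_, rfl⟩
      have hc : Commute c d := by
        refine mul_inv_eq_iff_eq_mul.mp ?_
        rw [ec, show q⁻¹ * g * p * d * (q⁻¹ * g * p)⁻¹ = q⁻¹ * (g * (p * d * p⁻¹) * g⁻¹) * q by group, ← e']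
        group
      refine ⟨q * (c * (p⁻¹ * p') * c⁻¹), mul_mem hq (hPc c hc _ (mul_mem (inv_mem hp) hp')), ?_⟩
      calc q * (c * (p⁻¹ * p') * c⁻¹) * d * (q * (c * (p⁻¹ * p') * c⁻¹))⁻¹
          = q * c * (p⁻¹ * p') * (c⁻¹ * d * c) * (q * c * (p⁻¹ * p'))⁻¹ := by group
        _ = q * c * (p⁻¹ * p') * d * (q * c * (p⁻¹ * p'))⁻¹ := by rw [mul_assoc c⁻¹, ← hc.eq, inv_mul_cancel_left]
        _ = g * (p' * d * p'⁻¹) * g⁻¹ := by rw [ec]; group)
  refine not_mem_center hD hp.2.1 hx0 (mem_center_of hD.2.2 fun y hy => ?_)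
  have hx0X : x0 ∈ X := by rw [eX]; exact ⟨hx0, hx0H, hx0B⟩
  obtain ⟨p, hp', rfl⟩ := hall.symm.le hy
  exact ((hPX p hp' x0 hx0X).mul_left (hXB x0 hx0X d hdB).symm).mul_left (hPX _ (inv_mem hp') x0 hx0X)

theorem prim_structure (hD : IsThreeTranspositionClass D) (hp : IsPrimitiveUnderConj D)
    (hw : ∃ a ∈ D, ∃ b ∈ D, a ≠ b ∧ Commute a b) :
    ∃ L : Subgroup G, L.Normal ∧ IsQuasisimple L ∧ L.index ≤ 2 ∧
      generalizedFittingSubgroup G = L ⊔ Subgroup.center G := by
  obtain ⟨h2, h3⟩ := pCore_central_of_prim hD hp hw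
  obtain ⟨L, hn, hL, hF⟩ := layer_quasisimple hD hp.2.1 h2 h3
  exact ⟨L, hn, hL, index_le_two_of_connected hD hL (connected_of_prim hD hp hw), hF⟩

theorem primitive_iff (hD : IsThreeTranspositionClass D) (hZ : Subgroup.center G = ⊥)
    (hw : ∃ a ∈ D, ∃ b ∈ D, a ≠ b ∧ Commute a b) :
    (IsSimpleGroup (commutator G) ↔ IsPrimitiveUnderConj D) ∧
      (IsPrimitiveUnderConj D ↔ (pCore 2 G = ⊥ ∧ pCore 3 G = ⊥ ∧ (commutingGraph D).Connected)) := by
  have hD2 : ∃ a ∈ D, ∃ b ∈ D, a ≠ b := by obtain ⟨a, ha, b, hb, h, -⟩ := hw; exact ⟨a, ha, b, hb, h⟩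
  refine ⟨⟨fun hs => ?_, fun hp => ?_⟩, fun hp => ?_, fun ⟨h2, h3, hc⟩ => ?_⟩
  · -- from simplicity
    obtain ⟨a, ha, b, hb, hab, hcom⟩ := hw
    have hsolv : ∀ N : Subgroup G, N.Normal → ¬ commutator G ≤ N → N ≤ ⊥ := by
      intro N hN hle
      haveI := hN
      rcases ((Subgroup.normal_inf_normal N (commutator G)).subgroupOf (commutator G)).eq_bot_or_eq_top with e | e
      · rw [← hZ]
        refine fun x hx => Subgroup.mem_center_iff.mpr fun g => ?_
        have hm : ⁅g, x⁆ ∈ (N ⊓ commutator G : Subgroup G) :=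
          Subgroup.mem_inf.mpr ⟨mul_mem (hN.conj_mem x hx g) (inv_mem hx),
            by rw [commutator_def]; exact Subgroup.commutator_mem_commutator (Subgroup.mem_top g) (Subgroup.mem_top x)⟩
        rw [Subgroup.subgroupOf_eq_bot, disjoint_iff, inf_assoc, inf_idem] at e
        rw [e, Subgroup.mem_bot] at hm
        exact commutatorElement_eq_one_iff_mul_comm.mp hm
      · exact absurd ((Subgroup.subgroupOf_eq_top.mp e).trans inf_le_left) hle
    have hmemc : ∀ g : G, a * (g * a * g⁻¹) ∈ commutator G := fun g => by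
      have h1 := Subgroup.commutator_mem_commutator (Subgroup.mem_top a) (Subgroup.mem_top g)
      rw [commutator_def]
      rwa [commutatorElement_def, show a * g * a⁻¹ * g⁻¹ = a * (g * a⁻¹ * g⁻¹) by group, ThreeTrans.inv_eq hD.1 ha] at h1
    have hnot2 : ¬ commutator G ≤ pCore 2 G := fun h => not_mem_center hD hD2 ha (mem_center_of hD.2.2 fun y hy => by
      obtain ⟨g, rfl⟩ := exists_conj hD ha hy
      haveI : Fact (Nat.Prime 2) := ⟨Nat.prime_two⟩
      obtain ⟨k, hk⟩ := Grp.pCore_isPGroup (p := 2) (G := G) ⟨_, h (hmemc g)⟩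
      rcases hD.1.2 a ha _ (conj_mem hD g ha) with e | e
      · exact (commute_of_sq hD.1 ha (conj_mem hD g ha) e).symm
      · have h1 := eq_one_of_coprime (Nat.Coprime.pow_right k (by norm_num : Nat.Coprime 3 2)) e (congrArg Subtype.val hk)
        rw [(eq_inv_of_mul_eq_one_right h1).trans (ThreeTrans.inv_eq hD.1 ha)])
    have hnot3 : ¬ commutator G ≤ pCore 3 G := fun h => hab (by
      obtain ⟨g, hg⟩ := exists_conj hD ha hb
      obtain ⟨k, hk⟩ := Grp.pCore_isPGroup (p := 3) (G := G) ⟨_, hg ▸ h (hmemc g)⟩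
      have h2 : (a * b) ^ 2 = 1 := by
        rw [hcom.mul_pow, pow_two, pow_two, ThreeTrans.mul_self hD.1 ha, ThreeTrans.mul_self hD.1 hb, one_mul]
      exact (eq_inv_of_mul_eq_one_left (eq_one_of_coprime (Nat.Coprime.pow_right k (by norm_num : Nat.Coprime 2 3)) h2
        (congrArg Subtype.val hk))).trans (ThreeTrans.inv_eq hD.1 hb))
    have h2 : pCore 2 G ≤ Subgroup.center G := (hsolv _ Grp.pCore_isNormal hnot2).trans bot_le
    have h3 : pCore 3 G ≤ Subgroup.center G := (hsolv _ Grp.pCore_isNormal hnot3).trans bot_le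
    obtain ⟨L, hn, hL, -⟩ := layer_quasisimple hD hD2 h2 h3
    have hLG : L ≤ commutator G := by
      rw [← perfect_of_quasisimple hL, commutator_def]
      exact Subgroup.commutator_mono le_top le_top
    have hGL : commutator G ≤ L := by
      rcases (hn.subgroupOf (commutator G)).eq_bot_or_eq_top with e | e
      · rw [Subgroup.subgroupOf_eq_bot, disjoint_iff, inf_eq_left.mpr hLG] at e
        haveI := Grp.IsQuasisimple.nontrivial hL
        exact absurd e ((Subgroup.nontrivial_iff_ne_bot L).mp inferInstance)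
      · exact Subgroup.subgroupOf_eq_top.mp e
    refine primitive_of_index hD hD2 h2 h3 hL (index_le_two hD L ha fun d hd => ?_)
    obtain ⟨g, rfl⟩ := exists_conj hD ha hd
    rw [ThreeTrans.inv_eq hD.1 ha]
    exact hGL (hmemc g)
  · obtain ⟨L, hn, hL, hi, -⟩ := prim_structure hD hp hw
    obtain ⟨h2, h3⟩ := pCore_central_of_prim hD hp hw
    have hLG : commutator G = L := by
      refine le_antisymm ?_ ?_
      · by_cases htop : L = ⊤
        · rw [htop]; exact le_top
        have h1 : L.index ≠ 0 := Subgroup.index_ne_zero_of_finite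
        have h1' : L.index ≠ 1 := fun e => htop (Subgroup.index_eq_one.mp e)
        haveI : Fact (Nat.Prime 2) := ⟨Nat.prime_two⟩
        haveI : IsCyclic (G ⧸ L) := isCyclic_of_prime_card (p := 2) (show Nat.card (G ⧸ L) = 2 by
          rw [← Subgroup.index_eq_card]; omega)
        exact Subgroup.Normal.quotient_commutative_iff_commutator_le.mp
          IsCyclic.isMulCommutative
      · rw [← perfect_of_quasisimple hL, commutator_def]
        exact Subgroup.commutator_mono le_top le_top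
    rw [hLG]
    have hc : Subgroup.center L = ⊥ := by
      rw [eq_bot_iff]
      intro z hz
      haveI : IsMulCommutative ((L ⊓ Subgroup.centralizer (L : Set G)) : Subgroup G) :=
        ⟨⟨fun x y => Subtype.ext (Subgroup.mem_centralizer_iff.mp y.2.2 x x.2.1)⟩⟩
      have h1 : (z : G) ∈ fittingSubgroup G := Grp.le_fittingSubgroup
        (inferInstance : (L ⊓ Subgroup.centralizer (L : Set G)).Normal) (by open scoped IsMulCommutative in infer_instance)
        ⟨z.2, Subgroup.mem_centralizer_iff.mpr fun l hl => congrArg Subtype.val (Subgroup.mem_center_iff.mp hz ⟨l, hl⟩)⟩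
      have h4 := fitting_le_center hD h2 h3 h1
      rw [hZ, Subgroup.mem_bot] at h4
      exact Subgroup.mem_bot.mpr (Subtype.ext h4)
    exact MulEquiv.isSimpleGroup_congr ((QuotientGroup.quotientMulEquivOfEq hc).trans QuotientGroup.quotientBot) |>.mp hL.2
  · obtain ⟨h2, h3⟩ := pCore_central_of_prim hD hp hw
    exact ⟨le_bot_iff.mp (h2.trans hZ.le), le_bot_iff.mp (h3.trans hZ.le), connected_of_prim hD hp hw⟩
  · have h2' : pCore 2 G ≤ Subgroup.center G := by rw [h2]; exact bot_le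
    have h3' : pCore 3 G ≤ Subgroup.center G := by rw [h3]; exact bot_le
    obtain ⟨L, hn, hL, -⟩ := layer_quasisimple hD hD2 h2' h3'
    exact primitive_of_index hD hD2 h2' h3' hL (index_le_two_of_connected hD hL hc)

end Cfsg.Agent.Spor.FischerStr
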