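import Cfsg.Agent.Lib.Spor.ReflectionClassThree
import Cfsg.Agent.Lib.Spor.FischerPrimitive
import Cfsg.Agent.Lib.Spor.ThreeTransPerp

/-! Structure of the groups generated by reflections of fixed norm over the field of three elements. -/

set_option autoImplicit false
set_option linter.style.haveILetI false

namespace Cfsg.Agent.Spor.ReflThree

open Matrix Cfsg
open scoped commutatorElement

theorem commutator_eq_of_index {G : Type*} [Group G] [Finite G] {L : Subgroup G} [L.Normal]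
    (hL : IsQuasisimple L) (hi : L.index ≤ 2) : commutator G = L := by
  refine le_antisymm ?_ ?_
  · by_cases htop : L = ⊤
    · rw [htop]; exact le_top
    have h1 : L.index ≠ 0 := Subgroup.index_ne_zero_of_finite
    have h1' : L.index ≠ 1 := fun e => htop (Subgroup.index_eq_one.mp e)
    haveI : Fact (Nat.Prime 2) := ⟨Nat.prime_two⟩
    haveI : IsCyclic (G ⧸ L) := isCyclic_of_prime_card (p := 2) (show Nat.card (G ⧸ L) = 2 by
      rw [← Subgroup.index_eq_card]; omega)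
    exact Subgroup.Normal.quotient_commutative_iff_commutator_le.mp IsCyclic.isMulCommutative
  · rw [← FischerStr.perfect_of_quasisimple hL, commutator_def]
    exact Subgroup.commutator_mono le_top le_top

theorem structure_of_connected {G : Type*} [Group G] [Finite G] {D : Set G} (hD : IsThreeTranspositionClass D)
    (hD2 : ∃ a ∈ D, ∃ b ∈ D, a ≠ b) (h2 : pCore 2 G ≤ Subgroup.center G) (h3 : pCore 3 G ≤ Subgroup.center G)
    (hc : (commutingGraph D).Connected) :
    IsQuasisimple (commutator G) ∧ (commutator G).index ≤ 2 ∧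
      generalizedFittingSubgroup G = Subgroup.center G ⊔ commutator G ∧ IsPrimitiveUnderConj D := by
  obtain ⟨L, hn, hL, hF⟩ := FischerStr.layer_quasisimple hD hD2 h2 h3
  have hi := FischerStr.index_le_two_of_connected hD hL hc
  refine ⟨?_, ?_, ?_, FischerStr.primitive_of_index hD hD2 h2 h3 hL hi⟩ <;> rw [commutator_eq_of_index hL hi]
  · exact hL
  · exact hi
  · rw [hF, sup_comm]

variable {n : ℕ} {Q : QuadraticForm (ZMod 3) (Fin n → ZMod 3)}

theorem exists_norm_perp (hQ : (QuadraticMap.polarBilin Q).Nondegenerate) {c : ZMod 3} (hc : c ≠ 0) {k : ℕ}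
    (hk : k + 1 < n) (e : Fin k → Fin n → ZMod 3) (he : ∀ i, Q (e i) ≠ 0)
    (hperp : ∀ i j, i ≠ j → QuadraticMap.polar ⇑Q (e i) (e j) = 0) :
    ∃ w, Q w = c ∧ ∀ i, QuadraticMap.polar ⇑Q (e i) w = 0 := by
  have h2 : (2 : ZMod 3) ≠ 0 := by decide
  obtain ⟨z, hz, hzp⟩ := exists_perp Q h2 hQ (k := k) (by rw [Fintype.card_fin]; omega) e he hperp
  by_cases e1 : Q z = c
  · exact ⟨z, e1, hzp⟩
  obtain ⟨z', hz', hzp'⟩ := exists_perp Q h2 hQ (k := k + 1) (by rw [Fintype.card_fin]; omega) (Fin.snoc e z)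
    (fun i => by refine Fin.lastCases ?_ (fun i => ?_) i <;> simp [he, hz]) (fun i j hij => by
      revert hij
      refine Fin.lastCases ?_ (fun i => ?_) i <;> refine Fin.lastCases ?_ (fun j => ?_) j <;> intro hij <;>
        simp_all [QuadraticMap.polar_comm ⇑Q z])
  have hcase : ∀ p q c : ZMod 3, p ≠ 0 → q ≠ 0 → c ≠ 0 → p ≠ c → q = c ∨ p + q + 0 = c := by decide
  have hzz : QuadraticMap.polar ⇑Q z z' = 0 := by simpa using hzp' (Fin.last k)
  have hep : ∀ i, QuadraticMap.polar ⇑Q (e i) z' = 0 := fun i => by simpa using hzp' i.castSucc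
  rcases hcase _ _ c hz hz' hc e1 with e2 | e2
  · exact ⟨z', e2, hep⟩
  · exact ⟨z + z', by rw [QuadraticMap.map_add ⇑Q, hzz, e2],
      fun i => by rw [QuadraticMap.polar_add_right, hzp i, hep i, add_zero]⟩

theorem radical_of_plane {c : ZMod 3} (hc : c ≠ 0) {u v : Fin n → ZMod 3} (hu : Q u = c) (hv : Q v = c)
    (hb : QuadraticMap.polar ⇑Q u v ≠ 0) :
    ∃ l : ZMod 3, Q (v - l • u) = 0 ∧ QuadraticMap.polar ⇑Q u (v - l • u) = 0 := by
  have key : ∀ b c : ZMod 3, b ≠ 0 → c ≠ 0 → c + -(2 * c * b) * -(2 * c * b) * c + -(2 * c * b) * b = 0 ∧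
      b + -(2 * c * b) * (c + c) = 0 := by decide
  obtain ⟨k1, k2⟩ := key _ c hb hc
  refine ⟨2 * c * QuadraticMap.polar ⇑Q u v, ?_, ?_⟩
  · rw [sub_eq_add_neg, ← neg_smul, QuadraticMap.map_add ⇑Q, QuadraticMap.map_smul, hv, hu, QuadraticMap.polar_smul_right,
      QuadraticMap.polar_comm ⇑Q v u, smul_eq_mul, smul_eq_mul, k1]
  · rw [sub_eq_add_neg, ← neg_smul, QuadraticMap.polar_add_right, QuadraticMap.polar_smul_right, QuadraticMap.polar_self,
      hu, two_smul, smul_eq_mul, k2]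

theorem exists_partner (hQ : (QuadraticMap.polarBilin Q).Nondegenerate) {c : ZMod 3} (hc : c ≠ 0)
    {u r : Fin n → ZMod 3} (hu : Q u = c) (hur : QuadraticMap.polar ⇑Q u r = 0) (hr : r ≠ 0) :
    ∃ s, QuadraticMap.polar ⇑Q u s = 0 ∧ QuadraticMap.polar ⇑Q r s = 1 := by
  obtain ⟨s, hs⟩ : ∃ s, QuadraticMap.polar ⇑Q r s ≠ 0 := by
    by_contra hcon
    simp only [not_exists, not_not] at hcon
    exact hr (hQ.1 r hcon)
  obtain ⟨t, ht⟩ : ∃ t, QuadraticMap.polar ⇑Q r t = 1 :=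
    ⟨(QuadraticMap.polar ⇑Q r s)⁻¹ • s, by rw [QuadraticMap.polar_smul_right, smul_eq_mul, inv_mul_cancel₀ hs]⟩
  have key : ∀ p c : ZMod 3, c ≠ 0 → p + -(2 * c * p) * (c + c) = 0 := by decide
  refine ⟨t + -(2 * c * QuadraticMap.polar ⇑Q u t) • u, ?_, ?_⟩
  · rw [QuadraticMap.polar_add_right, QuadraticMap.polar_smul_right, QuadraticMap.polar_self, hu, two_smul,
      smul_eq_mul, key _ c hc]
  · rw [QuadraticMap.polar_add_right, QuadraticMap.polar_smul_right, QuadraticMap.polar_comm ⇑Q r u, hur, ht,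
      smul_zero, add_zero]

/-- A vector of the given norm orthogonal to the first and not to the second. -/
theorem exists_sep (hQ : (QuadraticMap.polarBilin Q).Nondegenerate) (hn : 5 ≤ n) {c : ZMod 3} (hc : c ≠ 0)
    {u v : Fin n → ZMod 3} (hu : Q u = c) (hv : Q v = c) (h1 : v ≠ u) (h1' : v ≠ -u) :
    ∃ w, Q w = c ∧ QuadraticMap.polar ⇑Q u w = 0 ∧ QuadraticMap.polar ⇑Q v w ≠ 0 ∧ w ≠ v ∧ w ≠ -v := by
  have hu0 : Q u ≠ 0 := hu ▸ hc
  have hv0 : Q v ≠ 0 := hv ▸ hc
  have two : ∀ c : ZMod 3, c ≠ 0 → c + c ≠ 0 := by decide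
  by_cases hb : QuadraticMap.polar ⇑Q u v = 0
  · obtain ⟨z1, hz1, hp1⟩ := exists_norm_perp hQ (one_ne_zero (α := ZMod 3)) (k := 2) (by omega) ![u, v]
      (fun i => by fin_cases i <;> assumption) (fun i j hij => by
        have hB' : QuadraticMap.polar ⇑Q v u = 0 := by rw [QuadraticMap.polar_comm]; exact hb
        fin_cases i <;> fin_cases j <;> first | exact absurd rfl hij | exact hb | exact hB')
    have p2 : QuadraticMap.polar ⇑Q u z1 = 0 := hp1 0
    have p3 : QuadraticMap.polar ⇑Q v z1 = 0 := hp1 1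
    have hz10 : Q z1 ≠ 0 := hz1 ▸ one_ne_zero
    obtain ⟨z2, hz2, hp2⟩ := exists_norm_perp hQ (show (2 : ZMod 3) ≠ 0 by decide) (k := 3) (by omega) ![u, v, z1]
      (fun i => by fin_cases i <;> assumption) (fun i j hij => by
        have p1 : QuadraticMap.polar ⇑Q v u = 0 := by rw [QuadraticMap.polar_comm]; exact hb
        have p4 : QuadraticMap.polar ⇑Q z1 u = 0 := by rw [QuadraticMap.polar_comm]; exact p2
        have p5 : QuadraticMap.polar ⇑Q z1 v = 0 := by rw [QuadraticMap.polar_comm]; exact p3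
        fin_cases i <;> fin_cases j <;>
          first | exact absurd rfl hij | exact hb | exact p1 | exact p2 | exact p3 | exact p4 | exact p5)
    have q2 : QuadraticMap.polar ⇑Q u z2 = 0 := hp2 0
    have q3 : QuadraticMap.polar ⇑Q v z2 = 0 := hp2 1
    have q4 : QuadraticMap.polar ⇑Q z1 z2 = 0 := hp2 2
    have hz : QuadraticMap.polar ⇑Q z1 (z1 + z2) = 2 := by
      rw [QuadraticMap.polar_add_right, QuadraticMap.polar_self, hz1, q4, add_zero, two_smul, one_add_one_eq_two]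
    refine ⟨v + (z1 + z2), ?_, ?_, ?_, ?_, ?_⟩
    · rw [QuadraticMap.map_add ⇑Q, QuadraticMap.map_add ⇑Q z1 z2, hv, hz1, hz2, q4, QuadraticMap.polar_add_right, p3, q3,
        show (1 : ZMod 3) + 2 + 0 = 0 by decide]
      ring
    · rw [QuadraticMap.polar_add_right, QuadraticMap.polar_add_right, hb, p2, q2]; ring
    · rw [QuadraticMap.polar_add_right, QuadraticMap.polar_add_right, QuadraticMap.polar_self, hv, p3, q3, two_smul,
        add_zero, add_zero]
      exact two c hc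
    · intro h
      rw [add_eq_left] at h
      rw [h, QuadraticMap.polar_zero_right] at hz
      exact (by decide : (0 : ZMod 3) ≠ 2) hz
    · intro h
      have h' := congrArg (QuadraticMap.polar ⇑Q z1) h
      rw [QuadraticMap.polar_add_right, hz, QuadraticMap.polar_neg_right, QuadraticMap.polar_comm ⇑Q z1 v, p3,
        zero_add, neg_zero] at h'
      exact (by decide : (0 : ZMod 3) ≠ 2) h'.symm
  · obtain ⟨l, hr, hur⟩ := radical_of_plane hc hu hv hb
    have hr0 : v - l • u ≠ 0 := fun h => by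
      rw [sub_eq_zero] at h
      have hll : ∀ l c : ZMod 3, c ≠ 0 → l * l * c = c → l = 1 ∨ l = -1 := by decide
      rcases hll l c hc (by conv_rhs => rw [← hv, h, QuadraticMap.map_smul, smul_eq_mul, hu]) with e | e
      · exact h1 (by rw [h, e, one_smul])
      · exact h1' (by rw [h, e, neg_one_smul])
    obtain ⟨s, hus, hrs⟩ := exists_partner hQ hc hu hur hr0
    obtain ⟨r, er⟩ : ∃ r, r = v - l • u := ⟨_, rfl⟩
    rw [← er] at hr hur hrs
    have hw : QuadraticMap.polar ⇑Q u (s + (c - Q s) • r) = 0 := by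
      rw [QuadraticMap.polar_add_right, QuadraticMap.polar_smul_right, hus, hur, smul_zero, add_zero]
    have hvw : QuadraticMap.polar ⇑Q v (s + (c - Q s) • r) ≠ 0 := by
      rw [show v = r + l • u by rw [er]; abel, QuadraticMap.polar_add_left, QuadraticMap.polar_smul_left, hw, smul_zero,
        add_zero, QuadraticMap.polar_add_right, QuadraticMap.polar_smul_right, QuadraticMap.polar_self, hr, smul_zero,
        smul_zero, add_zero, hrs]
      exact one_ne_zero
    refine ⟨s + (c - Q s) • r, ?_, hw, hvw, fun h => hb (h ▸ hw), fun h => hb ?_⟩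
    · rw [QuadraticMap.map_add ⇑Q, QuadraticMap.map_smul, hr, QuadraticMap.polar_smul_right,
        QuadraticMap.polar_comm ⇑Q s r, hrs, smul_zero, smul_eq_mul]
      ring
    · rwa [h, QuadraticMap.polar_neg_right, neg_eq_zero] at hw

/-- A vector of the given norm orthogonal to two non-orthogonal ones. -/
theorem exists_common (hQ : (QuadraticMap.polarBilin Q).Nondegenerate) (hn : 5 ≤ n) {c : ZMod 3} (hc : c ≠ 0)
    {u v : Fin n → ZMod 3} (hu : Q u = c) (hv : Q v = c) (hb : QuadraticMap.polar ⇑Q u v ≠ 0) :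
    ∃ w, Q w = c ∧ QuadraticMap.polar ⇑Q u w = 0 ∧ QuadraticMap.polar ⇑Q v w = 0 := by
  have hu0 : Q u ≠ 0 := hu ▸ hc
  obtain ⟨l, hr, hur⟩ := radical_of_plane hc hu hv hb
  obtain ⟨r, er⟩ : ∃ r, r = v - l • u := ⟨_, rfl⟩
  rw [← er] at hr hur
  have hvr : v = r + l • u := by rw [er]; abel
  by_cases hr0 : r = 0
  · obtain ⟨w, hw, hp⟩ := exists_norm_perp hQ hc (k := 1) (by omega) (fun _ => u) (fun _ => hu0)
      (fun i j h => absurd (Subsingleton.elim i j) h)
    exact ⟨w, hw, hp 0, by rw [hvr, hr0, zero_add, QuadraticMap.polar_smul_left, hp 0, smul_zero]⟩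
  obtain ⟨x, hx, hux, hrx⟩ : ∃ x, Q x ≠ 0 ∧ QuadraticMap.polar ⇑Q u x = 0 ∧ QuadraticMap.polar ⇑Q r x = 1 := by
    obtain ⟨s, hus, hrs⟩ := exists_partner hQ hc hu hur hr0
    by_cases hs : Q s = 0
    · refine ⟨s + r, ?_, by rw [QuadraticMap.polar_add_right, hus, hur, add_zero], ?_⟩
      · rw [QuadraticMap.map_add ⇑Q, hs, hr, QuadraticMap.polar_comm, hrs]; decide
      · rw [QuadraticMap.polar_add_right, hrs, QuadraticMap.polar_self, hr, smul_zero, add_zero]
    · exact ⟨s, hs, hus, hrs⟩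
  have key : ∀ q : ZMod 3, q ≠ 0 → 0 + -(2 * q) * -(2 * q) * q + -(2 * q) * 1 ≠ 0 ∧
      1 + -(2 * q) * (q + q) = 0 := by decide
  obtain ⟨t, et⟩ : ∃ t, t = -(2 * Q x) := ⟨_, rfl⟩
  obtain ⟨k1, k2⟩ := key _ hx
  rw [← et] at k1 k2
  have hy : Q (r + t • x) ≠ 0 := by
    rw [QuadraticMap.map_add ⇑Q, QuadraticMap.map_smul, hr, QuadraticMap.polar_smul_right, hrx, smul_eq_mul, smul_eq_mul]
    exact k1
  have hxy : QuadraticMap.polar ⇑Q x (r + t • x) = 0 := by
    rw [QuadraticMap.polar_add_right, QuadraticMap.polar_comm ⇑Q x r, hrx, QuadraticMap.polar_smul_right,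
      QuadraticMap.polar_self, two_smul, smul_eq_mul, k2]
  have huy : QuadraticMap.polar ⇑Q u (r + t • x) = 0 := by
    rw [QuadraticMap.polar_add_right, QuadraticMap.polar_smul_right, hur, hux, smul_zero, add_zero]
  obtain ⟨w, hw, hp⟩ := exists_norm_perp hQ hc (k := 3) (by omega) ![u, x, r + t • x]
    (fun i => by fin_cases i <;> assumption) (fun i j hij => by
      have p1 : QuadraticMap.polar ⇑Q x u = 0 := by rw [QuadraticMap.polar_comm]; exact hux
      have p4 : QuadraticMap.polar ⇑Q (r + t • x) u = 0 := by rw [QuadraticMap.polar_comm]; exact huy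
      have p5 : QuadraticMap.polar ⇑Q (r + t • x) x = 0 := by rw [QuadraticMap.polar_comm]; exact hxy
      fin_cases i <;> fin_cases j <;>
        first | exact absurd rfl hij | exact hux | exact p1 | exact huy | exact hxy | exact p4 | exact p5)
  have w1 : QuadraticMap.polar ⇑Q u w = 0 := hp 0
  have w2 : QuadraticMap.polar ⇑Q x w = 0 := hp 1
  have w3 : QuadraticMap.polar ⇑Q (r + t • x) w = 0 := hp 2
  rw [QuadraticMap.polar_add_left, QuadraticMap.polar_smul_left, w2, smul_zero, add_zero] at w3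
  exact ⟨w, hw, w1, by rw [hvr, QuadraticMap.polar_add_left, QuadraticMap.polar_smul_left, w3, w1, smul_zero, add_zero]⟩

theorem refl_ne {c : ZMod 3} (hc : c ≠ 0) {u w : Fin n → ZMod 3} (hu : Q u = c)
    (huw : QuadraticMap.polar ⇑Q u w = 0) : reflectionMatrix ⇑Q w ≠ reflectionMatrix ⇑Q u := fun h => by
  have h6 := congrArg (fun M => M *ᵥ u) h
  simp only [Classical.reflectionMatrix_mulVec, QuadraticMap.polar_comm ⇑Q w u, huw, mul_zero, zero_smul, sub_zero,
    QuadraticMap.polar_self, hu, two_smul] at h6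
  rcases smul_eq_zero.mp (sub_eq_self.mp h6.symm) with h7 | h7
  · exact mul_ne_zero (inv_ne_zero hc) ((by decide : ∀ c : ZMod 3, c ≠ 0 → c + c ≠ 0) c hc) h7
  · rw [h7, QuadraticMap.map_zero] at hu; exact hc hu.symm

theorem reflection_structure (hn : 5 ≤ n) (hQ : (QuadraticMap.polarBilin Q).Nondegenerate) {c : ZMod 3} (hc : c ≠ 0) :
    IsQuasisimple (commutator ↥(reflectionSubgroup (⇑Q) c)) ∧ (commutator ↥(reflectionSubgroup (⇑Q) c)).index ≤ 2 ∧
      generalizedFittingSubgroup ↥(reflectionSubgroup (⇑Q) c) =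
        Subgroup.center ↥(reflectionSubgroup (⇑Q) c) ⊔ commutator ↥(reflectionSubgroup (⇑Q) c) ∧
      IsPrimitiveUnderConj {g : ↥(reflectionSubgroup (⇑Q) c) |
        (g : ↥(isometryGroup (ZMod 3) (⇑Q))) ∈ reflectionsOfNorm (⇑Q) c} := by
  classical
  have hD := reflection_class n (by omega) Q hQ c hc
  set D : Set ↥(reflectionSubgroup (⇑Q) c) := {g | (g : ↥(isometryGroup (ZMod 3) (⇑Q))) ∈ reflectionsOfNorm (⇑Q) c}
  have mk : ∀ v, Q v = c → ∃ d ∈ D, (((d : ↥(isometryGroup (ZMod 3) (⇑Q))) : GL (Fin n) (ZMod 3)) : Matrix (Fin n) (Fin n) (ZMod 3)) = reflectionMatrix ⇑Q v := by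
    intro v hv
    have hv0 : Q v ≠ 0 := hv ▸ hc
    let r := Classical.mkIsometry (Q := ⇑Q) (reflectionMatrix ⇑Q v)
      (by rw [Classical.det_reflection Q hv0]; decide) (Classical.reflection_preserves Q hv0)
    have hr : r ∈ reflectionsOfNorm (⇑Q) c := ⟨v, hv, rfl⟩
    exact ⟨⟨r, Subgroup.subset_closure hr⟩, hr, rfl⟩
  have toMat : ∀ a b : ↥(reflectionSubgroup (⇑Q) c),
      (((a : ↥(isometryGroup (ZMod 3) (⇑Q))) : GL (Fin n) (ZMod 3)) : Matrix (Fin n) (Fin n) (ZMod 3)) =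
      (((b : ↥(isometryGroup (ZMod 3) (⇑Q))) : GL (Fin n) (ZMod 3)) : Matrix (Fin n) (Fin n) (ZMod 3)) → a = b := fun a b e =>
    Subtype.ext (Subtype.ext (Units.ext e))
  have same : ∀ u v : Fin n → ZMod 3, v = u ∨ v = -u → reflectionMatrix ⇑Q v = reflectionMatrix ⇑Q u := by
    rintro u v (rfl | rfl)
    · rfl
    · rw [← neg_one_smul (ZMod 3) u, reflection_smul Q (by decide)]
  have hcomm : ∀ (a b : ↥(reflectionSubgroup (⇑Q) c)) (u v : Fin n → ZMod 3), Q u = c → Q v = c →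
      (((a : ↥(isometryGroup (ZMod 3) (⇑Q))) : GL (Fin n) (ZMod 3)) : Matrix (Fin n) (Fin n) (ZMod 3)) = reflectionMatrix ⇑Q u →
      (((b : ↥(isometryGroup (ZMod 3) (⇑Q))) : GL (Fin n) (ZMod 3)) : Matrix (Fin n) (Fin n) (ZMod 3)) = reflectionMatrix ⇑Q v →
      v ≠ u → v ≠ -u → (Commute a b ↔ QuadraticMap.polar ⇑Q u v = 0) := by
    intro a b u v hu hv ea eb h1 h1'
    rw [← S5358.result n Q hQ u v (hu ▸ hc) (hu.trans hv.symm) h1 h1', ← ea, ← eb]
    exact ⟨fun e => congrArg (fun z : ↥(reflectionSubgroup (⇑Q) c) =>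
      (((z : ↥(isometryGroup (ZMod 3) (⇑Q))) : GL (Fin n) (ZMod 3)) : Matrix (Fin n) (Fin n) (ZMod 3))) e, fun e => toMat _ _ e⟩
  have sep : ∀ a ∈ D, ∀ b ∈ D, a ≠ b → ∃ e ∈ D, e ≠ b ∧ e ≠ a ∧ Commute a e ∧ ¬ Commute b e := by
    rintro a ⟨u, hu, ea⟩ b ⟨v, hv, eb⟩ hab
    have h1 : v ≠ u ∧ v ≠ -u := not_or.mp fun h => hab (toMat _ _ (by rw [ea, eb, same u v h]))
    obtain ⟨w, hw, h3, h4, h5, h5'⟩ := exists_sep hQ hn hc hu hv h1.1 h1.2
    obtain ⟨e, he, ee⟩ := mk w hw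
    have two : ∀ c : ZMod 3, c ≠ 0 → c + c ≠ 0 := by decide
    have hwu : w ≠ u ∧ w ≠ -u := by
      constructor <;> rintro rfl
      · rw [QuadraticMap.polar_self, hu, two_smul] at h3; exact two c hc h3
      · rw [QuadraticMap.polar_neg_right, QuadraticMap.polar_self, hu, two_smul, neg_eq_zero] at h3; exact two c hc h3
    have hbe : ¬ Commute b e := fun h => h4 ((hcomm b e v w hv hw eb ee h5 h5').mp h)
    exact ⟨e, he, fun h => hbe (h ▸ Commute.refl b), (fun h => by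
      subst h
      exact refl_ne hc hu h3 (ee.symm.trans ea)),
      (hcomm a e u w hu hw ea ee hwu.1 hwu.2).mpr h3, hbe⟩
  obtain ⟨a, ha, -⟩ := hD.2.1
  have hD2 : ∃ a ∈ D, ∃ b ∈ D, a ≠ b := by
    obtain ⟨u, hu, ea⟩ := ha
    obtain ⟨w, hw, hp⟩ := exists_norm_perp hQ hc (k := 1) (by omega) (fun _ => u) (fun _ => hu ▸ hc)
      (fun i j h => absurd (Subsingleton.elim i j) h)
    obtain ⟨e, he, ee⟩ := mk w hw
    refine ⟨a, ⟨u, hu, ea⟩, e, he, fun h => ?_⟩
    subst h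
    exact refl_ne hc hu (hp 0) (ee.symm.trans ea)
  have h2 : pCore 2 ↥(reflectionSubgroup (⇑Q) c) ≤ Subgroup.center _ := by
    by_contra h
    haveI : (pCore 2 ↥(reflectionSubgroup (⇑Q) c)).Normal := Grp.pCore_isNormal
    obtain ⟨g, hg, hne⟩ := FischerStr.exists_moved hD h ha
    obtain ⟨e, he, -, -, hc1, hc2⟩ := sep a ha _ (FischerStr.conj_mem hD g ha) hne.symm
    exact hc2 (((ThreeTrans.perpTwo_of_core hD ha (FischerStr.conj_mem hD g ha)
      (FischerStr.mul_conj_mem hD.1 _ ha hg)).2.2 e he).mp hc1)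
  have h3 : pCore 3 ↥(reflectionSubgroup (⇑Q) c) ≤ Subgroup.center _ := by
    by_contra h
    haveI : (pCore 3 ↥(reflectionSubgroup (⇑Q) c)).Normal := Grp.pCore_isNormal
    obtain ⟨g, hg, hne⟩ := FischerStr.exists_moved hD h ha
    obtain ⟨e, he, -, hea, hc1, hc2⟩ := sep a ha _ (FischerStr.conj_mem hD g ha) hne.symm
    exact hc2 ((Set.ext_iff.mp (ThreeTrans.perpThree_of_core hD ha (FischerStr.conj_mem hD g ha)
      (FischerStr.mul_conj_mem hD.1 _ ha hg)).2.2 e).mp ⟨he, hea, hc1⟩).2.2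
  refine structure_of_connected hD hD2 h2 h3 ?_
  haveI : Nonempty D := ⟨⟨a, ha⟩⟩
  refine ⟨fun x y => ?_⟩
  have adj : ∀ p q : D, Commute (p : ↥(reflectionSubgroup (⇑Q) c)) q → (commutingGraph D).Reachable p q := fun p q h => by
    by_cases hpq : p = q
    · rw [hpq]
    · exact SimpleGraph.Adj.reachable ((SimpleGraph.fromRel_adj _ _ _).mpr ⟨hpq, Or.inl h⟩)
  by_cases hxy : Commute (x : ↥(reflectionSubgroup (⇑Q) c)) y
  · exact adj x y hxy
  obtain ⟨u, hu, eu⟩ := x.2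
  obtain ⟨v, hv, ev⟩ := y.2
  have hne : v ≠ u ∧ v ≠ -u := not_or.mp fun h => hxy (by
    rw [show (x : ↥(reflectionSubgroup (⇑Q) c)) = y from toMat _ _ (by rw [eu, ev, same u v h])])
  have hb : QuadraticMap.polar ⇑Q u v ≠ 0 := fun h => hxy ((hcomm _ _ u v hu hv eu ev hne.1 hne.2).mpr h)
  obtain ⟨w, hw, w1, w2⟩ := exists_common hQ hn hc hu hv hb
  obtain ⟨e, he, ee⟩ := mk w hw
  have cm : ∀ (p : D) (t : Fin n → ZMod 3), Q t = c →
      ((((p : ↥(reflectionSubgroup (⇑Q) c)) : ↥(isometryGroup (ZMod 3) (⇑Q))) : GL (Fin n) (ZMod 3)) : Matrix (Fin n) (Fin n) (ZMod 3)) = reflectionMatrix ⇑Q t →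
      QuadraticMap.polar ⇑Q t w = 0 → Commute (p : ↥(reflectionSubgroup (⇑Q) c)) e := by
    intro p t ht ep hp
    by_cases h : w = t ∨ w = -t
    · rw [show (p : ↥(reflectionSubgroup (⇑Q) c)) = e from toMat _ _ (by rw [ep, ee, same t w h])]
    · exact (hcomm _ e t w ht hw ep ee (not_or.mp h).1 (not_or.mp h).2).mpr hp
  exact (adj x ⟨e, he⟩ (cm x u hu eu w1)).trans (adj _ y (cm y v hv ev w2).symm)

end Cfsg.Agent.Spor.ReflThree
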