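import Cfsg.Agent.Lib.Fus.PSLSimple
import Cfsg.Agent.Lib.Classical.SLGroup

/-!
A perfect central extension of `PSL₃(4)` with kernel of exponent 2 has kernel of order at most 4.

Commutator identities with a torus element of order 3 show that the preimages of adjacent root
groups in a row or column commute; the transfer into a Sylow 2-subgroup `P` puts the kernel inside
the derived group of `P`, which is generated by four commuting involutions.
-/

set_option autoImplicit false
set_option linter.unusedSectionVars false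
set_option linter.unusedSimpArgs false
set_option linter.style.haveILetI false

open scoped commutatorElement

namespace Cfsg.Agent.Spor.L34

open Matrix

section Gen
variable {E Q : Type*} [Group E] [Group Q] (φ : E →* Q) (hker : φ.ker ≤ Subgroup.center E)
include hker

theorem central_of_eq {x y : E} (h : φ x = φ y) : ∃ z ∈ Subgroup.center E, x = z * y :=
  ⟨x * y⁻¹, hker (by rw [MonoidHom.mem_ker, map_mul, map_inv, h, mul_inv_cancel]), by group⟩

theorem bracket_congr {x x' y y' : E} (hx : φ x = φ x') (hy : φ y = φ y') : ⁅x, y⁆ = ⁅x', y'⁆ := by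
  obtain ⟨z, hz, rfl⟩ := central_of_eq φ hker hx
  obtain ⟨w, hw, rfl⟩ := central_of_eq φ hker hy
  have h1 : ∀ g : E, z * g * z⁻¹ = g := fun g => by
    rw [← Subgroup.mem_center_iff.1 hz g, mul_inv_cancel_right]
  have h2 : ∀ g : E, w * g * w⁻¹ = g := fun g => by
    rw [← Subgroup.mem_center_iff.1 hw g, mul_inv_cancel_right]
  have hzc : ∀ g : E, Commute z g := fun g => (Subgroup.mem_center_iff.1 hz g).symm
  have hwc : ∀ g : E, Commute w g := fun g => (Subgroup.mem_center_iff.1 hw g).symm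
  have e1 : ⁅z * x', w * y'⁆ = z * ⁅x', w * y'⁆ * z⁻¹ * ⁅z, w * y'⁆ := by
    simp only [commutatorElement_def]; group
  have e2 : ⁅x', w * y'⁆ = ⁅x', w⁆ * (w * ⁅x', y'⁆ * w⁻¹) := by
    simp only [commutatorElement_def]; group
  rw [e1, e2, h1, h2, commutatorElement_eq_one_iff_commute.2 (hzc _),
    commutatorElement_eq_one_iff_commute.2 (hwc _).symm, mul_one, one_mul]

theorem commute_bracket {y a b : E} (ha : Commute (φ y) (φ a)) (hb : Commute (φ y) (φ b)) :
    Commute y ⁅a, b⁆ := by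
  have h : ⁅y * a * y⁻¹, y * b * y⁻¹⁆ = ⁅a, b⁆ := bracket_congr φ hker
    (by rw [map_mul, map_mul, map_inv, ha.eq, mul_inv_cancel_right])
    (by rw [map_mul, map_mul, map_inv, hb.eq, mul_inv_cancel_right])
  have h2 : y * ⁅a, b⁆ * y⁻¹ = ⁅a, b⁆ := by
    refine Eq.trans ?_ h
    simp only [commutatorElement_def]; group
  exact mul_inv_eq_iff_eq_mul.1 h2

end Gen

variable {F : Type} [Field F] [Fintype F]

/-- Root elements in `PSL₃`. -/
def tau {i j : Fin 3} (h : i ≠ j) (a : F) : Matrix.ProjectiveSpecialLinearGroup (Fin 3) F :=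
  Classical.slToPSL 3 F (Matrix.SpecialLinearGroup.transvection h a)

theorem tau_add {i j : Fin 3} (h : i ≠ j) (a b : F) : tau h a * tau h b = tau h (a + b) := by
  rw [tau, tau, tau, ← map_mul]
  congr 1
  apply Subtype.ext
  simp [Matrix.SpecialLinearGroup.transvection_coe, mul_add, add_mul, Matrix.single_mul_single_of_ne,
    h.symm, ← Matrix.single_add, add_assoc, add_comm a b]

theorem tau_zero {i j : Fin 3} (h : i ≠ j) : tau h (0 : F) = 1 := by
  have := tau_add h (0 : F) 0
  rw [add_zero] at this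
  exact mul_eq_left.1 this

theorem tau_comm {i j k l : Fin 3} (h : i ≠ j) (h' : k ≠ l) (h1 : j ≠ k) (h2 : l ≠ i) (a b : F) :
    Commute (tau h a) (tau h' b) := by
  show _ = _
  rw [tau, tau, ← map_mul, ← map_mul]
  congr 1
  apply Subtype.ext
  simp [Matrix.SpecialLinearGroup.transvection_coe, Matrix.transvection, mul_add, add_mul,
    Matrix.single_mul_single_of_ne, h1, h2, add_assoc, add_comm, add_left_comm]

theorem tau_inj {i j : Fin 3} (h : i ≠ j) {a b : F} (e : tau h a = tau h b) : a = b := by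
  have h1 : tau h (a - b) = 1 := by
    have := tau_add h (a - b) b
    rw [sub_add_cancel, e] at this
    exact mul_eq_right.1 this
  obtain ⟨c, hc⟩ := (Classical.slToPSL_eq_one_iff _).1 h1
  have := congrFun (congrFun hc i) j
  simp [Matrix.SpecialLinearGroup.transvection_coe, Matrix.transvection, h] at this
  exact sub_eq_zero.1 this

theorem tau_bracket {i j k : Fin 3} (hij : i ≠ j) (hik : i ≠ k) (hkj : k ≠ j) (a : F) :
    ⁅tau hik a, tau hkj (1 : F)⁆ = tau hij a := by
  rw [tau, tau, tau, ← Cfsg.Agent.Classical.transvection_eq_commutator hij hik hkj a, map_commutatorElement]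

theorem tau_bracket' {i j k : Fin 3} (hij : i ≠ j) (hik : i ≠ k) (hkj : k ≠ j) (a : F) :
    ⁅tau hik (1 : F), tau hkj a⁆ = tau hij a := by
  rw [tau, tau, tau, ← map_commutatorElement]
  congr 1
  rw [commutatorElement_def, Matrix.SpecialLinearGroup.transvection_inv,
    Matrix.SpecialLinearGroup.transvection_inv]
  refine Subtype.ext ?_
  simp only [Matrix.SpecialLinearGroup.coe_mul, Matrix.SpecialLinearGroup.transvection_coe]
  simp [Matrix.transvection, mul_add, add_mul, Matrix.single_mul_single_same,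
    Matrix.single_mul_single_of_ne, hij, hij.symm, hik, hik.symm, hkj, hkj.symm]
  ext r s
  simp only [Matrix.add_apply, Matrix.single_apply, Matrix.one_apply, Matrix.neg_apply]
  split_ifs <;> ring

theorem exists_torus (w : F) (hw : w ^ 3 = 1) :
    ∃ T : Matrix.ProjectiveSpecialLinearGroup (Fin 3) F, ∀ (i j : Fin 3) (h : i ≠ j) (a : F),
      T * tau h a * T⁻¹ = tau h (w ^ (i : ℕ) * (w ^ (j : ℕ))⁻¹ * a) := by
  have hp : ∏ i : Fin 3, w ^ (i : ℕ) = 1 := by
    simp [Fin.prod_univ_three]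
    linear_combination hw
  refine ⟨Classical.slToPSL 3 F (Fus.PSLN.diagSL _ hp), fun i j h a => ?_⟩
  rw [tau, tau, mul_inv_eq_iff_eq_mul, ← map_mul, ← map_mul]
  congr 1
  apply Subtype.ext
  have hw0 : w ≠ 0 := fun e => by simp [e] at hw
  simp only [Matrix.SpecialLinearGroup.coe_mul, Matrix.SpecialLinearGroup.transvection_coe,
    Fus.PSLN.coe_diagSL, Matrix.transvection]
  ext r s
  rw [Matrix.diagonal_mul, Matrix.mul_diagonal]
  simp only [Matrix.add_apply, Matrix.single_apply, Matrix.one_apply]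
  split_ifs with h1 h2 h3
  · obtain ⟨rfl, rfl⟩ := h2; exact absurd h1 h
  · subst h1; ring
  · obtain ⟨rfl, rfl⟩ := h3
    field_simp
    ring
  · ring

theorem four_cases (hF : Fintype.card F = 4) {v : F} (hv : v ^ 3 = 1) (hv1 : v ≠ 1) (a : F) :
    a = 0 ∨ a = 1 ∨ a = v ∨ a = v * v := by
  by_cases ha : a = 0
  · exact Or.inl ha
  right
  have h3 : a ^ 3 = 1 := by
    have := FiniteField.pow_card_sub_one_eq_one a ha
    rwa [hF] at this
  have hs : 1 + v + v * v = 0 := by
    have : (v - 1) * (1 + v + v * v) = 0 := by linear_combination hv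
    exact (mul_eq_zero.1 this).resolve_left (sub_ne_zero.2 hv1)
  have h : (a - 1) * ((a - v) * (a - v * v)) = 0 := by
    linear_combination h3 - (a ^ 2) * hs + (a * v) * hs - hv
  rcases mul_eq_zero.1 h with h | h
  · exact Or.inl (sub_eq_zero.1 h)
  rcases mul_eq_zero.1 h with h | h
  · exact Or.inr (Or.inl (sub_eq_zero.1 h))
  · exact Or.inr (Or.inr (sub_eq_zero.1 h))

theorem exists_omega (hF : Fintype.card F = 4) : ∃ w : F, w ^ 3 = 1 ∧ w ≠ 1 ∧ 1 + w + w * w = 0 := by
  obtain ⟨w, hw⟩ : ∃ w : F, w ≠ 0 ∧ w ≠ 1 := by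
    classical
    by_contra hc
    push Not at hc
    have : Fintype.card F ≤ ({0, 1} : Finset F).card := by
      refine Finset.card_le_card fun a _ => ?_
      by_cases ha : a = 0
      · simp [ha]
      · simp [hc a ha]
    have := this.trans Finset.card_le_two
    omega
  have h3 : w ^ 3 = 1 := by
    have := FiniteField.pow_card_sub_one_eq_one w hw.1
    rwa [hF] at this
  refine ⟨w, h3, hw.2, ?_⟩
  have : (w - 1) * (1 + w + w * w) = 0 := by linear_combination h3
  exact (mul_eq_zero.1 this).resolve_left (sub_ne_zero.2 hw.2)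

theorem ratio_ne_one {w : F} (hw : w ^ 3 = 1) (hw1 : w ≠ 1) {i j : Fin 3} (h : i ≠ j) :
    w ^ (i : ℕ) * (w ^ (j : ℕ))⁻¹ ≠ 1 := by
  intro e
  have : Fact (Nat.Prime 3) := ⟨Nat.prime_three⟩
  have hw0 : w ≠ 0 := fun e => by simp [e] at hw
  let u : Fˣ := Units.mk0 w hw0
  have hord : orderOf u = 3 := orderOf_eq_prime (Units.ext hw) (fun e' => hw1 (congrArg Units.val e'))
  rw [← div_eq_mul_inv, div_eq_one_iff_eq (pow_ne_zero _ hw0)] at e
  have e' : u ^ (i : ℕ) = u ^ (j : ℕ) := Units.ext (by simpa [u] using e)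
  exact h (Fin.ext (pow_injOn_Iio_orderOf (by rw [hord]; exact i.isLt) (by rw [hord]; exact j.isLt) e'))

section Ext

variable {E : Type*} [Group E] (φ : E →* Matrix.ProjectiveSpecialLinearGroup (Fin 3) F)
  (hφ : Function.Surjective φ) (hker : φ.ker ≤ Subgroup.center E)
  (hel : ∀ z ∈ φ.ker, z * z = 1) (hF : Fintype.card F = 4)
include hφ hker hel hF

theorem two_eq_zero : (2 : F) = 0 := by
  have h : ringChar F = 2 := by
    obtain ⟨n, hp, hn⟩ := FiniteField.card F (ringChar F)
    have h2 : ringChar F ∣ 2 ^ 2 := by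
      rw [show (2 : ℕ) ^ 2 = ringChar F ^ (n : ℕ) by rw [← hn, hF]; norm_num]
      exact dvd_pow_self _ n.2.ne'
    exact (Nat.prime_dvd_prime_iff_eq hp Nat.prime_two).1 (hp.dvd_of_dvd_pow h2)
  have := ringChar.Nat.cast_ringChar (R := F)
  rw [h] at this
  exact_mod_cast this

theorem comm_self {i j : Fin 3} (h : i ≠ j) {a b : F} {x y : E} (hx : φ x = tau h a)
    (hy : φ y = tau h b) : Commute x y := by
  obtain ⟨k, hki, hkj⟩ : ∃ k : Fin 3, k ≠ i ∧ k ≠ j :=
    (by decide : ∀ i j : Fin 3, ∃ k : Fin 3, k ≠ i ∧ k ≠ j) i j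
  obtain ⟨p, hp⟩ := hφ (tau hki.symm b)
  obtain ⟨q, hq⟩ := hφ (tau hkj (1 : F))
  have h1 : φ y = φ ⁅p, q⁆ := by rw [map_commutatorElement, hp, hq, tau_bracket h hki.symm hkj, hy]
  obtain ⟨z, hz, rfl⟩ := central_of_eq φ hker h1
  refine Commute.mul_right (Subgroup.mem_center_iff.1 hz x) (commute_bracket φ hker ?_ ?_)
  · rw [hx, hp]; exact tau_comm _ _ (Ne.symm h) hki a b
  · rw [hx, hq]; exact tau_comm _ _ hkj.symm (Ne.symm h) a 1

theorem sq_eq_one {i j : Fin 3} (h : i ≠ j) {a : F} {x : E} (hx : φ x = tau h a) : x * x = 1 := by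
  obtain ⟨w, hw, hw1, -⟩ := exists_omega hF
  obtain ⟨T, hT⟩ := exists_torus w hw
  obtain ⟨t, ht⟩ := hφ T
  set v := w ^ (i : ℕ) * (w ^ (j : ℕ))⁻¹ with hv
  have hw0 : w ≠ 0 := fun e => by simp [e] at hw
  have hv1 : v ≠ 1 := ratio_ne_one hw hw1 (by assumption)
  have hv3 : v ^ 3 = 1 := by
    rw [hv, mul_pow, inv_pow, ← pow_mul, ← pow_mul, mul_comm _ 3, pow_mul, hw, one_pow,
      mul_comm _ 3, pow_mul, hw, one_pow]
    simp
  have hsum : a + v * a + v * (v * a) = 0 := by
    have : (v - 1) * (a + v * a + v * (v * a)) = 0 := by linear_combination a * hv3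
    exact (mul_eq_zero.1 this).resolve_left (sub_ne_zero.2 hv1)
  have h2 : ∀ (b : F) (u : E), φ u = tau h b → u * u ∈ φ.ker := fun b u hu => by
    rw [MonoidHom.mem_ker, map_mul, hu, tau_add, show b + b = 0 by
      linear_combination b * two_eq_zero φ hφ hker hel hF, tau_zero]
  have hinv : ∀ (b : F) (u : E), φ u = tau h b →
      φ (t * u * t⁻¹) = tau h (v * b) ∧ (t * u * t⁻¹) * (t * u * t⁻¹) = u * u := by
    intro b u hu
    constructor
    · rw [map_mul, map_mul, map_inv, hu, ht, hT]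
    · rw [show t * u * t⁻¹ * (t * u * t⁻¹) = t * (u * u) * t⁻¹ by group,
        Subgroup.mem_center_iff.1 (hker (h2 b u hu)) t, mul_inv_cancel_right]
  obtain ⟨hy, hy2⟩ := hinv a x hx
  obtain ⟨hz, hz2⟩ := hinv _ _ hy
  set y := t * x * t⁻¹
  set z := t * y * t⁻¹
  have hxy : φ (x * y) = tau h (a + v * a) := by rw [map_mul, hx, hy, tau_add]
  have h0 : x * y * z ∈ φ.ker := by
    rw [MonoidHom.mem_ker, map_mul, hxy, hz, tau_add, hsum, tau_zero]
  have c1 : Commute x y := comm_self φ hφ hker hel hF h hx hy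
  have c2 : Commute (x * y) z := comm_self φ hφ hker hel hF h hxy hz
  have key := hel _ h0
  rw [c2.symm.mul_mul_mul_comm, c1.symm.mul_mul_mul_comm, hz2, hy2] at key
  have h4 := hel _ (h2 a x hx)
  rwa [h4, one_mul] at key

/-- `[x_ik, x_ij] = 1`. -/
theorem comm_row {i j k : Fin 3} (hij : i ≠ j) (hik : i ≠ k) (hkj : k ≠ j) {a b : F} {p x : E}
    (hp : φ p = tau hik a) (hx : φ x = tau hij b) : Commute p x := by
  have one : ∀ (b : F) (p x : E), φ p = tau hik 1 → φ x = tau hij b → Commute p x := by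
    intro b p x hp hx
    obtain ⟨q, hq⟩ := hφ (tau hkj b)
    have h1 : φ x = φ ⁅p, q⁆ := by rw [map_commutatorElement, hp, hq, tau_bracket' hij hik hkj, hx]
    obtain ⟨z, hz, rfl⟩ := central_of_eq φ hker h1
    have hd : φ ⁅p, q⁆ = tau hij b := by rw [map_commutatorElement, hp, hq, tau_bracket' hij hik hkj]
    have hd2 := sq_eq_one φ hφ hker hel hF hij hd
    have hpp := sq_eq_one φ hφ hker hel hF hik hp
    have e : (1 : E) = p * ⁅p, q⁆ * p⁻¹ * ⁅p, q⁆ := by
      calc (1 : E) = ⁅p * p, q⁆ := by rw [hpp]; simp [commutatorElement_def]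
        _ = _ := by simp only [commutatorElement_def]; group
    refine Commute.mul_right (Subgroup.mem_center_iff.1 hz p) ?_
    have e2 : p * ⁅p, q⁆ * p⁻¹ = ⁅p, q⁆ :=
      (mul_eq_one_iff_eq_inv.1 e.symm).trans (inv_eq_of_mul_eq_one_right hd2)
    exact mul_inv_eq_iff_eq_mul.1 e2
  obtain ⟨w, hw, hw1, -⟩ := exists_omega hF
  obtain ⟨T, hT⟩ := exists_torus w hw
  obtain ⟨t, ht⟩ := hφ T
  set v := w ^ (i : ℕ) * (w ^ (k : ℕ))⁻¹ with hv
  set u := w ^ (i : ℕ) * (w ^ (j : ℕ))⁻¹ with hu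
  have hw0 : w ≠ 0 := fun e => by simp [e] at hw
  have hv1 : v ≠ 1 := ratio_ne_one hw hw1 (by assumption)
  have hv3 : v ^ 3 = 1 := by
    rw [hv, mul_pow, inv_pow, ← pow_mul, ← pow_mul, mul_comm _ 3, pow_mul, hw, one_pow,
      mul_comm _ 3, pow_mul, hw, one_pow]
    simp
  have hu0 : u ≠ 0 := mul_ne_zero (pow_ne_zero _ hw0) (inv_ne_zero (pow_ne_zero _ hw0))
  -- transport by the torus
  have step : ∀ a : F, (∀ (b : F) (p x : E), φ p = tau hik a → φ x = tau hij b → Commute p x) →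
      ∀ (b : F) (p x : E), φ p = tau hik (v * a) → φ x = tau hij b → Commute p x := by
    intro a ha b p x hp hx
    obtain ⟨p', hp'⟩ := hφ (tau hik a)
    obtain ⟨x', hx'⟩ := hφ (tau hij (u⁻¹ * b))
    have hc := (ha _ p' x' hp' hx').map (MulAut.conj t).toMonoidHom
    simp only [MulEquiv.coe_toMonoidHom, MulAut.conj_apply] at hc
    have e1 : φ p = φ (t * p' * t⁻¹) := by rw [map_mul, map_mul, map_inv, hp', ht, hT, hp]
    have e2 : φ x = φ (t * x' * t⁻¹) := by
      rw [map_mul, map_mul, map_inv, hx', ht, hT, hx, ← hu, mul_inv_cancel_left₀ hu0]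
    obtain ⟨z₁, hz₁, rfl⟩ := central_of_eq φ hker e1
    obtain ⟨z₂, hz₂, rfl⟩ := central_of_eq φ hker e2
    refine Commute.mul_left (Subgroup.mem_center_iff.1 hz₁ _).symm
      (Commute.mul_right (Subgroup.mem_center_iff.1 hz₂ _) hc)

  rcases four_cases hF hv3 hv1 a with rfl | rfl | rfl | rfl
  · have : p ∈ φ.ker := by rw [MonoidHom.mem_ker, hp, tau_zero]
    exact (Subgroup.mem_center_iff.1 (hker this) x).symm
  · exact one b p x hp hx
  · exact step 1 one b p x (by rw [mul_one]; exact hp) hx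
  · exact step v (fun b p x hp hx => step 1 one b p x (by rw [mul_one]; exact hp) hx) b p x hp hx

/-- `[x_kj, x_ij] = 1`. -/
theorem comm_col {i j k : Fin 3} (hij : i ≠ j) (hik : i ≠ k) (hkj : k ≠ j) {a b : F} {p x : E}
    (hp : φ p = tau hkj a) (hx : φ x = tau hij b) : Commute p x := by
  have one : ∀ (b : F) (p x : E), φ p = tau hkj 1 → φ x = tau hij b → Commute p x := by
    intro b p x hp hx
    obtain ⟨q, hq⟩ := hφ (tau hik b)
    have h1 : φ x = φ ⁅q, p⁆ := by rw [map_commutatorElement, hp, hq, tau_bracket hij hik hkj, hx]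
    obtain ⟨z, hz, rfl⟩ := central_of_eq φ hker h1
    have hd : φ ⁅q, p⁆ = tau hij b := by rw [map_commutatorElement, hp, hq, tau_bracket hij hik hkj]
    have hd2 := sq_eq_one φ hφ hker hel hF hij hd
    have hpp := sq_eq_one φ hφ hker hel hF hkj hp
    have e : (1 : E) = ⁅q, p⁆ * (p * ⁅q, p⁆ * p⁻¹) := by
      calc (1 : E) = ⁅q, p * p⁆ := by rw [hpp]; simp [commutatorElement_def]
        _ = _ := by simp only [commutatorElement_def]; group
    refine Commute.mul_right (Subgroup.mem_center_iff.1 hz p) ?_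
    have e2 : p * ⁅q, p⁆ * p⁻¹ = ⁅q, p⁆ :=
      (inv_eq_of_mul_eq_one_right e.symm).symm.trans (inv_eq_of_mul_eq_one_right hd2)
    exact mul_inv_eq_iff_eq_mul.1 e2
  obtain ⟨w, hw, hw1, -⟩ := exists_omega hF
  obtain ⟨T, hT⟩ := exists_torus w hw
  obtain ⟨t, ht⟩ := hφ T
  set v := w ^ (k : ℕ) * (w ^ (j : ℕ))⁻¹ with hv
  set u := w ^ (i : ℕ) * (w ^ (j : ℕ))⁻¹ with hu
  have hw0 : w ≠ 0 := fun e => by simp [e] at hw
  have hv1 : v ≠ 1 := ratio_ne_one hw hw1 (by assumption)
  have hv3 : v ^ 3 = 1 := by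
    rw [hv, mul_pow, inv_pow, ← pow_mul, ← pow_mul, mul_comm _ 3, pow_mul, hw, one_pow,
      mul_comm _ 3, pow_mul, hw, one_pow]
    simp
  have hu0 : u ≠ 0 := mul_ne_zero (pow_ne_zero _ hw0) (inv_ne_zero (pow_ne_zero _ hw0))
  have step : ∀ a : F, (∀ (b : F) (p x : E), φ p = tau hkj a → φ x = tau hij b → Commute p x) →
      ∀ (b : F) (p x : E), φ p = tau hkj (v * a) → φ x = tau hij b → Commute p x := by
    intro a ha b p x hp hx
    obtain ⟨p', hp'⟩ := hφ (tau hkj a)
    obtain ⟨x', hx'⟩ := hφ (tau hij (u⁻¹ * b))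
    have hc := (ha _ p' x' hp' hx').map (MulAut.conj t).toMonoidHom
    simp only [MulEquiv.coe_toMonoidHom, MulAut.conj_apply] at hc
    have e1 : φ p = φ (t * p' * t⁻¹) := by rw [map_mul, map_mul, map_inv, hp', ht, hT, hp]
    have e2 : φ x = φ (t * x' * t⁻¹) := by
      rw [map_mul, map_mul, map_inv, hx', ht, hT, hx, ← hu, mul_inv_cancel_left₀ hu0]
    obtain ⟨z₁, hz₁, rfl⟩ := central_of_eq φ hker e1
    obtain ⟨z₂, hz₂, rfl⟩ := central_of_eq φ hker e2
    refine Commute.mul_left (Subgroup.mem_center_iff.1 hz₁ _).symm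
      (Commute.mul_right (Subgroup.mem_center_iff.1 hz₂ _) hc)

  rcases four_cases hF hv3 hv1 a with rfl | rfl | rfl | rfl
  · have : p ∈ φ.ker := by rw [MonoidHom.mem_ker, hp, tau_zero]
    exact (Subgroup.mem_center_iff.1 (hker this) x).symm
  · exact one b p x hp hx
  · exact step 1 one b p x (by rw [mul_one]; exact hp) hx
  · exact step v (fun b p x hp hx => step 1 one b p x (by rw [mul_one]; exact hp) hx) b p x hp hx

end Ext

end Cfsg.Agent.Spor.L34

namespace Cfsg.Agent.Spor.L34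

open Matrix

variable {F : Type} [Field F] [Fintype F]

theorem natCard_le_of_gens {K : Type*} [CommGroup K] (g : Fin 4 → K) (h2 : ∀ k, g k * g k = 1)
    (hgen : ∀ x : K, x ∈ Subgroup.closure (Set.range g)) : Nat.card K ≤ 16 := by
  classical
  let f : (Fin 4 → Fin 2) → K := fun e => ∏ k, g k ^ (e k : ℕ)
  have hm : ∀ (n : ℕ) (k : Fin 4), g k ^ n = g k ^ (n % 2) := fun n k => by
    conv_lhs => rw [← Nat.div_add_mod n 2, pow_add, pow_mul, sq, h2, one_pow, one_mul]
  have hf : Function.Surjective f := by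
    intro x
    refine Subgroup.closure_induction (p := fun y _ => ∃ e, f e = y) ?_ ⟨0, ?_⟩ ?_ ?_ (hgen x)
    · rintro y ⟨k, rfl⟩
      refine ⟨Pi.single k 1, ?_⟩
      show ∏ l, g l ^ ((Pi.single k (1 : Fin 2) : Fin 4 → Fin 2) l : ℕ) = g k
      rw [Finset.prod_eq_single k]
      · simp
      · intro l _ hl; simp [hl]
      · simp
    · simp [f]
    · rintro a b _ _ ⟨e, rfl⟩ ⟨e', rfl⟩
      refine ⟨e + e', ?_⟩
      show ∏ l, g l ^ ((e l + e' l : Fin 2) : ℕ) = _
      rw [← Finset.prod_mul_distrib]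
      exact Finset.prod_congr rfl fun l _ => by rw [Fin.val_add, ← hm, pow_add]
    · rintro a _ ⟨e, rfl⟩
      refine ⟨e, (inv_eq_of_mul_eq_one_right ?_).symm⟩
      show (∏ l, g l ^ (e l : ℕ)) * (∏ l, g l ^ (e l : ℕ)) = 1
      rw [← Finset.prod_mul_distrib]
      exact Finset.prod_eq_one fun l _ => by rw [← mul_pow, h2, one_pow]
  refine (Nat.card_le_card_of_surjective f hf).trans ?_
  simp

variable {E : Type*} [Group E] (φ : E →* Matrix.ProjectiveSpecialLinearGroup (Fin 3) F)
  (hφ : Function.Surjective φ) (hker : φ.ker ≤ Subgroup.center E)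
  (hel : ∀ z ∈ φ.ker, z * z = 1) (hF : Fintype.card F = 4)
include hφ hker hel hF

/-- A perfect central extension of `PSL₃(4)` with kernel of exponent two has kernel of order at most 4. -/
theorem natCard_ker_le [Finite E] (hperf : commutator E = ⊤) : Nat.card φ.ker ≤ 4 := by
  classical
  have h01 : (0 : Fin 3) ≠ 1 := by decide
  have h12 : (1 : Fin 3) ≠ 2 := by decide
  have h02 : (0 : Fin 3) ≠ 2 := by decide
  obtain ⟨w, hw, hw1, hws⟩ := exists_omega hF
  have h20 := two_eq_zero φ hφ hker hel hF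
  have four : ∀ a : F, a = 0 ∨ a = 1 ∨ a = w ∨ a = 1 + w := fun a => by
    rcases four_cases hF hw hw1 a with h | h | h | h
    · exact Or.inl h
    · exact Or.inr (Or.inl h)
    · exact Or.inr (Or.inr (Or.inl h))
    · exact Or.inr (Or.inr (Or.inr (by linear_combination h + hws - (1 + w) * h20)))
  choose lift hlift using hφ
  let a₁ := lift (tau h01 (1 : F))
  let a₂ := lift (tau h01 w)
  let b₁ := lift (tau h12 (1 : F))
  let b₂ := lift (tau h12 w)
  let A : Set E := {x | ∃ a, φ x = tau h01 a}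
  let B : Set E := {x | ∃ a, φ x = tau h12 a}
  let C : Set E := {x | ∃ a, φ x = tau h02 a}
  let gens : Fin 4 → E := ![⁅a₁, b₁⁆, ⁅a₂, b₁⁆, ⁅a₁, b₂⁆, ⁅a₂, b₂⁆]
  let K := Subgroup.closure (Set.range gens)
  have br : ∀ (a b : F) (x y : E), φ x = tau h01 a → φ y = tau h12 b → φ ⁅x, y⁆ = tau h02 (a * b) := by
    intro a b x y hx hy
    rw [map_commutatorElement, hx, hy, tau, tau, tau, ← map_commutatorElement]
    congr 1
    rw [commutatorElement_def, Matrix.SpecialLinearGroup.transvection_inv,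
      Matrix.SpecialLinearGroup.transvection_inv]
    refine Subtype.ext ?_
    simp only [Matrix.SpecialLinearGroup.coe_mul, Matrix.SpecialLinearGroup.transvection_coe]
    simp [Matrix.transvection, mul_add, add_mul, Matrix.single_mul_single_same,
      Matrix.single_mul_single_of_ne]
    ext r s
    simp only [Matrix.add_apply, Matrix.single_apply, Matrix.one_apply, Matrix.neg_apply]
    split_ifs <;> ring
  have hcen : ∀ c ∈ C, ∀ y ∈ A ∪ B ∪ C, Commute c y := by
    rintro c ⟨b, hc⟩ y ((⟨a, hy⟩ | ⟨a, hy⟩) | ⟨a, hy⟩)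
    · exact (comm_row φ (fun g => ⟨_, hlift g⟩) hker hel hF h02 h01 h12 hy hc).symm
    · exact (comm_col φ (fun g => ⟨_, hlift g⟩) hker hel hF h02 h01 h12 hy hc).symm
    · exact comm_self φ (fun g => ⟨_, hlift g⟩) hker hel hF h02 hc hy
  have hgC : ∀ k, gens k ∈ C := by
    intro k
    fin_cases k
    exacts [⟨_, br _ _ _ _ (hlift _) (hlift _)⟩, ⟨_, br _ _ _ _ (hlift _) (hlift _)⟩,
      ⟨_, br _ _ _ _ (hlift _) (hlift _)⟩, ⟨_, br _ _ _ _ (hlift _) (hlift _)⟩]
  let S := A ∪ B ∪ C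
  let P := Subgroup.closure S
  have hKC : ∀ x ∈ K, ∀ y ∈ P, Commute x y := by
    intro x hx y hy
    have hx' : ∀ s ∈ S, Commute x s := fun s hs =>
      Subgroup.closure_induction (p := fun z _ => Commute z s)
        (fun z hz => by obtain ⟨k, rfl⟩ := hz; exact hcen _ (hgC k) s hs)
        (Commute.one_left _) (fun _ _ _ _ ha hb => ha.mul_left hb) (fun _ _ ha => ha.inv_left) hx
    exact Subgroup.closure_induction (p := fun z _ => Commute x z) hx'
      (Commute.one_right _) (fun _ _ _ _ ha hb => ha.mul_right hb) (fun _ _ ha => ha.inv_right) hy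
  have hKP : K ≤ P := (Subgroup.closure_le _).2 fun x hx => by
    obtain ⟨k, rfl⟩ := hx
    exact Subgroup.subset_closure (Or.inr (hgC k))
  -- every commutator `[A, B]` lies in `K`
  have hAB : ∀ x ∈ A, ∀ y ∈ B, ⁅x, y⁆ ∈ K := by
    have key : ∀ (x y y' : E), ⁅x, y * y'⁆ = ⁅x, y⁆ * (y * ⁅x, y'⁆ * y⁻¹) := fun x y y' => by
      simp only [commutatorElement_def]; group
    have key' : ∀ (x x' y : E), ⁅x * x', y⁆ = x * ⁅x', y⁆ * x⁻¹ * ⁅x, y⁆ := fun x x' y => by
      simp only [commutatorElement_def]; group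
    have mk : ∀ k, gens k ∈ K := fun k => Subgroup.subset_closure ⟨k, rfl⟩
    have hK2 : ∀ x, φ x = tau h01 1 ∨ φ x = tau h01 w → ∀ y ∈ B, ⁅x, y⁆ ∈ K := by
      intro x hx y hy
      obtain ⟨b, hb⟩ := hy
      obtain ⟨x', hx', hb₁, hb₂⟩ : ∃ x', φ x = φ x' ∧ ⁅x', b₁⁆ ∈ K ∧ ⁅x', b₂⁆ ∈ K := by
        rcases hx with hx | hx
        · exact ⟨a₁, hx.trans (hlift _).symm, mk 0, mk 2⟩
        · exact ⟨a₂, hx.trans (hlift _).symm, mk 1, mk 3⟩
      have cg := fun (y y' : E) (h : φ y = φ y') => bracket_congr φ hker hx' h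
      rcases four b with rfl | rfl | rfl | rfl
      · rw [bracket_congr φ hker (rfl : φ x = φ x) (by rw [hb, tau_zero, map_one] : φ y = φ 1)]
        simp [commutatorElement_def]
      · rw [cg y b₁ (hb.trans (hlift _).symm)]; exact hb₁
      · rw [cg y b₂ (hb.trans (hlift _).symm)]; exact hb₂
      · rw [cg y (b₁ * b₂) (by rw [hb, map_mul, hlift, hlift, tau_add]), key,
          ← (hKC _ hb₂ b₁ (Subgroup.subset_closure (Or.inl (Or.inr ⟨1, hlift _⟩)))).eq,
          mul_inv_cancel_right]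
        exact mul_mem hb₁ hb₂
    intro x hx y hy
    obtain ⟨a, ha⟩ := hx
    rcases four a with rfl | rfl | rfl | rfl
    · rw [bracket_congr φ hker (by rw [ha, tau_zero, map_one] : φ x = φ 1) (rfl : φ y = φ y)]
      simp [commutatorElement_def]
    · exact hK2 x (Or.inl ha) y hy
    · exact hK2 x (Or.inr ha) y hy
    · rw [bracket_congr φ hker (by rw [ha, map_mul, hlift, hlift, tau_add] : φ x = φ (a₁ * a₂))
        (rfl : φ y = φ y), key',
        ← (hKC _ (hK2 a₂ (Or.inr (hlift _)) y hy) a₁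
          (Subgroup.subset_closure (Or.inl (Or.inl ⟨1, hlift _⟩)))).eq, mul_inv_cancel_right]
      exact mul_mem (hK2 a₂ (Or.inr (hlift _)) y hy) (hK2 a₁ (Or.inl (hlift _)) y hy)
  have hgens : ∀ x ∈ S, ∀ y ∈ S, ⁅x, y⁆ ∈ K := by
    have one : ∀ x y : E, Commute x y → ⁅x, y⁆ ∈ K := fun x y h => by
      rw [commutatorElement_eq_one_iff_commute.2 h]; exact one_mem _
    rintro x hx y hy
    rcases id hx with (hxA | hxB) | hxC
    · rcases id hy with (hyA | hyB) | hyC
      · obtain ⟨a, ha⟩ := hxA; obtain ⟨b, hb⟩ := hyA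
        exact one _ _ (comm_self φ (fun g => ⟨_, hlift g⟩) hker hel hF h01 ha hb)
      · exact hAB x hxA y hyB
      · exact one _ _ (hcen y hyC x hx).symm
    · rcases id hy with (hyA | hyB) | hyC
      · rw [← commutatorElement_inv]; exact inv_mem (hAB y hyA x hxB)
      · obtain ⟨a, ha⟩ := hxB; obtain ⟨b, hb⟩ := hyB
        exact one _ _ (comm_self φ (fun g => ⟨_, hlift g⟩) hker hel hF h12 ha hb)
      · exact one _ _ (hcen y hyC x hx).symm
    · exact one _ _ (hcen x hxC y hy)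
  have hPP : ⁅P, P⁆ ≤ K := by
    refine Subgroup.commutator_le.2 fun x hx y hy => ?_
    have h1 : ∀ s ∈ S, ⁅x, s⁆ ∈ K := fun s hs => by
      refine Subgroup.closure_induction (p := fun z _ => ⁅z, s⁆ ∈ K) (fun z hz => hgens z hz s hs)
        (by simp [commutatorElement_def]) ?_ ?_ hx
      · intro a b ha _ iha ihb
        rw [show ⁅a * b, s⁆ = a * ⁅b, s⁆ * a⁻¹ * ⁅a, s⁆ by simp only [commutatorElement_def]; group,
          ← (hKC _ ihb a ha).eq, mul_inv_cancel_right]
        exact mul_mem ihb iha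
      · intro a ha iha
        rw [show ⁅a⁻¹, s⁆ = a⁻¹ * ⁅a, s⁆⁻¹ * a⁻¹⁻¹ by simp only [commutatorElement_def]; group,
          ← (hKC _ (inv_mem iha) a⁻¹ (inv_mem ha)).eq, mul_inv_cancel_right]
        exact inv_mem iha
    refine Subgroup.closure_induction (p := fun z _ => ⁅x, z⁆ ∈ K) h1
      (by simp [commutatorElement_def]) ?_ ?_ hy
    · intro a b ha _ iha ihb
      rw [show ⁅x, a * b⁆ = ⁅x, a⁆ * (a * ⁅x, b⁆ * a⁻¹) by simp only [commutatorElement_def]; group,
        ← (hKC _ ihb a ha).eq, mul_inv_cancel_right]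
      exact mul_mem iha ihb
    · intro a ha iha
      rw [show ⁅x, a⁻¹⁆ = a⁻¹ * ⁅x, a⁆⁻¹ * a⁻¹⁻¹ by simp only [commutatorElement_def]; group,
        ← (hKC _ (inv_mem iha) a⁻¹ (inv_mem ha)).eq, mul_inv_cancel_right]
      exact inv_mem iha
  -- `P` has odd index
  have hodd : Odd P.index := by
    haveI : CharP F 2 := CharTwo.of_one_ne_zero_of_two_eq_zero one_ne_zero h20
    haveI : Fact (Nat.Prime 2) := ⟨Nat.prime_two⟩
    have hker₀ : ∀ M : Matrix.SpecialLinearGroup (Fin 3) F, Classical.slToPSL 3 F M = 1 ↔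
        M ∈ Subgroup.center (Matrix.SpecialLinearGroup (Fin 3) F) := fun M => QuotientGroup.eq_one_iff M
    obtain ⟨Q, hQ⟩ := ((Fus.PSLN.isPGroup_unip (K := F) (n := 3) (p := 2)).map
      (Classical.slToPSL 3 F)).exists_le_sylow
    have hU := Fus.PSLN.eq_map_unip (p := 2) hker₀ Classical.slToPSL_surjective Q hQ
    have hle : (Q : Subgroup (Matrix.ProjectiveSpecialLinearGroup (Fin 3) F)).comap φ ≤ P := by
      intro x hx
      rw [Subgroup.mem_comap, ← hU] at hx
      have hgen : φ x ∈ P.map φ := by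
        refine (Subgroup.map_le_iff_le_comap.2 (Fus.PSLN.unip_le_closure.trans
          ((Subgroup.closure_le _).2 ?_))) hx
        rintro M ⟨a, b, hab, c, rfl⟩
        refine ⟨lift (tau hab.ne c), Subgroup.subset_closure ?_, hlift _⟩
        fin_cases a <;> fin_cases b <;> first
          | exact absurd hab (by decide)
          | exact Or.inl (Or.inl ⟨c, hlift _⟩)
          | exact Or.inl (Or.inr ⟨c, hlift _⟩)
          | exact Or.inr ⟨c, hlift _⟩
      obtain ⟨y, hy, hxy⟩ := hgen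
      have hz : x * y⁻¹ ∈ φ.ker := by rw [MonoidHom.mem_ker, map_mul, map_inv, hxy, mul_inv_cancel]
      have hz' : x * y⁻¹ ∈ P := Subgroup.subset_closure
        (Or.inr ⟨0, by rw [tau_zero]; exact hz⟩)
      have := mul_mem hz' hy
      rwa [inv_mul_cancel_right] at this
    have hdvd := Subgroup.index_dvd_of_le hle
    rw [Subgroup.index_comap_of_surjective _ (fun g => ⟨_, hlift g⟩)] at hdvd
    exact (Nat.not_even_iff_odd.1 fun hev => Sylow.not_dvd_index Q
      (even_iff_two_dvd.1 hev |>.trans hdvd))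
  have hkerK : φ.ker ≤ K := by
    intro z hz
    have hzc := Subgroup.mem_center_iff.1 (hker hz)
    have htr : MonoidHom.transfer (Abelianization.of (G := P)) z = 1 := by
      have : commutator E ≤ (MonoidHom.transfer (Abelianization.of (G := P))).ker :=
        Abelianization.commutator_subset_ker _
      exact this (by rw [hperf]; exact Subgroup.mem_top z)
    rw [MonoidHom.transfer_eq_pow _ z (fun k g₀ _ => by
      rw [show g₀⁻¹ * z ^ k * g₀ = z ^ k from by
        rw [mul_assoc, ← Subgroup.mem_center_iff.1 (pow_mem (hker hz) k) g₀, inv_mul_cancel_left]])] at htr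
    have hmem := (QuotientGroup.eq_one_iff _).1 htr
    have : z ^ P.index ∈ K := hPP (by
      rw [← Subgroup.map_subtype_commutator]
      exact ⟨_, hmem, rfl⟩)
    obtain ⟨m, hm⟩ := hodd
    rwa [hm, pow_succ, pow_mul, sq, hel z hz, one_pow, one_mul] at this
  -- count
  letI : CommGroup K := { (inferInstance : Group K) with
    mul_comm := fun a b => Subtype.ext (hKC a a.2 b (hKP b.2)) }
  have hK16 : Nat.card K ≤ 16 := by
    refine natCard_le_of_gens (fun k => (⟨gens k, Subgroup.subset_closure ⟨k, rfl⟩⟩ : K))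
      (fun k => Subtype.ext ?_) (fun x => ?_)
    · obtain ⟨a, ha⟩ := hgC k
      exact sq_eq_one φ (fun g => ⟨_, hlift g⟩) hker hel hF h02 ha
    · have h := Subgroup.closure_closure_coe_preimage (k := Set.range gens)
      have hx : x ∈ Subgroup.closure (((↑) : K → E) ⁻¹' Set.range gens) := by
        rw [h]; exact Subgroup.mem_top x
      refine Subgroup.closure_mono ?_ hx
      rintro y ⟨k, hk⟩
      exact ⟨k, Subtype.ext hk⟩
  let ψ := φ.comp K.subtype
  have hrange : 4 ≤ Nat.card ψ.range := by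
    rw [← hF, ← Nat.card_eq_fintype_card]
    refine Nat.card_le_card_of_injective (fun t => (⟨tau h02 t, ?_⟩ : ψ.range))
      (fun s t e => tau_inj h02 (congrArg Subtype.val e))
    exact ⟨⟨⁅lift (tau h01 t), b₁⁆, hAB _ ⟨t, hlift _⟩ _ ⟨1, hlift _⟩⟩,
      (br t 1 _ _ (hlift _) (hlift _)).trans (by rw [mul_one])⟩
  have hcard : Nat.card ψ.ker * Nat.card ψ.range = Nat.card K := by
    rw [← Subgroup.index_ker, Subgroup.card_mul_index]
  have hker' : Nat.card φ.ker ≤ Nat.card ψ.ker :=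
    Nat.card_le_card_of_injective (fun z => (⟨⟨z, hkerK z.2⟩, z.2⟩ : ψ.ker))
      (fun s t e => Subtype.ext (congrArg (fun u : ψ.ker => ((u : K) : E)) e))
  have := Nat.mul_le_mul hker' hrange
  omega

end Cfsg.Agent.Spor.L34
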