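import Cfsg.Agent.Lib.Classical.UnitRootGroups
import Cfsg.Agent.Lib.Spor.L34Cover

/-!
Central extensions of `PSU₆(2)` with kernel of exponent 2: every involution lifts to an involution.

Lifts of two orthogonal transvections commute (sum over the five points of a totally isotropic line),
and lifts of transvections are involutions (same sum); every involution is a product of pairwise
orthogonal transvections.
-/

set_option autoImplicit false
set_option linter.unusedSectionVars false
set_option linter.unusedSimpArgs false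
set_option linter.style.haveILetI false

open scoped commutatorElement

namespace Cfsg.Agent.Spor.U62

open Cfsg.Agent.Classical Cfsg.Agent.Classical.PSUAut Matrix

variable {F : Type} [Field F] [Fintype F]

local notation "V" => (Fin 6 → F)
local notation "h" => hermForm 6 F 2

variable (hF : Fintype.card F = 2 ^ 2)
include hF

theorem two_zero : (2 : F) = 0 := by
  obtain ⟨p, hp⟩ := CharP.exists F
  haveI : Fact p.Prime := ⟨CharP.char_is_prime F p⟩
  obtain ⟨n, hpr, hn⟩ := FiniteField.card F p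
  have : p = 2 := (Nat.prime_dvd_prime_iff_eq hpr Nat.prime_two).1
    (hpr.dvd_of_dvd_pow (m := 2) (n := 2) (by rw [← hF, hn]; exact dvd_pow_self _ n.2.ne'))
  subst this
  exact_mod_cast CharP.cast_eq_zero F 2

theorem norm_one {a : F} (ha : a ≠ 0) : a * qFrob hF a = 1 := by
  have := FiniteField.pow_card_sub_one_eq_one a ha
  rw [hF] at this
  rw [qFrob_apply, ← pow_succ']
  simpa using this

theorem one_tr : (1 : F) + qFrob hF 1 = 0 := by rw [map_one, one_add_one_eq_two, two_zero hF]

/-- The transvection of an isotropic vector. -/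
noncomputable def T (v : V) (hv : h v v = 0) : Cfsg.SU 6 F 2 := eSU hF (eOK_transvection hF hv (one_tr hF))

theorem T_apply (v : V) (hv : h v v = 0) (x : V) : suVal (T hF v hv) *ᵥ x = x + h x v • v := by
  show eMat 2 v 0 1 *ᵥ x = _
  rw [tv_apply' hF, one_mul]

theorem su_ext {s t : Cfsg.SU 6 F 2} (e : ∀ x : V, suVal s *ᵥ x = suVal t *ᵥ x) : s = t :=
  suVal_ext (Matrix.ext_iff_mulVec.2 e)

theorem T_sq (v : V) (hv : h v v = 0) : T hF v hv * T hF v hv = 1 := by
  refine su_ext hF fun x => ?_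
  rw [suVal_mul, ← Matrix.mulVec_mulVec, T_apply, T_apply, h_add_left, h_smul_left, hv, mul_zero, add_zero,
    add_assoc, ← add_smul, ← two_mul, two_zero hF, zero_mul, zero_smul, add_zero]
  exact (Matrix.one_mulVec x).symm

theorem T_comm {v w : V} (hv : h v v = 0) (hw : h w w = 0) (hvw : h v w = 0) :
    Commute (T hF v hv) (T hF w hw) := by
  refine su_ext hF fun x => ?_
  rw [suVal_mul, suVal_mul, ← Matrix.mulVec_mulVec, ← Matrix.mulVec_mulVec]
  simp only [T_apply, h_add_left, h_smul_left, hvw, h_comm_zero hF hvw, mul_zero, add_zero]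
  abel

theorem T_smul {v : V} (hv : h v v = 0) {a : F} (ha : a ≠ 0) (hav : h (a • v) (a • v) = 0) :
    T hF (a • v) hav = T hF v hv := by
  refine su_ext hF fun x => ?_
  rw [T_apply, T_apply, h_smul_right hF, smul_smul, mul_assoc, mul_comm (h x v), ← mul_assoc,
    mul_comm (qFrob hF a), norm_one hF ha, one_mul]

theorem T_conj (s : Cfsg.SU 6 F 2) {v : V} (hv : h v v = 0) :
    s * T hF v hv * s⁻¹ = T hF (suVal s *ᵥ v) (by rw [su_form]; exact hv) := by
  refine su_ext hF fun x => ?_
  rw [suVal_mul, suVal_mul, ← Matrix.mulVec_mulVec, ← Matrix.mulVec_mulVec, T_apply, T_apply,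
    Matrix.mulVec_add, Matrix.mulVec_smul, Matrix.mulVec_mulVec, suVal_mul_inv, Matrix.one_mulVec]
  congr 2
  rw [← su_form s (suVal s⁻¹ *ᵥ x) v, Matrix.mulVec_mulVec, suVal_mul_inv, Matrix.one_mulVec]

/-- A vector orthogonal to given vectors and outside their span. -/
theorem exists_orth {k m : ℕ} (A : Fin k → V) (B : Fin m → V) (hkm : k + m < 6) :
    ∃ y : V, (∀ i, h y (A i) = 0) ∧ y ∉ Submodule.span F (Set.range B) := by
  let L : V →ₗ[F] (Fin k → F) :=
    { toFun := fun x i => h x (A i)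
      map_add' := fun x y => funext fun i => h_add_left x y _
      map_smul' := fun c x => funext fun i => h_smul_left c x _ }
  by_contra hc
  push Not at hc
  have hle : LinearMap.ker L ≤ Submodule.span F (Set.range B) := fun y hy =>
    hc y fun i => congrFun (LinearMap.mem_ker.1 hy) i
  have h1 := Submodule.finrank_mono hle
  have h2 : Module.finrank F (Submodule.span F (Set.range B)) ≤ m :=
    (finrank_range_le_card (R := F) B).trans (by simp)
  have h3 := L.finrank_range_add_finrank_ker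
  have h4 : Module.finrank F (LinearMap.range L) ≤ k :=
    (Submodule.finrank_le _).trans (by simp)
  simp at h3
  omega

/-- A third isotropic vector orthogonal to an orthogonal isotropic pair. -/
theorem exists_third {v w : V} (hv : h v v = 0) (hw : h w w = 0) (hvw : h v w = 0) :
    ∃ u : V, h u u = 0 ∧ h u v = 0 ∧ h u w = 0 ∧ u ∉ Submodule.span F ({v, w} : Set V) := by
  have hr : Set.range ![v, w] = {v, w} := by
    ext x
    simp [Fin.exists_fin_two, eq_comm, or_comm]
  obtain ⟨y, hy, hys⟩ := exists_orth hF ![v, w] ![v, w] (by norm_num)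
  rw [hr] at hys
  have hyv : h y v = 0 := hy 0
  have hyw : h y w = 0 := hy 1
  have hnorm : ∀ z : V, h z z ≠ 0 → h z z = 1 := fun z hz => by
    have h1 : qFrob hF (h z z) = h z z := cj_h_self hF z
    rw [qFrob_apply, sq] at h1
    exact mul_left_cancel₀ hz (by rw [h1, mul_one])
  by_cases hyy : h y y = 0
  · exact ⟨y, hyy, hyv, hyw, hys⟩
  obtain ⟨z, hz, hzs⟩ := exists_orth hF ![v, w, y] ![v, w] (by norm_num)
  rw [hr] at hzs
  have hzv : h z v = 0 := hz 0
  have hzw : h z w = 0 := hz 1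
  have hzy : h z y = 0 := hz 2
  by_cases hzz : h z z = 0
  · exact ⟨z, hzz, hzv, hzw, hzs⟩
  refine ⟨y + z, ?_, by rw [h_add_left, hyv, hzv, add_zero], by rw [h_add_left, hyw, hzw, add_zero], ?_⟩
  · rw [h_add_left, h_add_right hF, h_add_right hF, hnorm y hyy, hnorm z hzz, hzy, h_comm_zero hF hzy,
      add_zero, zero_add, one_add_one_eq_two, two_zero hF]
  · intro hmem
    obtain ⟨a, b, hab⟩ := Submodule.mem_span_pair.1 hmem
    have := congrArg (fun t => h t y) hab
    simp only [h_add_left, h_smul_left, h_comm_zero hF hyv, h_comm_zero hF hyw, hzy, mul_zero, add_zero] at this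
    exact hyy this.symm

/-- A transvection fixing `v` carries an isotropic vector to a non-orthogonal one. -/
theorem step {v a b : V} (ha : h a a = 0) (hb : h b b = 0) (hva : h v a = 0) (hvb : h v b = 0)
    (hab : h a b ≠ 0) :
    ∃ (s : Cfsg.SU 6 F 2) (t : F), t ≠ 0 ∧ suVal s *ᵥ v = v ∧ suVal s *ᵥ a = t • b := by
  have hba : h b a ≠ 0 := fun e => hab (h_comm_zero hF e)
  set t := (h b a)⁻¹ with ht
  have htb : qFrob hF t * h a b = 1 := by
    rw [ht, map_inv₀, cj_h hF, inv_mul_cancel₀ hab]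
  have hu : h (a + t • b) (a + t • b) = 0 := by
    rw [h_add_left, h_add_right hF, h_add_right hF, h_smul_right hF, h_smul_right hF, h_smul_left,
      h_smul_left, ha, hb, htb, ht, inv_mul_cancel₀ hba]
    simp [one_add_one_eq_two, two_zero hF]
  refine ⟨T hF _ hu, t, inv_ne_zero hba, ?_, ?_⟩
  · rw [T_apply, h_add_right hF, h_smul_right hF, hva, hvb]; simp
  · rw [T_apply, h_add_right hF, h_smul_right hF, ha, htb, zero_add, one_smul, ← add_assoc,
      ← two_smul F a, two_zero hF, zero_smul, zero_add]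

theorem exists_nonorth {v w : V} (hw : ∀ a : F, w ≠ a • v) : ∃ y : V, h y v = 0 ∧ h y w ≠ 0 := by
  by_contra hc
  push Not at hc
  rcases eq_or_ne v 0 with rfl | hv
  · exact hw 0 (by rw [zero_smul]; exact eq_zero_of_h hF fun x => h_comm_zero hF (hc x (h_zero_right hF x)))
  obtain ⟨z, hz⟩ := exists_h_eq hF hv 1
  have hzv : h z v = 1 := by rw [← cj_h hF, hz, map_one]
  refine hw (qFrob hF (h z w)) (sub_eq_zero.1 (eq_zero_of_h hF fun x => ?_))
  have := hc (x - h x v • z) (by rw [h_sub_left, h_smul_left, hzv, mul_one, sub_self])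
  rw [h_sub_left, h_smul_left, sub_eq_zero] at this
  rw [h_sub_left, h_smul_left, sub_eq_zero, ← cj_h hF x w, ← cj_h hF x v, this, map_mul, mul_comm]

/-- For mutually orthogonal `v, w, p` some element fixing `v` carries `w` to a multiple of `p`. -/
theorem move {v w p : V} (hw : h w w = 0) (hp : h p p = 0) (hvw : h v w = 0) (hvp : h v p = 0)
    (hwp : h w p = 0) (hwv : ∀ a : F, w ≠ a • v) (hpv : ∀ a : F, p ≠ a • v) :
    ∃ (s : Cfsg.SU 6 F 2) (t : F), t ≠ 0 ∧ suVal s *ᵥ v = v ∧ suVal s *ᵥ w = t • p := by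
  obtain ⟨y, hy1, hy2, hy3⟩ : ∃ y : V, h y v = 0 ∧ h y w ≠ 0 ∧ h y p ≠ 0 := by
    obtain ⟨y₁, h1, h1'⟩ := exists_nonorth hF hwv
    obtain ⟨y₂, h2, h2'⟩ := exists_nonorth hF hpv
    by_cases e1 : h y₁ p = 0
    · by_cases e2 : h y₂ w = 0
      · exact ⟨y₁ + y₂, by rw [h_add_left, h1, h2, add_zero], by rw [h_add_left, e2, add_zero]; exact h1',
          by rw [h_add_left, e1, zero_add]; exact h2'⟩
      · exact ⟨y₂, h2, e2, h2'⟩
    · exact ⟨y₁, h1, h1', e1⟩
  obtain ⟨c, hc⟩ := exists_trace_eq hF (cj_h_self hF y)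
  have hwy : h w y ≠ 0 := fun e => hy2 (h_comm_zero hF e)
  set b := c * (h w y)⁻¹ with hb
  have hbc : b * h w y = c := by rw [hb, inv_mul_cancel_right₀ hwy]
  set x := y + b • w with hx
  have hxx : h x x = 0 := by
    rw [hx, h_add_left, h_add_right hF, h_add_right hF, h_smul_right hF, h_smul_right hF, h_smul_left,
      h_smul_left, hw, mul_zero, mul_zero, add_zero, ← cj_h hF w y, ← map_mul, hbc, add_assoc,
      add_comm (qFrob hF c) c, hc, ← two_mul, two_zero hF, zero_mul]
  have hxv : h x v = 0 := by rw [hx, h_add_left, h_smul_left, hy1, h_comm_zero hF hvw, mul_zero, add_zero]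
  have hxw : h x w ≠ 0 := by rw [hx, h_add_left, h_smul_left, hw, mul_zero, add_zero]; exact hy2
  have hxp : h x p ≠ 0 := by rw [hx, h_add_left, h_smul_left, hwp, mul_zero, add_zero]; exact hy3
  obtain ⟨s, t, ht, hsv, hsw⟩ := step hF hw hxx hvw (h_comm_zero hF hxv) (fun e => hxw (h_comm_zero hF e))
  obtain ⟨s', t', ht', hsv', hsx⟩ := step hF hxx hp (h_comm_zero hF hxv) hvp hxp
  refine ⟨s' * s, t * t', mul_ne_zero ht ht', ?_, ?_⟩
  · rw [suVal_mul, ← Matrix.mulVec_mulVec, hsv, hsv']
  · rw [suVal_mul, ← Matrix.mulVec_mulVec, hsw, Matrix.mulVec_smul, hsx, smul_smul]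

omit hF in
/-- Matrices decide equality in `SU`. -/
theorem prod_line_eq {A B : Cfsg.SU 6 F 2} (e : ∀ x : V, suVal A *ᵥ x = suVal B *ᵥ x) : A = B :=
  suVal_ext (Matrix.ext_iff_mulVec.2 e)

/-- The five transvections of a totally isotropic line multiply to one. -/
theorem line_prod {u w : V} {o : F} (ho : 1 + o + o * o = 0) (hu : h u u = 0) (hw : h w w = 0)
    (huw : h u w = 0) (h1 : h (w + u) (w + u) = 0) (h2 : h (w + o • u) (w + o • u) = 0)
    (h3 : h (w + (1 + o) • u) (w + (1 + o) • u) = 0) :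
    T hF u hu * T hF w hw * T hF (w + u) h1 * T hF (w + o • u) h2 * T hF (w + (1 + o) • u) h3 = 1 := by
  have h20 := two_zero hF
  have hco : qFrob hF o = 1 + o := by
    rw [qFrob_apply]; linear_combination ho - (1 + o) * h20
  refine prod_line_eq fun x => ?_
  simp only [suVal_mul, ← Matrix.mulVec_mulVec, T_apply, h_add_left, h_add_right hF, h_smul_left,
    h_smul_right hF, hu, hw, huw, h_comm_zero hF huw, mul_zero, add_zero, map_add, map_one, hco]
  show _ = (1 : Matrix (Fin 6) (Fin 6) F) *ᵥ x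
  rw [Matrix.one_mulVec]
  ext i
  simp only [Pi.add_apply, Pi.smul_apply, smul_eq_mul]
  linear_combination (2 * h x w * w i + h x w * u i + 2 * h x u * u i + h x u * w i * (2 + o) +
      h x u * u i * (o + o * o) + o * h x u * u i + h x w * o * u i) * h20

section Ext

variable {E : Type*} [Group E] (φ : E →* Cfsg.PSU 6 F 2) (hφ : Function.Surjective φ)
  (hker : φ.ker ≤ Subgroup.center E) (hel : ∀ z ∈ φ.ker, z * z = 1)
include hφ hker hel

local notation "π" => suToPSU 6 F 2

theorem sq_mem {v : V} {hv : h v v = 0} {x : E} (hx : φ x = π (T hF v hv)) : x * x ∈ φ.ker := by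
  rw [MonoidHom.mem_ker, map_mul, hx, ← map_mul, T_sq, map_one]

theorem sq_congr {x y : E} (e : φ x = φ y) : x * x = y * y := by
  obtain ⟨z, hz, rfl⟩ := L34.central_of_eq φ hker e
  have hzk : z ∈ φ.ker := by
    rw [map_mul] at e
    exact MonoidHom.mem_ker.2 (mul_eq_right.1 e)
  rw [show z * y * (z * y) = z * (y * z) * y by group, Subgroup.mem_center_iff.1 hz y, ← mul_assoc, hel z hzk,
    one_mul]

/-- Squares and brackets of lifts are unchanged along `move`. -/
theorem move_lift {v w p : V} (hv : h v v = 0) (hw : h w w = 0) (hp : h p p = 0) (hvw : h v w = 0)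
    (hvp : h v p = 0) (hwp : h w p = 0) (hwv : ∀ a : F, w ≠ a • v) (hpv : ∀ a : F, p ≠ a • v)
    {a x y : E} (ha : φ a = π (T hF v hv)) (hx : φ x = π (T hF w hw)) (hy : φ y = π (T hF p hp)) :
    x * x = y * y ∧ (⁅a, x⁆ ∈ φ.ker → ⁅a, x⁆ = ⁅a, y⁆) := by
  obtain ⟨s, t, ht, hsv, hsw⟩ := move hF hw hp hvw hvp hwp hwv hpv
  obtain ⟨g, hg⟩ := hφ (π s)
  have ea : φ (g * a * g⁻¹) = φ a := by
    rw [map_mul, map_mul, map_inv, ha, hg, ← map_inv, ← map_mul, ← map_mul, T_conj]
    simp only [hsv]
  have ex : φ (g * x * g⁻¹) = φ y := by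
    rw [map_mul, map_mul, map_inv, hx, hy, hg, ← map_inv, ← map_mul, ← map_mul, T_conj]
    simp only [hsw]
    rw [T_smul hF hp ht]
  constructor
  · rw [← sq_congr hF φ hφ hker hel ex, show g * x * g⁻¹ * (g * x * g⁻¹) = g * (x * x) * g⁻¹ by group,
      Subgroup.mem_center_iff.1 (hker (sq_mem hF φ hφ hker hel hx)) g, mul_inv_cancel_right]
  · intro hk
    rw [← L34.bracket_congr φ hker ea ex, show ⁅g * a * g⁻¹, g * x * g⁻¹⁆ = g * ⁅a, x⁆ * g⁻¹ by
      simp only [commutatorElement_def]; group, Subgroup.mem_center_iff.1 (hker hk) g, mul_inv_cancel_right]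

/-- Lifts of orthogonal transvections commute and square to one. -/
theorem orth_lift {v w : V} (hv : h v v = 0) (hw : h w w = 0) (hvw : h v w = 0) (hv0 : v ≠ 0)
    (hwv : ∀ a : F, w ≠ a • v) {a x : E} (ha : φ a = π (T hF v hv)) (hx : φ x = π (T hF w hw)) :
    Commute a x ∧ x * x = 1 := by
  obtain ⟨o, -, -, ho⟩ := L34.exists_omega (F := F) hF
  obtain ⟨u, hu, huv, huw, hus⟩ := exists_third hF hv hw hvw
  have hp : ∀ c : F, h (w + c • u) (w + c • u) = 0 := fun c => by
    simp [h_add_left, h_add_right hF, h_smul_left, h_smul_right hF, hu, hw, huw, h_comm_zero hF huw]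
  have hvp : ∀ c : F, h v (w + c • u) = 0 := fun c => by
    simp [h_add_right hF, h_smul_right hF, hvw, h_comm_zero hF huv]
  have hwp : ∀ c : F, h w (w + c • u) = 0 := fun c => by
    simp [h_add_right hF, h_smul_right hF, hw, h_comm_zero hF huw]
  have huv' : ∀ c : F, u ≠ c • v := fun c e => hus (Submodule.mem_span_pair.2 ⟨c, 0, by simp [e]⟩)
  have hpv : ∀ c k : F, w + c • u ≠ k • v := by
    intro c k e
    rcases eq_or_ne c 0 with rfl | hc
    · exact hwv k (by simpa using e)
    · refine hus (Submodule.mem_span_pair.2 ⟨c⁻¹ * k, -c⁻¹, ?_⟩)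
      rw [mul_smul, ← e, smul_add, smul_smul, inv_mul_cancel₀ hc, one_smul, neg_smul]
      abel
  have h1 : h (w + u) (w + u) = 0 := by simpa using hp 1
  obtain ⟨x₀, hx₀⟩ := hφ (π (T hF u hu))
  obtain ⟨x₁, hx₁⟩ := hφ (π (T hF (w + u) h1))
  obtain ⟨x₂, hx₂⟩ := hφ (π (T hF (w + o • u) (hp o)))
  obtain ⟨x₃, hx₃⟩ := hφ (π (T hF (w + (1 + o) • u) (hp (1 + o))))
  have hprod : x₀ * x * x₁ * x₂ * x₃ ∈ φ.ker := by
    rw [MonoidHom.mem_ker, map_mul, map_mul, map_mul, map_mul, hx₀, hx, hx₁, hx₂, hx₃, ← map_mul,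
      ← map_mul, ← map_mul, ← map_mul, line_prod hF ho hu hw (h_comm_zero hF (h_comm_zero hF huw)), map_one]
  have hcomm : ∀ {p q : V} (hp : h p p = 0) (hq : h q q = 0) {b c : E}, φ b = π (T hF p hp) →
      φ c = π (T hF q hq) → h p q = 0 → ⁅b, c⁆ ∈ φ.ker := fun hp hq b c hb hc hpq => by
    rw [MonoidHom.mem_ker, map_commutatorElement, hb, hc]
    exact commutatorElement_eq_one_iff_commute.2 ((T_comm hF hp hq hpq).map _)
  have m0 := move_lift hF φ hφ hker hel hv hw hu hvw (h_comm_zero hF huv) (h_comm_zero hF huw) hwv huv' ha hx hx₀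
  have m1 := move_lift hF φ hφ hker hel hv hw h1 hvw (by simpa using hvp 1) (by simpa using hwp 1) hwv
    (fun k => by simpa using hpv 1 k) ha hx hx₁
  have m2 := move_lift hF φ hφ hker hel hv hw (hp o) hvw (hvp o) (hwp o) hwv (hpv o) ha hx hx₂
  have m3 := move_lift hF φ hφ hker hel hv hw (hp (1 + o)) hvw (hvp _) (hwp _) hwv (hpv _) ha hx hx₃
  have hg := hcomm hv hw ha hx hvw
  set γ := ⁅a, x⁆ with hγ
  have γc : ∀ g : E, g * γ = γ * g := fun g => Subgroup.mem_center_iff.1 (hker hg) g
  have key : ∀ b c : E, ⁅a, b * c⁆ = ⁅a, b⁆ * (b * ⁅a, c⁆ * b⁻¹) := fun b c => by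
    simp only [commutatorElement_def]; group
  have hmul : ∀ b c : E, ⁅a, c⁆ = γ → ⁅a, b * c⁆ = ⁅a, b⁆ * γ := fun b c hc => by
    rw [key, hc, γc, mul_inv_cancel_right]
  have hγ5 : γ * γ * γ * γ * γ = 1 := by
    have : ⁅a, x₀ * x * x₁ * x₂ * x₃⁆ = 1 :=
      commutatorElement_eq_one_iff_commute.2 (Subgroup.mem_center_iff.1 (hker hprod) a)
    rwa [hmul _ _ (m3.2 hg).symm, hmul _ _ (m2.2 hg).symm, hmul _ _ (m1.2 hg).symm, hmul _ _ rfl,
      ← m0.2 hg] at this
  have hγ1 : γ = 1 := by
    rw [hel γ hg, one_mul, hel γ hg, one_mul] at hγ5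
    exact hγ5
  have hax : Commute a x := commutatorElement_eq_one_iff_commute.1 hγ1
  refine ⟨hax, ?_⟩
  -- all five lifts commute pairwise
  have hc2 : ∀ {p q : V} (hp : h p p = 0) (hq : h q q = 0) (_ : h p q = 0)
      (_ : ∀ c : F, q ≠ c • p) (_ : h p v = 0) (_ : h v q = 0) (_ : ∀ c : F, p ≠ c • v)
      (_ : ∀ c : F, q ≠ c • v) {b c : E}, φ b = π (T hF p hp) → φ c = π (T hF q hq) → Commute b c := by
    intro p q hp' hq' hpq hqp hpv' hvq hp1 hq1 b c hb hc
    have hg' := hcomm hp' hq' hb hc hpq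
    refine commutatorElement_eq_one_iff_commute.1 ?_
    -- conjugate the pair `(p, q)` to `(p, v)`, then to `(v, w)`
    have e1 := (move_lift hF φ hφ hker hel hp' hq' hv hpq hpv' (h_comm_zero hF hvq) hqp (fun k e => hp1 k⁻¹ (by
      rcases eq_or_ne k 0 with rfl | hk
      · exact absurd (by simpa using e) hv0
      · rw [e, smul_smul, inv_mul_cancel₀ hk, one_smul])) hb hc ha).2 hg'
    by_cases hpw : h p w = 0
    · have e2 := (move_lift hF φ hφ hker hel hv hp' hw (h_comm_zero hF hpv') hvw hpw hp1 hwv ha hb hx).2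
        (hcomm hv hp' ha hb (h_comm_zero hF hpv'))
      rw [e1, ← commutatorElement_inv, e2, ← hγ, hγ1, inv_one]
    · obtain ⟨s, t, ht, hsv, hsp⟩ := step hF hp' hw (h_comm_zero hF hpv') hvw hpw
      obtain ⟨g, hg₀⟩ := hφ (π s)
      have ea : φ (g * a * g⁻¹) = φ a := by
        rw [map_mul, map_mul, map_inv, ha, hg₀, ← map_inv, ← map_mul, ← map_mul, T_conj]
        simp only [hsv]
      have ex : φ (g * b * g⁻¹) = φ x := by
        rw [map_mul, map_mul, map_inv, hb, hx, hg₀, ← map_inv, ← map_mul, ← map_mul, T_conj]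
        simp only [hsp]
        rw [T_smul hF hw ht]
      have e2 : ⁅a, b⁆ = 1 := by
        have h2 := L34.bracket_congr φ hker ea ex
        rw [← hγ, hγ1, show ⁅g * a * g⁻¹, g * b * g⁻¹⁆ = g * ⁅a, b⁆ * g⁻¹ by
          simp only [commutatorElement_def]; group] at h2
        exact conj_eq_one_iff.1 h2
      rw [e1, ← commutatorElement_inv, e2, inv_one]
  have hu' : ∀ c : F, w + c • u ≠ 0 := fun c e => hpv c 0 (by rw [e, zero_smul])
  have hne : ∀ c k : F, w + c • u ≠ k • u := fun c k e => by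
    have hw' : w = (k - c) • u := by rw [sub_smul, ← e, add_sub_cancel_right]
    rcases eq_or_ne (k - c) 0 with h0 | h0
    · exact hwv 0 (by rw [hw', h0, zero_smul, zero_smul])
    · exact hus (Submodule.mem_span_pair.2 ⟨0, (k - c)⁻¹, by rw [hw', smul_smul, inv_mul_cancel₀ h0]; simp⟩)
  have hne' : ∀ c d : F, c ≠ d → ∀ k : F, w + d • u ≠ k • (w + c • u) := fun c d hcd k e => by
    rcases eq_or_ne k 1 with rfl | hk
    · rw [one_smul, add_right_inj] at e
      refine huv' 0 ?_
      have : (d - c) • u = 0 := by rw [sub_smul, e, sub_self]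
      rw [zero_smul]
      exact (smul_eq_zero.1 this).resolve_left (sub_ne_zero.2 hcd.symm)
    · have hw' : (1 - k) • w = (k * c - d) • u := by
        rw [sub_smul, sub_smul, one_smul, mul_smul, sub_eq_sub_iff_add_eq_add]
        rw [e, smul_add]
        abel
      exact hne 0 ((1 - k)⁻¹ * (k * c - d)) (by
        rw [zero_smul, add_zero, mul_smul, ← hw', smul_smul, inv_mul_cancel₀ (sub_ne_zero.2 (Ne.symm hk)), one_smul])
  have hpp : ∀ c d : F, h (w + c • u) (w + d • u) = 0 := fun c d => by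
    simp [h_add_left, h_add_right hF, h_smul_left, h_smul_right hF, hu, hw, huw, h_comm_zero hF huw]
  have hup : ∀ d : F, h u (w + d • u) = 0 := fun d => by
    simp [h_add_right hF, h_smul_right hF, hu, huw]
  have hp0 : φ x = π (T hF (w + (0 : F) • u) (hp 0)) := by simpa using hx
  have hp1 : φ x₁ = π (T hF (w + (1 : F) • u) (hp 1)) := by simpa using hx₁
  have o0 : o ≠ 0 := fun e => by simp [e] at ho
  have o1 : o ≠ 1 := fun e => by
    rw [e] at ho
    exact one_ne_zero (α := F) (by linear_combination ho - two_zero hF)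
  have o2 : (1 + o : F) ≠ 0 := fun e => one_ne_zero (α := F) (by linear_combination ho - o * e - e + e - (0:F) * ho)
  have o3 : (1 + o : F) ≠ 1 := fun e => o0 (by linear_combination e)
  have o4 : (1 + o : F) ≠ o := fun e => one_ne_zero (α := F) (by linear_combination e)
  have cu : ∀ (d : F) {c : E}, φ c = π (T hF (w + d • u) (hp d)) → Commute x₀ c := fun d c hc =>
    hc2 hu (hp d) (hup d) (hne d) huv (hvp d) huv' (hpv d) hx₀ hc
  have cp : ∀ (c d : F), c ≠ d → ∀ {b e : E}, φ b = π (T hF (w + c • u) (hp c)) →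
      φ e = π (T hF (w + d • u) (hp d)) → Commute b e := fun c d hcd b e hb he =>
    hc2 (hp c) (hp d) (hpp c d) (hne' c d hcd) (h_comm_zero hF (hvp c)) (hvp d) (hpv c) (hpv d) hb he
  have sq2 : ∀ {b c : E}, Commute b c → b * c * (b * c) = b * b * (c * c) := fun hbc => hbc.symm.mul_mul_mul_comm _ _
  have k1 : Commute x₀ x := cu 0 hp0
  have k2 : Commute (x₀ * x) x₁ := (cu 1 hp1).mul_left (cp 0 1 zero_ne_one hp0 hp1)
  have k3 : Commute (x₀ * x * x₁) x₂ :=
    ((cu o hx₂).mul_left (cp 0 o o0.symm hp0 hx₂)).mul_left (cp 1 o o1.symm hp1 hx₂)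
  have k4 : Commute (x₀ * x * x₁ * x₂) x₃ :=
    (((cu _ hx₃).mul_left (cp 0 _ o2.symm hp0 hx₃)).mul_left (cp 1 _ o3.symm hp1 hx₃)).mul_left
      (cp o _ o4.symm hx₂ hx₃)
  have key2 := hel _ hprod
  rw [sq2 k4, sq2 k3, sq2 k2, sq2 k1, ← m0.1, ← m1.1, ← m2.1, ← m3.1] at key2
  have hxx := hel _ (sq_mem hF φ hφ hker hel hx)
  rwa [hxx, one_mul, hxx, one_mul] at key2

theorem sq_lift {w : V} (hw : h w w = 0) {x : E} (hx : φ x = π (T hF w hw)) : x * x = 1 := by
  rcases eq_or_ne w 0 with rfl | hw0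
  · have hT : T hF (0 : V) hw = 1 := su_ext hF fun y => by
      rw [T_apply, smul_zero, add_zero]; exact (Matrix.one_mulVec y).symm
    rw [hT, map_one] at hx
    exact hel x hx
  obtain ⟨v, hv, hvw, -, hvs⟩ := exists_third hF hw hw hw
  have hwv : ∀ a : F, w ≠ a • v := fun a e => by
    rcases eq_or_ne a 0 with rfl | ha
    · exact hw0 (by simpa using e)
    · exact hvs (Submodule.mem_span_pair.2 ⟨a⁻¹, 0, by rw [e, smul_smul, inv_mul_cancel₀ ha]; simp⟩)
  have hv0 : v ≠ 0 := fun e => hvs (by rw [e]; exact zero_mem _)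
  obtain ⟨a, ha⟩ := hφ (π (T hF v hv))
  exact (orth_lift hF φ hφ hker hel hv hw hvw hv0 hwv ha hx).2

theorem comm_lift {v w : V} (hv : h v v = 0) (hw : h w w = 0) (hvw : h v w = 0) {a x : E}
    (ha : φ a = π (T hF v hv)) (hx : φ x = π (T hF w hw)) : Commute a x := by
  by_cases hd : ∃ k : F, w = k • v
  · obtain ⟨k, rfl⟩ := hd
    rcases eq_or_ne k 0 with rfl | hk
    · have hT : T hF ((0 : F) • v) hw = 1 := su_ext hF fun y => by
        rw [T_apply]; simp; exact (Matrix.one_mulVec y).symm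
      rw [hT, map_one] at hx
      exact Subgroup.mem_center_iff.1 (hker hx) a
    · rw [T_smul hF hv hk] at hx
      obtain ⟨z, hz, rfl⟩ := L34.central_of_eq φ hker (hx.trans ha.symm)
      exact Commute.mul_right (Subgroup.mem_center_iff.1 hz a) (Commute.refl a)
  · push Not at hd
    rcases eq_or_ne v 0 with rfl | hv0
    · have hT : T hF (0 : V) hv = 1 := su_ext hF fun y => by
        rw [T_apply, smul_zero, add_zero]; exact (Matrix.one_mulVec y).symm
      rw [hT, map_one] at ha
      exact (Subgroup.mem_center_iff.1 (hker ha) x).symm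
    · exact (orth_lift hF φ hφ hker hel hv hw hvw hv0 hd ha hx).1

/-- Lifts of unitary involutions are involutions; they commute with lifts of transvections of fixed points. -/
theorem invol_lift (s : Cfsg.SU 6 F 2) (hs : s * s = 1) {y : E} (hy : φ y = π s) :
    y * y = 1 ∧ ∀ (w : V) (hw : h w w = 0), suVal s *ᵥ w = w → ∀ a : E, φ a = π (T hF w hw) → Commute y a := by
  classical
  induction hn : ((Finset.univ.filter fun x : V => suVal s *ᵥ x ≠ x).card) using Nat.strong_induction_on
    generalizing s y with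
  | _ n ih =>
    subst hn
    by_cases hall : ∀ x : V, suVal s *ᵥ x = x
    · have : s = 1 := su_ext hF fun x => (hall x).trans (Matrix.one_mulVec x).symm
      rw [this, map_one] at hy
      exact ⟨hel y hy, fun w _ _ a _ => (Subgroup.mem_center_iff.1 (hker hy) a).symm⟩
    have hinv : ∀ x : V, suVal s *ᵥ (suVal s *ᵥ x) = x := fun x => by
      rw [Matrix.mulVec_mulVec, ← suVal_mul, hs]; exact Matrix.one_mulVec x
    have hN : ∀ x z : V, h (suVal s *ᵥ x + x) z = h x (suVal s *ᵥ z + z) := fun x z => by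
      rw [h_add_left, h_add_right hF]
      congr 1
      rw [← su_form s x (suVal s *ᵥ z), hinv]
    have h20 := two_zero hF
    have hxx : ∀ z : V, z + z = 0 := fun z => by rw [← two_smul F z, h20, zero_smul]
    obtain ⟨u, hu⟩ : ∃ u : V, h u (suVal s *ᵥ u + u) ≠ 0 := by
      by_contra hc
      push Not at hc
      obtain ⟨o, -, -, ho⟩ := L34.exists_omega (F := F) hF
      refine hall fun x => ?_
      have h0 : suVal s *ᵥ x + x = 0 := eq_zero_of_h hF fun z => by
        have hpol : ∀ a : F, qFrob hF a * h (suVal s *ᵥ x + x) z + a * h z (suVal s *ᵥ x + x) = 0 := by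
          intro a
          have := hc (x + a • z)
          simp only [Matrix.mulVec_add, Matrix.mulVec_smul] at this
          rw [show suVal s *ᵥ x + a • (suVal s *ᵥ z) + (x + a • z) =
            (suVal s *ᵥ x + x) + a • (suVal s *ᵥ z + z) by rw [smul_add]; abel] at this
          simp only [h_add_left, h_add_right hF, h_smul_left, h_smul_right hF] at this
          have e1 := hc x
          have e2 := hc z
          rw [h_add_right hF] at e1 e2
          rw [hN, h_add_right hF, h_add_right hF]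
          linear_combination this - e1 - a * qFrob hF a * e2
        have p1 := hpol 1
        have po := hpol o
        rw [map_one, one_mul, one_mul] at p1
        rw [show qFrob hF o = 1 + o by rw [qFrob_apply]; linear_combination ho - (1 + o) * h20] at po
        linear_combination po - o * p1
      calc suVal s *ᵥ x = suVal s *ᵥ x + (x + x) := by rw [hxx, add_zero]
        _ = x := by rw [← add_assoc, h0, zero_add]
    set v := suVal s *ᵥ u + u with hvdef
    have hsv : suVal s *ᵥ v = v := by rw [hvdef, Matrix.mulVec_add, hinv, add_comm]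
    have hv : h v v = 0 := by
      rw [hvdef, hN, ← hvdef, hsv, hxx, h_zero_right hF]
    have huv : h u v = 1 := by
      have h1 : qFrob hF (h u v) = h u v := by rw [cj_h hF, hvdef, hN]
      rw [qFrob_apply, sq] at h1
      exact mul_left_cancel₀ hu (by rw [h1, mul_one])
    set s' := s * T hF v hv with hs'def
    have hs'x : ∀ x : V, suVal s' *ᵥ x = suVal s *ᵥ x + h x v • v := fun x => by
      rw [hs'def, suVal_mul, ← Matrix.mulVec_mulVec, T_apply, Matrix.mulVec_add, Matrix.mulVec_smul, hsv]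
    have hcom : Commute s (T hF v hv) := su_ext hF fun x => by
      rw [suVal_mul, suVal_mul, ← Matrix.mulVec_mulVec, ← Matrix.mulVec_mulVec, T_apply, T_apply,
        Matrix.mulVec_add, Matrix.mulVec_smul, hsv]
      congr 2
      rw [← su_form s x v, hsv]
    have hs' : s' * s' = 1 := by rw [hs'def, hcom.symm.mul_mul_mul_comm, hs, T_sq, one_mul]
    have horth : ∀ w : V, suVal s *ᵥ w = w → h w v = 0 := fun w hw => by
      rw [hvdef, ← hN, hw, hxx, h_zero_left]
    have hfix : ∀ w : V, suVal s *ᵥ w = w → suVal s' *ᵥ w = w := fun w hw => by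
      rw [hs'x, horth w hw, zero_smul, add_zero, hw]
    have hlt : (Finset.univ.filter fun x : V => suVal s' *ᵥ x ≠ x).card <
        (Finset.univ.filter fun x : V => suVal s *ᵥ x ≠ x).card := by
      refine Finset.card_lt_card ((Finset.ssubset_iff_of_subset ?_).2 ⟨u, ?_, ?_⟩)
      · intro x hx
        simp only [Finset.mem_filter, Finset.mem_univ, true_and] at hx ⊢
        exact fun e => hx (hfix x e)
      · simp only [Finset.mem_filter, Finset.mem_univ, true_and]
        exact fun e => hu (by rw [hvdef, e, hxx, h_zero_right hF])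
      · simp only [Finset.mem_filter, Finset.mem_univ, true_and, not_not]
        rw [hs'x, huv, one_smul, hvdef, ← add_assoc, hxx, zero_add]
    obtain ⟨b, hb⟩ := hφ (π (T hF v hv))
    obtain ⟨y', hy'⟩ := hφ (π s')
    obtain ⟨hy2, hyc⟩ := ih _ hlt s' hs' hy' rfl
    have hey : φ y = φ (y' * b) := by
      rw [map_mul, hy, hy', hb, ← map_mul, hs'def, mul_assoc, T_sq, mul_one]
    have hyb : Commute y' b := hyc v hv (hfix v hsv) b hb
    refine ⟨?_, fun w hw hsw a ha => ?_⟩
    · rw [sq_congr hF φ hφ hker hel hey, hyb.symm.mul_mul_mul_comm, hy2, sq_lift hF φ hφ hker hel hv hb, one_mul]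
    · obtain ⟨z, hz, rfl⟩ := L34.central_of_eq φ hker hey
      exact Commute.mul_left (Subgroup.mem_center_iff.1 hz a).symm
        ((hyc w hw (hfix w hsw) a ha).mul_left
          (comm_lift hF φ hφ hker hel hw hv (horth w hsw) ha hb).symm)

/-- Every involution of `PSU₆(2)` lifts to an involution. -/
theorem exists_invol_lift {x : Cfsg.PSU 6 F 2} (hx : orderOf x = 2) :
    ∃ y : E, orderOf y = 2 ∧ φ y = x := by
  obtain ⟨s, rfl⟩ := PSUAut.pi_surjective x
  obtain ⟨y, hy⟩ := hφ (π s)
  obtain ⟨l, hl⟩ := (pi_eq_one_iff hF).1 (show π (s * s) = 1 by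
    rw [map_mul, ← sq]; exact (hx ▸ pow_orderOf_eq_one (π s) :))
  have hl0 : l ≠ 0 := fun e => by
    have h1 := suVal_mul_inv (s * s)
    rw [hl, e, zero_smul, zero_mul] at h1
    exact zero_ne_one h1
  have hl3 : l ^ 3 = 1 := by
    have := FiniteField.pow_card_sub_one_eq_one l hl0
    rwa [hF] at this
  have ht : s ^ 3 * s ^ 3 = 1 := by
    refine suVal_ext ?_
    rw [show s ^ 3 * s ^ 3 = (s * s) * (s * s) * (s * s) by simp only [pow_succ, pow_zero, one_mul, mul_assoc], suVal_mul, suVal_mul, hl, smul_mul_smul_comm,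
      smul_mul_smul_comm, one_mul, one_mul, show l * l * l = l ^ 3 by ring, hl3, one_smul]
    rfl
  have hπ : π (s ^ 3) = π s := by
    rw [map_pow, pow_succ, orderOf_dvd_iff_pow_eq_one.1 (dvd_of_eq hx), one_mul]
  have h2 := (invol_lift hF φ hφ hker hel (s ^ 3) ht (hy.trans hπ.symm)).1
  have : Fact (Nat.Prime 2) := ⟨Nat.prime_two⟩
  refine ⟨y, orderOf_eq_prime (by rw [sq]; exact h2) fun e => ?_, hy⟩
  rw [e, map_one] at hy
  rw [← hy, orderOf_one] at hx
  exact absurd hx (by norm_num)

end Ext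

end Cfsg.Agent.Spor.U62
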