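import Cfsg.Agent.Lib.Spor.ThreeTransCriterion
import Cfsg.Agent.Lib.Classical.QuadBasic
import Cfsg.Agent.S5358

/-! Reflections with centre of fixed norm over the field of three elements. -/

set_option autoImplicit false
set_option linter.style.haveILetI false

namespace Cfsg.Agent.Spor.ReflThree

open Matrix Cfsg

instance fact_three : Fact (Nat.Prime 3) := ⟨Nat.prime_three⟩

variable {ι : Type} [Fintype ι] [DecidableEq ι] {F : Type*} [Field F] (Q : QuadraticForm F (ι → F))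

/-- An anisotropic vector orthogonal to a short orthogonal anisotropic list. -/
theorem exists_perp (h2 : (2 : F) ≠ 0) (hQ : (QuadraticMap.polarBilin Q).Nondegenerate) {k : ℕ}
    (hk : k < Fintype.card ι) (e : Fin k → ι → F) (he : ∀ i, Q (e i) ≠ 0)
    (hperp : ∀ i j, i ≠ j → QuadraticMap.polar ⇑Q (e i) (e j) = 0) :
    ∃ z, Q z ≠ 0 ∧ ∀ i, QuadraticMap.polar ⇑Q (e i) z = 0 := by
  by_contra hcon
  simp only [not_exists, not_and, ne_eq] at hcon
  let B := QuadraticMap.polarBilin Q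
  let L : (ι → F) →ₗ[F] (Fin k → F) := LinearMap.pi fun i => B (e i)
  have hiso : ∀ z, L z = 0 → Q z = 0 := fun z hz => by
    by_contra hz0
    exact hcon z hz0 fun i => congrFun hz i
  obtain ⟨x, hx, hx0⟩ : ∃ x ∈ LinearMap.ker L, x ≠ 0 := by
    refine Submodule.exists_mem_ne_zero_of_ne_bot fun hb => ?_
    have := LinearMap.finrank_le_finrank_of_injective (LinearMap.ker_eq_bot.mp hb)
    rw [Module.finrank_pi, Module.finrank_pi, Fintype.card_fin] at this
    omega
  have hx' : L x = 0 := hx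
  refine hx0 (hQ.1 x fun y => ?_)
  have hself : ∀ i, B (e i) (e i) = 2 * Q (e i) := fun i => by
    show QuadraticMap.polar ⇑Q (e i) (e i) = _
    rw [QuadraticMap.polar_self, two_smul, two_mul]
  let y' := y - ∑ i, (B (e i) y / B (e i) (e i)) • e i
  have hy' : L y' = 0 := funext fun j => by
    show B (e j) y' = 0
    simp only [y', map_sub, map_sum, map_smul, smul_eq_mul]
    rw [Finset.sum_eq_single j (fun i _ hij => by
      rw [show B (e j) (e i) = 0 from hperp j i hij.symm, mul_zero]) (by simp)]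
    rw [div_mul_cancel₀ _ (by rw [hself]; exact mul_ne_zero h2 (he j)), sub_self]
  have h0 : B x y' = 0 := by
    show QuadraticMap.polar ⇑Q x y' = 0
    rw [QuadraticMap.polar, hiso _ (by rw [map_add, hx', hy', add_zero]), hiso _ hx', hiso _ hy']
    ring
  have hxe : ∀ i, B x (e i) = 0 := fun i => by
    show QuadraticMap.polar ⇑Q x (e i) = 0
    rw [QuadraticMap.polar_comm]
    exact congrFun hx' i
  show B x y = 0
  simpa [y', map_sub, map_sum, hxe] using h0

theorem reflection_smul {v : ι → F} {s : F} (hs : s ≠ 0) :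
    reflectionMatrix ⇑Q (s • v) = reflectionMatrix ⇑Q v := by
  refine Matrix.ext_of_mulVec_single fun i => ?_
  rw [Classical.reflectionMatrix_mulVec, Classical.reflectionMatrix_mulVec, QuadraticMap.map_smul,
    QuadraticMap.polar_smul_left, smul_smul, smul_eq_mul, smul_eq_mul]
  congr 2
  field_simp

theorem conj_reflection (g : isometryGroup F ⇑Q) (v : ι → F) :
    ((g : GL ι F) : Matrix ι ι F) * reflectionMatrix ⇑Q v * (((g : GL ι F)⁻¹ : GL ι F) : Matrix ι ι F) =
      reflectionMatrix ⇑Q (((g : GL ι F) : Matrix ι ι F) *ᵥ v) := by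
  set M := ((g : GL ι F) : Matrix ι ι F) with hM
  set N := (((g : GL ι F)⁻¹ : GL ι F) : Matrix ι ι F) with hN
  have hg : ∀ u, Q (M *ᵥ u) = Q u := Classical.mem_isometryGroup.1 g.2
  have hinv : ∀ x, M *ᵥ (N *ᵥ x) = x := fun x => by
    rw [Matrix.mulVec_mulVec, hM, hN, ← Matrix.GeneralLinearGroup.coe_mul, mul_inv_cancel, Units.val_one, Matrix.one_mulVec]
  refine Matrix.ext_of_mulVec_single fun i => ?_
  rw [← Matrix.mulVec_mulVec, ← Matrix.mulVec_mulVec, Classical.reflectionMatrix_mulVec,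
    Classical.reflectionMatrix_mulVec, Matrix.mulVec_sub, Matrix.mulVec_smul, hg, hinv]
  congr 3
  conv_rhs => rw [← hinv (Pi.single i 1)]
  simp only [QuadraticMap.polar, ← Matrix.mulVec_add, hg]

variable {Q}

theorem coe_conj {g r : isometryGroup F ⇑Q} {v : ι → F}
    (h : ((r : GL ι F) : Matrix ι ι F) = reflectionMatrix ⇑Q v) :
    (((g * r * g⁻¹ : isometryGroup F ⇑Q) : GL ι F) : Matrix ι ι F) =
      reflectionMatrix ⇑Q (((g : GL ι F) : Matrix ι ι F) *ᵥ v) := by
  rw [← conj_reflection Q g v, ← h]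
  simp only [Subgroup.coe_mul, Subgroup.coe_inv, Matrix.GeneralLinearGroup.coe_mul]

theorem reflection_sq {v : ι → F} (hv : Q v ≠ 0) : reflectionMatrix ⇑Q v * reflectionMatrix ⇑Q v = 1 := by
  refine Matrix.ext_of_mulVec_single fun i => ?_
  rw [← Matrix.mulVec_mulVec, Matrix.one_mulVec, Classical.reflectionMatrix_mulVec, Classical.reflectionMatrix_mulVec]
  set x : ι → F := Pi.single i 1
  rw [sub_eq_add_neg x, ← neg_smul, QuadraticMap.polar_add_right, QuadraticMap.polar_smul_right,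
    QuadraticMap.polar_self, two_smul, smul_eq_mul]
  match_scalars
  · simp
  · field_simp; ring

theorem three_cases : ∀ t : ZMod 3, t ≠ 0 → t * t = 1 := by decide

set_option maxHeartbeats 1000000 in
theorem reflection_class (n : ℕ) (hn : 4 ≤ n) (Q : QuadraticForm (ZMod 3) (Fin n → ZMod 3))
    (hQ : (QuadraticMap.polarBilin Q).Nondegenerate) (c : ZMod 3) (hc : c ≠ 0) :
    IsThreeTranspositionClass {g : ↥(reflectionSubgroup (⇑Q) c) |
      (g : ↥(isometryGroup (ZMod 3) (⇑Q))) ∈ reflectionsOfNorm (⇑Q) c} := by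
  classical
  set H := reflectionSubgroup (⇑Q) c with hH
  set D : Set H := {g | (g : ↥(isometryGroup (ZMod 3) (⇑Q))) ∈ reflectionsOfNorm (⇑Q) c} with hD
  have h2 : (2 : ZMod 3) ≠ 0 := by decide
  have mk : ∀ v, Q v = c → ∃ d ∈ D, (((d : ↥(isometryGroup (ZMod 3) (⇑Q))) : GL (Fin n) (ZMod 3)) : Matrix (Fin n) (Fin n) (ZMod 3)) = reflectionMatrix ⇑Q v := by
    intro v hv
    have hv0 : Q v ≠ 0 := hv ▸ hc
    let r := Classical.mkIsometry (Q := ⇑Q) (reflectionMatrix ⇑Q v)
      (by rw [Classical.det_reflection Q hv0]; decide) (Classical.reflection_preserves Q hv0)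
    have hr : r ∈ reflectionsOfNorm (⇑Q) c := ⟨v, hv, rfl⟩
    exact ⟨⟨r, Subgroup.subset_closure hr⟩, hr, rfl⟩
  have toMat : ∀ a b : H, (((a : ↥(isometryGroup (ZMod 3) (⇑Q))) : GL (Fin n) (ZMod 3)) : Matrix (Fin n) (Fin n) (ZMod 3)) =
      (((b : ↥(isometryGroup (ZMod 3) (⇑Q))) : GL (Fin n) (ZMod 3)) : Matrix (Fin n) (Fin n) (ZMod 3)) → a = b := fun a b e =>
    Subtype.ext (Subtype.ext (Units.ext e))
  have comm : ∀ a b : H, Commute (((a : ↥(isometryGroup (ZMod 3) (⇑Q))) : GL (Fin n) (ZMod 3)) : Matrix (Fin n) (Fin n) (ZMod 3))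
      (((b : ↥(isometryGroup (ZMod 3) (⇑Q))) : GL (Fin n) (ZMod 3)) : Matrix (Fin n) (Fin n) (ZMod 3)) ↔ Commute a b := fun a b =>
    ⟨fun e => toMat _ _ e, fun e => congrArg (fun z : H => (((z : ↥(isometryGroup (ZMod 3) (⇑Q))) : GL (Fin n) (ZMod 3)) : Matrix (Fin n) (Fin n) (ZMod 3))) e⟩
  have hconj : ∀ g : H, ∀ d ∈ D, g * d * g⁻¹ ∈ D := by
    rintro g d ⟨v, hv, e⟩
    refine ⟨_, ?_, coe_conj (g := (g : ↥(isometryGroup (ZMod 3) (⇑Q)))) e⟩
    rw [Classical.mem_isometryGroup.1 (g : ↥(isometryGroup (ZMod 3) (⇑Q))).2, hv]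
  have hsq : ∀ d ∈ D, d * d = 1 := fun d ⟨v, hv, e⟩ => toMat _ _ (by
    show (((d : ↥(isometryGroup (ZMod 3) (⇑Q))) : GL (Fin n) (ZMod 3)) : Matrix (Fin n) (Fin n) (ZMod 3)) * _ = 1
    rw [e, reflection_sq (hv ▸ hc)])
  have hord : ∀ d ∈ D, orderOf d = 2 := by
    intro d hd
    refine orderOf_eq_prime (by rw [pow_two]; exact hsq d hd) fun e => ?_
    obtain ⟨v, hv, ev⟩ := hd
    rw [e] at ev
    have h1 := congrArg (fun M => M *ᵥ v) ev
    simp only [OneMemClass.coe_one, Units.val_one, Matrix.one_mulVec, Classical.reflectionMatrix_mulVec,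
      QuadraticMap.polar_self, two_smul] at h1
    rw [← two_mul, hv, ← mul_assoc, mul_comm c⁻¹ 2, mul_assoc, inv_mul_cancel₀ hc, mul_one] at h1
    have hv0 : v ≠ 0 := fun h => hc (by rw [← hv, h, QuadraticMap.map_zero])
    have : ((2 : ZMod 3)) • v = 0 := by
      have h' := sub_eq_self.mp h1.symm
      exact h'
    exact hv0 ((smul_eq_zero.mp this).resolve_left h2)
  -- the braid relation
  have hbraid : ∀ a b : H, ∀ u v, Q u = c → Q v = c → QuadraticMap.polar ⇑Q u v ≠ 0 →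
      (((a : ↥(isometryGroup (ZMod 3) (⇑Q))) : GL (Fin n) (ZMod 3)) : Matrix (Fin n) (Fin n) (ZMod 3)) = reflectionMatrix ⇑Q u →
      (((b : ↥(isometryGroup (ZMod 3) (⇑Q))) : GL (Fin n) (ZMod 3)) : Matrix (Fin n) (Fin n) (ZMod 3)) = reflectionMatrix ⇑Q v →
      a * b * a⁻¹ = b * a * b⁻¹ := by
    intro a b u v hu hv hB ea eb
    apply toMat
    show (((↑a * ↑b * (↑a)⁻¹ : ↥(isometryGroup (ZMod 3) (⇑Q))) : GL (Fin n) (ZMod 3)) : Matrix (Fin n) (Fin n) (ZMod 3)) =
      (((↑b * ↑a * (↑b)⁻¹ : ↥(isometryGroup (ZMod 3) (⇑Q))) : GL (Fin n) (ZMod 3)) : Matrix (Fin n) (Fin n) (ZMod 3))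
    rw [coe_conj eb, coe_conj ea, ea, eb, Classical.reflectionMatrix_mulVec, Classical.reflectionMatrix_mulVec,
      hu, hv, QuadraticMap.polar_comm ⇑Q v u]
    set γ := c⁻¹ * QuadraticMap.polar ⇑Q u v
    have hγ : γ ≠ 0 := mul_ne_zero (inv_ne_zero hc) hB
    have e : u - γ • v = (-γ) • (v - γ • u) := by
      rw [smul_sub, smul_smul, neg_mul, three_cases γ hγ, neg_smul, neg_smul, one_smul]; abel
    rw [e, reflection_smul Q (neg_ne_zero.mpr hγ)]
  have h3 : IsThreeTranspositionSet D := by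
    refine ⟨hord, fun a ha b hb => ?_⟩
    obtain ⟨u, hu, ea⟩ := ha
    obtain ⟨v, hv, eb⟩ := hb
    have ia : a⁻¹ = a := inv_eq_of_mul_eq_one_right (hsq a ⟨u, hu, ea⟩)
    have ib : b⁻¹ = b := inv_eq_of_mul_eq_one_right (hsq b ⟨v, hv, eb⟩)
    by_cases h1 : v = u ∨ v = -u
    · left
      have : b = a := toMat _ _ (by
        rw [ea, eb]
        rcases h1 with rfl | rfl
        · rfl
        · rw [← neg_one_smul (ZMod 3) u, reflection_smul Q (by decide)])
      rw [this, hsq a ⟨u, hu, ea⟩, one_pow]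
    obtain ⟨h1, h1'⟩ := not_or.mp h1
    by_cases hB : QuadraticMap.polar ⇑Q u v = 0
    · left
      have hc' : Commute a b := (comm a b).mp (by
        rw [ea, eb]; exact (S5358.result n Q hQ u v (hu ▸ hc) (hu.trans hv.symm) h1 h1').mpr hB)
      rw [hc'.mul_pow, pow_two, pow_two, hsq a ⟨u, hu, ea⟩, hsq b ⟨v, hv, eb⟩, mul_one]
    · right
      have := hbraid a b u v hu hv hB ea eb
      rw [ia, ib] at this
      calc (a * b) ^ 3 = (a * b * a) * (b * a * b) := by simp only [pow_succ, pow_zero, one_mul, mul_assoc]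
        _ = (b * a * b) * (b * a * b) := by rw [this]
        _ = b * (a * (b * b) * a) * b := by simp only [mul_assoc]
        _ = 1 := by rw [hsq b ⟨v, hv, eb⟩, mul_one, hsq a ⟨u, hu, ea⟩, mul_one, hsq b ⟨v, hv, eb⟩]
  refine ThreeTrans.isClass_of_chain h3 hconj (ThreeTrans.closure_preimage _) ?_ ?_
  · obtain ⟨z, hz, -⟩ := exists_perp Q h2 hQ (k := 0) (by rw [Fintype.card_fin]; omega) (fun i => i.elim0)
      (fun i => i.elim0) (fun i => i.elim0)
    by_cases hzc : Q z = c
    · obtain ⟨d, hd, -⟩ := mk z hzc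
      exact ⟨d, hd⟩
    · obtain ⟨z', hz', hzz⟩ := exists_perp Q h2 hQ (k := 1) (by rw [Fintype.card_fin]; omega) (fun _ => z)
        (fun _ => hz) (fun i j h => absurd (Subsingleton.elim i j) h)
      have hcase : ∀ p q c : ZMod 3, p ≠ 0 → q ≠ 0 → c ≠ 0 → p ≠ c → q = c ∨ p + q + 0 = c := by decide
      rcases hcase _ _ c hz hz' hc hzc with e | e
      · obtain ⟨d, hd, -⟩ := mk z' e
        exact ⟨d, hd⟩
      · obtain ⟨d, hd, -⟩ := mk (z + z') (by rw [QuadraticMap.map_add ⇑Q, hzz 0, e])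
        exact ⟨d, hd⟩
  · rintro a ⟨u, hu, ea⟩ b ⟨v, hv, eb⟩ hab
    by_cases h1 : v = u ∨ v = -u
    · left
      apply toMat
      rw [ea, eb]
      rcases h1 with rfl | rfl
      · rfl
      · rw [← neg_one_smul (ZMod 3) u, reflection_smul Q (by decide)]
    obtain ⟨h1, h1'⟩ := not_or.mp h1
    have hu0 : Q u ≠ 0 := hu ▸ hc
    have hv0 : Q v ≠ 0 := hv ▸ hc
    have hB : QuadraticMap.polar ⇑Q u v = 0 :=
      (S5358.result n Q hQ u v hu0 (hu.trans hv.symm) h1 h1').mp (by rw [← ea, ← eb]; exact (comm a b).mpr hab)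
    have hperp2 : ∀ i j : Fin 2, i ≠ j → QuadraticMap.polar ⇑Q (![u, v] i) (![u, v] j) = 0 := by
      have hB' : QuadraticMap.polar ⇑Q v u = 0 := by rw [QuadraticMap.polar_comm]; exact hB
      intro i j hij
      fin_cases i <;> fin_cases j <;> first | exact absurd rfl hij | exact hB | exact hB'
    obtain ⟨z, hz, hzp⟩ := exists_perp Q h2 hQ (k := 2) (by rw [Fintype.card_fin]; omega) ![u, v]
      (fun i => by fin_cases i <;> assumption) hperp2
    obtain ⟨z1, hz1, hu1, hv1⟩ : ∃ z1, Q z1 = -c ∧ QuadraticMap.polar ⇑Q u z1 = 0 ∧ QuadraticMap.polar ⇑Q v z1 = 0 := by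
      by_cases e : Q z = -c
      · exact ⟨z, e, hzp 0, hzp 1⟩
      obtain ⟨z', hz', hzp'⟩ := exists_perp Q h2 hQ (k := 3) (by rw [Fintype.card_fin]; omega) ![u, v, z]
        (fun i => by fin_cases i <;> assumption) (fun i j hij => by
          have p1 : QuadraticMap.polar ⇑Q v u = 0 := by rw [QuadraticMap.polar_comm]; exact hB
          have p2 : QuadraticMap.polar ⇑Q u z = 0 := hzp 0
          have p3 : QuadraticMap.polar ⇑Q v z = 0 := hzp 1
          have p4 : QuadraticMap.polar ⇑Q z u = 0 := by rw [QuadraticMap.polar_comm]; exact p2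
          have p5 : QuadraticMap.polar ⇑Q z v = 0 := by rw [QuadraticMap.polar_comm]; exact p3
          fin_cases i <;> fin_cases j <;>
            first | exact absurd rfl hij | exact hB | exact p1 | exact p2 | exact p3 | exact p4 | exact p5)
      have hcase : ∀ p q c : ZMod 3, p ≠ 0 → q ≠ 0 → c ≠ 0 → p ≠ -c → q = -c ∨ p + q + 0 = -c := by decide
      rcases hcase _ _ c hz hz' hc e with e' | e'
      · exact ⟨z', e', hzp' 0, hzp' 1⟩
      · refine ⟨z + z', ?_, ?_, ?_⟩
        · rw [QuadraticMap.map_add ⇑Q, show QuadraticMap.polar ⇑Q z z' = 0 from hzp' 2, e']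
        · rw [QuadraticMap.polar_add_right, show QuadraticMap.polar ⇑Q u z = 0 from hzp 0,
            show QuadraticMap.polar ⇑Q u z' = 0 from hzp' 0, add_zero]
        · rw [QuadraticMap.polar_add_right, show QuadraticMap.polar ⇑Q v z = 0 from hzp 1,
            show QuadraticMap.polar ⇑Q v z' = 0 from hzp' 1, add_zero]
    right
    have hBw : QuadraticMap.polar ⇑Q u (u + v + z1) = 2 * c ∧ QuadraticMap.polar ⇑Q v (u + v + z1) = 2 * c := by
      simp only [QuadraticMap.polar_add_right, QuadraticMap.polar_self, two_smul, hu, hv, hu1, hv1, hB,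
        QuadraticMap.polar_comm ⇑Q v u, two_mul]
      constructor <;> ring
    have hQw : Q (u + v + z1) = c := by
      rw [QuadraticMap.map_add ⇑Q, QuadraticMap.map_add ⇑Q u v, hB, hu, hv, hz1, QuadraticMap.polar_add_left, hu1, hv1]
      ring
    obtain ⟨d, hd, ed⟩ := mk _ hQw
    refine ⟨d, hd, fun hc' => ?_, fun hc' => ?_⟩
    · have := (S5358.result n Q hQ u (u + v + z1) hu0 (hu.trans hQw.symm) (fun h => ?_) (fun h => ?_)).mp
        (by rw [← ea, ← ed]; exact (comm a d).mpr hc')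
      · rw [hBw.1] at this; exact mul_ne_zero h2 hc this
      · have h' := hBw.2; rw [h, QuadraticMap.polar_comm, hB] at h'; exact mul_ne_zero h2 hc h'.symm
      · have h' := hBw.2; rw [h, QuadraticMap.polar_neg_right, QuadraticMap.polar_comm, hB, neg_zero] at h'
        exact mul_ne_zero h2 hc h'.symm
    · have := (S5358.result n Q hQ v (u + v + z1) hv0 (hv.trans hQw.symm) (fun h => ?_) (fun h => ?_)).mp
        (by rw [← eb, ← ed]; exact (comm b d).mpr hc'.symm)
      · rw [hBw.2] at this; exact mul_ne_zero h2 hc this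
      · have h' := hBw.1; rw [h, hB] at h'; exact mul_ne_zero h2 hc h'.symm
      · have h' := hBw.1; rw [h, QuadraticMap.polar_neg_right, hB, neg_zero] at h'
        exact mul_ne_zero h2 hc h'.symm

end Cfsg.Agent.Spor.ReflThree
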