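import Cfsg.Agent.Lib.Spor.ReflectionStructThree
import Cfsg.Agent.Lib.Classical.OrthSpinor

/-! The reflections of fixed norm generate a subgroup of index two. -/

set_option autoImplicit false
set_option linter.style.haveILetI false

namespace Cfsg.Agent.Spor.ReflThree

open Matrix Cfsg Cfsg.Agent.Classical

variable {n : ℕ} {Q : QuadraticForm (ZMod 3) (Fin n → ZMod 3)}

theorem reflection_index (hn : 5 ≤ n) (hQ : (QuadraticMap.polarBilin Q).Nondegenerate) {c : ZMod 3} (hc : c ≠ 0) :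
    (reflectionSubgroup (⇑Q) c).index = 2 := by
  classical
  have h2 : (2 : ZMod 3) ≠ 0 := by decide
  have hG : OrthAut.GenQ (ZMod 3) (Fin n) := OrthAut.genQ_odd hQ h2
  set R := reflectionSubgroup (⇑Q) c with hR
  have hval : ∀ (v : Fin n → ZMod 3) (hv : Q v ≠ 0),
      (((OrthAut.refl hv : isometryGroup (ZMod 3) ⇑Q) : GL (Fin n) (ZMod 3)) : Matrix (Fin n) (Fin n) (ZMod 3)) =
        reflectionMatrix ⇑Q v := fun v hv => rfl
  have hmem : ∀ (v : Fin n → ZMod 3) (hv : Q v ≠ 0), Q v = c → OrthAut.refl hv ∈ R := fun v hv e =>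
    Subgroup.subset_closure ⟨v, e, rfl⟩
  haveI hn' : R.Normal := by
    refine ⟨fun x hx g => ?_⟩
    rw [hR, reflectionSubgroup] at hx ⊢
    induction hx using Subgroup.closure_induction with
    | mem y hy =>
      obtain ⟨v, hv, e⟩ := hy
      exact Subgroup.subset_closure ⟨_, by rw [Classical.mem_isometryGroup.1 g.2, hv], coe_conj e⟩
    | one => simp
    | mul a b _ _ ha hb => rw [show g * (a * b) * g⁻¹ = g * a * g⁻¹ * (g * b * g⁻¹) by group]; exact mul_mem ha hb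
    | inv a _ ha => rw [show g * a⁻¹ * g⁻¹ = (g * a * g⁻¹)⁻¹ by group]; exact inv_mem ha
  have hnc : -c ≠ 0 := neg_ne_zero.mpr hc
  have cong : ∀ (x y : Fin n → ZMod 3) (hx : Q x ≠ 0) (hy : Q y ≠ 0), Q x = -c → Q y = -c →
      QuadraticMap.polar ⇑Q x y = 0 → (OrthAut.refl hx)⁻¹ * OrthAut.refl hy ∈ R := by
    intro x y hx hy ex ey hxy
    have hxz : Q (x + y) = c := by
      rw [QuadraticMap.map_add ⇑Q, ex, ey, hxy]
      exact (by decide : ∀ c : ZMod 3, -c + -c + 0 = c) c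
    have hz0 : Q (x + y) ≠ 0 := hxz ▸ hc
    obtain ⟨s, es⟩ : ∃ s, s = OrthAut.refl hz0 := ⟨_, rfl⟩
    have hs : s ∈ R := es ▸ hmem _ hz0 hxz
    have key : OrthAut.refl hy = s * OrthAut.refl hx * s⁻¹ := OrthAut.ogVal_ext (by
      show reflectionMatrix ⇑Q y = (((s * OrthAut.refl hx * s⁻¹ : isometryGroup (ZMod 3) ⇑Q) : GL (Fin n) (ZMod 3)) : Matrix (Fin n) (Fin n) (ZMod 3))
      rw [coe_conj (hval x hx), es, hval, Classical.reflectionMatrix_mulVec, QuadraticMap.polar_add_left,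
        QuadraticMap.polar_self, QuadraticMap.polar_comm ⇑Q y x, hxy, hxz, ex, two_smul, add_zero,
        inv_eq_of_mul_eq_one_right (three_cases c hc), (by decide : ∀ c : ZMod 3, c ≠ 0 → c * (-c + -c) = 1) c hc, one_smul,
        show x - (x + y) = -y by abel, ← neg_one_smul (ZMod 3) y, reflection_smul Q (by decide)])
    rw [key, show (OrthAut.refl hx)⁻¹ * (s * OrthAut.refl hx * s⁻¹) =
      ((OrthAut.refl hx)⁻¹ * s * (OrthAut.refl hx)⁻¹⁻¹) * s⁻¹ by group]
    exact mul_mem (hn'.conj_mem s hs _) (inv_mem hs)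
  have congAll : ∀ (x y : Fin n → ZMod 3) (hx : Q x ≠ 0) (hy : Q y ≠ 0), Q x = -c → Q y = -c →
      (OrthAut.refl hx)⁻¹ * OrthAut.refl hy ∈ R := by
    intro x y hx hy ex ey
    by_cases hxy : QuadraticMap.polar ⇑Q x y = 0
    · exact cong x y hx hy ex ey hxy
    obtain ⟨w, hw, w1, w2⟩ := exists_common hQ hn hnc ex ey hxy
    have hw0 : Q w ≠ 0 := hw ▸ hnc
    have := mul_mem (cong x w hx hw0 ex hw w1) (cong w y hw0 hy hw ey (by rw [QuadraticMap.polar_comm]; exact w2))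
    rwa [show (OrthAut.refl hx)⁻¹ * OrthAut.refl hw0 * ((OrthAut.refl hw0)⁻¹ * OrthAut.refl hy) =
      (OrthAut.refl hx)⁻¹ * OrthAut.refl hy by group] at this
  obtain ⟨z, hz, -⟩ := exists_norm_perp hQ hnc (k := 0) (by omega) (fun i => i.elim0) (fun i => i.elim0)
    (fun i => i.elim0)
  have hz0 : Q z ≠ 0 := hz ▸ hnc
  let π := QuotientGroup.mk' R
  have hcyc : Subgroup.zpowers (π (OrthAut.refl hz0)) = ⊤ := by
    rw [eq_top_iff, ← Subgroup.map_top_of_surjective π (QuotientGroup.mk'_surjective R),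
      ← OrthAut.reflGroup_eq_top_gen hQ hG, OrthAut.reflGroup, MonoidHom.map_closure, Subgroup.closure_le]
    rintro _ ⟨_, ⟨v, hv, rfl⟩, rfl⟩
    rcases (by decide : ∀ q c : ZMod 3, q ≠ 0 → c ≠ 0 → q = c ∨ q = -c) _ c hv hc with e | e
    · rw [show π (OrthAut.refl hv) = 1 from (QuotientGroup.eq_one_iff _).mpr (hmem v hv e)]
      exact one_mem _
    · have : π (OrthAut.refl hz0) = π (OrthAut.refl hv) := QuotientGroup.eq.mpr (congAll z v hz0 hv hz e)
      exact this ▸ Subgroup.mem_zpowers _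
  have hle : R.index ∣ 2 := by
    rw [Subgroup.index, ← Subgroup.card_top (G := _ ⧸ R), ← hcyc, Nat.card_zpowers]
    exact orderOf_dvd_of_pow_eq_one (by rw [← map_pow, pow_two, OrthAut.refl_mul_self, map_one])
  obtain ⟨ψ, hψc, hψn⟩ : ∃ ψ : isometryGroup (ZMod 3) ⇑Q →* ℤˣ,
      (∀ (v : Fin n → ZMod 3) (hv : Q v ≠ 0), Q v = c → ψ (OrthAut.refl hv) = 1) ∧
      (∀ (v : Fin n → ZMod 3) (hv : Q v ≠ 0), Q v = -c → ψ (OrthAut.refl hv) = -1) := by
    have hsq : IsSquare (1 : ZMod 3) := ⟨1, rfl⟩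
    have hns : ¬ IsSquare (2 : ZMod 3) := by rintro ⟨t, ht⟩; revert ht; revert t; decide
    rcases (by decide : ∀ c : ZMod 3, c ≠ 0 → c = 1 ∨ c = 2) c hc with rfl | rfl
    · refine ⟨OrthAut.spinHom hQ, fun v hv e => ?_, fun v hv e => ?_⟩ <;>
        rw [OrthAut.spinHom_apply, OrthAut.spin_refl hQ hv, e]
      · exact OrthAut.sqSign_of_isSquare hsq
      · exact OrthAut.sqSign_of_not hns
    · refine ⟨OrthAut.dickGen hQ hG * OrthAut.spinHom hQ, fun v hv e => ?_, fun v hv e => ?_⟩ <;>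
        rw [MonoidHom.mul_apply, OrthAut.spinHom_apply, OrthAut.spin_refl hQ hv, e,
          show OrthAut.dickGen hQ hG (OrthAut.refl hv) = -1 from OrthAut.dick_refl hQ hv]
      · rw [OrthAut.sqSign_of_not hns]; rfl
      · rw [show -(2 : ZMod 3) = 1 from rfl, OrthAut.sqSign_of_isSquare hsq]; rfl
  have hker : R ≤ ψ.ker := by
    rw [hR, reflectionSubgroup, Subgroup.closure_le]
    rintro g ⟨v, hv, e⟩
    have hv0 : Q v ≠ 0 := hv ▸ hc
    rw [show g = OrthAut.refl hv0 from OrthAut.ogVal_ext e]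
    exact hψc v hv0 hv
  refine ((Nat.dvd_prime Nat.prime_two).mp hle).resolve_left fun h => ?_
  rw [Subgroup.index_eq_one] at h
  have h1 := hker (h ▸ Subgroup.mem_top (OrthAut.refl hz0))
  rw [MonoidHom.mem_ker, hψn z hz0 hz] at h1
  exact absurd h1 (by decide)

end Cfsg.Agent.Spor.ReflThree
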