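import Mathlib

/-! Kernel-checkable certificates for coset enumerations.

A group is generated by involutions `g 0, …, g (n-1)` in which the words of `rels` are trivial, and
`H` contains the words of `sub`. A table gives, for each coset and generator, the target, a rank
and a witness. A witness is either a tree edge, the reverse of an edge of smaller rank, or a scan
of a word all of whose other edges have smaller rank. -/

set_option autoImplicit false

namespace Cfsg.Agent.Spor.Coset

/-- Evaluation of a word. -/
def ev {G : Type*} [Group G] (g : ℕ → G) : List ℕ → G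
  | [] => 1
  | s :: w => g s * ev g w

theorem ev_append {G : Type*} [Group G] (g : ℕ → G) :
    ∀ v w : List ℕ, ev g (v ++ w) = ev g v * ev g w
  | [], w => by simp [ev]
  | s :: v, w => by simp [ev, ev_append g v w, mul_assoc]

theorem ev_mem {G : Type*} [Group G] {g : ℕ → G} {H : Subgroup G} :
    ∀ w : List ℕ, (∀ s ∈ w, g s ∈ H) → ev g w ∈ H
  | [], _ => H.one_mem
  | s :: w, h => H.mul_mem (h s (List.mem_cons_self ..))
      (ev_mem w fun t ht => h t (List.mem_cons_of_mem _ ht))

theorem ev_map {G K : Type*} [Group G] [Group K] (f : G →* K) (g : ℕ → G) :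
    ∀ w : List ℕ, f (ev g w) = ev (fun s => f (g s)) w
  | [] => by simp [ev]
  | s :: w => by simp [ev, ev_map f g w]

/-- The content of a certificate. -/
structure Cert where
  /-- number of cosets -/
  N : ℕ
  /-- number of generators -/
  n : ℕ
  /-- target of an edge -/
  tgt : ℕ → ℕ → ℕ
  /-- rank of an edge -/
  rank : ℕ → ℕ → ℕ
  /-- `0`: tree edge; `1`: reverse edge; otherwise scan code -/
  wit : ℕ → ℕ → ℕ
  /-- parent edge of a coset, packed as `a * n + s` -/
  par : ℕ → ℕ
  /-- relators -/
  rels : List (List ℕ)
  /-- subgroup words -/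
  sub : List (List ℕ)

namespace Cert

variable (C : Cert)

/-- Walk a word by edges of rank below `r`; `C.N` means failure. -/
def walk (r : ℕ) : ℕ → List ℕ → ℕ
  | a, [] => a
  | a, s :: w =>
    if decide (a < C.N) && decide (s < C.n) && decide (C.rank a s < r) then walk r (C.tgt a s) w
    else C.N

/-- A scan witness `2 + ((a₀ * L + j) * 64 + k)` where `L` is the number of words. -/
def scanOk (a s : ℕ) (code : ℕ) : Bool :=
  let L := C.rels.length + C.sub.length
  let k := code % 64
  let j := (code / 64) % L
  let a₀ := (code / 64) / L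
  let w := if j < C.rels.length then C.rels.getD j [] else C.sub.getD (j - C.rels.length) []
  decide (a₀ < C.N) && decide (j < L) && (decide (j < C.rels.length) || (a₀ == 0)) &&
    decide (k < w.length) && (w.getD k C.n == s) &&
    (C.walk (C.rank a s) a₀ (w.take k) == a) &&
    (C.walk (C.rank a s) (C.tgt a s) (w.drop (k + 1)) == a₀)

/-- One edge. -/
def edgeOk (a s : ℕ) : Bool :=
  decide (C.tgt a s < C.N) &&
    if C.wit a s = 0 then !(C.tgt a s == 0) && (C.par (C.tgt a s) == a * C.n + s)
    else if C.wit a s = 1 then
      decide (C.rank (C.tgt a s) s < C.rank a s) && (C.tgt (C.tgt a s) s == a)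
    else C.scanOk a s (C.wit a s - 2)

/-- The parent of a coset is smaller. -/
def parOk (b : ℕ) : Bool := (b == 0) || (decide (C.par b / C.n < b) && decide (0 < C.n))

/-- The whole certificate. -/
def check : Bool :=
  decide (0 < C.N) &&
    (List.range C.N).all fun a => C.parOk a && (List.range C.n).all fun s => C.edgeOk a s

variable {G : Type*} [Group G] (g : ℕ → G)

/-- Representatives, with fuel. -/
def repAux : ℕ → ℕ → G
  | 0, _ => 1
  | f + 1, b => if b = 0 then 1 else repAux f (C.par b / C.n) * g (C.par b % C.n)

/-- The representative of a coset. -/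
def rep (b : ℕ) : G := C.repAux g b b

theorem repAux_eq (hp : ∀ b < C.N, C.parOk b = true) :
    ∀ f b, b < C.N → b ≤ f → C.repAux g f b = C.repAux g b b := by
  intro f
  induction f using Nat.strong_induction_on with
  | _ f ih =>
    intro b hb hbf
    rcases f with _ | f
    · rw [Nat.le_zero.mp hbf]
    rcases b with _ | b
    · simp [repAux]
    have h := hp (b + 1) hb
    simp only [parOk, Nat.add_one_ne_zero, beq_iff_eq, Bool.or_eq_true, Bool.and_eq_true,
      decide_eq_true_eq, false_or] at h
    simp only [repAux, Nat.add_one_ne_zero, if_false]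
    rw [ih f (Nat.lt_succ_self f) _ (by omega) (by omega)]
    rcases Nat.lt_or_ge b f with hlt | hge
    · rw [ih b (by omega) _ (by omega) (by omega)]
    · rw [show b = f by omega] at h ⊢
      rw [ih f (Nat.lt_succ_self f) _ (by omega) (by omega)]

theorem rep_step (hp : ∀ b < C.N, C.parOk b = true) {b : ℕ} (hb : b < C.N) (h0 : b ≠ 0) :
    C.rep g b = C.rep g (C.par b / C.n) * g (C.par b % C.n) := by
  obtain ⟨c, rfl⟩ := Nat.exists_eq_succ_of_ne_zero h0
  have h := hp (c + 1) hb
  simp only [parOk, Nat.add_one_ne_zero, beq_iff_eq, Bool.or_eq_true, Bool.and_eq_true,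
    decide_eq_true_eq, false_or] at h
  show C.repAux g (c + 1) (c + 1) = _
  rw [repAux, if_neg (Nat.add_one_ne_zero c), C.repAux_eq g hp c _ (by omega) (by omega)]
  rfl

/-- The edge is true in the group. -/
def Holds (H : Subgroup G) (a s : ℕ) : Prop := C.rep g a * g s * (C.rep g (C.tgt a s))⁻¹ ∈ H

theorem walk_sound {H : Subgroup G} {r : ℕ}
    (hr : ∀ a < C.N, ∀ s < C.n, C.rank a s < r → C.Holds g H a s) :
    ∀ (w : List ℕ) (a b : ℕ), C.walk r a w = b → b < C.N →
      C.rep g a * ev g w * (C.rep g b)⁻¹ ∈ H
  | [], a, b, h, _ => by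
    simp only [walk] at h
    subst h
    simp [ev]
  | s :: w, a, b, h, hb => by
    simp only [walk] at h
    split at h
    · next hc =>
      simp only [Bool.and_eq_true, decide_eq_true_eq] at hc
      have h1 := hr a hc.1.1 s hc.1.2 hc.2
      have h2 := walk_sound hr w _ b h hb
      have := H.mul_mem h1 h2
      simp only [ev]
      simpa [mul_assoc] using this
    · omega

theorem holds_all (hc : C.check = true) {H : Subgroup G} (hinv : ∀ s < C.n, g s * g s = 1)
    (hrels : ∀ w ∈ C.rels, ev g w = 1) (hsub : ∀ w ∈ C.sub, ev g w ∈ H) :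
    ∀ a < C.N, ∀ s < C.n, C.Holds g H a s := by
  simp only [check, Bool.and_eq_true, decide_eq_true_eq, List.all_eq_true, List.mem_range] at hc
  have hp : ∀ b < C.N, C.parOk b = true := fun b hb => (hc.2 b hb).1
  suffices H' : ∀ r, ∀ a < C.N, ∀ s < C.n, C.rank a s = r → C.Holds g H a s from
    fun a ha s hs => H' _ a ha s hs rfl
  intro r
  induction r using Nat.strong_induction_on with
  | _ r ih =>
    intro a ha s hs hr
    have hlt : ∀ a' < C.N, ∀ s' < C.n, C.rank a' s' < C.rank a s → C.Holds g H a' s' :=
      fun a' ha' s' hs' h => ih _ (hr ▸ h) a' ha' s' hs' rfl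
    have he := (hc.2 a ha).2 s hs
    simp only [edgeOk, Bool.and_eq_true, decide_eq_true_eq] at he
    obtain ⟨ht, he⟩ := he
    split at he
    · simp only [Bool.and_eq_true, Bool.not_eq_true', beq_eq_false_iff_ne, beq_iff_eq] at he
      have hn : 0 < C.n := by omega
      unfold Holds
      rw [C.rep_step g hp ht he.1, he.2, Nat.add_comm, Nat.add_mul_div_right _ _ hn,
        Nat.div_eq_of_lt hs, Nat.add_mul_mod_self_right, Nat.mod_eq_of_lt hs, Nat.zero_add,
        mul_inv_cancel]
      exact H.one_mem
    · split at he
      · simp only [Bool.and_eq_true, decide_eq_true_eq, beq_iff_eq] at he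
        have h1 := hlt _ ht s hs he.1
        unfold Holds at h1 ⊢
        rw [he.2] at h1
        have := H.inv_mem h1
        have hi : (g s)⁻¹ = g s := inv_eq_of_mul_eq_one_left (hinv s hs)
        simpa [mul_assoc, hi] using this
      · simp only [scanOk, Bool.and_eq_true, decide_eq_true_eq, Bool.or_eq_true, beq_iff_eq] at he
        obtain ⟨⟨⟨⟨⟨⟨ha₀, -⟩, hz⟩, hk⟩, hs'⟩, hw1⟩, hw2⟩ := he
        generalize hcode : C.wit a s - 2 = code at *
        generalize ha₀' : code / 64 / (C.rels.length + C.sub.length) = a₀ at *
        generalize code / 64 % (C.rels.length + C.sub.length) = j at *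
        generalize code % 64 = k at *
        generalize hw : (if j < C.rels.length then C.rels.getD j []
          else C.sub.getD (j - C.rels.length) []) = w at *
        have e1 := C.walk_sound g hlt _ _ _ hw1 ha
        have e2 := C.walk_sound g hlt _ _ _ hw2 ha₀
        have hwdec : w = w.take k ++ s :: w.drop (k + 1) := by
          rw [List.getD_eq_getElem _ _ hk] at hs'
          rw [← hs', List.getElem_cons_drop, List.take_append_drop]
        have hev : C.rep g a₀ * ev g w * (C.rep g a₀)⁻¹ ∈ H := by
          by_cases hj : j < C.rels.length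
          · have : ev g w = 1 := hrels _ (by
              rw [← hw, if_pos hj, List.getD_eq_getElem _ _ hj]
              exact List.getElem_mem hj)
            rw [this]
            simp
          · rcases hz with hz | hz
            · exact absurd hz hj
            · have h0 : C.rep g 0 = 1 := by simp [rep, repAux]
              rw [hz, h0, one_mul, inv_one, mul_one, ← hw, if_neg hj]
              by_cases hj' : j - C.rels.length < C.sub.length
              · rw [List.getD_eq_getElem _ _ hj']
                exact hsub _ (List.getElem_mem hj')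
              · rw [List.getD_eq_default _ _ (by omega)]
                exact H.one_mem
        rw [hwdec, ev_append] at hev
        simp only [ev] at hev
        have := H.mul_mem (H.mul_mem (H.inv_mem e1) hev) (H.inv_mem e2)
        unfold Holds
        simpa [mul_assoc] using this

/-- Every element lies in one of the cosets. -/
theorem exists_rep (hc : C.check = true) {H : Subgroup G} (hinv : ∀ s < C.n, g s * g s = 1)
    (hgen : Subgroup.closure {x | ∃ s < C.n, g s = x} = ⊤)
    (hrels : ∀ w ∈ C.rels, ev g w = 1) (hsub : ∀ w ∈ C.sub, ev g w ∈ H) (x : G) :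
    ∃ b < C.N, x * (C.rep g b)⁻¹ ∈ H := by
  have hall := C.holds_all g hc hinv hrels hsub
  simp only [check, Bool.and_eq_true, decide_eq_true_eq, List.all_eq_true, List.mem_range] at hc
  have hx : x ∈ Subgroup.closure {x | ∃ s < C.n, g s = x} := hgen ▸ Subgroup.mem_top x
  have step : ∀ y s, s < C.n → (∃ b < C.N, y * (C.rep g b)⁻¹ ∈ H) →
      ∃ b < C.N, y * g s * (C.rep g b)⁻¹ ∈ H := by
    rintro y s hs ⟨b, hb, hy⟩
    have ht := (hc.2 b hb).2 s hs
    simp only [edgeOk, Bool.and_eq_true, decide_eq_true_eq] at ht
    refine ⟨C.tgt b s, ht.1, ?_⟩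
    simpa [mul_assoc] using H.mul_mem hy (hall b hb s hs)
  induction hx using Subgroup.closure_induction_right with
  | one => exact ⟨0, hc.1, by simp [rep, repAux]⟩
  | mul_right y _ z hz ih =>
    obtain ⟨s, hs, rfl⟩ := hz
    exact step y s hs ih
  | mul_inv_cancel y _ z hz ih =>
    obtain ⟨s, hs, rfl⟩ := hz
    rw [inv_eq_of_mul_eq_one_left (hinv s hs)]
    exact step y s hs ih

/-- The index is positive and at most the number of cosets. -/
theorem index_le (hc : C.check = true) {H : Subgroup G} (hinv : ∀ s < C.n, g s * g s = 1)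
    (hgen : Subgroup.closure {x | ∃ s < C.n, g s = x} = ⊤)
    (hrels : ∀ w ∈ C.rels, ev g w = 1) (hsub : ∀ w ∈ C.sub, ev g w ∈ H) :
    H.FiniteIndex ∧ H.index ≤ C.N := by
  let f : Fin C.N → G ⧸ H := fun b => QuotientGroup.mk (C.rep g b)⁻¹
  have hf : Function.Surjective f := by
    intro q
    induction q using QuotientGroup.induction_on with
    | _ x =>
      obtain ⟨b, hb, h⟩ := C.exists_rep g hc hinv hgen hrels hsub x⁻¹
      refine ⟨⟨b, hb⟩, (QuotientGroup.eq).mpr ?_⟩
      have := H.inv_mem h
      simpa using this
  haveI : Finite (G ⧸ H) := Finite.of_surjective f hf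
  refine ⟨Subgroup.finiteIndex_of_finite_quotient, ?_⟩
  rw [Subgroup.index]
  exact (Nat.card_le_card_of_surjective f hf).trans_eq (by simp)

end Cert

/-- Lookup in a packed table with fields of `w` bits. -/
def fld (w T i : ℕ) : ℕ := (T >>> (w * i)) % 2 ^ w

end Cfsg.Agent.Spor.Coset
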