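import Cfsg.Agent.Lib.Spor.Multiplier
import Cfsg.Agent.Lib.Spor.Coset

/-!
Splitting of a central extension by an elementary abelian 2-group over a Sylow 2-subgroup `V U`: lifts of
involutions are involutions, and `V` has a canonical lift `⁅g, V⁆` for an element `g` of order three acting
without fixed points, the same for commuting such elements.
-/

set_option autoImplicit false
set_option linter.style.haveILetI false
set_option linter.unusedSectionVars false

open scoped commutatorElement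

universe u

namespace Cfsg.Agent.Spor.Mult

section Reduce

variable {G : Type u} [Group G] [Finite G]

/-- It suffices to treat stem extensions with kernel of prime exponent. -/
theorem trivial_of_prime
    (h : ∀ p : ℕ, p.Prime → ∀ (Δ : Type u) [Group Δ] [Finite Δ] (σ : Δ →* G), Cfsg.IsStemExtension σ →
      (∀ z ∈ σ.ker, z ^ p = 1) → σ.ker = ⊥) :
    Cfsg.HasCyclicSchurMultiplier G 1 := by
  refine trivial_of_forall fun Δ _ _ σ hσ => ?_
  by_contra hne
  obtain ⟨p, hp, hdvd⟩ := Nat.exists_prime_and_dvd (fun e => hne (Subgroup.card_eq_one.1 e) : Nat.card σ.ker ≠ 1)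
  have : Fact p.Prime := ⟨hp⟩
  have hcm : ∀ a b : σ.ker, Commute a b := fun a b =>
    Subtype.ext (Subgroup.mem_center_iff.1 (hσ.2.1 b.2) (a : Δ))
  let powP : σ.ker →* Δ :=
    { toFun := fun z => (z : Δ) ^ p
      map_one' := by simp
      map_mul' := fun a b => by
        show ((a : Δ) * b) ^ p = _
        exact Commute.mul_pow (Subgroup.mem_center_iff.1 (hσ.2.1 b.2) (a : Δ)) p }
  set K := powP.range with hK
  have hKker : K ≤ σ.ker := by
    rintro _ ⟨z, rfl⟩; exact pow_mem z.2 p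
  have hKlt : ¬ σ.ker ≤ K := by
    intro hle
    obtain ⟨z, hz⟩ := exists_prime_orderOf_dvd_card' p hdvd
    have hsurj : Function.Surjective fun w : σ.ker => w ^ p := fun w => by
      obtain ⟨v, hv⟩ := hle w.2; exact ⟨v, Subtype.ext hv⟩
    have hinj := Finite.injective_iff_surjective.2 hsurj
    have h1 : z = 1 := hinj (show z ^ p = (1 : σ.ker) ^ p by rw [one_pow, ← hz, pow_orderOf_eq_one])
    rw [h1, orderOf_one] at hz
    exact hp.ne_one hz.symm
  haveI : K.Normal := ⟨fun n hn g => by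
    rwa [Subgroup.mem_center_iff.1 (hσ.2.1 (hKker hn)) g, mul_inv_cancel_right]⟩
  let τ := QuotientGroup.lift K σ hKker
  have hτ : Cfsg.IsStemExtension τ := by
    refine ⟨fun x => ?_, ?_, ?_⟩
    · obtain ⟨y, rfl⟩ := hσ.1 x; exact ⟨QuotientGroup.mk y, rfl⟩
    · intro q hq
      induction q using QuotientGroup.induction_on with
      | _ y =>
        refine Subgroup.mem_center_iff.2 fun r => ?_
        induction r using QuotientGroup.induction_on with
        | _ g => rw [← QuotientGroup.mk_mul, ← QuotientGroup.mk_mul, Subgroup.mem_center_iff.1 (hσ.2.1 hq) g]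
    · intro q hq
      induction q using QuotientGroup.induction_on with
      | _ y =>
        have : QuotientGroup.mk' K y ∈ (commutator Δ).map (QuotientGroup.mk' K) := ⟨y, hσ.2.2 hq, rfl⟩
        have hle : (commutator Δ).map (QuotientGroup.mk' K) ≤ commutator (Δ ⧸ K) := by
          rw [commutator_def, Subgroup.map_commutator]; exact Subgroup.commutator_mono le_top le_top
        exact hle this
  have hb : τ.ker = ⊥ := h p hp (Δ ⧸ K) τ hτ fun q hq => by
    induction q using QuotientGroup.induction_on with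
    | _ y =>
      rw [← QuotientGroup.mk_pow]
      exact (QuotientGroup.eq_one_iff _).2 ⟨⟨y, hq⟩, rfl⟩
  refine hKlt fun z hz => (QuotientGroup.eq_one_iff z).1 ?_
  have : (QuotientGroup.mk z : Δ ⧸ K) ∈ τ.ker := hz
  rwa [hb, Subgroup.mem_bot] at this

end Reduce

/-- The hypotheses on a central extension with kernel of exponent two. -/
structure TwoExt {Δ G : Type*} [Group Δ] [Group G] (σ : Δ →* G) : Prop where
  surj : Function.Surjective σ
  cen : σ.ker ≤ Subgroup.center Δ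
  el : ∀ z ∈ σ.ker, z * z = 1

variable {Δ G : Type*} [Group Δ] [Group G] {σ : Δ →* G}

/-- Every lift of `x` squares to one. -/
def Inv1 (σ : Δ →* G) (x : G) : Prop := ∀ s, σ s = x → s * s = 1

theorem bracket_congr (hc : σ.ker ≤ Subgroup.center Δ) {x x' y y' : Δ} (hx : σ x = σ x') (hy : σ y = σ y') :
    ⁅x, y⁆ = ⁅x', y'⁆ := by
  have cl : ∀ {s t : Δ}, σ s = σ t → ∀ u : Δ, ⁅s, u⁆ = ⁅t, u⁆ := by
    intro s t h u
    have hz : ∀ v, v * (s * t⁻¹) = s * t⁻¹ * v := fun v => Subgroup.mem_center_iff.1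
      (hc (by rw [MonoidHom.mem_ker, map_mul, map_inv, h, mul_inv_cancel])) v
    rw [show s = (s * t⁻¹) * t by group, show ⁅s * t⁻¹ * t, u⁆ = (s * t⁻¹) * ⁅t, u⁆ * (s * t⁻¹)⁻¹ * ⁅s * t⁻¹, u⁆ by
      simp only [commutatorElement_def]; group, ← hz, mul_inv_cancel_right,
      commutatorElement_eq_one_iff_commute.2 (hz u).symm, mul_one]
  rw [cl hx, ← commutatorElement_inv, cl hy, commutatorElement_inv]

namespace TwoExt

variable (H : TwoExt σ)
include H

theorem inv1_one : Inv1 σ 1 := fun s hs => H.el s hs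

theorem sq_congr {s t : Δ} (h : σ s = σ t) : s * s = t * t := by
  have hzk : s * t⁻¹ ∈ σ.ker := by rw [MonoidHom.mem_ker, map_mul, map_inv, h, mul_inv_cancel]
  have hz := Subgroup.mem_center_iff.1 (H.cen hzk)
  calc s * s = (s * t⁻¹) * t * ((s * t⁻¹) * t) := by group
    _ = (s * t⁻¹) * (s * t⁻¹) * (t * t) := by
      rw [mul_assoc (s * t⁻¹) t, ← mul_assoc t, hz t, mul_assoc (s * t⁻¹) t t, ← mul_assoc]
    _ = t * t := by rw [H.el _ hzk, one_mul]

theorem inv1_conj {x y g : G} (hxi : Inv1 σ x) (e : g * x = y * g) : Inv1 σ y := by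
  intro s hs
  obtain ⟨a, ha⟩ := H.surj g
  obtain ⟨t, ht⟩ := H.surj x
  rw [H.sq_congr (t := a * t * a⁻¹) (by rw [hs, map_mul, map_mul, map_inv, ha, ht, e, mul_inv_cancel_right]),
    show a * t * a⁻¹ * (a * t * a⁻¹) = a * (t * t) * a⁻¹ by group, hxi t ht, mul_one, mul_inv_cancel]

theorem commute_lift {x y : G} (hx : Inv1 σ x) (hy : Inv1 σ y) (hxy : Inv1 σ (x * y)) {s t : Δ}
    (hs : σ s = x) (ht : σ t = y) : Commute s t := by
  have h := hxy (s * t) (by rw [map_mul, hs, ht])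
  have hs' : s⁻¹ = s := inv_eq_of_mul_eq_one_right (hx s hs)
  have ht' : t⁻¹ = t := inv_eq_of_mul_eq_one_right (hy t ht)
  show s * t = t * s
  conv_rhs => rw [← hs', ← ht', ← mul_inv_rev]
  exact (inv_eq_of_mul_eq_one_right h).symm

/-- The product of the squares of the lifts of the seven involutions of a four group of rank three. -/
theorem seven {a b c : Δ} (ha : σ a * σ a = 1) (hb : σ b * σ b = 1) (hc : σ c * σ c = 1)
    (hab : Commute (σ a) (σ b)) (hac : Commute (σ a) (σ c)) (hbc : Commute (σ b) (σ c)) :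
    (a * a) * (b * b) * (c * c) * ((a * b) * (a * b)) * ((a * c) * (a * c)) * ((b * c) * (b * c)) *
      ((a * b * c) * (a * b * c)) = 1 := by
  let C := Subgroup.center Δ
  have km : ∀ {x y : Δ}, Commute (σ x) (σ y) → ⁅y, x⁆ ∈ σ.ker := fun h => by
    rw [MonoidHom.mem_ker, map_commutatorElement]; exact commutatorElement_eq_one_iff_commute.2 h.symm
  have ks : ∀ {x : Δ}, σ x * σ x = 1 → x * x ∈ σ.ker := fun h => by rw [MonoidHom.mem_ker, map_mul, h]
  have cc : ∀ {z : Δ}, z ∈ σ.ker → ∀ v : Δ, v * z = z * v := fun h v => Subgroup.mem_center_iff.1 (H.cen h) v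
  set g1 := ⁅b, a⁆ with hg1
  set g2 := ⁅c, a⁆ with hg2
  set g3 := ⁅c, b⁆ with hg3
  have swap : ∀ x y : Δ, y * x = ⁅y, x⁆ * (x * y) := fun x y => by simp only [commutatorElement_def]; group
  have k1 : g1 ∈ σ.ker := km hab
  have k2 : g2 ∈ σ.ker := km hac
  have k3 : g3 ∈ σ.ker := km hbc
  clear_value g1 g2 g3
  have mid : ∀ {z : Δ}, z ∈ σ.ker → ∀ p r : Δ, p * (z * r) = z * (p * r) := fun h p r => by
    rw [← mul_assoc, cc h p, mul_assoc]
  have eab : (a * b) * (a * b) = g1 * ((a * a) * (b * b)) := by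
    rw [show a * b * (a * b) = a * ((b * a) * b) by group, swap a b, ← hg1,
      show g1 * (a * b) * b = g1 * (a * (b * b)) by group, mid (k1)]
    group
  have eac : (a * c) * (a * c) = g2 * ((a * a) * (c * c)) := by
    rw [show a * c * (a * c) = a * ((c * a) * c) by group, swap a c, ← hg2,
      show g2 * (a * c) * c = g2 * (a * (c * c)) by group, mid (k2)]
    group
  have ebc : (b * c) * (b * c) = g3 * ((b * b) * (c * c)) := by
    rw [show b * c * (b * c) = b * ((c * b) * c) by group, swap b c, ← hg3,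
      show g3 * (b * c) * c = g3 * (b * (c * c)) by group, mid (k3)]
    group
  have eabc : (a * b * c) * (a * b * c) = g2 * (g3 * (g1 * ((a * a) * (b * b) * (c * c)))) := by
    rw [show a * b * c * (a * b * c) = a * b * ((c * a) * (b * c)) by group, swap a c, ← hg2,
      show g2 * (a * c) * (b * c) = g2 * (a * ((c * b) * c)) by group, swap b c, ← hg3,
      show g3 * (b * c) * c = g3 * (b * (c * c)) by group, mid (k3) a, mid (k2) (a * b),
      mid (k3) (a * b), show a * b * (a * (b * (c * c))) = (a * b * (a * b)) * (c * c) by group, eab]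
    group
  rw [eab, eac, ebc, eabc]
  let A : C := ⟨a * a, H.cen (ks ha)⟩
  let B : C := ⟨b * b, H.cen (ks hb)⟩
  let D : C := ⟨c * c, H.cen (ks hc)⟩
  let P : C := ⟨g1, H.cen (k1)⟩
  let Q : C := ⟨g2, H.cen (k2)⟩
  let R : C := ⟨g3, H.cen (k3)⟩
  have key : A * B * D * (P * (A * B)) * (Q * (A * D)) * (R * (B * D)) * (Q * (R * (P * (A * B * D)))) =
      (A * A) * (A * A) * ((B * B) * (B * B)) * ((D * D) * (D * D)) * (P * P) * (Q * Q) * (R * R) := by
    ac_rfl
  have hA : A * A = 1 := Subtype.ext (H.el _ (ks ha))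
  have hB : B * B = 1 := Subtype.ext (H.el _ (ks hb))
  have hD : D * D = 1 := Subtype.ext (H.el _ (ks hc))
  have hP : P * P = 1 := Subtype.ext (H.el _ (k1))
  have hQ : Q * Q = 1 := Subtype.ext (H.el _ (k2))
  have hR : R * R = 1 := Subtype.ext (H.el _ (k3))
  rw [hA, hB, hD, hP, hQ, hR] at key
  simpa [A, B, D, P, Q, R] using congrArg Subtype.val key

/-- A rank three group all of whose involutions are conjugate to `x` forces `Inv1 σ x`. -/
theorem inv1_pure {x a b c : G} (hx : x * x = 1) (ha : a * a = 1) (hb : b * b = 1) (hc : c * c = 1)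
    (hab : Commute a b) (hac : Commute a c) (hbc : Commute b c)
    (hall : ∀ y ∈ [a, b, c, a * b, a * c, b * c, a * b * c], ∃ g, g * x = y * g) : Inv1 σ x := by
  obtain ⟨A, rfl⟩ := H.surj a
  obtain ⟨B, rfl⟩ := H.surj b
  obtain ⟨D, rfl⟩ := H.surj c
  intro s hs
  have hk : s * s ∈ σ.ker := by rw [MonoidHom.mem_ker, map_mul, hs, hx]
  have e : ∀ (t : Δ), (∃ g, g * x = σ t * g) → t * t = s * s := by
    rintro t ⟨g, hg⟩
    obtain ⟨v, hv⟩ := H.surj g
    rw [H.sq_congr (t := v * s * v⁻¹) (by rw [map_mul, map_mul, map_inv, hv, hs, hg, mul_inv_cancel_right]),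
      show v * s * v⁻¹ * (v * s * v⁻¹) = v * (s * s) * v⁻¹ by group,
      Subgroup.mem_center_iff.1 (H.cen hk) v, mul_inv_cancel_right]
  have h7 := H.seven ha hb hc hab hac hbc
  rw [e A (hall _ (by simp)), e B (hall _ (by simp)), e D (hall _ (by simp)),
    e (A * B) (by rw [map_mul]; exact hall _ (by simp)), e (A * D) (by rw [map_mul]; exact hall _ (by simp)),
    e (B * D) (by rw [map_mul]; exact hall _ (by simp)),
    e (A * B * D) (by rw [map_mul, map_mul]; exact hall _ (by simp))] at h7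
  have h2 := H.el _ hk
  simpa [h2] using h7

/-- In a rank three group, six good involutions make the seventh good. -/
theorem inv1_seventh {a b c : G} (ha : Inv1 σ a) (hb : Inv1 σ b) (hab' : Inv1 σ (a * b)) (hac' : Inv1 σ (a * c))
    (hbc' : Inv1 σ (b * c)) (habc : Inv1 σ (a * b * c)) (hca : a * a = 1) (hcb : b * b = 1) (hc : c * c = 1)
    (hab : Commute a b) (hac : Commute a c) (hbc : Commute b c) : Inv1 σ c := by
  obtain ⟨A, rfl⟩ := H.surj a
  obtain ⟨B, rfl⟩ := H.surj b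
  intro s hs
  subst hs
  have h7 := H.seven hca hcb hc hab hac hbc
  rw [ha A rfl, hb B rfl, hab' (A * B) (map_mul σ A B), hac' (A * s) (map_mul σ A s), hbc' (B * s) (map_mul σ B s),
    habc (A * B * s) (by rw [map_mul, map_mul])] at h7
  simpa using h7

end TwoExt

/-- An elementary abelian subgroup with good involutions, and an element acting without fixed points. -/
structure Fpf (σ : Δ →* G) (V : Set G) (g : G) : Prop where
  mul : ∀ x ∈ V, ∀ y ∈ V, x * y ∈ V
  inv1 : ∀ x ∈ V, Inv1 σ x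
  maps : ∀ x ∈ V, g * x * g⁻¹ ∈ V
  surj : ∀ v ∈ V, ∃ x ∈ V, ⁅g, x⁆ = v
  inj : ∀ x ∈ V, ∀ y ∈ V, ⁅g, x⁆ = ⁅g, y⁆ → x = y

/-- The commutator with `g` as a map into lifts. -/
noncomputable def secLift (H : TwoExt σ) (g x : G) : Δ := ⁅Classical.choose (H.surj g), Classical.choose (H.surj x)⁆

theorem secLift_map (H : TwoExt σ) (g x : G) : σ (secLift H g x) = ⁅g, x⁆ := by
  rw [secLift, map_commutatorElement, Classical.choose_spec (H.surj g), Classical.choose_spec (H.surj x)]

theorem secLift_eq (H : TwoExt σ) {g x : G} {a b : Δ} (ha : σ a = g) (hb : σ b = x) :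
    ⁅a, b⁆ = secLift H g x :=
  bracket_congr H.cen (by rw [ha, Classical.choose_spec (H.surj g)]) (by rw [hb, Classical.choose_spec (H.surj x)])

namespace Fpf

variable {V : Set G} {g : G}

theorem comm (H : TwoExt σ) (F : Fpf σ V g) {a b : Δ} (ha : σ a ∈ V) (hb : σ b ∈ V) : Commute a b :=
  H.commute_lift (F.inv1 _ ha) (F.inv1 _ hb) (F.inv1 _ (F.mul _ ha _ hb)) rfl rfl

theorem bracket_mem (H : TwoExt σ) (F : Fpf σ V g) {x : G} (hx : x ∈ V) : σ (secLift H g x) ∈ V := by
  rw [secLift_map, commutatorElement_def]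
  refine F.mul _ (F.maps x hx) _ ?_
  obtain ⟨s, hs⟩ := H.surj x
  have h1 : x * x = 1 := by rw [← hs, ← map_mul, F.inv1 x hx s hs, map_one]
  rwa [inv_eq_of_mul_eq_one_right h1]

theorem add (H : TwoExt σ) (F : Fpf σ V g) {x y : G} (hx : x ∈ V) (hy : y ∈ V) :
    secLift H g (x * y) = secLift H g x * secLift H g y := by
  obtain ⟨a, ha⟩ := H.surj g
  obtain ⟨s, hs⟩ := H.surj x
  obtain ⟨t, ht⟩ := H.surj y
  have hb : σ ⁅a, t⁆ ∈ V := by rw [secLift_eq H ha ht]; exact F.bracket_mem H hy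
  rw [← secLift_eq H ha (show σ (s * t) = x * y by rw [map_mul, hs, ht]), ← secLift_eq H ha hs,
    ← secLift_eq H ha ht, show ⁅a, s * t⁆ = ⁅a, s⁆ * (s * ⁅a, t⁆ * s⁻¹) by simp only [commutatorElement_def]; group,
    (F.comm H (hs ▸ hx : σ s ∈ V) hb).eq, mul_inv_cancel_right]

/-- Commuting fixed point free elements give the same lift. -/
theorem eq_of_commute (H : TwoExt σ) {h : G} (F : Fpf σ V g) (F' : Fpf σ V h) (hc : Commute g h) {x y : G}
    (hx : x ∈ V) (hy : y ∈ V) (e : ⁅g, x⁆ = ⁅h, y⁆) : secLift H g x = secLift H h y := by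
  obtain ⟨x', hx', hxy⟩ := F.surj y hy
  obtain ⟨a, ha⟩ := H.surj g
  obtain ⟨b, hb⟩ := H.surj h
  obtain ⟨s, hs⟩ := H.surj x'
  have hmem : σ ⁅a, s⁆ ∈ V := by rw [secLift_eq H ha hs]; exact F.bracket_mem H hx'
  have hy' : σ ⁅a, s⁆ = y := by rw [map_commutatorElement, ha, hs, hxy]
  have hinv : ⁅a, s⁆⁻¹ = ⁅a, s⁆ := inv_eq_of_mul_eq_one_right (F.inv1 _ hmem _ rfl)
  rw [← secLift_eq H hb hy']
  have e1 : ⁅b, ⁅a, s⁆⁆ = ⁅a, b * s * b⁻¹⁆ * ⁅a, s⁆ := by
    rw [show ⁅b, ⁅a, s⁆⁆ = ⁅b * a * b⁻¹, b * s * b⁻¹⁆ * ⁅a, s⁆⁻¹ by simp only [commutatorElement_def]; group, hinv,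
      bracket_congr H.cen (show σ (b * a * b⁻¹) = σ a by
        rw [map_mul, map_mul, map_inv, ha, hb, hc.symm.eq, mul_inv_cancel_right]) rfl]
  have hsb : σ (b * s * b⁻¹) = h * x' * h⁻¹ := by rw [map_mul, map_mul, map_inv, hb, hs]
  rw [e1, secLift_eq H ha hsb, secLift_eq H ha hs, ← F.add H (F'.maps x' hx') hx']
  congr 1
  refine F.inj x hx _ (F.mul _ (F'.maps x' hx') _ hx') ?_
  rw [← secLift_map H g (h * x' * h⁻¹ * x'), F.add H (F'.maps x' hx') hx', ← secLift_eq H ha hsb,
    ← secLift_eq H ha hs, ← e1, map_commutatorElement, hb, hy', e]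

/-- The chain relation. -/
theorem eq_of_chain (H : TwoExt σ) : ∀ (l : List G) (g h : G), (∀ k ∈ g :: l, Fpf σ V k) → l.getLast? = some h →
    (g :: l).IsChain Commute → ∀ x ∈ V, ∀ y ∈ V, ⁅g, x⁆ = ⁅h, y⁆ → secLift H g x = secLift H h y := by
  intro l
  induction l with
  | nil => intro g h _ hl; simp at hl
  | cons k l ih =>
    intro g h hF hl hch x hx y hy e
    rw [List.isChain_cons_cons] at hch
    have Fg := hF g (by simp)
    have Fk := hF k (by simp)
    rcases l with _ | ⟨k', l⟩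
    · simp at hl; subst hl
      exact eq_of_commute H Fg Fk hch.1 hx hy e
    · obtain ⟨x', hx', hxe⟩ := Fk.surj ⁅g, x⁆ (by rw [← secLift_map H g x]; exact Fg.bracket_mem H hx)
      rw [eq_of_commute H Fg Fk hch.1 hx hx' hxe.symm]
      exact ih k h (fun j hj => hF j (List.mem_cons_of_mem _ hj)) (by simpa [List.getLast?_cons_cons] using hl)
        hch.2 x' hx' y hy (hxe.trans e)

end Fpf

/-- A section over a Sylow subgroup kills the kernel in the derived group of its preimage. -/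
theorem no_ker_of_section (hc : σ.ker ≤ Subgroup.center Δ) (S : Subgroup Δ) (hinj : ∀ s ∈ S, σ s = 1 → s = 1)
    {z : Δ} (hz : z ∈ σ.ker) (hmem : z ∈ ⁅(S.map σ).comap σ, (S.map σ).comap σ⁆) : z = 1 := by
  refine hinj z ?_ hz
  have : ⁅(S.map σ).comap σ, (S.map σ).comap σ⁆ ≤ S := by
    refine Subgroup.commutator_le.2 fun x hx y hy => ?_
    obtain ⟨s, hs, hsx⟩ := hx
    obtain ⟨t, ht, hty⟩ := hy
    rw [bracket_congr hc hsx.symm hty.symm, commutatorElement_def]
    exact mul_mem (mul_mem (mul_mem hs ht) (inv_mem hs)) (inv_mem ht)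
  exact this hmem

/-- A group of order `p ^ 3` generated by two elements inverted by a common element. -/
theorem extraspecial_odd (hc : σ.ker ≤ Subgroup.center Δ) {p : ℕ} (hp : p.Prime) (hp2 : p ≠ 2) {x y g : Δ}
    (hx : σ x ^ p = 1) (hord : orderOf (σ ⁅x, y⁆) = p) (hxc : Commute (σ x) (σ ⁅x, y⁆))
    (hyc : Commute (σ y) (σ ⁅x, y⁆)) (hgx : σ g * σ x * (σ g)⁻¹ = (σ x)⁻¹) (hgy : σ g * σ y * (σ g)⁻¹ = (σ y)⁻¹)
    {z : Δ} (hz : z ∈ σ.ker)
    (hmem : z ∈ ⁅(Subgroup.closure (σ '' {x, y})).comap σ, (Subgroup.closure (σ '' {x, y})).comap σ⁆) : z = 1 := by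
  obtain ⟨m, hm⟩ := hp.odd_of_ne_two hp2
  set c := ⁅x, y⁆ with hcdef
  have pw : ∀ {a b : Δ}, ⁅a, b⁆ ∈ Subgroup.center Δ ∨ Commute a ⁅a, b⁆ → ∀ n : ℕ, ⁅a ^ n, b⁆ = ⁅a, b⁆ ^ n := by
    intro a b h n
    have hc' : Commute a ⁅a, b⁆ := h.elim (fun hh => Subgroup.mem_center_iff.1 hh a) id
    induction n with
    | zero => simp [commutatorElement_def]
    | succ n ih =>
      rw [pow_succ', show ⁅a * a ^ n, b⁆ = a * ⁅a ^ n, b⁆ * a⁻¹ * ⁅a, b⁆ by
        simp only [commutatorElement_def]; group, ih, (hc'.pow_right n).eq, mul_inv_cancel_right, pow_succ]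
  -- `g` fixes `c` modulo the kernel
  have hgc : σ (g * c * g⁻¹) = σ c := by
    rw [hcdef, map_mul, map_mul, map_inv, map_commutatorElement,
      show σ g * ⁅σ x, σ y⁆ * (σ g)⁻¹ = ⁅σ g * σ x * (σ g)⁻¹, σ g * σ y * (σ g)⁻¹⁆ by
        simp only [commutatorElement_def]; group, hgx, hgy]
    have h1 : (σ x)⁻¹ * (σ y)⁻¹ * σ x * σ y = σ c := by
      have e : σ c = σ x * σ y * (σ x)⁻¹ * (σ y)⁻¹ := by rw [hcdef, map_commutatorElement, commutatorElement_def]
      have hd : (σ x * σ y)⁻¹ * σ c * (σ x * σ y) = σ c := by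
        rw [mul_assoc, ← (hxc.mul_left hyc).eq, ← mul_assoc, inv_mul_cancel, one_mul]
      rw [← hd, e]; group
    rw [← map_commutatorElement, ← hcdef, ← h1]; simp only [commutatorElement_def]; group
  have fixd : ∀ a : Δ, σ (g * a * g⁻¹) = (σ a)⁻¹ → Commute (σ a) (σ c) → σ a ^ p = 1 → Commute a c := by
    intro a hga hac hap
    have hk : ⁅a, c⁆ ∈ Subgroup.center Δ := hc (by
      rw [MonoidHom.mem_ker, map_commutatorElement]; exact commutatorElement_eq_one_iff_commute.2 hac)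
    have cc := Subgroup.mem_center_iff.1 hk
    have e1 : ⁅a⁻¹, c⁆ = ⁅a, c⁆⁻¹ := by
      rw [show ⁅a⁻¹, c⁆ = a⁻¹ * ⁅a, c⁆⁻¹ * a by simp only [commutatorElement_def]; group,
        (Commute.inv_right (cc a⁻¹)).eq, inv_mul_cancel_right]
    have e2 : ⁅a, c⁆ = ⁅a, c⁆⁻¹ := by
      have e : ⁅g * a * g⁻¹, g * c * g⁻¹⁆ = g * ⁅a, c⁆ * g⁻¹ := by simp only [commutatorElement_def]; group
      rw [cc g, mul_inv_cancel_right, bracket_congr hc (x' := a⁻¹) (by rw [hga, map_inv]) hgc, e1] at e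
      exact e.symm
    have hsq : ⁅a, c⁆ * ⁅a, c⁆ = 1 := by nth_rewrite 1 [e2]; exact inv_mul_cancel _
    have hp' : ⁅a, c⁆ ^ p = 1 := by
      rw [← pw (Or.inl hk) p, bracket_congr hc (x' := 1) (by rw [map_pow, hap, map_one]) rfl]
      simp [commutatorElement_def]
    rw [hm, pow_succ, pow_mul, sq, hsq, one_pow, one_mul] at hp'
    exact commutatorElement_eq_one_iff_commute.1 hp'
  have hxc' : Commute x c := fixd x (by rw [map_mul, map_mul, map_inv, hgx]) hxc hx
  have hcp : c ^ p = 1 := by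
    rw [hcdef, ← pw (Or.inr hxc') p, bracket_congr hc (x' := 1) (by rw [map_pow, hx, map_one]) rfl]
    simp [commutatorElement_def]
  have hyc' : Commute y c := by
    have hk : ⁅y, c⁆ ∈ Subgroup.center Δ := hc (by
      rw [MonoidHom.mem_ker, map_commutatorElement]; exact commutatorElement_eq_one_iff_commute.2 hyc)
    have cc := Subgroup.mem_center_iff.1 hk
    have hgy' : σ (g * y * g⁻¹) = σ y⁻¹ := by rw [map_mul, map_mul, map_inv, hgy, map_inv]
    have e2 : ⁅y, c⁆ = ⁅y, c⁆⁻¹ := by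
      have e : ⁅g * y * g⁻¹, g * c * g⁻¹⁆ = g * ⁅y, c⁆ * g⁻¹ := by simp only [commutatorElement_def]; group
      rw [cc g, mul_inv_cancel_right, bracket_congr hc hgy' hgc,
        show ⁅y⁻¹, c⁆ = y⁻¹ * ⁅y, c⁆⁻¹ * y by simp only [commutatorElement_def]; group,
        (Commute.inv_right (cc y⁻¹)).eq, inv_mul_cancel_right] at e
      exact e.symm
    have hsq : ⁅y, c⁆ * ⁅y, c⁆ = 1 := by nth_rewrite 1 [e2]; exact inv_mul_cancel _
    have hcy : ⁅c, y⁆ ^ p = 1 := by
      rw [← pw (Or.inl (by rw [← commutatorElement_inv]; exact inv_mem hk)) p, hcp]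
      simp [commutatorElement_def]
    rw [← commutatorElement_inv, inv_pow, inv_eq_one, hm, pow_succ, pow_mul, sq, hsq, one_pow, one_mul] at hcy
    exact commutatorElement_eq_one_iff_commute.1 hcy
  set T : Set Δ := {x, y} ∪ (σ.ker : Set Δ)
  have hcen : ∀ s ∈ Subgroup.closure T, Commute s c := by
    intro s hs
    refine Subgroup.closure_induction (p := fun t _ => Commute t c) ?_ (Commute.one_left _)
      (fun _ _ _ _ ha hb => ha.mul_left hb) (fun _ _ ha => ha.inv_left) hs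
    rintro t ((rfl | rfl) | ht)
    · exact hxc'
    · exact hyc'
    · exact (Subgroup.mem_center_iff.1 (hc ht) c).symm
  set N := Subgroup.zpowers c
  have hN : ∀ s ∈ Subgroup.closure T, ∀ n ∈ N, s * n * s⁻¹ = n := fun s hs n hn => by
    obtain ⟨k, rfl⟩ := Subgroup.mem_zpowers_iff.1 hn
    rw [((hcen s hs).zpow_right k).eq, mul_inv_cancel_right]
  have hgen : ∀ s ∈ T, ∀ t ∈ T, ⁅s, t⁆ ∈ N := by
    rintro s (hs | hs) t (ht | ht)
    · rcases hs with rfl | rfl <;> rcases ht with rfl | rfl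
      · rw [commutatorElement_self]; exact one_mem _
      · exact Subgroup.mem_zpowers c
      · rw [← commutatorElement_inv]; exact inv_mem (Subgroup.mem_zpowers c)
      · rw [commutatorElement_self]; exact one_mem _
    · rw [commutatorElement_eq_one_iff_commute.2 (Subgroup.mem_center_iff.1 (hc ht) s)]; exact one_mem _
    · rw [commutatorElement_eq_one_iff_commute.2 (Subgroup.mem_center_iff.1 (hc hs) t).symm]; exact one_mem _
    · rw [commutatorElement_eq_one_iff_commute.2 (Subgroup.mem_center_iff.1 (hc ht) s)]; exact one_mem _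
  have hTT : ⁅Subgroup.closure T, Subgroup.closure T⁆ ≤ N := by
    refine Subgroup.commutator_le.2 fun s hs t ht => ?_
    have h1 : ∀ t ∈ T, ⁅s, t⁆ ∈ N := fun t ht => by
      refine Subgroup.closure_induction (p := fun v _ => ⁅v, t⁆ ∈ N) (fun v hv => hgen v hv t ht)
        (by simp [commutatorElement_def]) ?_ ?_ hs
      · intro v w hv _ i1 i2
        rw [show ⁅v * w, t⁆ = v * ⁅w, t⁆ * v⁻¹ * ⁅v, t⁆ by simp only [commutatorElement_def]; group, hN v hv _ i2]
        exact mul_mem i2 i1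
      · intro v hv i1
        rw [show ⁅v⁻¹, t⁆ = v⁻¹ * ⁅v, t⁆⁻¹ * v⁻¹⁻¹ by simp only [commutatorElement_def]; group,
          hN _ (inv_mem hv) _ (inv_mem i1)]
        exact inv_mem i1
    refine Subgroup.closure_induction (p := fun v _ => ⁅s, v⁆ ∈ N) h1 (by simp [commutatorElement_def]) ?_ ?_ ht
    · intro v w hv _ i1 i2
      rw [show ⁅s, v * w⁆ = ⁅s, v⁆ * (v * ⁅s, w⁆ * v⁻¹) by simp only [commutatorElement_def]; group, hN v hv _ i2]
      exact mul_mem i1 i2
    · intro v hv i1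
      rw [show ⁅s, v⁻¹⁆ = v⁻¹ * ⁅s, v⁆⁻¹ * v⁻¹⁻¹ by simp only [commutatorElement_def]; group,
        hN _ (inv_mem hv) _ (inv_mem i1)]
      exact inv_mem i1
  have e : (Subgroup.closure (σ '' {x, y})).comap σ = Subgroup.closure T := by
    rw [← σ.map_closure, Subgroup.comap_map_eq, Subgroup.closure_union, Subgroup.closure_eq]
  rw [e] at hmem
  obtain ⟨k, rfl⟩ := Subgroup.mem_zpowers_iff.1 (hTT hmem)
  obtain ⟨j, rfl⟩ : (p : ℤ) ∣ k := by
    rw [← hord]
    exact orderOf_dvd_iff_zpow_eq_one.2 (by rw [← map_zpow]; exact hz)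
  rw [zpow_mul, zpow_natCast, hcp, one_zpow]

end Cfsg.Agent.Spor.Mult
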