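import Mathlib
import Cfsg.Agent.Lib.Lie.EightSubgroupsLinear
import Cfsg.Agent.Lib.Grp.Cores

/-!
Nonsolvable subgroups of the alternating group of degree eight with an odd normal subgroup, and
nonsolvable subgroups of `GL(4,2)` with trivial two-core.
-/

set_option autoImplicit false

namespace Cfsg.Agent.Spor.RankFourQuot

open Equiv Lie.EightSub

/-- The exceptional shape: `O₃` of order three with quotient the alternating or symmetric group of degree five. -/
def ThreeByFive (G : Type*) [Group G] [(Cfsg.pCore 3 G).Normal] : Prop :=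
  Nat.card ↥(Cfsg.pCore 3 G) = 3 ∧
    (Nonempty (G ⧸ Cfsg.pCore 3 G ≃* ↥(alternatingGroup (Fin 5))) ∨
      Nonempty (G ⧸ Cfsg.pCore 3 G ≃* Perm (Fin 5)))

theorem small_solvable {G : Type*} [Group G] [Finite G] (h : Nat.card G < 60) : Group.IsSolvable G :=
  solvable_of_card (by omega) fun hb => by
    have hpos : 0 < Nat.card G := Nat.card_pos
    rcases hb with hb | hb | hb | hb | hb | hb <;> have := Nat.le_of_dvd hpos hb <;> omega

theorem bad_dvd_720 : ∀ c ∈ Nat.divisors 720,
    60 ∣ c ∨ 168 ∣ c ∨ 360 ∣ c ∨ 504 ∣ c ∨ 660 ∣ c ∨ 1092 ∣ c → 5 ∣ c := by decide +kernel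

/-- No normal subgroup of odd prime power order moves each of five, six or seven points inside a
nonsolvable group. -/
theorem solvable_of_moved {M : Type*} [Finite M] (L : Subgroup (Perm M)) (R : Subgroup L) [R.Normal]
    {p : ℕ} [hp : Fact p.Prime] (hR : IsPGroup p R)
    (hm : (p = Nat.card M ∧ (p = 5 ∨ p = 7)) ∨ (p = 3 ∧ Nat.card M = 6))
    (hfix : ∀ x : M, ∃ r ∈ R, (r : Perm M) x ≠ x) : Group.IsSolvable L := by
  classical
  haveI := Fintype.ofFinite M
  have hperm : Nat.card (Perm M) = (Nat.card M).factorial := Nat.card_perm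
  have hLd : Nat.card L ∣ (Nat.card M).factorial := hperm ▸ L.card_subgroup_dvd_card
  obtain ⟨k, hk⟩ := IsPGroup.iff_card.1 hR
  have hk0 : k ≠ 0 := by
    rintro rfl
    haveI : Nonempty M := (Nat.card_pos_iff.1 (by omega : 0 < Nat.card M)).1
    obtain ⟨r, hr, hr'⟩ := hfix (Classical.arbitrary M)
    rw [pow_zero, Subgroup.card_eq_one] at hk
    rw [hk, Subgroup.mem_bot] at hr
    exact hr' (by rw [hr]; rfl)
  have hRd : p ^ k ∣ (Nat.card M).factorial := hk ▸ R.card_subgroup_dvd_card.trans hLd
  rcases hm with ⟨hpm, h57⟩ | ⟨rfl, hm6⟩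
  · have hk1 : k = 1 := by
      by_contra hne
      have h2 : p ^ 2 ∣ (Nat.card M).factorial := (pow_dvd_pow p (by omega : 2 ≤ k)).trans hRd
      rw [← hpm] at h2
      rcases h57 with rfl | rfl <;> revert h2 <;> decide
    rw [hk1, pow_one] at hk
    haveI : IsCyclic R := isCyclic_of_prime_card hk
    -- the action is transitive
    obtain ⟨x₀⟩ : Nonempty M := (Nat.card_pos_iff.1 (hpm ▸ hp.out.pos)).1
    have horb : ∀ x : M, x ∈ MulAction.orbit R x₀ := by
      obtain ⟨n, hn⟩ := hR.card_orbit x₀
      have hle : p ^ n ≤ p := by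
        rw [← hn]
        exact (Nat.card_le_card_of_injective _ Subtype.val_injective).trans hpm.ge
      have hn0 : n ≠ 0 := by
        rintro rfl
        rw [pow_zero, Nat.card_eq_one_iff_unique] at hn
        haveI := hn.1
        obtain ⟨r, hr, hr'⟩ := hfix x₀
        exact hr' (congrArg Subtype.val (Subsingleton.elim
          (⟨_, MulAction.mem_orbit x₀ (⟨r, hr⟩ : R)⟩ : MulAction.orbit R x₀) ⟨x₀, MulAction.mem_orbit_self x₀⟩))
      have hn1 : n = 1 := le_antisymm ((Nat.pow_le_pow_iff_right hp.out.one_lt).1 (by rwa [pow_one]))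
        (by omega)
      rw [hn1, pow_one] at hn
      intro x
      have : MulAction.orbit R x₀ = Set.univ :=
        Set.eq_of_subset_of_ncard_le (Set.subset_univ _)
          (by rw [Set.ncard_univ, ← Nat.card_coe_set_eq, hn, ← hpm]) (Set.toFinite _)
      rw [this]; trivial
    let f : L →* MulAut R := MulAut.conjNormal
    have hker : Nat.card f.ker ≤ p := by
      rw [hpm]
      refine Nat.card_le_card_of_injective (fun c : f.ker => ((c : L) : Perm M) x₀) ?_
      intro a b e
      apply Subtype.ext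
      apply Subtype.ext
      ext x
      obtain ⟨r, rfl⟩ := horb x
      have hc : ∀ c : f.ker, ((c : L) : Perm M) (((r : L) : Perm M) x₀)
          = ((r : L) : Perm M) (((c : L) : Perm M) x₀) := by
        intro c
        have h1 : (c : L) * r * (c : L)⁻¹ = r := by
          rw [← MulAut.conjNormal_apply, show MulAut.conjNormal (H := R) (c : L) = 1 from c.2]; rfl
        have h2 := congrArg (fun z : L => (z : Perm M) (((c : L) : Perm M) x₀)) h1
        simpa using h2
      show ((a : L) : Perm M) (((r : L) : Perm M) x₀) = ((b : L) : Perm M) (((r : L) : Perm M) x₀)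
      rw [hc, hc]
      exact congrArg _ e
    have haut : Nat.card (MulAut R) ≤ 6 := by
      rw [IsCyclic.card_mulAut, hk]
      rcases h57 with rfl | rfl <;> decide
    apply small_solvable
    have h := Subgroup.card_mul_index f.ker
    rw [Subgroup.index_ker] at h
    have hr : Nat.card f.range ≤ 6 := (Nat.card_le_card_of_injective _ Subtype.val_injective).trans haut
    have := Nat.mul_le_mul (hker.trans (by omega : p ≤ 7)) hr
    omega
  · by_contra hns
    rw [hm6, show Nat.factorial 6 = 720 from rfl] at hLd hRd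
    have hle := Nat.le_of_dvd (by norm_num) hLd
    have h5 : 5 ∣ Nat.card L := bad_dvd_720 _ (Nat.mem_divisors.2 ⟨hLd, by norm_num⟩)
      (bad_of_not_solvable _ L rfl (by omega) hns)
    haveI : Fact (Nat.Prime 5) := ⟨by norm_num⟩
    obtain ⟨g, hg⟩ := exists_prime_orderOf_dvd_card' (G := L) 5 h5
    have hk2 : k ≤ 2 := by
      by_contra hne
      have h2 : 3 ^ 3 ∣ 720 := (pow_dvd_pow 3 (by omega : 3 ≤ k)).trans hRd
      norm_num at h2
    have hP : IsPGroup 5 (Subgroup.zpowers g) :=
      IsPGroup.of_card (n := 1) (by rw [Nat.card_zpowers, hg, pow_one])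
    -- it centralizes the normal subgroup
    letI : MulAction (Subgroup.zpowers g) R :=
      MulAction.compHom R ((MulAut.conjNormal (H := R)).comp (Subgroup.zpowers g).subtype)
    have hsm : ∀ (a : Subgroup.zpowers g) (r : R), ((a • r : R) : L) = (a : L) * r * (a : L)⁻¹ :=
      fun a r => MulAut.conjNormal_apply _ _
    let S : Subgroup R := (Subgroup.centralizer ({g} : Set L)).subgroupOf R
    have hS : Nat.card S = Nat.card (MulAction.fixedPoints (Subgroup.zpowers g) R) := by
      refine Nat.card_congr (Equiv.subtypeEquivRight fun r => ?_)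
      rw [Subgroup.mem_subgroupOf, Subgroup.mem_centralizer_singleton_iff]
      constructor
      · intro h a
        apply Subtype.ext
        rw [hsm]
        obtain ⟨i, hi⟩ := a.2
        have hc : Commute g (r : L) := h.symm
        rw [← show g ^ i = (a : L) from hi, (hc.zpow_left i).eq, mul_inv_cancel_right]
      · intro h
        have := congrArg (fun z : R => (z : L)) (h ⟨g, Subgroup.mem_zpowers g⟩)
        simp only [hsm] at this
        exact (mul_inv_eq_iff_eq_mul.1 this).symm
    have hSd : Nat.card S ∣ 3 ^ k := hk ▸ S.card_subgroup_dvd_card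
    have hSm := hP.card_modEq_card_fixedPoints (α := R)
    rw [← hS, hk] at hSm
    have hSk : Nat.card S = 3 ^ k := by
      obtain ⟨j, hj, hj'⟩ := (Nat.dvd_prime_pow Nat.prime_three).1 hSd
      rw [hj'] at hSm ⊢
      interval_cases k <;> interval_cases j <;> first | rfl | exact absurd hSm (by decide)
    have hST : S = ⊤ := Subgroup.eq_top_of_card_eq S (by rw [hSk, hk])
    -- so its fixed point is fixed
    have hgm : ∃ x : M, g • x ≠ x := by
      by_contra hh
      push Not at hh
      have : g = 1 := Subtype.ext (Equiv.ext hh)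
      rw [this, orderOf_one] at hg
      norm_num at hg
    have hfm := hP.card_modEq_card_fixedPoints (α := M)
    rw [hm6] at hfm
    have hlt : Nat.card (MulAction.fixedPoints (Subgroup.zpowers g) M) < 6 := by
      rw [← hm6, Nat.card_coe_set_eq, ← Set.ncard_univ]
      refine Set.ncard_lt_ncard (Set.ssubset_univ_iff.2 fun e => ?_) (Set.toFinite _)
      obtain ⟨x, hx⟩ := hgm
      exact hx ((e ▸ Set.mem_univ x : x ∈ MulAction.fixedPoints (Subgroup.zpowers g) M)
        ⟨g, Subgroup.mem_zpowers g⟩)
    have h1 : Nat.card (MulAction.fixedPoints (Subgroup.zpowers g) M) = 1 := by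
      unfold Nat.ModEq at hfm; omega
    obtain ⟨hsub, ⟨⟨a, ha⟩⟩⟩ := Nat.card_eq_one_iff_unique.1 h1
    obtain ⟨r, hr, hra⟩ := hfix a
    have hcr : r * g = g * r := by
      have h : (⟨r, hr⟩ : R) ∈ S := hST ▸ Subgroup.mem_top _
      rw [Subgroup.mem_subgroupOf, Subgroup.mem_centralizer_singleton_iff] at h
      exact h
    have hra' : (r : Perm M) a ∈ MulAction.fixedPoints (Subgroup.zpowers g) M := by
      have hfg : g • ((r : Perm M) a) = (r : Perm M) a := by
        show (g : Perm M) ((r : Perm M) a) = _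
        have h := congrArg (fun z : L => (z : Perm M) a) hcr
        simp only [Subgroup.coe_mul, Perm.mul_apply] at h
        rw [← h]
        exact congrArg _ (ha ⟨g, Subgroup.mem_zpowers g⟩)
      rintro ⟨b, hb⟩
      exact Subgroup.zpowers_le.2 (show g ∈ MulAction.stabilizer L ((r : Perm M) a) from hfg) hb
    exact hra (congrArg Subtype.val (Subsingleton.elim (⟨_, hra'⟩ :
      MulAction.fixedPoints (Subgroup.zpowers g) M) ⟨a, ha⟩))

theorem pCore_map_equiv {G G' : Type*} [Group G] [Group G'] [Finite G] [Finite G'] {p : ℕ} (e : G ≃* G') :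
    (Cfsg.pCore p G).map e.toMonoidHom = Cfsg.pCore p G' := by
  refine le_antisymm (Grp.le_pCore (Grp.pCore_isNormal.map _ e.surjective) (Grp.pCore_isPGroup.map _)) ?_
  rw [Subgroup.map_equiv_eq_comap_symm', ← Subgroup.map_le_iff_le_comap]
  exact Grp.le_pCore (Grp.pCore_isNormal.map _ e.symm.surjective) (Grp.pCore_isPGroup.map _)

theorem ThreeByFive.of_equiv {G G' : Type*} [Group G] [Group G'] [Finite G] [Finite G']
    [(Cfsg.pCore 3 G).Normal] [(Cfsg.pCore 3 G').Normal] (e : G ≃* G') (h : ThreeByFive G') :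
    ThreeByFive G := by
  have he := pCore_map_equiv (p := 3) e
  let q := QuotientGroup.congr (Cfsg.pCore 3 G) (Cfsg.pCore 3 G') e he
  refine ⟨?_, h.2.imp (fun ⟨f⟩ => ⟨q.trans f⟩) (fun ⟨f⟩ => ⟨q.trans f⟩)⟩
  refine .trans ?_ h.1
  rw [← he, Subgroup.card_map_of_injective e.injective]

/-- The odd normal subgroup is of order three and acts on three points. -/
theorem three_by_five (K : Subgroup (Perm (Fin 8))) [(Cfsg.pCore 3 K).Normal]
    (hA : K ≤ alternatingGroup (Fin 8)) (hns : ¬ Group.IsSolvable K) (R : Subgroup K) [R.Normal]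
    (hne : R ≠ ⊥) {p : ℕ} [hp : Fact p.Prime] (hp2 : p ≠ 2) (hR : IsPGroup p R) : ThreeByFive K := by
  classical
  let Fx : Fin 8 → Prop := fun x => ∀ r : K, r ∈ R → (r : Perm (Fin 8)) x = x
  have hinv : ∀ (k : K) (x : Fin 8), Fx ((k : Perm (Fin 8)) x) ↔ Fx x := by
    have hone : ∀ (k : K) (x : Fin 8), Fx x → Fx ((k : Perm (Fin 8)) x) := by
      intro k x hx r hr
      have h := hx (k⁻¹ * r * k) (by simpa using Subgroup.Normal.conj_mem inferInstance r hr k⁻¹)
      simpa using congrArg (k : Perm (Fin 8)) h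
    exact fun k x => ⟨fun h => by simpa using hone k⁻¹ _ h, hone k x⟩
  let fF : K →* Perm {x // Fx x} :=
    { toFun := fun k => (k : Perm (Fin 8)).subtypePerm (hinv k)
      map_one' := by ext x; rfl
      map_mul' := fun k l => by ext x; rfl }
  let fM : K →* Perm {x // ¬ Fx x} :=
    { toFun := fun k => (k : Perm (Fin 8)).subtypePerm (fun x => not_congr (hinv k x))
      map_one' := by ext x; rfl
      map_mul' := fun k l => by ext x; rfl }
  have hFM : Function.Injective (fF.prod fM) := by
    rw [injective_iff_map_eq_one]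
    intro k hk
    apply Subtype.ext
    refine Equiv.ext fun x => ?_
    by_cases hx : Fx x
    · exact congrArg Subtype.val (DFunLike.congr_fun (congrArg Prod.fst hk) (⟨x, hx⟩ : {x // Fx x}))
    · exact congrArg Subtype.val (DFunLike.congr_fun (congrArg Prod.snd hk) (⟨x, hx⟩ : {x // ¬ Fx x}))
  set f := Nat.card {x // Fx x} with hf
  set m := Nat.card {x // ¬ Fx x} with hm
  have hfm : f + m = 8 := by
    have h1 := Nat.card_congr (Equiv.sumCompl Fx)
    rw [Nat.card_sum, Nat.card_eq_fintype_card (α := Fin 8), Fintype.card_fin] at h1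
    omega
  have hmod : 8 ≡ f [MOD p] := by
    have h := hR.card_modEq_card_fixedPoints (α := Fin 8)
    have e : Nat.card (MulAction.fixedPoints R (Fin 8)) = f :=
      Nat.card_congr (Equiv.subtypeEquivRight fun x => ⟨fun h r hr => h ⟨r, hr⟩, fun h r => h r r.2⟩)
    rwa [e, Nat.card_eq_fintype_card (α := Fin 8), Fintype.card_fin] at h
  -- moved points lie in orbits of prime size
  have horb : ∀ x, ¬ Fx x → ∃ n, n ≠ 0 ∧ p ^ n ≤ m := by
    intro x hx
    obtain ⟨n, hn⟩ := hR.card_orbit x
    refine ⟨n, ?_, ?_⟩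
    · rintro rfl
      rw [pow_zero, Nat.card_eq_one_iff_unique] at hn
      haveI := hn.1
      exact hx fun r hr => congrArg Subtype.val (Subsingleton.elim
        (⟨_, MulAction.mem_orbit x (⟨r, hr⟩ : R)⟩ : MulAction.orbit R x) ⟨x, MulAction.mem_orbit_self x⟩)
    · rw [← hn]
      refine Nat.card_le_card_of_injective (fun z : MulAction.orbit R x => (⟨z.1, ?_⟩ : {x // ¬ Fx x})) ?_
      · obtain ⟨r, hr⟩ := z.2
        intro hz
        rw [← hr] at hz
        exact hx ((hinv (r : K) x).1 hz)
      · intro a b e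
        exact Subtype.ext (congrArg (fun z : {x // ¬ Fx x} => z.1) e)
  obtain ⟨x₀, hx₀⟩ : ∃ x, ¬ Fx x := by
    by_contra hh
    push Not at hh
    refine hne ((Subgroup.eq_bot_iff_forall R).2 fun r hr => Subtype.ext (Equiv.ext fun x => hh x r hr))
  obtain ⟨n, hn0, hnm⟩ := horb x₀ hx₀
  have hpm : p ≤ m := le_trans (Nat.le_self_pow hn0 p) hnm
  have hmp : p ∣ m := by
    have h8 : f ≤ 8 := by omega
    have := (Nat.modEq_iff_dvd' h8).1 hmod.symm
    rwa [show 8 - f = m by omega] at this
  have hcases : (p = 3 ∧ (m = 3 ∨ m = 6)) ∨ (p = 5 ∧ m = 5) ∨ (p = 7 ∧ m = 7) := by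
    have h2 := hp.out.two_le
    have hp8 : p ≤ 8 := by omega
    have hpr := hp.out
    have hm8 : m ≤ 8 := by omega
    interval_cases p <;> first | (exact absurd rfl hp2) | (exact absurd hpr (by decide)) | omega
  have hsmallF : f ≤ 4 → Group.IsSolvable fF.range := fun h => small_solvable (by
    refine lt_of_le_of_lt (Nat.card_le_card_of_injective _ Subtype.val_injective) ?_
    rw [Nat.card_perm]
    exact lt_of_le_of_lt (Nat.factorial_le h) (by decide))
  have hboth : ¬ (Group.IsSolvable fF.range ∧ Group.IsSolvable fM.range) := by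
    rintro ⟨h1, h2⟩
    haveI := h1
    haveI := h2
    refine hns (Group.isSolvable_of_isSolvable_injective (f := fF.rangeRestrict.prod fM.rangeRestrict) ?_)
    intro a b e
    exact hFM (Prod.ext (congrArg Subtype.val (congrArg Prod.fst e)) (congrArg Subtype.val (congrArg Prod.snd e)))
  by_cases hm5 : 5 ≤ m
  · exfalso
    refine hboth ⟨hsmallF (by omega), ?_⟩
    haveI : (R.map fM.rangeRestrict).Normal :=
      Subgroup.Normal.map inferInstance _ fM.rangeRestrict_surjective
    refine solvable_of_moved fM.range (R.map fM.rangeRestrict) (hR.map _) ?_ fun x => ?_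
    · rw [← hm]; omega
    · have hx := x.2
      simp only [Fx, not_forall] at hx
      obtain ⟨r, hr, hrx⟩ := hx
      exact ⟨fM.rangeRestrict r, Subgroup.mem_map_of_mem _ hr, fun e => hrx (congrArg Subtype.val e)⟩
  -- three moved points
  have hm3 : m = 3 := by omega
  have hp3 : p = 3 := by omega
  subst hp3
  have hf5 : f = 5 := by omega
  have hsM : Group.IsSolvable fM.range := small_solvable (by
    refine lt_of_le_of_lt (Nat.card_le_card_of_injective _ Subtype.val_injective) ?_
    rw [Nat.card_perm, ← hm, hm3]; decide)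
  let e5 : {x // Fx x} ≃ Fin 5 := (Finite.equivFin _).trans (finCongr hf5)
  let φ : K →* Perm (Fin 5) := e5.permCongrHom.toMonoidHom.comp fF
  have hφker : φ.ker = fF.ker := by
    ext k
    simp only [MonoidHom.mem_ker, φ, MonoidHom.comp_apply]
    exact map_eq_one_iff _ e5.permCongrHom.injective
  have hnsφ : ¬ Group.IsSolvable φ.range := by
    intro h
    haveI := h
    refine hboth ⟨?_, hsM⟩
    let e : fF.range ≃* φ.range :=
      ((QuotientGroup.quotientKerEquivRange fF).symm.trans (QuotientGroup.quotientMulEquivOfEq hφker.symm)).trans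
        (QuotientGroup.quotientKerEquivRange φ)
    exact Group.isSolvable_of_isSolvable_injective (f := e.toMonoidHom) e.injective
  -- the kernel
  have hker : Nat.card φ.ker ≤ 3 := by
    rw [hφker]
    have hcard : Nat.card (alternatingGroup {x // ¬ Fx x}) = 3 := by
      haveI : Nontrivial {x // ¬ Fx x} := Finite.one_lt_card_iff_nontrivial.1 (by omega)
      have h := two_mul_card_alternatingGroup (α := {x // ¬ Fx x})
      rw [← Nat.card_eq_fintype_card, ← Nat.card_eq_fintype_card, Nat.card_perm, ← hm, hm3,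
        show Nat.factorial 3 = 6 from rfl] at h
      omega
    rw [← hcard]
    have hev : ∀ k : fF.ker, fM k ∈ alternatingGroup {x // ¬ Fx x} := by
      rintro ⟨k, hk⟩
      rw [Perm.mem_alternatingGroup]
      show Perm.sign ((k : Perm (Fin 8)).subtypePerm fun x => not_congr (hinv k x)) = 1
      rw [Perm.sign_subtypePerm]
      · exact Perm.mem_alternatingGroup.1 (hA k.2)
      · intro x hx hFx
        exact hx (congrArg Subtype.val (DFunLike.congr_fun (MonoidHom.mem_ker.1 hk) (⟨x, hFx⟩ : {x // Fx x})))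
    refine Nat.card_le_card_of_injective (fun k : fF.ker => (⟨fM k, hev k⟩ : alternatingGroup _)) ?_
    intro a b e
    exact Subtype.ext (hFM (Prod.ext ((MonoidHom.mem_ker.1 a.2).trans (MonoidHom.mem_ker.1 b.2).symm)
      (congrArg Subtype.val e)))
  have hRker : R ≤ φ.ker := fun r hr => by
    rw [hφker, MonoidHom.mem_ker]
    refine Equiv.ext fun x => Subtype.ext (x.2 r hr)
  have hker3 : R = φ.ker ∧ Nat.card φ.ker = 3 := by
    obtain ⟨k, hk⟩ := IsPGroup.iff_card.1 hR
    have hk0 : k ≠ 0 := by
      rintro rfl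
      exact hne (Subgroup.card_eq_one.1 (by rw [hk, pow_zero]))
    have h3 : 3 ≤ Nat.card R := hk ▸ Nat.le_self_pow hk0 3
    have heq := Subgroup.eq_of_le_of_card_ge hRker (hker.trans h3)
    exact ⟨heq, le_antisymm hker (heq ▸ h3)⟩
  -- the image
  have h120 : Nat.card (Perm (Fin 5)) = 120 := by
    rw [Nat.card_perm, Nat.card_eq_fintype_card, Fintype.card_fin]; rfl
  have hd := φ.range.card_subgroup_dvd_card
  rw [h120] at hd
  have hle : Nat.card φ.range ≤ 120 := Nat.le_of_dvd (by norm_num) hd
  have hc : Nat.card φ.range = 60 ∨ Nat.card φ.range = 120 := by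
    have hb := bad_of_not_solvable _ φ.range rfl (by omega) hnsφ
    have hpos : 0 < Nat.card φ.range := Nat.card_pos
    rcases hb with hb | hb | hb | hb | hb | hb <;> have := Nat.le_of_dvd hpos hb <;> omega
  have hrange : φ.range = alternatingGroup (Fin 5) ∨ φ.range = ⊤ := by
    rcases hc with hc | hc
    · refine .inl (Perm.eq_alternatingGroup_of_index_eq_two ?_)
      have h := φ.range.card_mul_index
      rw [hc, h120] at h
      omega
    · exact .inr (Subgroup.eq_top_of_card_eq _ (by rw [hc, h120]))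
  have hcore : Cfsg.pCore 3 K = φ.ker := by
    refine le_antisymm ?_ (Grp.le_pCore inferInstance (hker3.1 ▸ hR))
    set N := (Cfsg.pCore 3 K).map φ with hN
    have hN3 : IsPGroup 3 N := Grp.pCore_isPGroup.map φ
    rw [← Subgroup.map_eq_bot_iff, ← hN]
    have hNA : N ≤ alternatingGroup (Fin 5) := by
      intro z hz
      obtain ⟨j, hj⟩ := hN3 ⟨z, hz⟩
      have hz' : z ^ 3 ^ j = 1 := congrArg Subtype.val hj
      rw [Perm.mem_alternatingGroup]
      have hs := congrArg Perm.sign hz'
      rw [map_pow, map_one] at hs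
      rcases Int.units_eq_one_or (Perm.sign z) with h | h
      · exact h
      · rw [h, Odd.neg_one_pow ((by decide : Odd 3).pow)] at hs
        exact absurd hs (by decide)
    have hAr : alternatingGroup (Fin 5) ≤ φ.range := by
      rcases hrange with h | h <;> rw [h]
      exact le_top
    haveI hNn : (N.subgroupOf (alternatingGroup (Fin 5))).Normal := ⟨by
      intro z hz a
      rw [Subgroup.mem_subgroupOf] at hz ⊢
      obtain ⟨c, hc, hc'⟩ := hz
      obtain ⟨b, hb⟩ := hAr a.2
      exact ⟨b * c * b⁻¹, Subgroup.Normal.conj_mem inferInstance c hc b, by simp [hc', hb]⟩⟩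
    haveI := alternatingGroup.isSimpleGroup_five
    rcases Subgroup.Normal.eq_bot_or_eq_top hNn with h | h
    · refine (Subgroup.eq_bot_iff_forall N).2 fun z hz => ?_
      have hm : (⟨z, hNA hz⟩ : alternatingGroup (Fin 5)) ∈ N.subgroupOf _ := Subgroup.mem_subgroupOf.2 hz
      rw [h, Subgroup.mem_bot] at hm
      exact congrArg Subtype.val hm
    · exfalso
      rw [Subgroup.subgroupOf_eq_top] at h
      have h60 : Nat.card (alternatingGroup (Fin 5)) = 60 := by
        have := card_alt 5 (by norm_num)
        rw [show Nat.factorial 5 = 120 from rfl] at this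
        omega
      obtain ⟨j, hj⟩ := IsPGroup.iff_card.1 hN3
      have h2 : 2 ∣ 3 ^ j := by
        rw [← hj, le_antisymm hNA h, h60]; norm_num
      exact absurd ((Nat.prime_two).dvd_of_dvd_pow h2) (by norm_num)
  refine ⟨hcore ▸ hker3.2, ?_⟩
  let q : K ⧸ Cfsg.pCore 3 K ≃* φ.range :=
    (QuotientGroup.quotientMulEquivOfEq hcore).trans (QuotientGroup.quotientKerEquivRange φ)
  rcases hrange with h | h
  · exact .inl ⟨q.trans (MulEquiv.subgroupCongr h)⟩
  · exact .inr ⟨q.trans ((MulEquiv.subgroupCongr h).trans Subgroup.topEquiv)⟩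

/-- Nonsolvable subgroups of `GL(4,2)` without normal two-subgroups. -/
theorem image_cases (H : Subgroup (GL (Fin 4) (ZMod 2))) [(Cfsg.pCore 3 H).Normal]
    (hns : ¬ Group.IsSolvable H) (h2 : Cfsg.pCore 2 H = ⊥) : NoSolv H ∨ ThreeByFive H := by
  classical
  let φ : GL (Fin 4) (ZMod 2) →* Perm (Fin 8) :=
    (alternatingGroup (Fin 8)).subtype.comp Recog.GL42.homAlt
  have hφ : Function.Injective φ := (alternatingGroup (Fin 8)).subtype_injective.comp Recog.GL42.homAlt_injective
  let e : H ≃* H.map φ := H.equivMapOfInjective φ hφ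
  by_cases hN : NoSolv H
  · exact .inl hN
  right
  simp only [NoSolv, not_forall] at hN
  obtain ⟨N, hNn, hs, hne⟩ := hN
  have hex : ∃ n, ∃ M : Subgroup H, M.Normal ∧ M ≤ N ∧ M ≠ ⊥ ∧ Nat.card M = n :=
    ⟨_, N, hNn, le_rfl, hne, rfl⟩
  obtain ⟨M, hM, hMN, hMne, hMc⟩ := Nat.find_spec hex
  haveI := hM
  haveI := hs
  have hmin : ∀ M' : Subgroup H, M'.Normal → M' ≤ M → M' = ⊥ ∨ M' = M := by
    intro M' h1 h3
    by_cases hb : M' = ⊥
    · exact .inl hb
    · refine .inr (Subgroup.eq_of_le_of_card_ge h3 ?_)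
      rw [hMc]
      exact Nat.find_min' hex ⟨M', h1, h3.trans hMN, hb, rfl⟩
  obtain ⟨p, hp, hP⟩ := Grp.minimal_normal_solvable_isPGroup
    (Group.isSolvable_of_isSolvable_injective (f := Subgroup.inclusion hMN) (Subgroup.inclusion_injective hMN))
    hMne hmin
  haveI := Fact.mk hp
  have hp2 : p ≠ 2 := by
    rintro rfl
    exact hMne (eq_bot_iff.2 (h2 ▸ Grp.le_pCore hM hP))
  haveI : (M.map e.toMonoidHom).Normal := hM.map _ e.surjective
  haveI : (Cfsg.pCore 3 (H.map φ)).Normal := Grp.pCore_isNormal
  refine (three_by_five (H.map φ) ?_ ?_ (M.map e.toMonoidHom) ?_ hp2 (hP.map _)).of_equiv e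
  · rintro _ ⟨x, -, rfl⟩
    exact (Recog.GL42.homAlt x).2
  · intro h
    haveI := h
    exact hns (Group.isSolvable_of_isSolvable_injective (f := e.toMonoidHom) e.injective)
  · exact fun h => hMne ((Subgroup.map_eq_bot_iff_of_injective _ e.injective).1 h)

end Cfsg.Agent.Spor.RankFourQuot
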