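import Mathlib
import Cfsg.Prelude.Def_CaseTheorems
import Cfsg.Agent.Lib.Fus.SupersolubleMetacyclic
import Cfsg.Agent.Lib.Grp.Frattini
import Cfsg.Agent.Lib.Grp.Cores

/-!
A 2-constrained group without odd core acts faithfully modulo `O₂` on the Frattini quotient of
`O₂`, which gives a representation of dimension four when the sectional rank is at most four.
-/

set_option autoImplicit false

namespace Cfsg.Agent.Spor.RankFourQuot

open Matrix

theorem sectional_of_surjective {A B : Type*} [Group A] [Group B] {p k : ℕ} (f : A →* B)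
    (hf : Function.Surjective f) (h : Cfsg.SectionalPRankLE p k A) : Cfsg.SectionalPRankLE p k B := by
  intro H N _ E hEc hEp
  let g : (H.comap f) →* H ⧸ N := (QuotientGroup.mk' N).comp (f.subgroupComap H)
  have hg : Function.Surjective g :=
    (QuotientGroup.mk'_surjective N).comp (MonoidHom.subgroupComap_surjective_of_surjective f H hf)
  let e := QuotientGroup.quotientKerEquivOfSurjective g hg
  have hc : IsMulCommutative (E.comap e.toMonoidHom) := ⟨⟨fun a b => Subtype.ext (e.injective (by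
    show e ((a : _) * b) = e ((b : _) * a)
    rw [map_mul, map_mul]
    exact congrArg Subtype.val (mul_comm' (⟨e a, a.2⟩ : E) ⟨e b, b.2⟩)))⟩⟩
  have hp : ∀ a ∈ E.comap e.toMonoidHom, a ^ p = 1 := fun a ha =>
    e.injective (by rw [map_pow, map_one]; exact hEp _ ha)
  refine le_trans (le_of_eq ?_) (h (H.comap f) g.ker (E.comap e.toMonoidHom) hc hp)
  exact Nat.card_congr ((e.toEquiv.subtypeEquiv (fun a => Iff.rfl)).symm)

variable {X : Type*} [Group X] [Finite X]

theorem pPrimePCore_eq (hO : Cfsg.oddCore X = ⊥) : Cfsg.pPrimePCore 2 X = Cfsg.pCore 2 X := by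
  haveI : (Cfsg.pCore 2 X).Normal := Grp.pCore_isNormal
  haveI : (Cfsg.pPrimeCore 2 X).Normal := Grp.pPrimeCore_isNormal
  have hinj : Function.Injective (QuotientGroup.mk' (Cfsg.pPrimeCore 2 X)) := by
    rw [← MonoidHom.ker_eq_bot_iff, QuotientGroup.ker_mk']; exact hO
  unfold Cfsg.pPrimePCore
  refine le_antisymm (Grp.le_pCore (Grp.pCore_isNormal.comap _)
    (Grp.pCore_isPGroup.comap_of_injective _ hinj)) ?_
  rw [← Subgroup.map_le_iff_le_comap]
  exact Grp.le_pCore (Grp.pCore_isNormal.map _ (QuotientGroup.mk'_surjective _)) (Grp.pCore_isPGroup.map _)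

theorem centralizer_core_le (hc : Cfsg.IsPConstrained 2 X) (hO : Cfsg.oddCore X = ⊥) :
    Subgroup.centralizer (Cfsg.pCore 2 X : Set X) ≤ Cfsg.pCore 2 X := by
  haveI : Fact (Nat.Prime 2) := ⟨Nat.prime_two⟩
  obtain ⟨S⟩ : Nonempty (Sylow 2 ↥(Cfsg.pPrimePCore 2 X)) := inferInstance
  have htop : (S : Subgroup ↥(Cfsg.pPrimePCore 2 X)) = ⊤ := by
    refine (S.3 ?_ le_top).symm
    have hP : IsPGroup 2 ↥(Cfsg.pPrimePCore 2 X) := by rw [pPrimePCore_eq hO]; exact Grp.pCore_isPGroup
    exact hP.to_subgroup ⊤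
  have h := hc S
  rw [htop, ← MonoidHom.range_eq_map, Subgroup.range_subtype, pPrimePCore_eq hO] at h
  exact h

/-- The Frattini subgroup of the two-core. -/
def phiCore (X : Type*) [Group X] : Subgroup X :=
  (frattini ↥(Cfsg.pCore 2 X)).map (Cfsg.pCore 2 X).subtype

theorem phiCore_normal : (phiCore X).Normal := by
  haveI : (Cfsg.pCore 2 X).Normal := Grp.pCore_isNormal
  haveI : (frattini ↥(Cfsg.pCore 2 X)).Characteristic := inferInstance
  exact ConjAct.normal_of_characteristic_of_normal (H := Cfsg.pCore 2 X)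

theorem phiCore_le : phiCore X ≤ Cfsg.pCore 2 X := Subgroup.map_subtype_le _

/-- The image of the two-core modulo its Frattini subgroup: elementary abelian and self-centralizing. -/
theorem core_quotient (hc : Cfsg.IsPConstrained 2 X) (hO : Cfsg.oddCore X = ⊥) [(phiCore X).Normal] :
    ((Cfsg.pCore 2 X).map (QuotientGroup.mk' (phiCore X))).Normal ∧
      (∀ a ∈ (Cfsg.pCore 2 X).map (QuotientGroup.mk' (phiCore X)), a * a = 1) ∧
      Subgroup.centralizer (((Cfsg.pCore 2 X).map (QuotientGroup.mk' (phiCore X)) : Subgroup _) : Set _)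
        = (Cfsg.pCore 2 X).map (QuotientGroup.mk' (phiCore X)) := by
  haveI : Fact (Nat.Prime 2) := ⟨Nat.prime_two⟩
  set P := Cfsg.pCore 2 X with hP
  haveI hPn : P.Normal := Grp.pCore_isNormal
  have hP2 : IsPGroup 2 P := Grp.pCore_isPGroup
  set q := QuotientGroup.mk' (phiCore X) with hq
  refine ⟨hPn.map _ (QuotientGroup.mk'_surjective _), ?_, ?_⟩
  · rintro _ ⟨x, hx, rfl⟩
    rw [← map_mul, hq, QuotientGroup.mk'_apply, QuotientGroup.eq_one_iff]
    exact ⟨(⟨x, hx⟩ : P) ^ 2, Grp.pGroup_pow_mem_frattini hP2 _, by simp [sq]⟩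
  refine le_antisymm ?_ ?_
  swap
  · rintro _ ⟨x, hx, rfl⟩
    rw [Subgroup.mem_centralizer_iff]
    rintro _ ⟨y, hy, rfl⟩
    rw [← map_mul, ← map_mul, hq, QuotientGroup.mk'_apply, QuotientGroup.mk'_apply, QuotientGroup.eq]
    refine ⟨(⟨x, hx⟩ : P)⁻¹ * (⟨y, hy⟩ : P)⁻¹ * (⟨x, hx⟩ : P)⁻¹⁻¹ * (⟨y, hy⟩ : P)⁻¹⁻¹,
      Grp.pGroup_commutator_le_frattini hP2
        (Subgroup.commutator_mem_commutator (Subgroup.mem_top _) (Subgroup.mem_top _)), by simp [mul_assoc]⟩
  -- elements acting trivially on the quotient form a normal two-group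
  set C := (Subgroup.centralizer ((P.map q : Subgroup (X ⧸ phiCore X)) : Set (X ⧸ phiCore X))).comap q with hC
  haveI : (P.map q).Normal := hPn.map _ (QuotientGroup.mk'_surjective _)
  haveI : C.Normal := Subgroup.Normal.comap inferInstance q
  have hC2 : IsPGroup 2 C := by
    intro c
    obtain ⟨k, m, hm, hn⟩ := Nat.exists_eq_pow_mul_and_not_dvd (orderOf_pos c).ne' 2 (by norm_num)
    refine ⟨k, ?_⟩
    set d := c ^ 2 ^ k with hd
    have hdm : d ^ m = 1 := by rw [hd, ← pow_mul, ← hn, pow_orderOf_eq_one]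
    have hcop : m.Coprime 2 := ((Nat.Prime.coprime_iff_not_dvd Nat.prime_two).2 hm).symm
    have hfr : ∀ x : P, x⁻¹ * (MulAut.conjNormal (d : X) : MulAut P) x ∈ frattini P := by
      intro x
      have h : q (x : X) * q (d : X) = q (d : X) * q x := Subgroup.mem_centralizer_iff.1 d.2 _ ⟨x, x.2, rfl⟩
      have hmem : ((x⁻¹ * (MulAut.conjNormal (d : X) : MulAut P) x : P) : X) ∈ phiCore X := by
        rw [← QuotientGroup.eq_one_iff, ← QuotientGroup.mk'_apply, ← hq]
        simp only [Subgroup.coe_mul, Subgroup.coe_inv, MulAut.conjNormal_apply, map_mul, map_inv]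
        rw [← h]; group
      obtain ⟨y, hy, hye⟩ := hmem
      exact (Subtype.ext hye : y = _) ▸ hy
    have hone := Fus.SuperMeta.eq_one_of_coprime_frattini hP2 hcop
      (β := (MulAut.conjNormal (d : X) : MulAut P)) (by
        rw [← map_pow, show ((d : X)) ^ m = 1 by rw [← Subgroup.coe_pow, hdm]; rfl, map_one]) hfr
    have hdP : (d : X) ∈ P := centralizer_core_le hc hO (Subgroup.mem_centralizer_iff.2 fun y hy => by
      have h := congrArg (fun β : MulAut P => ((β ⟨y, hy⟩ : P) : X)) hone
      simp only [MulAut.conjNormal_apply, MulAut.one_apply] at h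
      exact (mul_inv_eq_iff_eq_mul.1 h).symm)
    obtain ⟨j, hj⟩ := hP2 ⟨d, hdP⟩
    have h1 : (d : X) ^ 2 ^ j = 1 := congrArg Subtype.val hj
    have h2 : (d : X) ^ m = 1 := congrArg Subtype.val hdm
    have h3 : orderOf (d : X) ∣ Nat.gcd (2 ^ j) m :=
      Nat.dvd_gcd (orderOf_dvd_of_pow_eq_one h1) (orderOf_dvd_of_pow_eq_one h2)
    rw [Nat.Coprime.gcd_eq_one (Nat.Coprime.pow_left j hcop.symm), Nat.dvd_one, orderOf_eq_one_iff] at h3
    exact Subtype.ext h3
  intro z hz
  obtain ⟨x, rfl⟩ := QuotientGroup.mk'_surjective (phiCore X) z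
  exact ⟨x, Grp.le_pCore inferInstance hC2 hz, rfl⟩

/-- A representation of dimension four on an elementary abelian normal subgroup of order at most 16. -/
theorem exists_rep {G : Type*} [Group G] [Finite G] (V : Subgroup G) [V.Normal]
    (h2 : ∀ a ∈ V, a * a = 1) (h16 : Nat.card V ≤ 16) :
    ∃ (ρ : G →* GL (Fin 4) (ZMod 2)) (ι : V → (Fin 4 → ZMod 2)),
      ρ.ker = Subgroup.centralizer (V : Set G) ∧ Function.Injective ι ∧
      (∀ a b : V, ι (a * b) = ι a + ι b) ∧
      (∀ (g : G) (v : V), (ρ g).val *ᵥ ι v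
        = ι ⟨g * v * g⁻¹, Subgroup.Normal.conj_mem inferInstance _ v.2 g⟩) ∧
      (Nat.card V ≤ 8 → Nat.card ρ.range ≤ 512) := by
  classical
  have hinv : ∀ a : V, a⁻¹ = a := fun a => inv_eq_of_mul_eq_one_right (Subtype.ext (h2 _ a.2))
  letI : CommGroup V := { (inferInstance : Group V) with
    mul_comm := fun a b => by rw [← hinv (a * b), _root_.mul_inv_rev, hinv, hinv] }
  let A := Additive V
  letI : Module (ZMod 2) A := AddCommGroup.zmodModule (n := 2) fun x => by
    rw [two_nsmul]; exact Additive.toMul.injective (Subtype.ext (h2 _ (Additive.toMul x).2))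
  haveI : Finite A := inferInstanceAs (Finite V)
  haveI : Module.Finite (ZMod 2) A := Module.Finite.of_finite
  set n := Module.finrank (ZMod 2) A with hn
  have hcard : Nat.card V = 2 ^ n := by
    rw [show Nat.card V = Nat.card A from rfl, Module.natCard_eq_pow_finrank (K := ZMod 2), Nat.card_zmod]
  have hn4 : n ≤ 4 := by
    by_contra hh
    have := Nat.pow_le_pow_right (show 0 < 2 by norm_num) (show 5 ≤ n by omega)
    omega
  let b := Module.finBasis (ZMod 2) A
  let i : A →ₗ[ZMod 2] (Fin 4 → ZMod 2) :=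
    { toFun := fun a j => if h : (j : ℕ) < n then b.equivFun a ⟨j, h⟩ else 0
      map_add' := fun a c => by funext j; by_cases h : (j : ℕ) < n <;> simp [h]
      map_smul' := fun r a => by funext j; by_cases h : (j : ℕ) < n <;> simp [h] }
  have hi : Function.Injective i := by
    intro a c e
    apply b.equivFun.injective
    funext j
    have h := congrFun e ⟨j, lt_of_lt_of_le j.2 hn4⟩
    have hj : (j : ℕ) < n := j.2
    simpa [i, hj] using h
  obtain ⟨π, hπ⟩ := i.exists_leftInverse_of_injective (LinearMap.ker_eq_bot.2 hi)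
  have hπi : ∀ a, π (i a) = a := fun a => LinearMap.congr_fun hπ a
  let conjL : G → (A →ₗ[ZMod 2] A) := fun g =>
    (MonoidHom.toAdditive (MulAut.conjNormal g : MulAut V).toMonoidHom).toZModLinearMap 2
  have hconjL : ∀ (g : G) (a : A), ((Additive.toMul (conjL g a) : V) : G) = g * (Additive.toMul a : V) * g⁻¹ :=
    fun g a => MulAut.conjNormal_apply g _
  have hext : ∀ a c : A, ((Additive.toMul a : V) : G) = ((Additive.toMul c : V) : G) → a = c :=
    fun a c h => Additive.toMul.injective (Subtype.ext h)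
  let E : G →* Module.End (ZMod 2) (Fin 4 → ZMod 2) :=
    { toFun := fun g => i ∘ₗ conjL g ∘ₗ π + (LinearMap.id - i ∘ₗ π)
      map_one' := by
        have : conjL 1 = LinearMap.id := LinearMap.ext fun a => hext _ _ (by rw [hconjL]; simp)
        rw [this, LinearMap.id_comp]
        show _ = LinearMap.id
        abel
      map_mul' := fun g h => by
        refine LinearMap.ext fun x => ?_
        have hmul : conjL (g * h) (π x) = conjL g (conjL h (π x)) := hext _ _ (by
          rw [hconjL, hconjL, hconjL]; group)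
        simp [hπi, hmul] }
  let T : G →* Matrix (Fin 4) (Fin 4) (ZMod 2) :=
    (LinearMap.toMatrixAlgEquiv' (R := ZMod 2) (n := Fin 4)).toRingEquiv.toMulEquiv.toMonoidHom.comp E
  let ρ := T.toHomUnits
  have hρ : ∀ (g : G) (x : Fin 4 → ZMod 2), (ρ g).val *ᵥ x = E g x := fun g x => by
    show LinearMap.toMatrixAlgEquiv' (E g) *ᵥ x = E g x
    rw [← Matrix.toLinAlgEquiv'_apply, Matrix.toLinAlgEquiv'_toMatrixAlgEquiv']
  let ι : V → (Fin 4 → ZMod 2) := fun v => i (Additive.ofMul v)
  have hιe : ∀ (g : G) (v : V), (ρ g).val *ᵥ ι v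
      = ι ⟨g * v * g⁻¹, Subgroup.Normal.conj_mem inferInstance _ v.2 g⟩ := by
    intro g v
    rw [hρ]
    have h : conjL g (Additive.ofMul v)
        = Additive.ofMul (⟨g * v * g⁻¹, Subgroup.Normal.conj_mem inferInstance _ v.2 g⟩ : V) :=
      hext _ _ (by rw [hconjL]; rfl)
    simp [ι, E, hπi, h]
  refine ⟨ρ, ι, ?_, fun a c e => Additive.ofMul.injective (hi e), fun a c => ?_, hιe, fun h8 => ?_⟩
  · ext g
    rw [MonoidHom.mem_ker, Subgroup.mem_centralizer_iff]
    constructor
    · intro hg v hv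
      have h := hιe g ⟨v, hv⟩
      rw [hg, Units.val_one, Matrix.one_mulVec] at h
      have h1 : v = g * v * g⁻¹ := congrArg Subtype.val (Additive.ofMul.injective (hi h))
      exact eq_mul_inv_iff_mul_eq.1 h1
    · intro hg
      refine Units.ext (Matrix.toLin'.injective (LinearMap.ext fun x => ?_))
      rw [Matrix.toLin'_apply, Matrix.toLin'_apply, hρ, Units.val_one, Matrix.one_mulVec]
      have h : conjL g (π x) = π x := hext _ _ (by
        rw [hconjL, ← hg _ (Additive.toMul (π x) : V).2, mul_inv_cancel_right])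
      simp [E, h]
  · show i (Additive.ofMul (a * c)) = _
    rw [ofMul_mul, map_add]
  · have hn3 : n ≤ 3 := by
      by_contra hh
      have := Nat.pow_le_pow_right (show 0 < 2 by norm_num) (show 4 ≤ n by omega)
      omega
    let s : ρ.range → (Fin n → A) := fun r j => π ((r : GL (Fin 4) (ZMod 2)).val *ᵥ i (b j))
    have hs : Function.Injective s := by
      rintro ⟨_, g, rfl⟩ ⟨_, h, rfl⟩ e
      apply Subtype.ext
      have hcl : conjL g = conjL h := b.ext fun j => by
        have h1 := congrFun e j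
        simp only [s] at h1
        rw [hρ, hρ] at h1
        simpa [E, hπi] using h1
      refine Units.ext (Matrix.toLin'.injective (LinearMap.ext fun x => ?_))
      rw [Matrix.toLin'_apply, Matrix.toLin'_apply, hρ, hρ]
      simp [E, hcl]
    refine (Nat.card_le_card_of_injective s hs).trans ?_
    rw [Nat.card_fun, Nat.card_fin, show Nat.card A = Nat.card V from rfl]
    calc Nat.card V ^ n ≤ 8 ^ n := Nat.pow_le_pow_left h8 n
      _ ≤ 8 ^ 3 := Nat.pow_le_pow_right (by norm_num) hn3
      _ = 512 := by norm_num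

end Cfsg.Agent.Spor.RankFourQuot
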