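import Cfsg.Agent.Lib.Spor.SharpJordan
import Cfsg.Prelude.Def_Sporadic

/-! Sharply four- and five-transitive groups of degree 11 and 12 are simple. -/

set_option autoImplicit false
set_option linter.style.haveILetI false

namespace Cfsg.Agent.Spor.Sharp

open Finset

variable {α : Type*} [Fintype α] [DecidableEq α] {G : Subgroup (Equiv.Perm α)}

/-- The normaliser of a subgroup of prime order `p` in a group of degree `p`. -/
theorem normalizer_prime {p : ℕ} [Fact p.Prime] (hα : Fintype.card α = p) (P : Subgroup G) (hP : Nat.card P = p) :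
    Nat.card (Subgroup.centralizer (P : Set G)) = p ∧
      ∃ k, k ∣ p - 1 ∧ Nat.card (Subgroup.normalizer (P : Set G)) = k * p := by
  classical
  haveI : IsCyclic P := isCyclic_of_prime_card hP
  obtain ⟨s, hs⟩ := IsCyclic.exists_generator (α := P)
  set σ : Equiv.Perm α := ((s : G) : Equiv.Perm α) with hσ
  have hpp : p.Prime := Fact.out
  have hord : orderOf σ = p := by
    rw [hσ, orderOf_submonoid, orderOf_submonoid, orderOf_eq_card_of_forall_mem_zpowers hs, hP]
  have hcyc : σ.IsCycle := Equiv.Perm.isCycle_of_prime_order' (by rw [hord]; exact hpp)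
    (by rw [hord, hα]; have := hpp.pos; omega)
  have hsupp : σ.support = univ := eq_univ_of_card _ (by rw [← hcyc.orderOf, hord, hα])
  obtain ⟨q0⟩ : Nonempty α := Fintype.card_pos_iff.mp (by rw [hα]; exact hpp.pos)
  have hC : Nat.card (Subgroup.centralizer (P : Set G)) ≤ p := by
    refine le_trans ?_ (le_of_eq ((Nat.card_eq_fintype_card (α := α)).trans hα))
    refine Nat.card_le_card_of_injective (fun g => ((g : G) : Equiv.Perm α) q0) fun g h e => ?_
    have hcom : ∀ (g : Subgroup.centralizer (P : Set G)) (i : ℤ),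
        ((g : G) : Equiv.Perm α) ((σ ^ i) q0) = (σ ^ i) (((g : G) : Equiv.Perm α) q0) := fun g i => by
      have h1 : σ * ((g : G) : Equiv.Perm α) = ((g : G) : Equiv.Perm α) * σ :=
        congrArg Subtype.val (Subgroup.mem_centralizer_iff.mp g.2 s s.2)
      have h2 : Commute (σ ^ i) ((g : G) : Equiv.Perm α) := Commute.zpow_left h1 i
      exact (DFunLike.congr_fun h2.eq q0).symm
    refine Subtype.ext (Subtype.ext (Equiv.ext fun q => ?_))
    obtain ⟨i, rfl⟩ := hcyc.exists_zpow_eq (Equiv.Perm.mem_support.mp (hsupp.symm ▸ mem_univ q0))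
      (Equiv.Perm.mem_support.mp (hsupp.symm ▸ mem_univ q))
    rw [hcom g i, hcom h i]
    exact congrArg _ e
  haveI : IsMulCommutative P := IsCyclic.isMulCommutative
  have hCp : Nat.card (Subgroup.centralizer (P : Set G)) = p :=
    le_antisymm hC (hP.ge.trans (Subgroup.card_le_of_le (Subgroup.le_centralizer _)))
  let φ := P.normalizerMonoidHom
  refine ⟨hCp, Nat.card φ.range, ?_, ?_⟩
  · have := Subgroup.card_subgroup_dvd_card φ.range
    rwa [IsCyclic.card_mulAut, hP, Nat.totient_prime hpp] at this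
  · rw [Subgroup.card_eq_card_quotient_mul_card_subgroup φ.ker,
      Nat.card_congr (QuotientGroup.quotientKerEquivRange φ).toEquiv, Subgroup.normalizerMonoidHom_ker,
      Nat.card_congr (Subgroup.subgroupOfEquivOfLe (Subgroup.centralizer_le_normalizer _)).toEquiv, hCp]

/-- A non-trivial normal subgroup of a doubly transitive group is transitive. -/
theorem normal_transitive (h2 : ∀ u v u' v' : α, u ≠ v → u' ≠ v' → ∃ g ∈ G, g u = u' ∧ g v = v')
    (N : Subgroup G) (hN : N.Normal) (hne : N ≠ ⊥) (u v : α) : ∃ n ∈ N, ((n : G) : Equiv.Perm α) u = v := by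
  by_cases huv : u = v
  · exact ⟨1, one_mem N, huv⟩
  obtain ⟨n, hn, hn1⟩ := N.bot_or_exists_ne_one.resolve_left hne
  obtain ⟨w, hw⟩ : ∃ w, (n : Equiv.Perm α) w ≠ w := by
    by_contra h
    push Not at h
    exact hn1 (Subtype.ext (Equiv.ext h))
  obtain ⟨g, hg, g1, g2⟩ := h2 w ((n : Equiv.Perm α) w) u v (Ne.symm hw) huv
  refine ⟨⟨g, hg⟩ * n * ⟨g, hg⟩⁻¹, hN.conj_mem n hn _, ?_⟩
  show g ((n : Equiv.Perm α) (g⁻¹ u)) = v
  rw [← g1, show g⁻¹ (g w) = w from g.symm_apply_apply w, g2]

theorem dvd_of_transitive (N : Subgroup G) (u : α) (h : ∀ v : α, ∃ n ∈ N, ((n : G) : Equiv.Perm α) u = v) :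
    Fintype.card α ∣ Nat.card N := by
  haveI : MulAction.IsPretransitive N α := ⟨fun x y => by
    obtain ⟨m, hm, rfl⟩ := h x
    obtain ⟨k, hk, rfl⟩ := h y
    exact ⟨⟨k * m⁻¹, mul_mem hk (inv_mem hm)⟩, by
      show ((k : G) : Equiv.Perm α) (((m : G) : Equiv.Perm α)⁻¹ (((m : G) : Equiv.Perm α) u)) = _
      rw [show ((m : G) : Equiv.Perm α)⁻¹ (((m : G) : Equiv.Perm α) u) = u from Equiv.symm_apply_apply _ u]⟩⟩
  rw [← Nat.card_eq_fintype_card, ← MulAction.index_stabilizer_of_transitive N u]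
  exact Subgroup.index_dvd_card _

theorem Is.two {k : ℕ} (hG : Is G (k + 2)) (hn : k + 2 ≤ Fintype.card α) (u v u' v' : α) (h : u ≠ v)
    (h' : u' ≠ v') : ∃ g ∈ G, g u = u' ∧ g v = v' := by
  classical
  have key : ∀ u v : α, u ≠ v → ∃ x : Fin (k + 2) ↪ α, x 0 = u ∧ x 1 = v := by
    intro u v h
    obtain ⟨x⟩ : Nonempty (Fin (k + 2) ↪ α) :=
      Function.Embedding.nonempty_of_card_le (by rwa [Fintype.card_fin])
    let e1 := Equiv.swap (x 0) u
    let e2 := Equiv.swap (e1 (x 1)) v
    refine ⟨x.trans (e1.trans e2).toEmbedding, ?_, by simp [e1, e2]⟩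
    have h01 : e1 (x 1) ≠ u := fun e => by
      have : x 1 = x 0 := e1.injective (e.trans (Equiv.swap_apply_left _ _).symm)
      simp at this
    show e2 (e1 (x 0)) = u
    rw [Equiv.swap_apply_left, Equiv.swap_apply_of_ne_of_ne (Ne.symm h01) h]
  obtain ⟨x, x0, x1⟩ := key u v h
  obtain ⟨y, y0, y1⟩ := key u' v' h'
  obtain ⟨g, hg, e⟩ := hG.trans x y
  exact ⟨g, hg, by rw [← x0, e, y0], by rw [← x1, e, y1]⟩

theorem eleven (hG : Is G 4) (h11 : Fintype.card α = 11) : IsSimpleGroup G ∧ Nat.card G = 7920 := by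
  classical
  obtain ⟨x⟩ : Nonempty (Fin 4 ↪ α) := Function.Embedding.nonempty_of_card_le (by rw [Fintype.card_fin, h11]; norm_num)
  have hcard : Nat.card G = 7920 := by rw [hG.card x, h11]; rfl
  haveI : Nontrivial G := Finite.one_lt_card_iff_nontrivial.mp (by rw [hcard]; norm_num)
  haveI : Fact (Nat.Prime 11) := ⟨by norm_num⟩
  refine ⟨⟨fun N hN => ?_⟩, hcard⟩
  by_cases hne : N = ⊥
  · exact Or.inl hne
  right
  have hd : 11 ∣ Nat.card N :=
    h11 ▸ dvd_of_transitive N (x 0) (normal_transitive (hG.two (k := 2) (by omega)) N hN hne (x 0))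
  obtain ⟨s, hs⟩ := exists_prime_orderOf_dvd_card' (G := N) 11 hd
  obtain ⟨Q⟩ : Nonempty (Sylow 11 N) := Sylow.nonempty
  have hQ : Nat.card (Q : Subgroup N) = 11 := by
    obtain ⟨n, hn⟩ := IsPGroup.iff_card.mp Q.isPGroup'
    have h1 : 11 ^ 1 ∣ Nat.card (Q : Subgroup N) := Q.pow_dvd_card_of_pow_dvd_card (by simpa using hd)
    rw [hn] at h1 ⊢
    have h2 : 11 ^ n ∣ 7920 := by
      rw [← hn, ← hcard]; exact (Subgroup.card_subgroup_dvd_card _).trans (Subgroup.card_subgroup_dvd_card _)
    rcases n with _ | _ | n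
    · norm_num at h1
    · norm_num
    · exfalso
      have := (pow_dvd_pow 11 (show 2 ≤ n + 1 + 1 by omega)).trans h2
      norm_num at this
  have hQG : Nat.card ((Q : Subgroup N).map N.subtype) = 11 := by
    rw [Subgroup.card_subtype]; exact hQ
  obtain ⟨P, hPQ⟩ := IsPGroup.exists_le_sylow (IsPGroup.of_card (n := 1) (by rw [hQG, pow_one]) :
    IsPGroup 11 ((Q : Subgroup N).map N.subtype))
  have hP : Nat.card (P : Subgroup G) = 11 := by
    obtain ⟨n, hn⟩ := IsPGroup.iff_card.mp P.isPGroup'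
    have h1 := Subgroup.card_dvd_of_le hPQ
    have h2 : 11 ^ n ∣ 7920 := by rw [← hn, ← hcard]; exact Subgroup.card_subgroup_dvd_card _
    rw [hQG, hn] at h1
    rw [hn]
    rcases n with _ | _ | n
    · norm_num at h1
    · norm_num
    · exfalso
      have := (pow_dvd_pow 11 (show 2 ≤ n + 1 + 1 by omega)).trans h2
      norm_num at this
  have hPeq : (Q : Subgroup N).map N.subtype = (P : Subgroup G) :=
    Subgroup.eq_of_le_of_card_ge hPQ (by rw [hQG, hP])
  obtain ⟨-, k, hk, hkn⟩ := normalizer_prime h11 (P : Subgroup G) hP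
  have hk5 : k = 5 := by
    have hmul := Subgroup.card_mul_index (Subgroup.normalizer ((P : Subgroup G) : Set G))
    rw [hcard, hkn] at hmul
    have hmod := card_sylow_modEq_one 11 G
    rw [Sylow.card_eq_index_normalizer P, Nat.ModEq] at hmod
    have hmod' : (Subgroup.normalizer ((P : Subgroup G) : Set G)).index % 11 = 1 := hmod
    have hle : k ≤ 10 := Nat.le_of_dvd (by norm_num) hk
    interval_cases k <;> omega
  haveI := hN
  have hfr : Subgroup.normalizer ((P : Subgroup G) : Set G) ⊔ N = ⊤ := by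
    rw [← hPeq]; exact Sylow.normalizer_sup_eq_top Q
  -- the normaliser inside `N`
  set A := Subgroup.normalizer ((P : Subgroup G) : Set G) with hA
  have hprod : Nat.card N * Nat.card A = Nat.card G * Nat.card (A.subgroupOf N) := by
    have h1 : N.index = (N.subgroupOf A).index := by
      rw [← Subgroup.relIndex, ← Subgroup.relIndex_top_right, ← hfr, Subgroup.relIndex_sup_right]
    have h2 := Subgroup.card_mul_index (N.subgroupOf A)
    have h3 := Subgroup.card_mul_index N
    have h4 : Nat.card (N.subgroupOf A) = Nat.card (A.subgroupOf N) := by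
      rw [← Subgroup.inf_subgroupOf_right, ← Subgroup.inf_subgroupOf_right A N, inf_comm A N,
        Nat.card_congr (Subgroup.subgroupOfEquivOfLe inf_le_right).toEquiv,
        Nat.card_congr (Subgroup.subgroupOfEquivOfLe inf_le_left).toEquiv]
    rw [← h2, ← h3, ← h1, h4]; ring
  rw [hcard, hkn, hk5] at hprod
  have hNQ : A.subgroupOf N = Subgroup.normalizer ((Q : Subgroup N) : Set N) := by
    rw [hA, ← hPeq]
    ext y
    rw [Subgroup.mem_subgroupOf, Subgroup.mem_normalizer_iff, Subgroup.mem_normalizer_iff]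
    have e : ∀ w : N, (w : G) ∈ (Q : Subgroup N).map N.subtype ↔ w ∈ (Q : Subgroup N) := fun w =>
      Subgroup.mem_map_iff_mem N.subtype_injective
    constructor
    · intro h z
      exact ((e z).symm.trans (h (z : G))).trans (e (y * z * y⁻¹))
    · intro h z
      by_cases hz : z ∈ N
      · exact ((e ⟨z, hz⟩).trans (h ⟨z, hz⟩)).trans (e (y * ⟨z, hz⟩ * y⁻¹)).symm
      · refine iff_of_false (fun h' => hz (Subgroup.map_subtype_le _ h')) (fun h' => hz ?_)
        have h2 := hN.conj_mem _ (Subgroup.map_subtype_le _ h') (y : G)⁻¹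
        rwa [show (y : G)⁻¹ * ((y : G) * z * (y : G)⁻¹) * (y : G)⁻¹⁻¹ = z by group] at h2
  have hj : Nat.card (A.subgroupOf N) ∣ 55 := by
    have h1 : Nat.card ((A.subgroupOf N).map N.subtype) ∣ Nat.card A :=
      Subgroup.card_dvd_of_le (by rintro _ ⟨y, hy, rfl⟩; exact hy)
    rw [Subgroup.card_subtype, hkn, hk5] at h1
    exact h1
  have hj11 : 11 ∣ Nat.card (A.subgroupOf N) := by
    have := Subgroup.card_dvd_of_le (Subgroup.le_normalizer (H := (Q : Subgroup N)))
    rwa [hQ, ← hNQ] at this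
  obtain ⟨j, hjeq⟩ := hj11
  rw [hjeq] at hprod hj
  have hj5 : j ∣ 5 := (Nat.mul_dvd_mul_iff_left (by norm_num : 0 < 11)).mp hj
  rcases (Nat.dvd_prime (by norm_num)).mp hj5 with rfl | rfl
  · exfalso
    -- a normal 11-complement
    have hself : Subgroup.normalizer ((Q : Subgroup N) : Set N) = (Q : Subgroup N) :=
      (Subgroup.eq_of_le_of_card_ge Subgroup.le_normalizer (by rw [← hNQ, hjeq, hQ])).symm
    haveI : IsCyclic (Q : Subgroup N) := isCyclic_of_prime_card hQ
    haveI : IsMulCommutative (Q : Subgroup N) := IsCyclic.isMulCommutative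
    have hle : Subgroup.normalizer ((Q : Subgroup N) : Set N) ≤ Subgroup.centralizer ((Q : Subgroup N) : Set N) :=
      hself.le.trans (Subgroup.le_centralizer _)
    let τ := MonoidHom.transferSylow Q hle
    have hcompl := MonoidHom.ker_transferSylow_isComplement' Q hle
    let K := (MonoidHom.ker τ).map N.subtype
    have hK : Nat.card K = 144 := by
      rw [Subgroup.card_subtype]
      have := hcompl.card_mul
      rw [hQ] at this
      have hNc : Nat.card N = 1584 := by omega
      have e : Nat.card (MonoidHom.ker τ) * 11 = 1584 := this.trans hNc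
      omega
    have hKn : K.Normal := by
      refine ⟨fun y hy g => ?_⟩
      obtain ⟨z, hz, rfl⟩ := hy
      refine ⟨⟨g * z * g⁻¹, hN.conj_mem z z.2 g⟩, ?_, rfl⟩
      rw [SetLike.mem_coe, MonoidHom.mem_ker]
      have h144 : (⟨g * z * g⁻¹, hN.conj_mem z z.2 g⟩ : N) ^ 144 = 1 := by
        refine Subtype.ext ?_
        have hz' : (⟨z, hz⟩ : MonoidHom.ker τ) ^ 144 = 1 := by
          rw [← hK, Subgroup.card_subtype]; exact pow_card_eq_one'
        have hz'' : (z : G) ^ 144 = 1 := congrArg (fun w : MonoidHom.ker τ => ((w : N) : G)) hz'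
        rw [Subgroup.coe_pow, conj_pow]
        simp [hz'']
      have h11' : τ ⟨g * z * g⁻¹, hN.conj_mem z z.2 g⟩ ^ 11 = 1 := by
        have h := pow_card_eq_one' (x := τ ⟨g * z * g⁻¹, hN.conj_mem z z.2 g⟩)
        rwa [hQ] at h
      have h144' : τ ⟨g * z * g⁻¹, hN.conj_mem z z.2 g⟩ ^ 144 = 1 := by rw [← map_pow, h144, map_one]
      have := pow_gcd_eq_one.mpr ⟨h11', h144'⟩
      rwa [show Nat.gcd 11 144 = 1 from rfl, pow_one] at this
    have hKne : K ≠ ⊥ := fun e => by rw [e, Subgroup.card_bot] at hK; omega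
    have := h11 ▸ dvd_of_transitive K (x 0) (normal_transitive (hG.two (k := 2) (by omega)) K hKn hKne (x 0))
    rw [hK] at this
    norm_num at this
  · exact Subgroup.eq_top_of_card_eq N (by rw [hcard]; omega)

theorem twelve (hG : Is G 5) (h12 : Fintype.card α = 12) : IsSimpleGroup G ∧ Nat.card G = 95040 := by
  classical
  obtain ⟨x⟩ : Nonempty (Fin 5 ↪ α) := Function.Embedding.nonempty_of_card_le (by rw [Fintype.card_fin, h12]; norm_num)
  have hcard : Nat.card G = 95040 := by rw [hG.card x, h12]; rfl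
  haveI : Nontrivial G := Finite.one_lt_card_iff_nontrivial.mp (by rw [hcard]; norm_num)
  refine ⟨⟨fun N hN => ?_⟩, hcard⟩
  by_cases hne : N = ⊥
  · exact Or.inl hne
  right
  set a := x 0
  let S := MulAction.stabilizer G a
  have htr := normal_transitive (hG.two (k := 3) (by omega)) N hN hne a
  -- the point stabiliser is sharply four-transitive of degree 11
  let f : S →* Equiv.Perm {z // z ≠ a} :=
    { toFun := fun g => ((g : G) : Equiv.Perm α).subtypePerm fun z => not_congr
        ⟨fun h => ((g : G) : Equiv.Perm α).injective (h.trans g.2.symm), fun h => by rw [h]; exact g.2⟩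
      map_one' := Equiv.ext fun z => rfl
      map_mul' := fun g h => Equiv.ext fun z => rfl }
  have finj : Function.Injective f := fun g h e => by
    refine Subtype.ext (Subtype.ext (Equiv.ext fun z => ?_))
    by_cases hz : z = a
    · rw [hz]; exact g.2.trans h.2.symm
    · exact congrArg Subtype.val (DFunLike.congr_fun e ⟨z, hz⟩)
  have hH : Is f.range 4 := by
    have hinj : ∀ x : Fin 4 ↪ {z // z ≠ a}, Function.Injective (Fin.cons a (fun i => (x i : α)) : Fin 5 → α) :=
      fun x => Fin.cons_injective_iff.mpr ⟨fun ⟨i, e⟩ => (x i).2 e, fun i j e => x.injective (Subtype.ext e)⟩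
    refine ⟨fun y z => ?_, ?_⟩
    · obtain ⟨g, hg, e⟩ := hG.trans ⟨_, hinj y⟩ ⟨_, hinj z⟩
      have ga : g a = a := by simpa using e 0
      exact ⟨f ⟨⟨g, hg⟩, ga⟩, ⟨_, rfl⟩, fun i => Subtype.ext (show g (y i) = z i by simpa using e i.succ)⟩
    · rintro _ ⟨g, rfl⟩ y hy
      have h1 : ((g : G) : Equiv.Perm α) = 1 := hG.fix _ (g : G).2 ⟨_, hinj y⟩ fun i => by
        refine Fin.cases ?_ (fun j => ?_) i
        · exact g.2
        · exact congrArg Subtype.val (hy j)
      rw [show g = 1 from Subtype.ext (Subtype.ext h1), map_one]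
  have h11 : Fintype.card {z // z ≠ a} = 11 := by rw [card_ne, h12]
  haveI := (eleven hH h11).1
  haveI : Nontrivial S := (MonoidHom.ofInjective finj).toEquiv.nontrivial
  haveI : IsSimpleGroup S := IsSimpleGroup.isSimpleGroup_of_surjective (MonoidHom.ofInjective finj).symm.toMonoidHom
    (MonoidHom.ofInjective finj).symm.surjective
  rcases (IsSimpleGroup.eq_bot_or_eq_top_of_normal (N.subgroupOf S) (hN.comap _)) with hb | ht
  · exfalso
    have hreg : ∀ n ∈ N, ((n : G) : Equiv.Perm α) a = a → n = 1 := by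
      intro n hn e
      have : (⟨n, e⟩ : S) ∈ N.subgroupOf S := hn
      rw [hb, Subgroup.mem_bot] at this
      exact congrArg Subtype.val this
    have hcardN : Nat.card N = 12 := by
      rw [← h12, ← Nat.card_eq_fintype_card]
      refine Nat.card_congr (Equiv.ofBijective (fun n : N => ((n : G) : Equiv.Perm α) a) ⟨fun m n e => ?_, fun v => ?_⟩)
      · refine Subtype.ext ?_
        have := hreg ((n : G)⁻¹ * m) (mul_mem (inv_mem n.2) m.2) (by
          show ((n : G) : Equiv.Perm α)⁻¹ (((m : G) : Equiv.Perm α) a) = a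
          rw [show ((m : G) : Equiv.Perm α) a = _ from e]
          exact Equiv.symm_apply_apply _ a)
        exact (inv_mul_eq_one.mp this).symm
      · obtain ⟨n, hn, e⟩ := htr v; exact ⟨⟨n, hn⟩, e⟩
    have hord : ∀ m n : N, m ≠ 1 → n ≠ 1 → orderOf m = orderOf n := by
      intro m n hm hn
      have hmv : ((m : G) : Equiv.Perm α) a ≠ a := fun e => hm (Subtype.ext (hreg m m.2 e))
      have hnv : ((n : G) : Equiv.Perm α) a ≠ a := fun e => hn (Subtype.ext (hreg n n.2 e))
      obtain ⟨g, hg, g1, g2⟩ := hG.two (k := 3) (by omega) a _ a _ hmv.symm hnv.symm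
      let g' : G := ⟨g, hg⟩
      have hga : g⁻¹ a = a := by rw [Equiv.Perm.inv_eq_iff_eq, g1]
      have e : g' * m * g'⁻¹ = n := by
        have h1 : (n : G)⁻¹ * (g' * m * g'⁻¹) = 1 := hreg _ (mul_mem (inv_mem n.2) (hN.conj_mem _ m.2 g')) (by
          show ((n : G) : Equiv.Perm α)⁻¹ (g (((m : G) : Equiv.Perm α) (g⁻¹ a))) = a
          rw [hga, g2]; exact Equiv.symm_apply_apply _ a)
        exact (inv_mul_eq_one.mp h1).symm
      have h3 : MulAut.conj g' (m : G) = (n : G) := e
      rw [← Subgroup.orderOf_coe m, ← Subgroup.orderOf_coe n, ← h3]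
      exact ((MulAut.conj g').orderOf_eq _).symm
    haveI : Fact (Nat.Prime 2) := ⟨Nat.prime_two⟩
    haveI : Fact (Nat.Prime 3) := ⟨Nat.prime_three⟩
    obtain ⟨m, hm⟩ := exists_prime_orderOf_dvd_card' (G := N) 2 (by rw [hcardN]; norm_num)
    obtain ⟨n, hn⟩ := exists_prime_orderOf_dvd_card' (G := N) 3 (by rw [hcardN]; norm_num)
    have := hord m n (fun e => by rw [e, orderOf_one] at hm; omega) (fun e => by rw [e, orderOf_one] at hn; omega)
    omega
  · rw [eq_top_iff]
    intro g _
    obtain ⟨n, hn, e⟩ := htr ((g : Equiv.Perm α) a)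
    have hs : n⁻¹ * g ∈ S := by
      show ((n : G) : Equiv.Perm α)⁻¹ ((g : Equiv.Perm α) a) = a
      rw [← e]; exact Equiv.symm_apply_apply _ a
    have h2 : (⟨n⁻¹ * g, hs⟩ : S) ∈ N.subgroupOf S := ht ▸ Subgroup.mem_top _
    simpa using mul_mem hn (show n⁻¹ * g ∈ N from h2)

end Cfsg.Agent.Spor.Sharp
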