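import Cfsg.Agent.Lib.Spor.SteinerUnique612

/-! The system S(4,5,11) by extension to S(5,6,12). -/

set_option autoImplicit false
set_option maxHeartbeats 800000

namespace Cfsg.Agent.Spor.S511

open Finset Cfsg

variable {α : Type*} [Fintype α] [DecidableEq α] {B : Set (Finset α)}

/-- The extended system. -/
def ext' (B : Set (Finset α)) : Set (Finset (Option α)) :=
  {s | (none ∈ s ∧ s.eraseNone ∈ B) ∨ (none ∉ s ∧ s.eraseNoneᶜ ∈ B)}

theorem eq_of_erase {s t : Finset (Option α)} (hn : none ∈ s ↔ none ∈ t) (he : s.eraseNone = t.eraseNone) :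
    s = t := by
  ext (_ | a)
  · exact hn
  · simpa using congrArg (a ∈ ·) he

theorem card_erase {s : Finset (Option α)} : #s = #s.eraseNone + if none ∈ s then 1 else 0 := by
  split_ifs with h
  · have : s = insertNone s.eraseNone := eq_of_erase (by simp [h]) (eraseNone_insertNone _).symm
    conv_lhs => rw [this, card_insertNone]
  · have : s = s.eraseNone.map Function.Embedding.some := eq_of_erase (by simp [h]) (by ext; simp)
    conv_lhs => rw [this, card_map]
    rfl

/-- The number of blocks disjoint from five points. -/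
theorem disjoint_count (hα : Fintype.card α = 11) (hB : IsSteinerSystem 4 5 B) {A : Finset α} (hA : #A = 5) :
    (A ∈ B → Steiner.meetCount B A 0 = 0) ∧ (A ∉ B → Steiner.meetCount B A 0 = 1) := by
  have e0 := Steiner.sum_meetCount hB A (n := 6) (by omega) (j := 0) (l := 66) (by omega)
    (by rw [hα]; decide) (by decide)
  have e1 := Steiner.sum_meetCount hB A (n := 6) (by omega) (j := 1) (l := 30) (by omega)
    (by rw [hα]; decide) (by decide)
  have e2 := Steiner.sum_meetCount hB A (n := 6) (by omega) (j := 2) (l := 12) (by omega)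
    (by rw [hα]; decide) (by decide)
  have e3 := Steiner.sum_meetCount hB A (n := 6) (by omega) (j := 3) (l := 4) (by omega)
    (by rw [hα]; decide) (by decide)
  have e4 := Steiner.sum_meetCount hB A (n := 6) (by omega) (j := 4) (l := 1) (by omega)
    (by rw [hα]; decide) (by decide)
  simp [Finset.sum_range_succ, hA, Nat.choose] at e0 e1 e2 e3 e4
  refine ⟨fun h => ?_, fun h => ?_⟩
  · have := Steiner.meetCount_self hB (by omega) h
    omega
  · have : Steiner.meetCount B A 5 = 0 := Steiner.meetCount_eq_zero fun b hb e => h (by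
      have : b = A := by
        have hb5 := hB.1 b hb
        rw [← eq_of_subset_of_card_le (inter_subset_left : b ∩ A ⊆ b) (by omega)]
        exact eq_of_subset_of_card_le inter_subset_right (by omega)
      exact this ▸ hb)
    omega

theorem ext_system (hα : Fintype.card α = 11) (hB : IsSteinerSystem 4 5 B) : IsSteinerSystem 5 6 (ext' B) := by
  refine ⟨?_, fun s hs => ?_⟩
  · rintro s (⟨hn, hb⟩ | ⟨hn, hb⟩) <;> rw [card_erase]
    · rw [if_pos hn, hB.1 _ hb]
    · have := hB.1 _ hb
      rw [card_compl, hα] at this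
      rw [if_neg hn]; omega
  rw [card_erase] at hs
  by_cases hn : none ∈ s
  · rw [if_pos hn] at hs
    obtain ⟨b, ⟨hb, hsb⟩, hu⟩ := hB.2 s.eraseNone (by omega)
    refine ⟨insertNone b, ⟨Or.inl ⟨by simp, by simpa using hb⟩, fun z hz => ?_⟩, ?_⟩
    · cases z with
      | none => simp
      | some a => simpa using hsb (mem_eraseNone.mpr hz)
    · rintro t ⟨(⟨tn, tb⟩ | ⟨tn, -⟩), hst⟩
      · exact eq_of_erase (by simp [tn]) (by
          rw [eraseNone_insertNone]; exact hu _ ⟨tb, fun a ha => mem_eraseNone.mpr (hst (mem_eraseNone.mp ha))⟩)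
      · exact absurd (hst hn) tn
  · rw [if_neg hn] at hs
    set A := s.eraseNone with hA
    obtain ⟨h1, h0⟩ := disjoint_count hα hB (A := A) (by omega)
    have first : ∀ t, none ∈ t → t.eraseNone ∈ B → s ⊆ t → A ∈ B ∧ t.eraseNone = A := fun t _ tb hst => by
      have hsub : A ⊆ t.eraseNone := fun a ha => mem_eraseNone.mpr (hst (mem_eraseNone.mp ha))
      have := eq_of_subset_of_card_le hsub (by rw [hB.1 _ tb]; omega)
      exact ⟨this ▸ tb, this.symm⟩
    have second : ∀ t, s ⊆ t → t.eraseNoneᶜ ∈ B → t.eraseNoneᶜ ∩ A = ∅ := fun t hst _ =>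
      eq_empty_of_forall_notMem fun a ha => mem_compl.mp (mem_inter.mp ha).1
        (mem_eraseNone.mpr (hst (mem_eraseNone.mp (mem_inter.mp ha).2)))
    by_cases hAB : A ∈ B
    · refine ⟨insertNone A, ⟨Or.inl ⟨by simp, by simpa using hAB⟩, fun z hz => ?_⟩, ?_⟩
      · cases z with
        | none => simp
        | some a => simpa [hA] using hz
      · rintro t ⟨(⟨tn, tb⟩ | ⟨tn, tb⟩), hst⟩
        · exact eq_of_erase (by simp [tn]) (by rw [eraseNone_insertNone]; exact (first t tn tb hst).2)
        · exfalso
          have := Steiner.meetCount_pos (B := B) tb (A := A) (i := 0) (by rw [second t hst tb]; rfl)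
          rw [h1 hAB] at this
          omega
    · obtain ⟨c, hc⟩ := card_eq_one.mp (h0 hAB)
      have hm := mem_filter.mp (hc.symm ▸ mem_singleton_self c : c ∈ (Steiner.blocks B).filter fun d => #(d ∩ A) = 0)
      refine ⟨cᶜ.map Function.Embedding.some, ⟨Or.inr ⟨by simp, ?_⟩, fun z hz => ?_⟩, ?_⟩
      · rw [eraseNone_map_some, compl_compl]; exact Steiner.mem_blocks.mp hm.1
      · cases z with
        | none => exact absurd hz hn
        | some a =>
          refine mem_map_of_mem _ (mem_compl.mpr fun hac => ?_)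
          refine Finset.notMem_empty a ?_
          rw [← card_eq_zero.mp hm.2]
          exact mem_inter.mpr ⟨hac, mem_eraseNone.mpr hz⟩
      · rintro t ⟨(⟨tn, tb⟩ | ⟨tn, tb⟩), hst⟩
        · exact absurd (first t tn tb hst).1 hAB
        · have : t.eraseNoneᶜ ∈ ({c} : Finset (Finset α)) := hc ▸
            mem_filter.mpr ⟨Steiner.mem_blocks.mpr tb, by rw [second t hst tb]; rfl⟩
          rw [mem_singleton] at this
          exact eq_of_erase (by simp [tn]) (by rw [eraseNone_map_some, ← this, compl_compl])

theorem erase_image {β : Type*} [DecidableEq β] (g : α ≃ β) (s : Finset (Option α)) :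
    (s.image (Equiv.optionCongr g)).eraseNone = s.eraseNone.image g ∧
      (none ∈ s.image (Equiv.optionCongr g) ↔ none ∈ s) := by
  constructor
  · ext b
    obtain ⟨a, rfl⟩ := g.surjective b
    simp [Option.map_eq_some_iff]
  · simp

theorem compl_image {β : Type*} [Fintype β] [DecidableEq β] (g : α ≃ β) (s : Finset α) :
    (s.image g)ᶜ = sᶜ.image g := by
  ext b; obtain ⟨a, rfl⟩ := g.surjective b; simp

/-- Maps fixing the new point. -/
theorem ext_iff' {β : Type*} [Fintype β] [DecidableEq β] {B' : Set (Finset β)} (g : α ≃ β) :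
    (∀ s : Finset (Option α), s.image (Equiv.optionCongr g) ∈ ext' B' ↔ s ∈ ext' B) ↔
      ∀ b : Finset α, b.image g ∈ B' ↔ b ∈ B := by
  refine ⟨fun h b => ?_, fun h s => ?_⟩
  · simpa [ext', (erase_image g (insertNone b)).1, (erase_image g (insertNone b)).2] using h (insertNone b)
  · simp only [ext', Set.mem_setOf_eq, (erase_image g s).1, (erase_image g s).2, compl_image, h]

theorem lift_perm {β : Type*} (h : Option α ≃ Option β) (hn : h none = none) :
    ∃ g : α ≃ β, h = Equiv.optionCongr g := by
  refine ⟨Equiv.removeNone h, Equiv.ext fun z => ?_⟩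
  cases z with
  | none => simp [hn]
  | some a =>
    obtain ⟨b, hb⟩ : ∃ b, h (some a) = some b := Option.ne_none_iff_exists'.mp fun e =>
      Option.some_ne_none a (h.injective (e.trans hn.symm))
    exact (Equiv.removeNone_some h ⟨b, hb⟩).symm

/-- The automorphism group is sharply four-transitive. -/
theorem sharp (hα : Fintype.card α = 11) (hB : IsSteinerSystem 4 5 B) : Sharp.Is (setSystemAut B) 4 := by
  have h12 : Fintype.card (Option α) = 12 := by rw [Fintype.card_option, hα]
  have hS := S612.sharp h12 (ext_system hα hB)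
  let y' : (Fin 4 ↪ α) → (Fin 5 ↪ Option α) := fun y =>
    ⟨Fin.cons none fun i => some (y i), Fin.cons_injective_iff.mpr
      ⟨by rintro ⟨i, e⟩; simp at e, fun i j e => y.injective (Option.some_injective _ e)⟩⟩
  constructor
  · intro y z
    obtain ⟨h, hh, e⟩ := hS.trans (y' y) (y' z)
    obtain ⟨g, rfl⟩ := lift_perm h (by simpa [y'] using e 0)
    refine ⟨g, SteinerAut.mem_aut.mpr ((ext_iff' g).mp (SteinerAut.mem_aut.mp hh)), fun i => ?_⟩
    simpa [y'] using e i.succ
  · intro g hg y hy
    have h1 : Equiv.optionCongr g = 1 := hS.fix _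
      (SteinerAut.mem_aut.mpr ((ext_iff' g).mpr (SteinerAut.mem_aut.mp hg))) (y' y) (Fin.cases (by simp [y'])
        fun i => by simp [y', hy])
    refine Equiv.ext fun a => ?_
    simpa using DFunLike.congr_fun h1 (some a)

/-- Uniqueness. -/
theorem iso {β : Type*} [Fintype β] [DecidableEq β] {B' : Set (Finset β)} (hα : Fintype.card α = 11)
    (hB : IsSteinerSystem 4 5 B) (hβ : Fintype.card β = 11) (hB' : IsSteinerSystem 4 5 B') :
    ∃ e : α ≃ β, ∀ b : Finset α, b.image e ∈ B' ↔ b ∈ B := by
  have h12 : Fintype.card (Option β) = 12 := by rw [Fintype.card_option, hβ]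
  obtain ⟨e, he⟩ := S612.iso (by rw [Fintype.card_option, hα]) (ext_system hα hB) h12 (ext_system hβ hB')
  obtain ⟨y0⟩ : Nonempty (Fin 5 ↪ Option β) := Function.Embedding.nonempty_of_card_le (by simp [hβ])
  obtain ⟨h, hh, hy⟩ := (S612.sharp h12 (ext_system hβ hB')).trans
    (y0.trans (Equiv.swap (y0 0) (e none)).toEmbedding) (y0.trans (Equiv.swap (y0 0) none).toEmbedding)
  have h0 : h (e none) = none := by simpa using hy 0
  obtain ⟨g, hg⟩ := lift_perm (e.trans h) h0
  refine ⟨g, (ext_iff' g).mp fun s => ?_⟩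
  rw [← hg, Equiv.coe_trans, ← image_image, SteinerAut.mem_aut.mp hh, he]

end Cfsg.Agent.Spor.S511
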