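import Cfsg.Agent.Lib.Spor.SUThreeTwoModel
import Cfsg.Agent.Lib.Spor.SUFieldCongr
import Mathlib.GroupTheory.SpecificGroups.Quaternion

/-! The group `PSU(3,2)` of order 72. -/

set_option autoImplicit false
set_option linter.style.haveILetI false
set_option maxRecDepth 100000
set_option maxHeartbeats 2000000

namespace Cfsg.Agent.Spor.SU32

open Matrix Cfsg Cfsg.Agent.Classical

local notation "M3" => Matrix (Fin 3) (Fin 3) F4
local notation "Q8" => QuaternionGroup 2

/-- parameters of the normal subgroup of order 27 -/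
abbrev Par3 : Type := ZMod 3 × ZMod 3 × ZMod 3

/-- product of parameters -/
def mul3 (p p' : Par3) : Par3 := (p.1 + p'.1, p.2.1 + p'.2.1, p.2.2 + p'.2.2 + p'.1 * p.2.1)

/-- matrix of a parameter -/
def mat3 (p : Par3) : M3 := matM ^ p.1.val * matB ^ p.2.1.val * matZ ^ p.2.2.val

/-- element of a parameter -/
def el3 (p : Par3) : SU 3 F4 2 := elM ^ p.1.val * elB ^ p.2.1.val * elZ ^ p.2.2.val

/-- matrix of a quaternion -/
def qMat : Q8 → M3
  | .a i => matF ^ i.val
  | .xa i => matG * matF ^ i.val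

/-- element of a quaternion -/
def qEl : Q8 → SU 3 F4 2
  | .a i => elF ^ i.val
  | .xa i => elG * elF ^ i.val

theorem val_el3 (p : Par3) : suVal (el3 p) = mat3 p := by
  simp only [el3, suVal_mul, suVal_pow]; rfl

theorem val_qEl : ∀ q : Q8, suVal (qEl q) = qMat q
  | .a i => by simp only [qEl, qMat, suVal_pow]; rfl
  | .xa i => by simp only [qEl, qMat, suVal_mul, suVal_pow]; rfl

theorem mul3_chk : ∀ p p' : Par3, mat3 p * mat3 p' = mat3 (mul3 p p') := by decide +kernel

theorem conj_chk : ∀ q : Q8, ∀ p : Par3, ∃ p' : Par3, qMat q * mat3 p = mat3 p' * qMat q := by decide +kernel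

theorem mul_chk : ∀ q q' : Q8, ∃ p : Par3, qMat q * qMat q' = mat3 p * qMat (q * q') := by decide +kernel

theorem inj_chk : ∀ q : Q8, ∀ p : Par3, mat3 p * qMat q = 1 → q = 1 ∧ p = 0 := by decide +kernel

theorem cube_chk : ∀ p : Par3, mat3 p * mat3 p * mat3 p = 1 := by decide +kernel

theorem small_chk : ∀ q : Q8, ∀ p : Par3, (∃ k : ZMod 3, mat3 p * qMat q * (mat3 p * qMat q) = matZ ^ k.val) ∨
    (∃ k : ZMod 3, mat3 p * qMat q * (mat3 p * qMat q) * (mat3 p * qMat q) = matZ ^ k.val) →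
    q = 1 ∨ q = QuaternionGroup.a 2 := by decide +kernel

theorem mul_el3 (p p' : Par3) : el3 p * el3 p' = el3 (mul3 p p') :=
  suVal_ext (by rw [suVal_mul, val_el3, val_el3, val_el3, mul3_chk])

theorem conj_el (q : Q8) (p : Par3) : ∃ p', qEl q * el3 p = el3 p' * qEl q := by
  obtain ⟨p', h⟩ := conj_chk q p
  exact ⟨p', suVal_ext (by rw [suVal_mul, suVal_mul, val_qEl, val_el3, val_el3, h])⟩

theorem mul_el (q q' : Q8) : ∃ p, qEl q * qEl q' = el3 p * qEl (q * q') := by
  obtain ⟨p, h⟩ := mul_chk q q'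
  exact ⟨p, suVal_ext (by rw [suVal_mul, suVal_mul, val_qEl, val_qEl, val_qEl, val_el3, h])⟩

theorem prod_form (p p' : Par3) (q q' : Q8) :
    ∃ p'', el3 p * qEl q * (el3 p' * qEl q') = el3 p'' * qEl (q * q') := by
  obtain ⟨a, ha⟩ := conj_el q p'
  obtain ⟨b, hb⟩ := mul_el q q'
  exact ⟨mul3 (mul3 p a) b, by
    rw [← mul_el3, ← mul_el3, mul_assoc (el3 p), ← mul_assoc (qEl q), ha, mul_assoc (el3 a), hb]
    simp only [mul_assoc]⟩

/-- the coordinates -/
def coord (x : Par3 × Q8) : SU 3 F4 2 := el3 x.1 * qEl x.2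

theorem coord_val (x : Par3 × Q8) : suVal (coord x) = mat3 x.1 * qMat x.2 := by
  rw [coord, suVal_mul, val_el3, val_qEl]

theorem neg3 (p : Par3) : ∃ p', mul3 p' p = 0 :=
  ⟨(-p.1, -p.2.1, -p.2.2 + p.1 * p.2.1), by simp [mul3]⟩

theorem el3_zero : el3 0 = 1 := by simp [el3]

theorem qEl_one : qEl 1 = 1 := by
  show qEl (QuaternionGroup.a 0) = 1
  simp [qEl]

theorem coord_injective : Function.Injective coord := by
  rintro ⟨p, q⟩ ⟨p', q'⟩ h
  obtain ⟨a, ha⟩ := neg3 p
  obtain ⟨u, hu⟩ := prod_form a p' 1 q'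
  rw [qEl_one, mul_one, one_mul] at hu
  have h1 : qEl q = el3 u * qEl q' := by
    rw [← hu, show el3 p' * qEl q' = el3 p * qEl q from h.symm, ← mul_assoc, mul_el3, ha, el3_zero, one_mul]
  obtain ⟨b, hb⟩ := mul_el q q'⁻¹
  obtain ⟨c, hc⟩ := mul_el q' q'⁻¹
  rw [h1, mul_assoc, hc, mul_inv_cancel, qEl_one, mul_one, mul_el3] at hb
  obtain ⟨d, hd⟩ := neg3 (mul3 u c)
  have h2 := congrArg suVal (show el3 (mul3 d b) * qEl (q * q'⁻¹) = 1 by
    rw [← mul_el3, mul_assoc, ← hb, mul_el3, hd, el3_zero])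
  rw [suVal_mul, val_el3, val_qEl] at h2
  obtain rfl := mul_inv_eq_one.1 (inj_chk _ _ (h2.trans rfl)).1
  have h3 := congrArg suVal (mul_right_cancel h : el3 p = el3 p')
  rw [val_el3, val_el3] at h3
  obtain ⟨a', ha'⟩ := neg3 p'
  have h4 := (inj_chk 1 (mul3 a' p) (by
    rw [← val_qEl, qEl_one, ← mul3_chk, h3, mul3_chk, ha']
    show mat3 0 * suVal 1 = 1
    rw [← val_el3, ← suVal_mul, el3_zero, one_mul]; rfl)).2
  have key : ∀ a p p' : Par3, mul3 a p = 0 → mul3 a p' = 0 → p = p' := by decide +kernel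
  rw [key a' p p' h4 ha']

theorem coord_bijective : Function.Bijective coord := by
  haveI : Finite (SU 3 F4 2) := Nat.finite_of_card_ne_zero (by rw [card_SU]; norm_num)
  refine (Nat.bijective_iff_injective_and_card _).2 ⟨coord_injective, ?_⟩
  rw [card_SU, Nat.card_prod, Nat.card_prod, Nat.card_prod, Nat.card_zmod, Nat.card_eq_fintype_card (α := Q8), QuaternionGroup.card]

/-- the quaternion quotient -/
noncomputable def kappa : SU 3 F4 2 →* Q8 :=
  MonoidHom.mk' (fun g => ((Equiv.ofBijective _ coord_bijective).symm g).2) fun g g' => by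
    set e := Equiv.ofBijective _ coord_bijective
    obtain ⟨p, hp⟩ := prod_form (e.symm g).1 (e.symm g').1 (e.symm g).2 (e.symm g').2
    have hgg : g * g' = e (p, (e.symm g).2 * (e.symm g').2) := by
      rw [show e (p, (e.symm g).2 * (e.symm g').2) = el3 p * qEl ((e.symm g).2 * (e.symm g').2) from rfl, ← hp]
      show g * g' = e (e.symm g) * e (e.symm g')
      rw [e.apply_symm_apply, e.apply_symm_apply]
    rw [hgg, e.symm_apply_apply]

theorem kappa_coord (x : Par3 × Q8) : kappa (coord x) = x.2 :=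
  congrArg Prod.snd ((Equiv.ofBijective _ coord_bijective).symm_apply_apply x)

theorem center_eq {g : SU 3 F4 2} (hg : g ∈ Subgroup.center (SU 3 F4 2)) : ∃ k : ZMod 3, g = elZ ^ k.val := by
  haveI : Finite (SU 3 F4 2) := Nat.finite_of_card_ne_zero (by rw [card_SU]; norm_num)
  have hz : elZ ∈ Subgroup.center (SU 3 F4 2) := mem_center_of_suVal_scalar (c := F4.v)
    (show matZ = Matrix.scalar (Fin 3) F4.v by decide +kernel)
  have hne : elZ ≠ 1 := fun h => absurd (congrArg suVal h) (show matZ ≠ 1 by decide +kernel)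
  haveI : Fact (Nat.Prime 3) := ⟨Nat.prime_three⟩
  have ho : orderOf elZ = 3 :=
    orderOf_eq_prime (cube (show matZ * matZ * matZ = 1 by decide +kernel)) hne
  have heq : Subgroup.zpowers elZ = Subgroup.center (SU 3 F4 2) := by
    refine Subgroup.eq_of_le_of_card_ge (Subgroup.zpowers_le.2 hz) (le_of_eq ?_)
    rw [Nat.card_zpowers, ho, natCard_center_SU hF4 (by norm_num)]
    rfl
  rw [← heq] at hg
  obtain ⟨z, rfl⟩ := hg
  refine ⟨(z : ZMod 3), ?_⟩
  show elZ ^ z = _
  rw [← zpow_natCast, ZMod.val_intCast]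
  conv_lhs => rw [← zpow_mod_orderOf, ho]

theorem kappa_center {g : SU 3 F4 2} (hg : g ∈ Subgroup.center (SU 3 F4 2)) : kappa g = 1 := by
  obtain ⟨k, rfl⟩ := center_eq hg
  rw [show elZ ^ k.val = coord ((0, 0, k), 1) by simp [coord, qEl_one, el3], kappa_coord]

/-- the quaternion quotient of the projective group -/
noncomputable def kappaP : PSU 3 F4 2 →* Q8 :=
  QuotientGroup.lift _ kappa fun _ hg => MonoidHom.mem_ker.2 (kappa_center hg)

theorem kappaP_surjective : Function.Surjective kappaP := fun q =>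
  ⟨QuotientGroup.mk (coord (0, q)), kappa_coord _⟩

theorem card_PSU : Nat.card (PSU 3 F4 2) = 72 := by
  have h := Subgroup.card_mul_index (Subgroup.center (SU 3 F4 2))
  rw [natCard_center_SU hF4 (by norm_num), card_SU, Subgroup.index_eq_card] at h
  show Nat.card (SU 3 F4 2 ⧸ Subgroup.center (SU 3 F4 2)) = 72
  norm_num at h ⊢
  omega

theorem card_ker : Nat.card kappaP.ker = 9 := by
  have h := Subgroup.card_mul_index kappaP.ker
  rw [Subgroup.index_ker, MonoidHom.range_eq_top.2 kappaP_surjective, Subgroup.card_top, Nat.card_eq_fintype_card (α := Q8),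
    QuaternionGroup.card, card_PSU] at h
  omega

theorem ker_cube (x : PSU 3 F4 2) (hx : x ∈ kappaP.ker) : x ^ 3 = 1 := by
  obtain ⟨g, rfl⟩ := QuotientGroup.mk_surjective x
  obtain ⟨⟨p, q⟩, rfl⟩ := coord_bijective.2 g
  have hq : q = 1 := (kappa_coord (p, q)).symm.trans (MonoidHom.mem_ker.1 hx)
  subst hq
  rw [← QuotientGroup.mk_pow, show coord (p, 1) ^ 3 = 1 from cube (by
    rw [coord, qEl_one, mul_one, val_el3, cube_chk])]
  rfl

theorem small_order (x : PSU 3 F4 2) (hx : x ^ 2 = 1 ∨ x ^ 3 = 1) :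
    kappaP x = 1 ∨ kappaP x = QuaternionGroup.a 2 := by
  obtain ⟨g, rfl⟩ := QuotientGroup.mk_surjective x
  obtain ⟨⟨p, q⟩, rfl⟩ := coord_bijective.2 g
  show kappa (coord (p, q)) = 1 ∨ kappa (coord (p, q)) = _
  rw [kappa_coord]
  refine small_chk q p ?_
  rcases hx with hx | hx <;> rw [← QuotientGroup.mk_pow] at hx <;>
    obtain ⟨k, hk⟩ := center_eq ((QuotientGroup.eq_one_iff _).1 hx) <;>
    have h := congrArg suVal hk <;> rw [suVal_pow, suVal_pow, coord_val] at h
  · exact Or.inl ⟨k, by rw [← sq]; exact h⟩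
  · exact Or.inr ⟨k, by rw [← sq, ← pow_succ]; exact h⟩

/-- transport to any field with four elements -/
theorem model {F : Type*} [Field F] [Fintype F] (hF : Fintype.card F = 4) :
    ∃ π : PSU 3 F 2 →* PSU 3 F4 2, Function.Bijective π := by
  let φ : F ≃+* F4 := FiniteField.ringEquivOfCardEq (hF.trans card_F4.symm)
  let e := SUCongr.equiv 2 (n := 3) φ
  have hc : Subgroup.center (SU 3 F 2) ≤ (Subgroup.center (SU 3 F4 2)).comap e.toMonoidHom := fun g hg => by
    rw [Subgroup.mem_comap, Subgroup.mem_center_iff]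
    intro h
    obtain ⟨h, rfl⟩ := e.surjective h
    show e h * e g = e g * e h
    rw [← map_mul, ← map_mul, Subgroup.mem_center_iff.1 hg h]
  refine ⟨QuotientGroup.map _ _ e.toMonoidHom hc, ?_, ?_⟩
  · refine (injective_iff_map_eq_one _).2 fun x hx => ?_
    obtain ⟨g, rfl⟩ := QuotientGroup.mk_surjective x
    rw [QuotientGroup.map_mk, QuotientGroup.eq_one_iff] at hx
    refine (QuotientGroup.eq_one_iff _).2 (Subgroup.mem_center_iff.2 fun h => e.injective ?_)
    rw [map_mul, map_mul]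
    exact Subgroup.mem_center_iff.1 hx (e h)
  · intro y
    obtain ⟨g, rfl⟩ := QuotientGroup.mk_surjective y
    obtain ⟨g, rfl⟩ := e.surjective g
    exact ⟨QuotientGroup.mk g, rfl⟩

end Cfsg.Agent.Spor.SU32
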