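import Cfsg.Agent.Lib.Spor.ExtraspecialLift
import Cfsg.Agent.Lib.Fus.Extraspecial
import Cfsg.Agent.Lib.Classical.OrthPlusForms
import Cfsg.Prelude.Def_Classical
import Cfsg.Prelude.Def_KGroupFacts

/-! The outer automorphism group of an extraspecial `2`-group is the orthogonal group of its squaring form. -/

set_option autoImplicit false
set_option linter.unusedSectionVars false

open scoped commutatorElement Matrix

namespace Cfsg.Agent.Spor.ExtraOut

open Cfsg

variable {E : Type*} [Group E] [Finite E] {z : E} {ι : Type} [Fintype ι] [DecidableEq ι]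

/-- The powers of the central involution. -/
def pw (z : E) (t : ZMod 2) : E := if t = 0 then 1 else z

theorem pw_zero (z : E) : pw z 0 = 1 := if_pos rfl

theorem pw_one (z : E) : pw z 1 = z := if_neg one_ne_zero

theorem two_cases (t : ZMod 2) : t = 0 ∨ t = 1 := by revert t; decide

theorem pw_add (hzz : z * z = 1) (s t : ZMod 2) : pw z (s + t) = pw z s * pw z t := by
  rcases two_cases s with rfl | rfl <;> rcases two_cases t with rfl | rfl <;>
    simp [pw_zero, pw_one, hzz, show (1 : ZMod 2) + 1 = 0 from rfl]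

theorem pw_inj (hz : z ≠ 1) {s t : ZMod 2} (h : pw z s = pw z t) : s = t := by
  rcases two_cases s with rfl | rfl <;> rcases two_cases t with rfl | rfl <;>
    simp [pw_zero, pw_one, hz, Ne.symm hz] at h ⊢

theorem pw_comm (hc : ∀ x, x * z = z * x) (x : E) (t : ZMod 2) : x * pw z t = pw z t * x := by
  rcases two_cases t with rfl | rfl
  · rw [pw_zero, mul_one, one_mul]
  · rw [pw_one]; exact hc x

/-- The squaring data. -/
structure Data (z : E) (π : E →* Multiplicative (ι → ZMod 2)) (q : QuadraticForm (ZMod 2) (ι → ZMod 2)) : Prop where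
  ne : z ≠ 1
  zz : z * z = 1
  comm : ∀ x, x * z = z * x
  surj : Function.Surjective π
  ker : ∀ x, π x = 1 ↔ x = 1 ∨ x = z
  sq : ∀ x, x * x = pw z (q (π x).toAdd)
  nd : (QuadraticMap.polarBilin q).Nondegenerate

theorem sub_sub_eq (a b c : ZMod 2) : a - b - c = b + a + c := by revert a b c; decide

theorem double (t : ZMod 2) : t + t = 0 := by revert t; decide

variable {π : E →* Multiplicative (ι → ZMod 2)} {q : QuadraticForm (ZMod 2) (ι → ZMod 2)} (d : Data z π q)
include d

theorem conj_pw (x y : E) : x * y * x⁻¹ = y * pw z (QuadraticMap.polar q (π x).toAdd (π y).toAdd) := by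
  have hn : ∀ t : ZMod 2, -t = t := by decide
  have hi : ∀ w : E, ∀ t, w * w = pw z t → w⁻¹ = w * pw z t := fun w t e => by
    refine inv_eq_of_mul_eq_one_right ?_
    rw [← mul_assoc, e, ← pw_add d.zz, show t + t = 0 by rcases two_cases t with rfl | rfl <;> rfl, pw_zero]
  have e : QuadraticMap.polar q (π x).toAdd (π y).toAdd = q (π (x * y)).toAdd + (q (π x).toAdd + q (π y).toAdd) := by
    rw [QuadraticMap.polar, map_mul, toAdd_mul, sub_eq_add_neg, sub_eq_add_neg, hn, hn, add_assoc]
  rw [e, pw_add d.zz, pw_add d.zz, ← d.sq, hi x _ (d.sq x)]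
  have c1 := pw_comm d.comm
  calc x * y * (x * pw z (q (π x).toAdd)) = x * y * (x * y) * y⁻¹ * pw z (q (π x).toAdd) := by group
    _ = x * y * (x * y) * (y * pw z (q (π y).toAdd)) * pw z (q (π x).toAdd) := by rw [← hi y _ (d.sq y)]
    _ = x * y * (x * y) * y * (pw z (q (π y).toAdd) * pw z (q (π x).toAdd)) := by group
    _ = y * (x * y * (x * y)) * (pw z (q (π x).toAdd) * pw z (q (π y).toAdd)) := by
      rw [d.sq (x * y), ← c1 y, c1 (pw z (q (π x).toAdd))]
    _ = _ := by group

theorem mem_ker_cases {x y : E} (h : π x = π y) : x = y ∨ x = y * z := by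
  have : π (y⁻¹ * x) = 1 := by rw [map_mul, map_inv, h, inv_mul_cancel]
  rcases (d.ker _).1 this with e | e
  · exact Or.inl (inv_mul_eq_one.1 e).symm
  · exact Or.inr (inv_mul_eq_iff_eq_mul.1 e)

/-- An automorphism fixes the central involution. -/
theorem fix_z (φ : MulAut E) : φ z = z := by
  have hne : φ z ≠ 1 := fun e => d.ne (φ.injective (e.trans (map_one φ).symm))
  refine ((d.ker _).1 ?_).resolve_left hne
  by_contra h
  have hu : (π (φ z)).toAdd = 0 := d.nd.1 _ fun v => by
    obtain ⟨w, hw⟩ := d.surj (Multiplicative.ofAdd v)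
    have e := conj_pw d (φ z) w
    obtain ⟨w', rfl⟩ := φ.surjective w
    rw [← map_mul, ← map_inv, ← map_mul, ← d.comm, mul_inv_cancel_right, hw, toAdd_ofAdd] at e
    rw [QuadraticMap.polarBilin_apply_apply]
    exact pw_inj d.ne (mul_left_cancel (e.symm.trans (mul_one _).symm |>.trans (by rw [pw_zero])))
  exact h (toAdd_eq_zero.1 hu)

/-- The induced map. -/
noncomputable def ind (φ : MulAut E) : (ι → ZMod 2) →ₗ[ZMod 2] (ι → ZMod 2) :=
  AddMonoidHom.toZModLinearMap 2
    { toFun := fun u => (π (φ (Function.surjInv d.surj (Multiplicative.ofAdd u)))).toAdd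
      map_zero' := by
        rcases (d.ker _).1 (Function.surjInv_eq d.surj (Multiplicative.ofAdd (0 : ι → ZMod 2))) with e | e <;> rw [e]
        · rw [map_one, map_one]; rfl
        · rw [fix_z d, (d.ker z).2 (Or.inr rfl)]; rfl
      map_add' := fun u v => by
        rw [ofAdd_add]
        have h : π (Function.surjInv d.surj (Multiplicative.ofAdd u * Multiplicative.ofAdd v)) =
            π (Function.surjInv d.surj (Multiplicative.ofAdd u) * Function.surjInv d.surj (Multiplicative.ofAdd v)) := by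
          rw [map_mul, Function.surjInv_eq d.surj, Function.surjInv_eq d.surj, Function.surjInv_eq d.surj]
        rcases mem_ker_cases d h with e | e <;> rw [e]
        · rw [map_mul, map_mul, toAdd_mul]
        · rw [map_mul, map_mul, fix_z d, (d.ker z).2 (Or.inr rfl), mul_one, map_mul, map_mul, toAdd_mul] }

theorem ind_apply (φ : MulAut E) (x : E) : ind d φ (π x).toAdd = (π (φ x)).toAdd := by
  show (π (φ (Function.surjInv d.surj (π x)))).toAdd = _
  rcases mem_ker_cases d (Function.surjInv_eq d.surj (π x)) with e | e <;> rw [e]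
  rw [map_mul, map_mul, fix_z d, (d.ker z).2 (Or.inr rfl), mul_one]

theorem ind_ext {f g : (ι → ZMod 2) →ₗ[ZMod 2] (ι → ZMod 2)} (h : ∀ x, f (π x).toAdd = g (π x).toAdd) : f = g := by
  refine LinearMap.ext fun u => ?_
  obtain ⟨x, hx⟩ := d.surj (Multiplicative.ofAdd u)
  have := h x
  rwa [hx, toAdd_ofAdd] at this

theorem ind_mul (φ ψ : MulAut E) : ind d (φ * ψ) = ind d φ ∘ₗ ind d ψ :=
  ind_ext d fun x => by rw [LinearMap.comp_apply, ind_apply, ind_apply, ind_apply]; rfl

theorem ind_one : ind d 1 = LinearMap.id := ind_ext d fun x => by rw [ind_apply]; rfl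

theorem ind_quad (φ : MulAut E) (u : ι → ZMod 2) : q (ind d φ u) = q u := by
  obtain ⟨x, hx⟩ := d.surj (Multiplicative.ofAdd u)
  rw [show u = (π x).toAdd by rw [hx, toAdd_ofAdd], ind_apply]
  refine pw_inj d.ne ?_
  rw [← d.sq, ← map_mul, d.sq]
  rcases two_cases (q (π x).toAdd) with e | e <;> rw [e]
  · rw [pw_zero, map_one]
  · rw [pw_one, fix_z d]

/-- The homomorphism to the isometry group. -/
noncomputable def toIso : MulAut E →* isometryGroup (ZMod 2) (⇑q) :=
  MonoidHom.mk' (fun φ => ⟨⟨LinearMap.toMatrix' (ind d φ), LinearMap.toMatrix' (ind d φ⁻¹),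
      by rw [← LinearMap.toMatrix'_comp, ← ind_mul, mul_inv_cancel, ind_one, LinearMap.toMatrix'_id],
      by rw [← LinearMap.toMatrix'_comp, ← ind_mul, inv_mul_cancel, ind_one, LinearMap.toMatrix'_id]⟩,
    fun u _ => by
      show q (LinearMap.toMatrix' (ind d φ) *ᵥ u) = q u
      rw [LinearMap.toMatrix'_mulVec]; exact ind_quad d φ u⟩)
    fun φ ψ => Subtype.ext (Units.ext (by
      show LinearMap.toMatrix' (ind d (φ * ψ)) = LinearMap.toMatrix' (ind d φ) * LinearMap.toMatrix' (ind d ψ)
      rw [ind_mul, LinearMap.toMatrix'_comp]))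

theorem toIso_surjective : Function.Surjective (toIso d) := by
  intro g
  have hg : ∀ u, q (((g : GL ι (ZMod 2)) : Matrix ι ι (ZMod 2)) *ᵥ u) = q u := fun u => g.2 u u
  let T : Multiplicative (ι → ZMod 2) →* Multiplicative (ι → ZMod 2) :=
    AddMonoidHom.toMultiplicative (Matrix.mulVecLin ((g : GL ι (ZMod 2)) : Matrix ι ι (ZMod 2))).toAddMonoidHom
  have hT : Function.Bijective T := by
    have hi : Function.Bijective (fun u => ((g : GL ι (ZMod 2)) : Matrix ι ι (ZMod 2)) *ᵥ u) :=
      Function.bijective_iff_has_inverse.2 ⟨fun u => (((g : GL ι (ZMod 2))⁻¹ : GL ι (ZMod 2)) : Matrix ι ι (ZMod 2)) *ᵥ u,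
        fun u => by simp [Matrix.mulVec_mulVec], fun u => by simp [Matrix.mulVec_mulVec]⟩
    exact hi
  have hq : ∀ x, q (T (π x)).toAdd = q (π x).toAdd := fun x => hg _
  haveI : Fact (Nat.Prime 2) := ⟨Nat.prime_two⟩
  have hp : IsPGroup 2 E := fun x => ⟨2, by
    rw [show 2 ^ 2 = 2 * 2 from rfl, pow_mul, pow_two x, d.sq, pow_two, ← pw_add d.zz,
      double, pw_zero]⟩
  obtain ⟨ψ, hψ⟩ := ExtraLift.lift hp hp d.ne d.zz d.ne d.zz d.comm d.comm (T.comp π) π
    (hT.2.comp d.surj) d.surj (fun x => by rw [MonoidHom.comp_apply, ← d.ker]; exact ⟨fun h => hT.1 (h.trans (map_one T).symm), fun h => by rw [h, map_one]⟩)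
    d.ker (fun x x' e => by
      have : q (π x').toAdd = q (π x).toAdd := by rw [← e]; exact hq x
      rcases two_cases (q (π x).toAdd) with h | h
      · left; exact ⟨by rw [d.sq, h, pw_zero], by rw [d.sq, this, h, pw_zero]⟩
      · right; exact ⟨by rw [d.sq, h, pw_one], by rw [d.sq, this, h, pw_one]⟩)
  refine ⟨ψ, Subtype.ext (Units.ext ?_)⟩
  show LinearMap.toMatrix' (ind d ψ) = _
  rw [← LinearMap.toMatrix'_toLin' ((g : GL ι (ZMod 2)) : Matrix ι ι (ZMod 2))]
  refine congrArg _ (ind_ext d fun x => ?_)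
  rw [ind_apply, hψ]; rfl

theorem toIso_ker : (toIso d).ker = Inn E := by
  ext φ
  constructor
  · intro h
    have hind : ∀ x, π (φ x) = π x := fun x => by
      have h' : LinearMap.toMatrix' (ind d φ) = 1 := congrArg (fun g => ((g : isometryGroup (ZMod 2) (⇑q)) : GL ι (ZMod 2)).val) (MonoidHom.mem_ker.1 h)
      have := ind_apply d φ x
      rw [LinearMap.toMatrix'.injective (h'.trans LinearMap.toMatrix'_id.symm)] at this
      exact Multiplicative.toAdd.injective this.symm
    -- the defect is a functional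
    have hdef : ∀ u, ∃ t, ∀ x, (π x).toAdd = u → φ x = x * pw z t := fun u => by
      obtain ⟨x, hx⟩ := d.surj (Multiplicative.ofAdd u)
      obtain ⟨t, ht⟩ : ∃ t, φ x = x * pw z t := by
        rcases mem_ker_cases d (hind x) with e | e
        · exact ⟨0, by rw [pw_zero, mul_one, e]⟩
        · exact ⟨1, by rw [pw_one, e]⟩
      refine ⟨t, fun y hy => ?_⟩
      rcases mem_ker_cases d (show π y = π x by rw [hx, ← hy, ofAdd_toAdd]) with e | e <;> rw [e]
      · exact ht
      · rw [map_mul, fix_z d, ht, mul_assoc, mul_assoc, pw_comm d.comm z t]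
    choose δ hδ using hdef
    have hadd : ∀ u v, δ (u + v) = δ u + δ v := fun u v => by
      obtain ⟨x, hx⟩ := d.surj (Multiplicative.ofAdd u)
      obtain ⟨y, hy⟩ := d.surj (Multiplicative.ofAdd v)
      have e := hδ (u + v) (x * y) (by rw [map_mul, hx, hy, toAdd_mul]; rfl)
      rw [map_mul, hδ u x (by rw [hx]; rfl), hδ v y (by rw [hy]; rfl)] at e
      refine pw_inj d.ne (mul_left_cancel (a := x * y) ?_)
      rw [← e, pw_add d.zz]
      calc x * pw z (δ u) * (y * pw z (δ v)) = x * (pw z (δ u) * y) * pw z (δ v) := by group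
        _ = _ := by rw [← pw_comm d.comm y (δ u)]; group
    let f : Module.Dual (ZMod 2) (ι → ZMod 2) := AddMonoidHom.toZModLinearMap 2 (AddMonoidHom.mk' δ hadd)
    obtain ⟨a, ha⟩ := d.surj (Multiplicative.ofAdd ((LinearMap.BilinForm.toDual _ d.nd).symm f))
    refine ⟨a, MulEquiv.ext fun x => ?_⟩
    rw [MulAut.conj_apply, conj_pw d, hδ _ x rfl, ha, toAdd_ofAdd]
    congr 2
    rw [← QuadraticMap.polarBilin_apply_apply]
    exact LinearMap.BilinForm.apply_toDual_symm_apply f _
  · rintro ⟨a, rfl⟩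
    refine MonoidHom.mem_ker.2 (Subtype.ext (Units.ext ?_))
    show LinearMap.toMatrix' (ind d (MulAut.conj a)) = 1
    rw [← LinearMap.toMatrix'_id]
    refine congrArg _ (ind_ext d fun x => ?_)
    rw [ind_apply, MulAut.conj_apply, show π (a * x * a⁻¹) = π x by
      rw [map_mul, map_mul, map_inv, mul_comm (π a), mul_inv_cancel_right]]
    rfl

/-- The outer automorphism group. -/
theorem out_equiv : Nonempty (Out E ≃* isometryGroup (ZMod 2) (⇑q)) :=
  ⟨(QuotientGroup.quotientMulEquivOfEq (toIso_ker d).symm).trans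
    (QuotientGroup.quotientKerEquivOfSurjective _ (toIso_surjective d))⟩

omit d in
/-- The squaring form in coordinates. -/
theorem exists_data (hE : IsExtraspecial 2 E) (hcard : Nat.card E = 2 * 2 ^ Fintype.card ι) :
    ∃ (z : E) (π : E →* Multiplicative (ι → ZMod 2)) (q : QuadraticForm (ZMod 2) (ι → ZMod 2)), Data z π q := by
  classical
  haveI : Fact (Nat.Prime 2) := ⟨Nat.prime_two⟩
  obtain ⟨hsqc, hcomm⟩ := Fus.extraspecial_two_facts hE
  obtain ⟨⟨z, hzc⟩, hz1, hzall⟩ : ∃ z : Subgroup.center E, z ≠ 1 ∧ ∀ w, w = 1 ∨ w = z := by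
    obtain ⟨x, y, hxy, huniv⟩ := Nat.card_eq_two_iff.1 hE.2
    have hm : ∀ w : Subgroup.center E, w = x ∨ w = y := fun w => by
      have := huniv ▸ Set.mem_univ w; simpa using this
    rcases hm 1 with h | h
    · exact ⟨y, h ▸ hxy.symm, fun w => h ▸ hm w⟩
    · exact ⟨x, h ▸ hxy, fun w => h ▸ (hm w).symm⟩
  have hz : z ≠ 1 := fun e => hz1 (Subtype.ext e)
  have hcomm' : ∀ x, x * z = z * x := fun x => Subgroup.mem_center_iff.1 hzc x
  have hall : ∀ w ∈ Subgroup.center E, w = 1 ∨ w = z := fun w hw =>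
    (hzall ⟨w, hw⟩).imp (congrArg Subtype.val) (congrArg Subtype.val)
  have hzz : z * z = 1 := by
    rcases hall _ (mul_mem hzc hzc) with e | e
    · exact e
    · exact absurd (mul_eq_left.1 e) hz
  let N := Subgroup.center E
  let V0 := Additive (E ⧸ N)
  letI : CommGroup (E ⧸ N) :=
    { (inferInstance : Group (E ⧸ N)) with
      mul_comm := fun a b => by
        induction a using QuotientGroup.induction_on with | _ x =>
        induction b using QuotientGroup.induction_on with | _ y =>
        rw [← QuotientGroup.mk_mul, ← QuotientGroup.mk_mul, QuotientGroup.eq]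
        have := hcomm y⁻¹ x⁻¹
        rwa [commutatorElement_def, inv_inv, inv_inv, show y⁻¹ * x⁻¹ * y * x = (x * y)⁻¹ * (y * x) by group] at this }
  letI : Module (ZMod 2) V0 := AddCommGroup.zmodModule (n := 2) (fun a => by
    obtain ⟨a, rfl⟩ := Additive.ofMul.surjective a
    induction a using QuotientGroup.induction_on with | _ x =>
    rw [← ofMul_pow, ← QuotientGroup.mk_pow, (QuotientGroup.eq_one_iff _).2 (hsqc x)]; rfl)
  haveI : Finite V0 := inferInstanceAs (Finite (Additive (E ⧸ N)))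
  have hN : Nat.card N = 2 := hE.2
  have hV0 : Nat.card V0 = 2 ^ Fintype.card ι := by
    have h := N.card_eq_card_quotient_mul_card_subgroup
    rw [hcard, hN] at h
    rw [show Nat.card V0 = Nat.card (E ⧸ N) from Nat.card_congr Additive.toMul]
    omega
  have hfr : Module.finrank (ZMod 2) V0 = Fintype.card ι := by
    have := Module.natCard_eq_pow_finrank (K := ZMod 2) (V := V0)
    rw [hV0, Nat.card_zmod] at this
    exact (Nat.pow_right_injective le_rfl this).symm
  let L : V0 ≃ₗ[ZMod 2] (ι → ZMod 2) := LinearEquiv.ofFinrankEq _ _ (by rw [hfr, Module.finrank_pi])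
  let π : E →* Multiplicative (ι → ZMod 2) :=
    MonoidHom.mk' (fun x => Multiplicative.ofAdd (L (Additive.ofMul (QuotientGroup.mk x : E ⧸ N)))) fun x y => by
      rw [QuotientGroup.mk_mul, ofMul_mul, map_add, ofAdd_add]
  have hker : ∀ x, π x = 1 ↔ x = 1 ∨ x = z := fun x => by
    show Multiplicative.ofAdd (L (Additive.ofMul (QuotientGroup.mk x : E ⧸ N))) = 1 ↔ _
    rw [ofAdd_eq_one, LinearEquiv.map_eq_zero_iff, ofMul_eq_zero, QuotientGroup.eq_one_iff]
    exact ⟨hall x, fun h => by rcases h with rfl | rfl <;> [exact one_mem _; exact hzc]⟩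
  have hsurj : Function.Surjective π := fun v => by
    obtain ⟨x, hx⟩ := QuotientGroup.mk_surjective (Additive.toMul (L.symm v.toAdd))
    refine ⟨x, ?_⟩
    show Multiplicative.ofAdd (L (Additive.ofMul (QuotientGroup.mk x : E ⧸ N))) = v
    rw [hx]; simp
  have hcases : ∀ w ∈ Subgroup.center E, ∃ t, w = pw z t := fun w hw => by
    rcases hall w hw with e | e
    · exact ⟨0, by rw [pw_zero, e]⟩
    · exact ⟨1, by rw [pw_one, e]⟩
  choose s hs using fun u => hsurj (Multiplicative.ofAdd u)
  choose f hf using fun u => hcases _ (pow_two (s u) ▸ hsqc (s u))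
  have hsq : ∀ x, x * x = pw z (f (π x).toAdd) := fun x => by
    have h : π (x⁻¹ * s (π x).toAdd) = 1 := by rw [map_mul, map_inv, hs, ofAdd_toAdd, inv_mul_cancel]
    rw [← hf]
    rcases (hker _).1 h with e | e
    · rw [← inv_mul_eq_one.1 e]
    · rw [inv_mul_eq_iff_eq_mul.1 e, hcomm' x, show z * x * (z * x) = z * (x * z) * x by group, hcomm' x,
        ← mul_assoc z, hzz, one_mul]
  -- the commutator value
  have hpol : ∀ x y : E, x⁻¹ * y * x * y⁻¹ = pw z (QuadraticMap.polar f (π x).toAdd (π y).toAdd) := fun x y => by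
    have hc2 := pw_comm (z := z) hcomm'
    rw [QuadraticMap.polar, sub_sub_eq, pw_add hzz, pw_add hzz, ← toAdd_mul, ← map_mul, ← hsq (x * y)]
    have hi : ∀ w : E, pw z (f (π w).toAdd) = w⁻¹ * w⁻¹ := fun w => by
      rw [← mul_inv_rev, hsq, eq_inv_iff_mul_eq_one, ← pw_add hzz, double, pw_zero]
    rw [hi x, hi y]
    group
  have hadd : ∀ x₁ x₂ y : E, QuadraticMap.polar f ((π x₁).toAdd + (π x₂).toAdd) (π y).toAdd =
      QuadraticMap.polar f (π x₁).toAdd (π y).toAdd + QuadraticMap.polar f (π x₂).toAdd (π y).toAdd := fun x₁ x₂ y => by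
    refine pw_inj hz ?_
    rw [← toAdd_mul, ← map_mul, ← hpol, pw_add hzz, ← hpol x₂ y,
      show (x₁ * x₂)⁻¹ * y * (x₁ * x₂) * y⁻¹ = x₂⁻¹ * (x₁⁻¹ * y * x₁ * y⁻¹) * (y * x₂ * y⁻¹) by group, hpol,
      pw_comm hcomm' x₂⁻¹]
    group
  have hlift : ∀ u, ∃ x, (π x).toAdd = u := fun u => ⟨s u, by rw [hs]; rfl⟩
  have haddu : ∀ u u' v, QuadraticMap.polar f (u + u') v = QuadraticMap.polar f u v + QuadraticMap.polar f u' v := by
    intro u u' v
    obtain ⟨x, rfl⟩ := hlift u
    obtain ⟨x', rfl⟩ := hlift u'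
    obtain ⟨y, rfl⟩ := hlift v
    exact hadd x x' y
  have hf0 : f 0 = 0 := pw_inj hz (by
    have := hsq 1
    rw [map_one, toAdd_one, one_mul] at this
    rw [← this, pw_zero])
  have hsmul : ∀ (a : ZMod 2) u, f (a • u) = (a * a) • f u := fun a u => by
    rcases two_cases a with rfl | rfl
    · rw [zero_smul, hf0]; simp
    · rw [one_smul, one_mul, one_smul]
  let q : QuadraticForm (ZMod 2) (ι → ZMod 2) := QuadraticMap.ofPolar f hsmul haddu (fun a u v => by
    rcases two_cases a with rfl | rfl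
    · rw [zero_smul, zero_smul, QuadraticMap.polar, zero_add, hf0, sub_zero, sub_self]
    · rw [one_smul, one_smul])
  refine ⟨z, π, q, hz, hzz, hcomm', hsurj, hker, hsq, ?_⟩
  refine Classical.nondegenerate_of_separatingLeft _ fun u hu => ?_
  obtain ⟨x, rfl⟩ := hlift u
  have hxc : x ∈ Subgroup.center E := Subgroup.mem_center_iff.2 fun y => by
    have h0 : QuadraticMap.polar f (π x).toAdd (π y).toAdd = 0 := hu (π y).toAdd
    have := hpol x y
    rw [h0, pw_zero, mul_inv_eq_one] at this
    calc y * x = x * (x⁻¹ * y * x) := by group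
      _ = x * y := by rw [this]
  rw [(hker x).2 (hall x hxc)]; rfl

theorem half_iff {n : ℕ} (hι : Fintype.card ι = 2 * n) :
    (∃ U, Classical.OrthAut.Half q U) ↔ ∃ A : Subgroup E, IsElementaryAbelian 2 A ∧ Nat.card A = 2 ^ (n + 1) := by
  classical
  constructor
  · rintro ⟨U, hU, hr⟩
    let A : Subgroup E := Subgroup.comap π (AddSubgroup.toSubgroup U.toAddSubgroup)
    have hA1 : ∀ a ∈ A, a * a = 1 := fun a ha => by
      rw [d.sq, hU _ ha, pw_zero]
    refine ⟨A, ⟨⟨⟨fun a b => Subtype.ext ?_⟩⟩, fun a ha => by rw [pow_two]; exact hA1 a ha⟩, ?_⟩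
    · calc (a : E) * b = ((a : E) * b)⁻¹ := (inv_eq_of_mul_eq_one_left (hA1 _ (mul_mem a.2 b.2))).symm
        _ = (b : E) * a := by rw [mul_inv_rev, inv_eq_of_mul_eq_one_left (hA1 _ a.2), inv_eq_of_mul_eq_one_left (hA1 _ b.2)]
    · let f : A →* Multiplicative (ι → ZMod 2) := π.comp A.subtype
      have hrange : f.range = AddSubgroup.toSubgroup U.toAddSubgroup := by
        ext v
        constructor
        · rintro ⟨a, rfl⟩; exact a.2
        · intro hv
          obtain ⟨x, rfl⟩ := d.surj v
          exact ⟨⟨x, hv⟩, rfl⟩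
      have hk : Nat.card f.ker = 2 := by
        have hzA : z ∈ A := by
          show (π z).toAdd ∈ U
          rw [(d.ker z).2 (Or.inr rfl)]; exact U.zero_mem
        refine Nat.card_eq_two_iff.2 ⟨1, ⟨⟨z, hzA⟩, (d.ker z).2 (Or.inr rfl)⟩, fun e => d.ne ?_, ?_⟩
        · exact (congrArg (fun w : f.ker => ((w : A) : E)) e).symm
        · refine Set.eq_univ_of_forall fun w => ?_
          rcases (d.ker _).1 w.2 with e | e
          · exact Or.inl (Subtype.ext (Subtype.ext e))
          · exact Or.inr (Subtype.ext (Subtype.ext e))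
      have h := f.ker.card_mul_index
      rw [Subgroup.index_ker, hk, hrange] at h
      have hU' : Nat.card (AddSubgroup.toSubgroup U.toAddSubgroup) = 2 ^ n := by
        have := Module.natCard_eq_pow_finrank (K := ZMod 2) (V := U)
        rw [Nat.card_zmod, show Module.finrank (ZMod 2) U = n by omega] at this
        exact this
      rw [hU'] at h
      rw [← h, pow_succ]; ring
  · rintro ⟨A, ⟨-, hA⟩, hAc⟩
    let U0 := Subgroup.map π A
    let U : Submodule (ZMod 2) (ι → ZMod 2) := AddSubgroup.toZModSubmodule 2 (Subgroup.toAddSubgroup' U0)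
    have hq0 : ∀ u ∈ U, q u = 0 := by
      rintro u ⟨a, ha, e⟩
      refine pw_inj d.ne ?_
      have h := d.sq a
      rw [← pow_two, hA a ha, e] at h
      rw [pw_zero]; exact h.symm
    refine ⟨U, hq0, ?_⟩
    have hle : Module.finrank (ZMod 2) U ≤ n := by
      have hUO : U ≤ LinearMap.BilinForm.orthogonal (QuadraticMap.polarBilin q) U := fun u hu v hv => by
        show QuadraticMap.polarBilin q v u = 0
        rw [QuadraticMap.polarBilin_apply_apply, QuadraticMap.polar, hq0 _ (U.add_mem hv hu), hq0 _ hu, hq0 _ hv]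
        simp
      have h1 := Submodule.finrank_mono hUO
      rw [LinearMap.BilinForm.finrank_orthogonal d.nd, Module.finrank_pi, hι] at h1
      omega
    let f : A →* Multiplicative (ι → ZMod 2) := π.comp A.subtype
    have hk : Nat.card f.ker ≤ 2 := by
      have hsub : ∀ w : f.ker, ((w : A) : E) ∈ ({1, z} : Set E) := fun w => (d.ker _).1 w.2
      refine (Nat.card_le_card_of_injective (fun w : f.ker => (⟨_, hsub w⟩ : ({1, z} : Set E)))
        fun a b e => Subtype.ext (Subtype.ext (congrArg (fun w : ({1, z} : Set E) => (w : E)) e))).trans ?_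
      rw [Nat.card_coe_set_eq, Set.ncard_pair d.ne.symm]
    have h := f.ker.card_mul_index
    rw [Subgroup.index_ker, hAc] at h
    have hr : f.range = U0 := by rw [MonoidHom.range_comp, Subgroup.range_subtype]
    rw [hr] at h
    have hU' : Nat.card U0 = 2 ^ Module.finrank (ZMod 2) U := by
      have := Module.natCard_eq_pow_finrank (K := ZMod 2) (V := U)
      rw [Nat.card_zmod] at this
      exact this
    rw [hU'] at h
    have hge : n ≤ Module.finrank (ZMod 2) U := by
      by_contra hlt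
      have h2 : 2 ^ (Module.finrank (ZMod 2) U + 1) ≤ 2 ^ n := Nat.pow_le_pow_right (by norm_num) (by omega)
      have h3 := Nat.mul_le_mul_right (2 ^ Module.finrank (ZMod 2) U) hk
      rw [h, pow_succ] at h3
      rw [pow_succ] at h2
      have : 0 < 2 ^ n := by positivity
      omega
    omega

end Cfsg.Agent.Spor.ExtraOut

namespace Cfsg.Agent.Spor.ExtraOut

open Cfsg

variable {E : Type*} [Group E] [Finite E] {z : E} {ι κ : Type} [Fintype ι] [DecidableEq ι] [Fintype κ] [DecidableEq κ]
variable {π : E →* Multiplicative (ι → ZMod 2)} {q : QuadraticForm (ZMod 2) (ι → ZMod 2)} (d : Data z π q)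
include d

/-- Change of coordinates. -/
theorem Data.transport {q' : QuadraticForm (ZMod 2) (κ → ZMod 2)} (e : (κ → ZMod 2) ≃ₗ[ZMod 2] (ι → ZMod 2))
    (he : ∀ v, q (e v) = q' v) :
    Data z ((AddMonoidHom.toMultiplicative e.symm.toAddMonoidHom).comp π) q' := by
  refine ⟨d.ne, d.zz, d.comm, Function.Surjective.comp (g := AddMonoidHom.toMultiplicative e.symm.toAddMonoidHom) (fun v => ⟨Multiplicative.ofAdd (e v.toAdd), ?_⟩) d.surj,
    fun x => ?_, fun x => ?_, ?_⟩
  · show Multiplicative.ofAdd (e.symm (e v.toAdd)) = v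
    rw [LinearEquiv.symm_apply_apply, ofAdd_toAdd]
  · rw [← d.ker]
    show Multiplicative.ofAdd (e.symm (π x).toAdd) = 1 ↔ _
    rw [ofAdd_eq_one, LinearEquiv.map_eq_zero_iff, toAdd_eq_zero]
  · show x * x = pw z (q' (e.symm (π x).toAdd))
    rw [← he, LinearEquiv.apply_symm_apply]; exact d.sq x
  · have := Classical.OrthAut.comp_nondegenerate e d.nd
    rwa [show q.comp e.toLinearMap = q' from QuadraticMap.ext he] at this

omit d in
theorem main (hE : IsExtraspecial 2 E) (n : ℕ) (hn : 1 ≤ n) (hcard : Nat.card E = 2 ^ (2 * n + 1)) :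
    ((∃ A : Subgroup E, IsElementaryAbelian 2 A ∧ Nat.card ↥A = 2 ^ (n + 1)) →
      Nonempty (Out E ≃* isometryGroup (ZMod 2) (quadFormPlus n (ZMod 2)))) ∧
    ((¬ ∃ A : Subgroup E, IsElementaryAbelian 2 A ∧ Nat.card ↥A = 2 ^ (n + 1)) →
      Nonempty (Out E ≃* isometryGroup (ZMod 2) (quadFormMinus (n - 1) (ZMod 2) 1 1))) := by
  constructor
  · intro hA
    have hι : Fintype.card (Fin n ⊕ Fin n) = 2 * n := by simp; omega
    obtain ⟨z, π, q, d⟩ := exists_data (ι := Fin n ⊕ Fin n) hE (by rw [hι, hcard, pow_succ']; )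
    obtain ⟨U, hU⟩ := (half_iff d hι).2 hA
    obtain ⟨e, he⟩ := Classical.OrthAut.plus_of_half hn hι d.nd hU
    have := out_equiv (d.transport e he)
    rwa [Classical.coe_qfPlus] at this
  · intro hA
    have hι : Fintype.card ((Fin (n - 1) ⊕ Fin (n - 1)) ⊕ Fin 2) = 2 * n := by simp; omega
    obtain ⟨z, π, q, d⟩ := exists_data (ι := (Fin (n - 1) ⊕ Fin (n - 1)) ⊕ Fin 2) hE (by rw [hι, hcard, pow_succ'])
    have hab : Classical.OrthAut.Aniso (ZMod 2) (1 : ZMod 2) 1 := by
      unfold Classical.OrthAut.Aniso; decide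
    obtain ⟨g, hg⟩ := Classical.OrthAut.iso_of_not_half (k := n - 1) (by rw [hι]; omega)
      (Classical.qfMinus (n - 1) (ZMod 2) 1 1) q (Classical.nondegenerate_qfMinus _ hab) d.nd
      (Classical.OrthAut.not_half_qfMinus hab) fun h => hA ((half_iff d hι).1 h)
    have := out_equiv (d.transport (Matrix.GeneralLinearGroup.toLin g).toLinearEquiv hg)
    rwa [Classical.coe_qfMinus] at this

end Cfsg.Agent.Spor.ExtraOut
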