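import Cfsg.Agent.Lib.Spor.AffineLinear
import Cfsg.Agent.Lib.Spor.Golay.OctStab
import Cfsg.Agent.Lib.Spor.Golay.CensusClasses

/-! The stabiliser of an octad as an affine situation. -/

set_option autoImplicit false
set_option maxRecDepth 100000
set_option linter.unusedSectionVars false

namespace Cfsg.Agent.Spor.Affine.Oct

open Golay Golay.Census
open scoped Pointwise

/-- The pointwise stabiliser. -/
noncomputable def U (o : Finset GolayPt) : Subgroup ↥M24 :=
  (fixingSubgroup (Equiv.Perm GolayPt) (o : Set GolayPt)).subgroupOf M24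

/-- The setwise stabiliser. -/
noncomputable def P (o : Finset GolayPt) : Subgroup ↥M24 :=
  (MulAction.stabilizer (Equiv.Perm GolayPt) o).subgroupOf M24

/-- The stabiliser of a further point. -/
noncomputable def M (o : Finset GolayPt) (p : GolayPt) : Subgroup ↥M24 :=
  (MulAction.stabilizer (Equiv.Perm GolayPt) o ⊓ MulAction.stabilizer (Equiv.Perm GolayPt) p).subgroupOf M24

theorem card_sub (H : Subgroup (Equiv.Perm GolayPt)) : Nat.card (H.subgroupOf M24) = Nat.card ↥(M24 ⊓ H) := by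
  rw [← Subgroup.card_map_of_injective M24.subtype_injective, Subgroup.subgroupOf_map_subtype, inf_comm]

theorem mem_U {o : Finset GolayPt} {g : ↥M24} : g ∈ U o ↔ ∀ q ∈ o, (g : Equiv.Perm GolayPt) q = q := by
  rw [U, Subgroup.mem_subgroupOf, mem_fixingSubgroup_iff]
  exact ⟨fun h q hq => h q (Finset.mem_coe.mpr hq), fun h q hq => h q (Finset.mem_coe.mp hq)⟩

theorem mem_P {o : Finset GolayPt} {g : ↥M24} : g ∈ P o ↔ (g : Equiv.Perm GolayPt) • o = o := by
  rw [P, Subgroup.mem_subgroupOf, MulAction.mem_stabilizer_iff]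

theorem mem_M {o : Finset GolayPt} {p : GolayPt} {g : ↥M24} :
    g ∈ M o p ↔ (g : Equiv.Perm GolayPt) • o = o ∧ (g : Equiv.Perm GolayPt) p = p := by
  rw [M, Subgroup.mem_subgroupOf, Subgroup.mem_inf, MulAction.mem_stabilizer_iff, MulAction.mem_stabilizer_iff]
  rfl

theorem U_le_P (o : Finset GolayPt) : U o ≤ P o := fun g hg => mem_P.mpr (by
  refine Finset.eq_of_subset_of_card_le (fun x hx => ?_) (le_of_eq (Finset.card_smul_finset _ _).symm)
  obtain ⟨y, hy, rfl⟩ := Finset.mem_smul_finset.mp hx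
  rwa [Equiv.Perm.smul_def, mem_U.mp hg y hy])

theorem card_facts {o : Finset GolayPt} (ho : o ∈ octads) {p : GolayPt} (hp : p ∉ o) :
    Nat.card (U o) = 16 ∧ Nat.card (P o) = 322560 ∧ Nat.card (M o p) = 20160 := by
  obtain ⟨a, ha, rfl, rfl⟩ := exists_oct_outside ho hp
  refine ⟨?_, ?_, ?_⟩
  · rw [U, card_sub, inf_fixing_eq ha, Subgroup.card_map_of_injective (MulEquiv.injective _)]
    exact card_ker_oct
  · rw [P, card_sub, inf_stab_eq ha, Subgroup.card_map_of_injective (MulEquiv.injective _)]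
    exact stageOct.card_Fx
  · rw [M, card_sub, ← inf_assoc, inf_stab_pt_eq ha, Subgroup.card_map_of_injective (MulEquiv.injective _)]
    exact stageOctPtX.card_Fx

/-- The pointwise stabiliser is semiregular outside. -/
theorem semiregular {o : Finset GolayPt} (ho : o ∈ octads) {p : GolayPt} (hp : p ∉ o) {u : ↥M24} (hu : u ∈ U o)
    (h : (u : Equiv.Perm GolayPt) p = p) : u = 1 := by
  obtain ⟨a, ha, rfl, rfl⟩ := exists_oct_outside ho hp
  have h1 : (u : Equiv.Perm GolayPt) ∈ M24 ⊓ fixingSubgroup (Equiv.Perm GolayPt) ((a • pts 5279 : Finset GolayPt) : Set GolayPt) :=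
    Subgroup.mem_inf.mpr ⟨u.2, hu⟩
  have h2 : (u : Equiv.Perm GolayPt) ∈ M24 ⊓ MulAction.stabilizer (Equiv.Perm GolayPt) (a • pts 5279) ⊓
      MulAction.stabilizer (Equiv.Perm GolayPt) (a (pt 5)) :=
    Subgroup.mem_inf.mpr ⟨Subgroup.mem_inf.mpr ⟨u.2, mem_P.mp (U_le_P _ hu)⟩, h⟩
  rw [inf_fixing_eq ha] at h1
  rw [inf_stab_pt_eq ha] at h2
  obtain ⟨k, hk, e⟩ := h1
  obtain ⟨k', hk', e'⟩ := h2
  obtain rfl : k = k' := (MulEquiv.injective _) (e.trans e'.symm)
  have : k = 1 := Subgroup.mem_bot.mp (ker_inf_pt ▸ Subgroup.mem_inf.mpr ⟨hk, hk'⟩)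
  exact Subtype.ext (by rw [← e, this, map_one]; rfl)

theorem out_triv : trivOk [] ((List.range 24).filter fun j => !Nat.testBit 5279 j) = true := by decide +kernel

theorem eq_one_of_fix_outside {o : Finset GolayPt} (ho : o ∈ octads) {g : ↥M24}
    (h : ∀ q, q ∉ o → (g : Equiv.Perm GolayPt) q = q) : g = 1 := by
  obtain ⟨a, ha, rfl⟩ := exists_smul_octA ho
  have h1 := eq_one_of_small (mul_mem (mul_mem (inv_mem ha) g.2) ha) out_triv fun b hb => by
    rw [List.mem_filter, List.mem_range] at hb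
    rw [Equiv.Perm.mul_apply, Equiv.Perm.mul_apply, Equiv.Perm.inv_eq_iff_eq]
    refine h _ fun hq => ?_
    rw [← Equiv.Perm.smul_def, Finset.smul_mem_smul_finset_iff, pt_mem_pts hb.1] at hq
    rw [octA] at hq
    simp [hq] at hb
  refine Subtype.ext ?_
  rw [mul_assoc, inv_mul_eq_one] at h1
  exact mul_right_cancel (h1.symm.trans (one_mul a).symm)

theorem tr4_elem : (tr4SG.all fun a => tr4SG.all fun b => Nat.beq (comp a b) (comp b a)) = true ∧
    (tr4SG.all fun a => valid a && Nat.beq (comp a a) idP) = true := by decide +kernel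

theorem grp_tr4_elem : (∀ x ∈ grp tr4SG, ∀ y ∈ grp tr4SG, x * y = y * x) ∧ ∀ x ∈ grp tr4SG, x ^ 2 = 1 := by
  obtain ⟨h1, h2⟩ := tr4_elem
  have hv : ∀ a ∈ tr4SG, valid a = true ∧ permOf a ^ 2 = 1 := fun a ha => by
    have h := List.all_eq_true.mp h2 a ha
    rw [Bool.and_eq_true] at h
    exact ⟨h.1, by rw [pow_two, ← permOf_comp h.1 h.1, Nat.eq_of_beq_eq_true h.2, permOf_idP]⟩
  have hc : ∀ a ∈ tr4SG, ∀ b ∈ tr4SG, permOf a * permOf b = permOf b * permOf a := fun a ha b hb => by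
    rw [← permOf_comp (hv a ha).1 (hv b hb).1, ← permOf_comp (hv b hb).1 (hv a ha).1,
      Nat.eq_of_beq_eq_true (List.all_eq_true.mp (List.all_eq_true.mp h1 a ha) b hb)]
  have hcomm : ∀ x ∈ grp tr4SG, ∀ y ∈ grp tr4SG, x * y = y * x := by
    intro x hx y hy
    have hle : grp tr4SG ≤ Subgroup.centralizer (grp tr4SG : Set (Equiv.Perm GolayPt)) := by
      rw [grp, Subgroup.centralizer_closure, Subgroup.closure_le]
      rintro _ ⟨a, ha, rfl⟩
      refine Subgroup.mem_centralizer_iff.mpr ?_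
      rintro _ ⟨b, hb, rfl⟩
      exact hc b hb a ha
    exact Subgroup.mem_centralizer_iff.mp (hle hy) x hx
  refine ⟨hcomm, fun x hx => ?_⟩
  induction hx using Subgroup.closure_induction with
  | mem x hx => obtain ⟨a, ha, rfl⟩ := hx; exact (hv a ha).2
  | one => exact one_pow _
  | mul x y hx hy px py => rw [Commute.mul_pow (hcomm x hx y hy), px, py, one_mul]
  | inv x hx px => rw [inv_pow, px, inv_one]

theorem elem_U {o : Finset GolayPt} (ho : o ∈ octads) : Cfsg.IsElementaryAbelian 2 (U o) := by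
  obtain ⟨a, ha, rfl⟩ := exists_smul_octA ho
  obtain ⟨hc, hs⟩ := grp_tr4_elem
  have key : ∀ u ∈ U (a • pts octA), ∃ k ∈ grp tr4SG, (MulAut.conj a).toMonoidHom k = (u : Equiv.Perm GolayPt) := fun u hu => by
    have h1 : (u : Equiv.Perm GolayPt) ∈ M24 ⊓ fixingSubgroup (Equiv.Perm GolayPt) ((a • pts 5279 : Finset GolayPt) : Set GolayPt) :=
      Subgroup.mem_inf.mpr ⟨u.2, hu⟩
    rw [inf_fixing_eq ha] at h1
    exact h1
  refine ⟨⟨⟨fun x y => ?_⟩⟩, fun x hx => ?_⟩
  · obtain ⟨k, hk, e⟩ := key x x.2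
    obtain ⟨l, hl, e'⟩ := key y y.2
    refine Subtype.ext (Subtype.ext ?_)
    show ((x : ↥M24) : Equiv.Perm GolayPt) * (y : ↥M24) = (y : ↥M24) * (x : ↥M24)
    rw [← e, ← e', ← map_mul, ← map_mul, hc k hk l hl]
  · obtain ⟨k, hk, e⟩ := key x hx
    refine Subtype.ext ?_
    rw [SubgroupClass.coe_pow, ← e, ← map_pow, hs k hk, map_one]
    rfl

theorem card_aut_le {G : Type*} [Group G] [Finite G] {V : Subgroup G} (hel : Cfsg.IsElementaryAbelian 2 V)
    (hc : Nat.card V = 16) : Nat.card (↥V ≃* ↥V) ≤ 20160 := by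
  classical
  letI : CommGroup ↥V := { (inferInstance : Group ↥V) with mul_comm := fun a b => hel.1.1.1 a b }
  letI : Module (ZMod 2) (Additive ↥V) := AddCommGroup.zmodModule fun x => by
    show Additive.ofMul (x.toMul ^ 2) = 0
    rw [show x.toMul ^ 2 = (1 : ↥V) from Subtype.ext (hel.2 _ x.toMul.2)]; rfl
  haveI : Fact (Nat.Prime 2) := ⟨Nat.prime_two⟩
  have hr : Module.finrank (ZMod 2) (Additive ↥V) = Module.finrank (ZMod 2) (Fin 4 → ZMod 2) := by
    have h1 := Module.natCard_eq_pow_finrank (K := ZMod 2) (V := Additive ↥V)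
    rw [Nat.card_congr (Additive.toMul (α := ↥V)), hc, Nat.card_zmod] at h1
    rw [Module.finrank_fin_fun]
    exact Nat.pow_right_injective le_rfl (h1.symm.trans (by norm_num : (16 : ℕ) = 2 ^ 4))
  let l := LinearEquiv.ofFinrankEq (Additive ↥V) (Fin 4 → ZMod 2) hr
  let f : (↥V ≃* ↥V) → GL (Fin 4) (ZMod 2) := fun t =>
    Matrix.GeneralLinearGroup.toLin.symm ((LinearMap.GeneralLinearGroup.generalLinearEquiv _ _).symm
      (l.symm.trans (((MulEquiv.toAdditive t).toLinearEquiv fun c x => ZMod.map_smul (MulEquiv.toAdditive t) c x).trans l)))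
  have hf : Function.Injective f := fun t t' h => by
    have h1 := (LinearMap.GeneralLinearGroup.generalLinearEquiv (ZMod 2) (Fin 4 → ZMod 2)).symm.injective
      (Matrix.GeneralLinearGroup.toLin.symm.injective h)
    refine MulEquiv.ext fun u => ?_
    have h2 := LinearEquiv.congr_fun h1 (l (Additive.ofMul u))
    simpa using h2
  refine (Nat.card_le_card_of_injective f hf).trans ?_
  rw [Matrix.card_GL_field, ZMod.card]
  decide

/-- The situation in the octad stabiliser. -/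
theorem exists_setup_oct {o : Finset GolayPt} (ho : o ∈ octads) {z : ↥M24} (hz : z ∈ U o) (hz1 : z ≠ 1) :
    ∃ S : Setup (P o) (U o) 3, S.z = z := by
  classical
  have ho8 : o.card = 8 := octad_card ho
  obtain ⟨p, hp⟩ : ∃ p, p ∉ o := by
    by_contra h
    push Not at h
    rw [Finset.eq_univ_of_forall h, Finset.card_univ, card_golayPt] at ho8
    omega
  obtain ⟨hU, hP, hM⟩ := card_facts ho hp
  have hMP : M o p ≤ P o := fun g hg => mem_P.mpr (mem_M.mp hg).1
  have hmem : ∀ g ∈ P o, ∀ x, (g : Equiv.Perm GolayPt) x ∈ o ↔ x ∈ o := fun g hg => mem_iff_of_smul_eq (mem_P.mp hg)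
  have hnorm : ∀ g ∈ P o, ∀ u ∈ U o, g * u * g⁻¹ ∈ U o := fun g hg u hu => mem_U.mpr fun q hq => by
    rw [Subgroup.coe_mul, Subgroup.coe_mul, Subgroup.coe_inv, Equiv.Perm.mul_apply, Equiv.Perm.mul_apply]
    rw [mem_U.mp hu _ ((hmem _ (inv_mem hg) q).mpr hq |> fun h => by simpa using h)]
    exact (g : Equiv.Perm GolayPt).apply_symm_apply q
  have hsup : ∀ g ∈ P o, ∃ u ∈ U o, ∃ m ∈ M o p, g = u * m := by
    let f : U o × M o p → P o := fun x => ⟨x.1.1 * x.2.1, mul_mem (U_le_P o x.1.2) (hMP x.2.2)⟩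
    have hf : Function.Injective f := fun x y e => by
      have e' : x.1.1 * x.2.1 = y.1.1 * y.2.1 := congrArg Subtype.val e
      have e2 : y.1.1⁻¹ * x.1.1 = y.2.1 * x.2.1⁻¹ := by
        rw [eq_mul_inv_iff_mul_eq, mul_assoc, e', inv_mul_cancel_left]
      have h1 : y.1.1⁻¹ * x.1.1 = 1 := semiregular ho hp (mul_mem (inv_mem y.1.2) x.1.2) (by
        rw [e2]; exact (mem_M.mp (mul_mem y.2.2 (inv_mem x.2.2))).2)
      have h2 : x.1.1 = y.1.1 := (inv_mul_eq_one.mp h1).symm
      rw [h2] at e'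
      exact Prod.ext (Subtype.ext h2) (Subtype.ext (mul_left_cancel e'))
    intro g hg
    obtain ⟨⟨u, m⟩, e⟩ := ((Nat.bijective_iff_injective_and_card f).mpr ⟨hf, by rw [Nat.card_prod, hU, hM, hP]⟩).2 ⟨g, hg⟩
    exact ⟨u, u.2, m, m.2, (congrArg Subtype.val e).symm⟩
  have horb : ∀ q, q ∉ o → ∃ u ∈ U o, (u : Equiv.Perm GolayPt) p = q := by
    let f : U o → {q // q ∈ oᶜ} := fun u => ⟨(u.1 : Equiv.Perm GolayPt) p, Finset.mem_compl.mpr fun h =>
      hp ((hmem _ (U_le_P o u.2) p).mp h)⟩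
    have hf : Function.Injective f := fun u v e => by
      have e' : (u.1 : Equiv.Perm GolayPt) p = (v.1 : Equiv.Perm GolayPt) p := congrArg Subtype.val e
      refine Subtype.ext (inv_mul_eq_one.mp (semiregular ho hp (mul_mem (inv_mem v.2) u.2) ?_)).symm
      rw [Subgroup.coe_mul, Subgroup.coe_inv, Equiv.Perm.mul_apply, e']
      exact (v.1 : Equiv.Perm GolayPt).symm_apply_apply p
    have hb := (Nat.bijective_iff_injective_and_card f).mpr ⟨hf, by
      rw [hU, Nat.card_eq_fintype_card, Fintype.card_coe, Finset.card_compl, card_golayPt, ho8]⟩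
    intro q hq
    obtain ⟨u, e⟩ := hb.2 ⟨q, Finset.mem_compl.mpr hq⟩
    exact ⟨u, u.2, congrArg Subtype.val e⟩
  have hfaith : ∀ m ∈ M o p, (∀ u ∈ U o, m * u * m⁻¹ = u) → m = 1 := fun m hm h =>
    eq_one_of_fix_outside ho fun q hq => by
      obtain ⟨u, hu, rfl⟩ := horb q hq
      have e : (m : Equiv.Perm GolayPt) * u = u * m := congrArg Subtype.val (mul_inv_eq_iff_eq_mul.mp (h u hu))
      rw [← Equiv.Perm.mul_apply, e, Equiv.Perm.mul_apply, (mem_M.mp hm).2]
  refine exists_setup (M := M o p) (U_le_P o) hMP hnorm hsup (elem_U ho) hU hfaith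
    (full_of_card (fun m hm => hnorm m (hMP hm)) hfaith (by rw [hM]; exact card_aut_le (elem_U ho) hU)) ?_ hz hz1
  intro u hu hu1 g hg
  refine mem_P.mpr (Finset.eq_of_subset_of_card_le (fun x hx => ?_) (le_of_eq (Finset.card_smul_finset _ _).symm))
  obtain ⟨y, hy, rfl⟩ := Finset.mem_smul_finset.mp hx
  by_contra hgy
  have e : (g : Equiv.Perm GolayPt) * u = u * g := congrArg Subtype.val (Subgroup.mem_centralizer_singleton_iff.mp hg)
  refine hu1 (semiregular ho hgy hu ?_)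
  rw [Equiv.Perm.smul_def, ← Equiv.Perm.mul_apply, ← e, Equiv.Perm.mul_apply, mem_U.mp hu y hy]

end Cfsg.Agent.Spor.Affine.Oct
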