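import Mathlib

/-!
Simplicity of a primitive group from the simplicity of a point stabiliser, and tools to exclude regular normal
subgroups.
-/

set_option autoImplicit false

namespace Cfsg.Agent.Spor.SimpleOfStab

open scoped Pointwise

/-- Sums of sublists. -/
def subSums : List ℕ → List ℕ
  | [] => [0]
  | a :: l => subSums l ++ (subSums l).map (a + ·)

theorem sum_mem_subSums {Ω : Type*} [Finite Ω] : ∀ (os : List (Set Ω)) (T : Set Ω), os.Pairwise Disjoint →
    (∀ O ∈ os, O ⊆ T ∨ Disjoint O T) → (∀ x ∈ T, ∃ O ∈ os, x ∈ O) → T.ncard ∈ subSums (os.map Set.ncard)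
  | [], T, _, _, hcov => by
    have : T = ∅ := Set.eq_empty_of_forall_notMem fun x hx => by simpa using hcov x hx
    simp [this, subSums]
  | O :: os, T, hd, hinv, hcov => by
    rw [List.pairwise_cons] at hd
    rw [List.map_cons, subSums, List.mem_append]
    rcases hinv O List.mem_cons_self with h | h
    · right
      have ih := sum_mem_subSums os (T \ O) hd.2 (fun P hP => by
        rcases hinv P (List.mem_cons_of_mem _ hP) with h' | h'
        · exact Or.inl fun x hx => ⟨h' hx, fun hxO => (hd.1 P hP).le_bot ⟨hxO, hx⟩⟩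
        · exact Or.inr (h'.mono_right Set.sdiff_subset)) (fun x hx => by
        obtain ⟨P, hP, hxP⟩ := hcov x hx.1
        rcases List.mem_cons.1 hP with rfl | hP
        · exact absurd hxP hx.2
        · exact ⟨P, hP, hxP⟩)
      refine List.mem_map.2 ⟨_, ih, ?_⟩
      rw [add_comm, Set.ncard_sdiff h]
      have := Set.ncard_le_ncard h
      omega
    · left
      refine sum_mem_subSums os T hd.2 (fun P hP => hinv P (List.mem_cons_of_mem _ hP)) fun x hx => ?_
      obtain ⟨P, hP, hxP⟩ := hcov x hx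
      rcases List.mem_cons.1 hP with rfl | hP
      · exact absurd ⟨hxP, hx⟩ (fun h' => h.le_bot h')
      · exact ⟨P, hP, hxP⟩

variable {G Ω : Type*} [Group G] [MulAction G Ω] [Finite Ω]

/-- A point stabiliser is maximal when no union of its orbits can be a block. -/
theorem primitive_of_suborbits [MulAction.IsPretransitive G Ω] (a : Ω) (os : List (Set Ω))
    (hd : os.Pairwise Disjoint) (hinv : ∀ O ∈ os, ∀ x ∈ O, ∀ y ∈ O, ∃ g ∈ MulAction.stabilizer G a, g • x = y)
    (hcov : ∀ x, x = a ∨ ∃ O ∈ os, x ∈ O) (hna : ∀ O ∈ os, a ∉ O)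
    (hdiv : ∀ s ∈ subSums (os.map Set.ncard), 1 + s ∣ Nat.card Ω → 1 + s = 1 ∨ 1 + s = Nat.card Ω)
    (M : Subgroup G) (hM : MulAction.stabilizer G a ≤ M) : M = MulAction.stabilizer G a ∨ M = ⊤ := by
  classical
  set T := MulAction.orbit M a with hT
  have haT : a ∈ T := MulAction.mem_orbit_self a
  have hblock : ∀ g : G, g • a ∈ T ↔ g ∈ M := fun g => by
    rw [hT, MulAction.mem_orbit_iff]
    refine ⟨fun ⟨m, hm⟩ => ?_, fun hg => ⟨⟨g, hg⟩, rfl⟩⟩
    have : (m : G)⁻¹ * g ∈ MulAction.stabilizer G a := by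
      rw [MulAction.mem_stabilizer_iff, mul_smul, ← hm]; exact inv_smul_smul _ _
    simpa using M.mul_mem m.2 (hM this)
  have hS : (T \ {a}).ncard ∈ subSums (os.map Set.ncard) := by
    refine sum_mem_subSums os _ hd (fun O hO => ?_) (fun x hx => (hcov x).resolve_left hx.2)
    by_contra h
    rw [not_or, Set.not_subset, Set.not_disjoint_iff] at h
    obtain ⟨⟨x, hxO, hxT⟩, y, hyO, hyT⟩ := h
    obtain ⟨g, hg, rfl⟩ := hinv O hO y hyO x hxO
    refine hxT ⟨?_, fun e => hna O hO ?_⟩
    · obtain ⟨m, hm⟩ := MulAction.mem_orbit_iff.1 hyT.1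
      exact ⟨⟨g, hM hg⟩ * m, by rw [← hm]; exact mul_smul g (m : G) a⟩
    · rw [Set.mem_singleton_iff] at e; rwa [e] at hxO
  have hcard : T.ncard = 1 + (T \ {a}).ncard := by
    rw [Set.ncard_sdiff (by simpa using haT), Set.ncard_singleton]
    have : 0 < T.ncard := (Set.ncard_pos T.toFinite).2 ⟨a, haT⟩
    omega
  have hidx : T.ncard ∣ Nat.card Ω := by
    have h1 : T.ncard = (MulAction.stabilizer G a).relIndex M := by
      rw [hT, ← MulAction.index_stabilizer]
      rfl
    rw [h1, ← MulAction.index_stabilizer_of_transitive G a]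
    exact Subgroup.relIndex_dvd_index_of_le hM
  rcases hdiv _ hS (hcard ▸ hidx) with h | h
  · left
    refine le_antisymm (fun g hg => ?_) hM
    have hT1 : T = {a} := by
      obtain ⟨b, hb⟩ := Set.ncard_eq_one.1 (hcard.trans h)
      rw [hb] at haT ⊢
      rw [Set.mem_singleton_iff.1 haT]
    simpa [hT1] using (hblock g).2 hg
  · right
    have hT1 : T = Set.univ := (Set.eq_univ_iff_ncard T).2 (hcard.trans h)
    exact eq_top_iff.2 fun g _ => (hblock g).1 (hT1 ▸ Set.mem_univ _)

/-- A primitive faithful group with simple point stabiliser and without regular normal subgroup is simple. -/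
theorem isSimpleGroup_of [Nontrivial G] [FaithfulSMul G Ω] [MulAction.IsPretransitive G Ω] (a : Ω)
    (hH : IsSimpleGroup (MulAction.stabilizer G a))
    (hmax : ∀ M : Subgroup G, MulAction.stabilizer G a ≤ M → M = MulAction.stabilizer G a ∨ M = ⊤)
    (hreg : ∀ N : Subgroup G, N.Normal → Nat.card N = Nat.card Ω →
      ∃ K : Subgroup N, K.Characteristic ∧ K ≠ ⊥ ∧ K ≠ ⊤) : IsSimpleGroup G := by
  classical
  set H := MulAction.stabilizer G a with hHdef
  have htrans : ∀ N : Subgroup G, N.Normal → N ≠ ⊥ → ∀ b : Ω, ∃ n ∈ N, n • a = b := by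
    intro N hN hne b
    have hnot : ¬ N ≤ H := fun hle => hne (eq_bot_iff.2 fun n hn => by
      refine (Subgroup.mem_bot).2 (FaithfulSMul.eq_of_smul_eq_smul fun x : Ω => ?_)
      obtain ⟨g, rfl⟩ := MulAction.exists_smul_eq G a x
      have : (g⁻¹ * n * g) • a = a := hle (by simpa using hN.conj_mem n hn g⁻¹)
      rw [mul_smul, mul_smul, inv_smul_eq_iff] at this
      rw [one_smul, this])
    rcases hmax (H ⊔ N) le_sup_left with h | h
    · exact absurd (h ▸ le_sup_right) hnot
    · obtain ⟨g, rfl⟩ := MulAction.exists_smul_eq G a b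
      have hg : g ∈ N ⊔ H := by rw [sup_comm, h]; exact Subgroup.mem_top g
      obtain ⟨n, hn, k, hk, rfl⟩ := Subgroup.mem_sup_of_normal_left.1 hg
      exact ⟨n, hn, by rw [mul_smul, MulAction.mem_stabilizer_iff.1 hk]⟩
  refine ⟨fun N hN => ?_⟩
  by_cases hne : N = ⊥
  · exact Or.inl hne
  right
  have hHN : (N.subgroupOf H).Normal := hN.comap _
  rcases hH.eq_bot_or_eq_top_of_normal _ hHN with h | h
  · exfalso
    have hcard : Nat.card N = Nat.card Ω := by
      refine Nat.card_congr (Equiv.ofBijective (fun n : N => (n : G) • a) ⟨fun m n e => Subtype.ext ?_, fun b => ?_⟩)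
      · have hmem : (n : G)⁻¹ * m ∈ H := by
          rw [hHdef, MulAction.mem_stabilizer_iff, mul_smul]
          exact inv_smul_eq_iff.2 e
        have : (⟨_, hmem⟩ : H) ∈ N.subgroupOf H :=
          Subgroup.mem_subgroupOf.2 (N.mul_mem (N.inv_mem n.2) m.2)
        rw [h, Subgroup.mem_bot] at this
        exact (inv_mul_eq_one.1 (congrArg Subtype.val this)).symm
      · obtain ⟨n, hn, e⟩ := htrans N hN hne b
        exact ⟨⟨n, hn⟩, e⟩
    obtain ⟨K, hK, hK1, hK2⟩ := hreg N hN hcard
    haveI := hN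
    haveI := hK
    have hmapn : (K.map N.subtype).Normal := ConjAct.normal_of_characteristic_of_normal
    have hmapne : K.map N.subtype ≠ ⊥ := fun e =>
      hK1 ((Subgroup.map_eq_bot_iff_of_injective K N.subtype_injective).1 e)
    refine hK2 (eq_top_iff.2 fun n _ => ?_)
    obtain ⟨m, hm, e⟩ := htrans _ hmapn hmapne ((n : G) • a)
    obtain ⟨k, hk, rfl⟩ := hm
    have hmem : ((n : G))⁻¹ * (k : G) ∈ H := by
      rw [hHdef, MulAction.mem_stabilizer_iff, mul_smul]
      exact inv_smul_eq_iff.2 e
    have : (⟨_, hmem⟩ : H) ∈ N.subgroupOf H := Subgroup.mem_subgroupOf.2 (N.mul_mem (N.inv_mem n.2) k.2)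
    rw [h, Subgroup.mem_bot] at this
    have hnk : n = k := Subtype.ext (inv_mul_eq_one.1 (congrArg Subtype.val this))
    exact hnk ▸ hk
  · refine eq_top_iff.2 fun g _ => ?_
    obtain ⟨n, hn, e⟩ := htrans N hN hne (g • a)
    have hmem : n⁻¹ * g ∈ H := by
      rw [hHdef, MulAction.mem_stabilizer_iff, mul_smul, ← e, inv_smul_smul]
    have : (⟨_, hmem⟩ : H) ∈ N.subgroupOf H := by rw [h]; exact Subgroup.mem_top _
    simpa using N.mul_mem hn (Subgroup.mem_subgroupOf.1 this)

theorem characteristic_of_coprime {N : Type*} [Group N] [Finite N] (K : Subgroup N) [K.Normal]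
    (h : (Nat.card K).Coprime K.index) : K.Characteristic := by
  refine Subgroup.characteristic_iff_map_le.2 fun φ x hx => ?_
  obtain ⟨k, hk, rfl⟩ := hx
  have h1 : orderOf (QuotientGroup.mk' K (φ k)) ∣ Nat.card K :=
    (orderOf_map_dvd _ _).trans (by rw [MulEquiv.orderOf_eq]; exact Subgroup.orderOf_dvd_natCard _ hk)
  have h2 : orderOf (QuotientGroup.mk' K (φ k)) ∣ K.index := by
    rw [Subgroup.index_eq_card]; exact orderOf_dvd_natCard _
  have h3 : QuotientGroup.mk' K (φ k) = 1 := orderOf_eq_one_iff.1 (Nat.eq_one_of_dvd_coprimes h h1 h2)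
  exact (QuotientGroup.eq_one_iff _).1 h3

/-- A normal Sylow subgroup, or the normal complement of a Sylow subgroup central in its normaliser, is
characteristic. -/
theorem exists_char_of_central {N : Type*} [Group N] [Finite N] {p m : ℕ} [hp : Fact p.Prime] {e : ℕ}
    (hN : Nat.card N = p ^ e * m) (hpm : p.Coprime m) (he : 0 < e) (hm : 1 < m)
    (hself : ∀ P : Sylow p N, Nat.card P = p ^ e →
      Nat.card (Sylow p N) = 1 ∨ Subgroup.normalizer (P : Set N) ≤ Subgroup.centralizer (P : Set N)) :
    ∃ K : Subgroup N, K.Characteristic ∧ K ≠ ⊥ ∧ K ≠ ⊤ := by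
  classical
  obtain ⟨P⟩ : Nonempty (Sylow p N) := inferInstance
  have hPc : Nat.card P = p ^ e := by
    rw [P.card_eq_multiplicity, hN]
    have hv := Nat.factorization_mul (pow_ne_zero e hp.out.ne_zero) (show m ≠ 0 by omega)
    rw [hv, Finsupp.add_apply, Nat.Prime.factorization_pow hp.out,
      Finsupp.single_eq_same, Nat.factorization_eq_zero_of_not_dvd ((hp.out.coprime_iff_not_dvd).1 hpm)]
    simp
  have hne : (P : Subgroup N) ≠ ⊥ := fun h => by
    rw [h, Subgroup.card_bot] at hPc
    exact absurd hPc.symm (Nat.one_lt_pow he.ne' hp.out.one_lt).ne'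
  have hidx : (P : Subgroup N).index = m := by
    have := (P : Subgroup N).card_mul_index
    rw [hN, hPc] at this
    exact Nat.eq_of_mul_eq_mul_left (pow_pos hp.out.pos e) this
  have hntop : (P : Subgroup N) ≠ ⊤ := fun h => by rw [h, Subgroup.index_top] at hidx; omega
  rcases hself P hPc with h | hle
  · haveI : Subsingleton (Sylow p N) := (Nat.card_eq_one_iff_unique.1 h).1
    exact ⟨P, Sylow.characteristic_of_subsingleton P, hne, hntop⟩
  set K := (MonoidHom.transferSylow P hle).ker with hK
  have hc := MonoidHom.ker_transferSylow_isComplement' P hle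
  have hKc : Nat.card K = m := by
    have := hc.card_mul_card
    rw [hN, hPc, mul_comm] at this
    exact Nat.eq_of_mul_eq_mul_left (pow_pos hp.out.pos e) this
  have hKi : K.index = p ^ e := by
    have := K.card_mul_index
    rw [hKc, hN, mul_comm (p ^ e)] at this
    exact Nat.eq_of_mul_eq_mul_left (show 0 < m by omega) this
  refine ⟨K, characteristic_of_coprime K (by rw [hKc, hKi]; exact (hpm.pow_left e).symm), fun h0 => ?_, fun h0 => ?_⟩
  · rw [h0, Subgroup.card_bot] at hKc; omega
  · rw [h0, Subgroup.index_top] at hKi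
    exact absurd hKi.symm (Nat.one_lt_pow he.ne' hp.out.one_lt).ne'

/-- A normal Sylow subgroup, or the normal complement of a self-normalising abelian one, is characteristic. -/
theorem exists_char_of_sylow {N : Type*} [Group N] [Finite N] {p m : ℕ} [hp : Fact p.Prime] {e : ℕ}
    (hN : Nat.card N = p ^ e * m) (hpm : p.Coprime m) (he : 0 < e) (hm : 1 < m)
    (hself : ∀ P : Sylow p N, Nat.card (Sylow p N) = 1 ∨ (Nat.card (Sylow p N) = m ∧ e ≤ 2)) :
    ∃ K : Subgroup N, K.Characteristic ∧ K ≠ ⊥ ∧ K ≠ ⊤ := by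
  classical
  refine exists_char_of_central hN hpm he hm fun P hPc => ?_
  rcases hself P with h | ⟨h, he2⟩
  · exact Or.inl h
  right
  have hnorm : Subgroup.normalizer (P : Set N) = (P : Subgroup N) := by
    refine (Subgroup.eq_of_le_of_card_ge Subgroup.le_normalizer ?_).symm
    have h1 := Sylow.card_eq_index_normalizer P
    have h2 := Subgroup.card_mul_index (Subgroup.normalizer (P : Set N))
    rw [← h1, h, hN] at h2
    rw [hPc]
    exact le_of_eq (Nat.eq_of_mul_eq_mul_right (by omega) h2)
  haveI hcomm : IsMulCommutative (P : Subgroup N) := by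
    interval_cases e
    · have : IsCyclic (P : Subgroup N) := isCyclic_of_prime_card (p := p) (by simpa using hPc)
      infer_instance
    · exact IsPGroup.isMulCommutative_of_card_eq_prime_sq (p := p) hPc
  exact hnorm.le.trans (Subgroup.le_centralizer _)

/-- A group of order twice an odd number has a characteristic subgroup of index two. -/
theorem exists_char_two {N : Type*} [Group N] [Finite N] {m : ℕ} (hN : Nat.card N = 2 * m) (hodd : Odd m) (hm : 1 < m) :
    ∃ K : Subgroup N, K.Characteristic ∧ K ≠ ⊥ ∧ K ≠ ⊤ := by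
  haveI : Fact (Nat.Prime 2) := ⟨Nat.prime_two⟩
  refine exists_char_of_central (p := 2) (e := 1) (by simpa using hN) (Nat.coprime_two_left.2 hodd) one_pos hm
    fun P hPc => Or.inr fun g hg => Subgroup.mem_centralizer_iff.2 fun x hx => ?_
  obtain ⟨t, -, ht⟩ := Nat.card_eq_two_iff' (1 : (P : Subgroup N)) |>.1 (by simpa using hPc)
  have hx' : g * x * g⁻¹ ∈ (P : Subgroup N) := (Subgroup.mem_normalizer_iff.1 hg x).1 hx
  by_cases h1 : x = 1
  · rw [h1, one_mul, mul_one]
  · have e1 := ht ⟨x, hx⟩ (fun e => h1 (congrArg Subtype.val e))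
    have e2 := ht ⟨_, hx'⟩ (fun e => h1 (by
      have := congrArg Subtype.val e
      simpa using this))
    have : g * x * g⁻¹ = x := (congrArg Subtype.val e2).trans (congrArg Subtype.val e1).symm
    rw [mul_inv_eq_iff_eq_mul] at this
    exact this.symm

end Cfsg.Agent.Spor.SimpleOfStab
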