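import Cfsg.Agent.Lib.Spor.ThreeTransCriterion
import Cfsg.Agent.Lib.Classical.SympGen
import Cfsg.Agent.Lib.Classical.Transvection

/-! Symplectic transvections over the field of two elements. -/

set_option autoImplicit false
set_option linter.style.haveILetI false

namespace Cfsg.Agent.Spor.SympTwo

open Matrix Cfsg Cfsg.Agent.Classical

instance fact_two : Fact (Nat.Prime 2) := ⟨Nat.prime_two⟩

variable {m : ℕ}

theorem eq_one_two : ∀ t : ZMod 2, t ≠ 0 → t = 1 := by decide

theorem self_neg_two : ∀ t : ZMod 2, -t = t := by decide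

/-- The transvection of a vector. -/
noncomputable def tv (v : Fin m ⊕ Fin m → ZMod 2) : Matrix.symplecticGroup (Fin m) (ZMod 2) := sympTv v 1

theorem tv_mulVec (v x : Fin m ⊕ Fin m → ZMod 2) :
    (tv v : Matrix (Fin m ⊕ Fin m) (Fin m ⊕ Fin m) (ZMod 2)) *ᵥ x = x + sympForm m (ZMod 2) x v • v := by
  show sympTransvection m v 1 *ᵥ x = _
  rw [sympTransvection_mulVec, one_mul]

theorem tv_injective {v w : Fin m ⊕ Fin m → ZMod 2} (hv : v ≠ 0) (h : tv v = tv w) : v = w := by
  obtain ⟨y, hy⟩ := exists_sympForm_eq_one hv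
  have e := congrArg (fun g : Matrix.symplecticGroup (Fin m) (ZMod 2) =>
    (g : Matrix (Fin m ⊕ Fin m) (Fin m ⊕ Fin m) (ZMod 2)) *ᵥ y) h
  simp only [tv_mulVec, add_right_inj] at e
  rw [sympForm_swap y v, hy, self_neg_two, one_smul] at e
  have hne : sympForm m (ZMod 2) y w ≠ 0 := fun h0 => hv (by rw [e, h0, zero_smul])
  rw [eq_one_two _ hne, one_smul] at e
  exact e

theorem tv_mul_self (v : Fin m ⊕ Fin m → ZMod 2) : tv v * tv v = 1 := by
  rw [tv, sympTv_mul, show (1 : ZMod 2) + 1 = 0 from rfl, sympTv_zero]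

theorem tv_ne_one {v : Fin m ⊕ Fin m → ZMod 2} (hv : v ≠ 0) : tv v ≠ 1 := fun h => by
  obtain ⟨y, hy⟩ := exists_sympForm_eq_one hv
  have e := congrArg (fun g : Matrix.symplecticGroup (Fin m) (ZMod 2) =>
    (g : Matrix (Fin m ⊕ Fin m) (Fin m ⊕ Fin m) (ZMod 2)) *ᵥ y) h
  simp only [tv_mulVec, OneMemClass.coe_one, Matrix.one_mulVec, add_eq_left] at e
  rw [sympForm_swap y v, hy, self_neg_two, one_smul] at e
  exact hv e

/-- The rank one elements are the transvections. -/
theorem rank_one_iff (g : Matrix.symplecticGroup (Fin m) (ZMod 2)) :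
    ((g : Matrix (Fin m ⊕ Fin m) (Fin m ⊕ Fin m) (ZMod 2)) - 1).rank = 1 ↔ ∃ v, v ≠ 0 ∧ g = tv v := by
  constructor
  · intro h
    obtain ⟨v, φ, hv, hφ, e⟩ := exists_vecMulVec_of_rank_eq_one h
    have hg : ∀ x, (g : Matrix (Fin m ⊕ Fin m) (Fin m ⊕ Fin m) (ZMod 2)) *ᵥ x = x + (φ ⬝ᵥ x) • v := fun x => by
      have h1 := congrArg (· *ᵥ x) e
      simp only [Matrix.sub_mulVec, Matrix.one_mulVec, Matrix.vecMulVec_mulVec, op_smul_eq_smul] at h1
      rw [← h1]; abel
    refine ⟨v, hv, Subtype.ext (Matrix.ext_of_mulVec_single fun i => ?_)⟩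
    obtain ⟨y, hy⟩ := exists_sympForm_eq_one hv
    set x : Fin m ⊕ Fin m → ZMod 2 := Pi.single i 1
    have key : ∀ x y, (φ ⬝ᵥ y) * sympForm m (ZMod 2) x v + (φ ⬝ᵥ x) * sympForm m (ZMod 2) v y = 0 := fun x y => by
      have h1 := sympForm_map g x y
      rw [hg, hg] at h1
      simp only [sympForm_add_left, sympForm_add_right, sympForm_smul_left, sympForm_smul_right, sympForm_self] at h1
      linear_combination h1
    have hy' : φ ⬝ᵥ y ≠ 0 := by
      intro h0
      apply hφ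
      funext j
      have := key (Pi.single j 1) y
      rw [h0, hy, zero_mul, zero_add, mul_one, dotProduct_single, mul_one] at this
      exact this
    have h2 := key x y
    rw [eq_one_two _ hy', hy, one_mul, mul_one] at h2
    rw [hg, tv_mulVec, eq_neg_of_add_eq_zero_right h2, self_neg_two]
  · rintro ⟨v, hv, rfl⟩
    obtain ⟨y, hy⟩ := exists_sympForm_eq_one hv
    have e : (tv v : Matrix (Fin m ⊕ Fin m) (Fin m ⊕ Fin m) (ZMod 2)) - 1 =
        Matrix.vecMulVec v (fun j => sympForm m (ZMod 2) (Pi.single j 1) v) := by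
      refine Matrix.ext_of_mulVec_single fun i => ?_
      simp only [Matrix.sub_mulVec, Matrix.one_mulVec, tv_mulVec, add_sub_cancel_left, Matrix.vecMulVec_mulVec,
        op_smul_eq_smul, dotProduct_single, mul_one]
    refine le_antisymm (by rw [e]; exact Matrix.rank_vecMulVec_le _ _) ?_
    by_contra h0
    have h0' : ((tv v : Matrix (Fin m ⊕ Fin m) (Fin m ⊕ Fin m) (ZMod 2)) - 1).rank = 0 := by omega
    rw [Matrix.rank, Submodule.finrank_eq_zero, LinearMap.range_eq_bot] at h0'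
    have h1 := LinearMap.congr_fun h0' y
    simp only [Matrix.mulVecLin_apply, Matrix.sub_mulVec, Matrix.one_mulVec, tv_mulVec, add_sub_cancel_left,
      LinearMap.zero_apply] at h1
    rw [sympForm_swap y v, hy, self_neg_two, one_smul] at h1
    exact hv h1

theorem tv_conj_tv (u v : Fin m ⊕ Fin m → ZMod 2) :
    tv u * tv v * (tv u)⁻¹ = tv (v + sympForm m (ZMod 2) v u • u) := by
  have := sympTv_conj (tv u) v (1 : ZMod 2)
  rw [tv_mulVec] at this
  exact this

theorem commute_iff {u v : Fin m ⊕ Fin m → ZMod 2} (hu : u ≠ 0) (hv : v ≠ 0) :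
    Commute (tv u) (tv v) ↔ sympForm m (ZMod 2) v u = 0 := by
  constructor
  · intro h
    by_contra hne
    have e := tv_conj_tv u v
    rw [h.eq, mul_inv_cancel_right, eq_one_two _ hne, one_smul] at e
    exact hu (left_eq_add.mp (tv_injective hv e))
  · intro h
    have e := tv_conj_tv u v
    rw [h, zero_smul, add_zero] at e
    exact mul_inv_eq_iff_eq_mul.mp e

theorem sympClass (hn : 1 ≤ m) : IsThreeTranspositionClass {g : Matrix.symplecticGroup (Fin m) (ZMod 2) |
    ((g : Matrix (Fin m ⊕ Fin m) (Fin m ⊕ Fin m) (ZMod 2)) - 1).rank = 1} := by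
  classical
  rw [show {g : Matrix.symplecticGroup (Fin m) (ZMod 2) |
    ((g : Matrix (Fin m ⊕ Fin m) (Fin m ⊕ Fin m) (ZMod 2)) - 1).rank = 1} = {g | ∃ v, v ≠ 0 ∧ g = tv v} from
    Set.ext fun g => rank_one_iff g]
  refine ThreeTrans.isClass_of_chain ⟨?_, ?_⟩ ?_ ?_ ?_ ?_
  · rintro _ ⟨v, hv, rfl⟩
    exact orderOf_eq_prime (by rw [pow_two]; exact tv_mul_self v) (tv_ne_one hv)
  · rintro _ ⟨u, hu, rfl⟩ _ ⟨v, hv, rfl⟩
    have iu : (tv u)⁻¹ = tv u := inv_eq_of_mul_eq_one_right (tv_mul_self u)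
    have iv : (tv v)⁻¹ = tv v := inv_eq_of_mul_eq_one_right (tv_mul_self v)
    by_cases h : sympForm m (ZMod 2) v u = 0
    · left
      rw [((commute_iff hu hv).mpr h).mul_pow, pow_two, pow_two, tv_mul_self, tv_mul_self, mul_one]
    · right
      have e1 := tv_conj_tv u v
      have e2 := tv_conj_tv v u
      rw [iu, eq_one_two _ h, one_smul] at e1
      rw [iv, sympForm_swap u v, eq_one_two _ h, self_neg_two, one_smul, add_comm u v] at e2
      calc (tv u * tv v) ^ 3 = (tv u * tv v * tv u) * (tv v * tv u * tv v) := by simp only [pow_succ, pow_zero, one_mul, mul_assoc]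
        _ = 1 := by rw [e1, e2, tv_mul_self]
  · rintro g _ ⟨v, hv, rfl⟩
    refine ⟨(g : Matrix (Fin m ⊕ Fin m) (Fin m ⊕ Fin m) (ZMod 2)) *ᵥ v, fun h0 => hv ?_, sympTv_conj g v 1⟩
    obtain ⟨y, hy⟩ := exists_sympForm_eq_one hv
    exfalso
    have := sympForm_map g v y
    rw [h0, hy] at this
    simp [sympForm] at this
  · rw [eq_top_iff, ← closure_sympTvSet, Subgroup.closure_le]
    rintro A ⟨w, c, hA⟩
    have hA' : A = sympTv w c := Subtype.ext hA
    by_cases hc : c = 0
    · rw [hA', hc, sympTv_zero]; exact one_mem _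
    by_cases hw : w = 0
    · rw [show A = 1 from Subtype.ext (by rw [hA, hw]; simp [sympTransvection])]; exact one_mem _
    · rw [hA', eq_one_two _ hc]; exact Subgroup.subset_closure ⟨w, hw, rfl⟩
  · exact ⟨_, Pi.single (Sum.inl ⟨0, hn⟩) 1, fun h => one_ne_zero (α := ZMod 2) (by
      have := congrFun h (Sum.inl ⟨0, hn⟩); rwa [Pi.single_eq_same] at this), rfl⟩
  · rintro _ ⟨u, hu, rfl⟩ _ ⟨v, hv, rfl⟩ -
    right
    obtain ⟨z, hz1, hz2⟩ := exists_sympForm_ne_zero_both hu hv
    have hz : z ≠ 0 := fun h => hz1 (by rw [h]; simp [sympForm])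
    refine ⟨tv z, ⟨z, hz, rfl⟩, fun h => ?_, fun h => hz2 ((commute_iff hz hv).mp h)⟩
    have := (commute_iff hu hz).mp h
    rw [sympForm_swap z u, neg_eq_zero] at this
    exact hz1 this

end Cfsg.Agent.Spor.SympTwo
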