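import Cfsg.Agent.Lib.Spor.FourGen
import Cfsg.Agent.Lib.Grp.Cores

/-! Finite groups in which every element has order at most 3 are solvable. -/

set_option autoImplicit false

namespace Cfsg.Agent.Spor.OrderTwoThree

variable {G : Type*} [Group G]

/-- A group of exponent dividing 3 is solvable. -/
theorem solvable_of_cube [Finite G] (h : ∀ g : G, g ^ 3 = 1) : Group.IsSolvable G := by
  have : Fact (Nat.Prime 3) := ⟨Nat.prime_three⟩
  have hp : IsPGroup 3 G := fun g => ⟨1, by simpa using h g⟩
  have := hp.isNilpotent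
  infer_instance

/-- The case of commuting involutions. -/
theorem solvable_of_commute [Finite G] (h : ∀ g : G, g ^ 2 = 1 ∨ g ^ 3 = 1)
    (hc : ∀ a b : G, a ^ 2 = 1 → b ^ 2 = 1 → Commute a b) : Group.IsSolvable G := by
  let P : Subgroup G :=
    { carrier := {g | g ^ 2 = 1}
      one_mem' := one_pow 2
      mul_mem' := fun {a b} ha hb => by
        simp only [Set.mem_setOf_eq] at ha hb ⊢
        rw [(hc a b ha hb).mul_pow, ha, hb, one_mul]
      inv_mem' := fun {a} ha => by simpa [inv_pow] using ha }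
  have hmem : ∀ g, g ∈ P ↔ g ^ 2 = 1 := fun g => Iff.rfl
  have : P.Normal := ⟨fun n hn g => by
    rw [hmem] at hn ⊢
    rw [conj_pow, hn, mul_one, mul_inv_cancel]⟩
  have h1 : Group.IsSolvable P :=
    Group.isSolvable_of_comm fun a b => Subtype.ext (hc a b a.2 b.2)
  have h2 : Group.IsSolvable (G ⧸ P) := by
    refine solvable_of_cube fun x => ?_
    obtain ⟨g, rfl⟩ := QuotientGroup.mk'_surjective P x
    rw [← map_pow]
    rcases h g with h2 | h3
    · rw [map_pow, show QuotientGroup.mk' P g = 1 from (QuotientGroup.eq_one_iff g).mpr h2, one_pow]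
    · rw [h3, map_one]
  exact solvable_of_ker_le_range P.subtype (QuotientGroup.mk' P) (by simp)

theorem mul_self_of_sq {a : G} (h : a ^ 2 = 1) : a * a = 1 := by rwa [← pow_two]

theorem inv_of_sq {a : G} (h : a ^ 2 = 1) : a⁻¹ = a :=
  inv_eq_of_mul_eq_one_left (mul_self_of_sq h)

theorem cube_of_not_commute (h : ∀ g : G, g ^ 2 = 1 ∨ g ^ 3 = 1) {a b : G} (ha : a ^ 2 = 1)
    (hb : b ^ 2 = 1) (hab : ¬ Commute a b) : (a * b) ^ 3 = 1 := by
  refine (h (a * b)).resolve_left fun h2 => hab ?_
  have := inv_of_sq h2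
  rw [mul_inv_rev, inv_of_sq ha, inv_of_sq hb] at this
  exact this.symm

theorem braid_of_cube {a b : G} (ha : a ^ 2 = 1) (hb : b ^ 2 = 1) (h3 : (a * b) ^ 3 = 1) :
    a * b * a = b * a * b := by
  rw [pow_three] at h3
  have : a * b * a = (b * a * b)⁻¹ := eq_inv_of_mul_eq_one_left (by simpa [mul_assoc] using h3)
  simpa [inv_of_sq ha, inv_of_sq hb, mul_assoc] using this

/-- A member commuting with neither of two commuting involutions cannot exist. -/
theorem commute_left (h : ∀ g : G, g ^ 2 = 1 ∨ g ^ 3 = 1) {s t r : G} (hs : s ^ 2 = 1)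
    (ht : t ^ 2 = 1) (hr : r ^ 2 = 1) (hs1 : t ≠ 1) (hst : Commute s t) (hne : s ≠ t) :
    Commute r s := by
  have hq : (s * t) ^ 2 = 1 := by rw [hst.mul_pow, hs, ht, one_mul]
  have ss := mul_self_of_sq hs
  have tt := mul_self_of_sq ht
  have rr := mul_self_of_sq hr
  by_contra hrs
  -- an involution commuting with `r` and with `s` is impossible
  have key : ∀ u : G, u ^ 2 = 1 → u ≠ 1 → Commute u s → ¬ Commute r u := by
    intro u hu hu1 hus hru
    have h3 := cube_of_not_commute h hr hs hrs
    have hc : Commute u (r * s) := hru.symm.mul_right hus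
    rcases h (u * (r * s)) with e | e
    · rw [hc.mul_pow, hu, one_mul] at e
      rw [pow_succ, e, one_mul] at h3
      exact hrs (by
        have : r = s := by rw [← inv_of_sq hs]; exact eq_inv_of_mul_eq_one_left h3
        rw [this])
    · rw [hc.mul_pow, h3, mul_one, pow_succ, hu, one_mul] at e
      exact hu1 e
  have hrt : ¬ Commute r t := key t ht hs1 hst.symm
  have hq1 : s * t ≠ 1 := fun e => hne (by rw [eq_inv_of_mul_eq_one_left e, inv_of_sq ht])
  have hrq : ¬ Commute r (s * t) :=
    key (s * t) hq hq1 ((Commute.refl s).mul_left hst.symm)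
  have b1 := braid_of_cube hs hr (cube_of_not_commute h hs hr fun e => hrs e.symm)
  have b2 := braid_of_cube ht hr (cube_of_not_commute h ht hr fun e => hrt e.symm)
  have b3 := braid_of_cube hq hr (cube_of_not_commute h hq hr fun e => hrq e.symm)
  -- the product of the three third points
  have e1 : (s * r * s) * (t * r * t) = (s * t) * r * (s * t) := by
    rw [b1, b2, b3]
    calc (r * s * r) * (r * t * r) = r * s * ((r * r) * (t * r)) := by simp [mul_assoc]
      _ = r * (s * t) * r := by rw [rr, one_mul]; simp [mul_assoc]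
  have e2 : r * ((s * t) * r * (s * t)) = t * r * t := by
    have h' := congrArg (fun x => s * x * s) e1
    calc r * ((s * t) * r * (s * t)) = r * (s * (t * r * t) * s) := by
          simp [mul_assoc, hst.symm.eq]
      _ = s * ((s * r * s) * (t * r * t)) * s := by
          simp only [← mul_assoc, ss, one_mul]
      _ = s * ((s * t) * r * (s * t)) * s := h'
      _ = (s * s) * (t * r * (s * t) * s) := by simp [mul_assoc]
      _ = t * r * t := by rw [ss, one_mul, hst.eq, mul_assoc (t * r), mul_assoc t s s, ss, mul_one]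
  have hC : ((s * t) * r * (s * t)) ^ 2 = 1 := by
    have : (s * t) * r * (s * t) = (s * t) * r * (s * t)⁻¹ := by rw [inv_of_sq hq]
    rw [this, conj_pow, hr, mul_one, mul_inv_cancel]
  have hT : (t * r * t) ^ 2 = 1 := by
    have : t * r * t = t * r * t⁻¹ := by rw [inv_of_sq ht]
    rw [this, conj_pow, hr, mul_one, mul_inv_cancel]
  have hcm : Commute r ((s * t) * r * (s * t)) := by
    have := inv_of_sq (e2 ▸ hT : (r * ((s * t) * r * (s * t))) ^ 2 = 1)
    rw [mul_inv_rev, inv_of_sq hr, inv_of_sq hC] at this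
    exact this.symm
  have h4 : (r * (s * t)) ^ 4 = 1 := by
    have e : (r * (s * t)) ^ 2 = ((s * t) * r) ^ 2 := by
      simpa [pow_two, mul_assoc] using hcm.eq
    calc (r * (s * t)) ^ 4 = (r * (s * t)) ^ 2 * (r * (s * t)) ^ 2 := by rw [← pow_add]
      _ = (r * (s * t)) ^ 2 * ((s * t) * r) ^ 2 := by conv_lhs => arg 2; rw [e]
      _ = r * (s * t) * r * ((s * t) * (s * t)) * r * (s * t) * r := by
          simp [pow_two, mul_assoc]
      _ = r * (s * t) * (r * r) * (s * t) * r := by
          rw [mul_self_of_sq hq]; simp [mul_assoc]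
      _ = 1 := by rw [rr, mul_one, mul_assoc r, mul_self_of_sq hq, mul_one, rr]
  have h3' := cube_of_not_commute h hr hq hrq
  rw [pow_succ, h3', one_mul] at h4
  exact hrq (by
    have : r = s * t := by rw [← inv_of_sq hq]; exact eq_inv_of_mul_eq_one_left h4
    rw [this])

/-- The theorem. -/
theorem isSolvable [Finite G] (h : ∀ g : G, g ^ 2 = 1 ∨ g ^ 3 = 1) : Group.IsSolvable G := by
  by_cases hc : ∀ a b : G, a ^ 2 = 1 → b ^ 2 = 1 → Commute a b
  · exact solvable_of_commute h hc
  push Not at hc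
  obtain ⟨s, t, hs, ht, hst⟩ := hc
  let S : Set G := {g | g ^ 2 = 1 ∧ g ≠ 1}
  have hS : ∀ a ∈ S, ∀ b ∈ S, Commute a b → a = b := by
    intro a ha b hb hab
    by_contra hne
    have key : ∀ r : G, r ^ 2 = 1 → Commute r a := fun r hr =>
      commute_left h ha.1 hb.1 hr hb.2 hab hne
    rcases eq_or_ne s a with rfl | hsa
    · exact hst (key t ht).symm
    · exact hst (commute_left h hs ha.1 ht ha.2 (key s hs) hsa).symm
  have h3 : ∀ a ∈ S, ∀ b ∈ S, (a * b) ^ 3 = 1 := by
    intro a ha b hb
    by_cases hab : Commute a b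
    · rw [hS a ha b hb hab, mul_self_of_sq hb.1, one_pow]
    · exact cube_of_not_commute h ha.1 hb.1 hab
  have hconj : ∀ g : G, ∀ x ∈ S, g * x * g⁻¹ ∈ S := fun g x hx =>
    ⟨by rw [conj_pow, hx.1, mul_one, mul_inv_cancel], fun e => hx.2 (by
      rwa [mul_inv_eq_one, mul_eq_left] at e)⟩
  have hcore : ∀ a ∈ S, ∀ b ∈ S, a * b ∈ Cfsg.pCore 3 G := fun a ha b hb =>
    FourGen.mul_mem_pCore S (fun x hx => mul_self_of_sq hx.1) hconj h3 ha hb
  have : Fact (Nat.Prime 3) := ⟨Nat.prime_three⟩
  have hN : (Cfsg.pCore 3 G).Normal := Cfsg.Agent.Grp.pCore_isNormal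
  have hP : Group.IsSolvable (Cfsg.pCore 3 G) := by
    have := (Cfsg.Agent.Grp.pCore_isPGroup (G := G) (p := 3)).isNilpotent
    infer_instance
  have h2 : Group.IsSolvable (G ⧸ Cfsg.pCore 3 G) := by
    set f := QuotientGroup.mk' (Cfsg.pCore 3 G) with hf
    have hsurj : Function.Surjective f := QuotientGroup.mk'_surjective _
    refine solvable_of_commute (fun x => ?_) fun x y hx hy => ?_
    · obtain ⟨g, rfl⟩ := hsurj x
      rcases h g with e | e
      · left; rw [← map_pow, e, map_one]
      · right; rw [← map_pow, e, map_one]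
    · have lift : ∀ x : G ⧸ Cfsg.pCore 3 G, x ^ 2 = 1 → x = 1 ∨ ∃ a ∈ S, f a = x := by
        intro x hx
        obtain ⟨g, rfl⟩ := hsurj x
        rcases h g with e | e
        · by_cases g1 : g = 1
          · left; rw [g1, map_one]
          · exact Or.inr ⟨g, ⟨e, g1⟩, rfl⟩
        · left
          have e' : f g ^ 3 = 1 := by rw [← map_pow, e, map_one]
          rwa [pow_succ, hx, one_mul] at e'
      rcases lift x hx with rfl | ⟨a, ha, rfl⟩
      · exact Commute.one_left y
      rcases lift y hy with rfl | ⟨b, hb, rfl⟩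
      · exact Commute.one_right _
      have : f a = f b := by
        rw [hf, QuotientGroup.mk'_eq_mk']
        exact ⟨a * b, hcore a ha b hb, by rw [← mul_assoc, mul_self_of_sq ha.1, one_mul]⟩
      rw [this]
  exact solvable_of_ker_le_range (Cfsg.pCore 3 G).subtype (QuotientGroup.mk' (Cfsg.pCore 3 G))
    (by simp)

end Cfsg.Agent.Spor.OrderTwoThree
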