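import Cfsg.Agent.Lib.Invol.ZStar
import Cfsg.Agent.Lib.Invol.Isolated
import Cfsg.Agent.Lib.Grp.Coprime
import Cfsg.Agent.Lib.Grp.HallConverse
import Cfsg.Agent.Lib.Transfer.Cores

/-! An involution all of whose products with its conjugates have 3-power order. -/

set_option autoImplicit false
set_option linter.style.haveILetI false

namespace Cfsg.Agent.Spor.ThreePower

open Cfsg

universe u

variable {G : Type u} [Group G] [Finite G]

theorem isolated {d : G} (hd : orderOf d = 2)
    (hprod : ∀ g : G, ∃ k : ℕ, orderOf (d * (g * d * g⁻¹)) = 3 ^ k) : IsIsolatedInvolution d := by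
  refine ⟨hd, fun g hg => ?_⟩
  obtain ⟨k, hk⟩ := hprod g
  have hdd : d * d = 1 := by rw [← pow_two, ← hd, pow_orderOf_eq_one]
  have h2 : (d * (g * d * g⁻¹)) ^ 2 = 1 := by
    rw [hg.mul_pow, pow_two, pow_two, hdd, one_mul, show g * d * g⁻¹ * (g * d * g⁻¹) = g * (d * d) * g⁻¹ by group,
      hdd, mul_one, mul_inv_cancel]
  have h1 : orderOf (d * (g * d * g⁻¹)) = 1 := by
    rw [hk]
    refine Nat.Coprime.eq_one_of_dvd ?_ (hk ▸ orderOf_dvd_of_pow_eq_one h2)
    exact Nat.Coprime.pow_left _ (by norm_num)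
  rw [orderOf_eq_one_iff] at h1
  exact (eq_inv_of_mul_eq_one_right h1).trans (inv_eq_of_mul_eq_one_right hdd)

/-- The products of the involution with its conjugates lie in the 3-core. -/
theorem mul_conj_mem_pCore {d : G} (hd : orderOf d = 2)
    (hprod : ∀ g : G, ∃ k : ℕ, orderOf (d * (g * d * g⁻¹)) = 3 ^ k) (g : G) :
    d * (g * d * g⁻¹) ∈ pCore 3 G := by
  classical
  have hiso := isolated hd hprod
  have hdd : d * d = 1 := by rw [← pow_two, ← hd, pow_orderOf_eq_one]
  have hdi : d⁻¹ = d := inv_eq_of_mul_eq_one_right hdd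
  obtain ⟨N, hN, hNodd, hNmem⟩ := ZStar.exists_odd_normal hiso
  let A : Subgroup G := Subgroup.zpowers d
  have hAN : A ≤ Subgroup.normalizer (N : Set G) := by
    rw [Subgroup.normalizer_eq_top_iff.mpr hN]; exact le_top
  have hcop : (Nat.card A).Coprime (Nat.card N) := by
    rw [Nat.card_zpowers, hd]; exact Nat.coprime_two_left.2 hNodd
  have hsolv : Group.IsSolvable A ∨ Group.IsSolvable N :=
    Or.inl (Group.isSolvable_of_comm fun a b => (IsMulCommutative.is_comm (M := A)).comm a b)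
  let C : Subgroup G := N ⊓ Subgroup.centralizer ({d} : Set G)
  have hdC : ∀ c ∈ C, c * d * c⁻¹ = d := fun c hc => by
    rw [Subgroup.mem_centralizer_singleton_iff.mp hc.2, mul_inv_cancel_right]
  -- for every other prime an invariant Sylow subgroup is centralised
  have hC : ∀ p : ℕ, p.Prime → p ≠ 3 → ¬ p ∣ C.relIndex N := by
    intro p hp hp3
    haveI : Fact p.Prime := ⟨hp⟩
    obtain ⟨X, ⟨hXN, hXp, hXi⟩, hXA⟩ := Grp.exists_invariant_sylow A N hAN hcop hsolv p
    have hXC : X ≤ C := fun x hx => by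
      refine ⟨hXN hx, Subgroup.mem_centralizer_singleton_iff.mpr ?_⟩
      have hm : d * x * d⁻¹ * x⁻¹ ∈ X :=
        mul_mem ((Subgroup.mem_normalizer_iff.mp (hXA (Subgroup.mem_zpowers d)) x).mp hx) (inv_mem hx)
      obtain ⟨k, hk⟩ := hprod x
      obtain ⟨j, hj⟩ := hXp ⟨_, hm⟩
      have hj' : (d * x * d⁻¹ * x⁻¹) ^ p ^ j = 1 := congrArg Subtype.val hj
      rw [hdi] at hj'
      rw [show d * x * d * x⁻¹ = d * (x * d * x⁻¹) by group] at hj'
      have h1 : orderOf (d * (x * d * x⁻¹)) = 1 := by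
        rw [hk]
        refine Nat.Coprime.eq_one_of_dvd ?_ (hk ▸ orderOf_dvd_of_pow_eq_one hj')
        exact Nat.Coprime.pow _ _ ((Nat.coprime_primes Nat.prime_three hp).mpr (Ne.symm hp3))
      rw [orderOf_eq_one_iff] at h1
      have h2 : x * d * x⁻¹ = d := (eq_inv_of_mul_eq_one_right h1).trans hdi
      exact (mul_inv_eq_iff_eq_mul.mp h2)
    intro hdvd
    refine hXi ?_
    rw [← Subgroup.relIndex_mul_relIndex X C N hXC inf_le_left]
    exact dvd_mul_of_dvd_right hdvd _
  haveI : Fact (Nat.Prime 3) := ⟨Nat.prime_three⟩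
  obtain ⟨P, ⟨hPN, hPp, hPi⟩, hPA⟩ := Grp.exists_invariant_sylow A N hAN hcop hsolv 3
  have hsplit : ∀ n ∈ N, ∃ x ∈ P, x⁻¹ * n ∈ C := by
    intro n hn
    have hco : (P.relIndex N).Coprime (C.relIndex N) := by
      refine Nat.coprime_of_dvd fun q hq h1 h2 => ?_
      by_cases h3 : q = 3
      · exact hPi (h3 ▸ h1)
      · exact hC q hq h3 h2
    obtain ⟨x, hx, c, hc, e⟩ := Grp.HallConv.exists_mul_of_coprime (H := C.subgroupOf N) (K := P.subgroupOf N) hco.symm
      ⟨n, hn⟩
    refine ⟨x, hx, ?_⟩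
    have e' : n = (x : G) * c := congrArg Subtype.val e
    rw [e', inv_mul_cancel_left]
    exact hc
  let cm : G → G := fun n => n * d * n⁻¹ * d
  let T : Subgroup G := Subgroup.closure (cm '' N)
  have hTP : T ≤ P := by
    refine (Subgroup.closure_le _).mpr ?_
    rintro _ ⟨n, hn, rfl⟩
    obtain ⟨x, hx, hxn⟩ := hsplit n hn
    have e : cm n = x * (d * x⁻¹ * d⁻¹) := by
      have := hdC _ hxn
      rw [hdi]
      calc cm n = x * ((x⁻¹ * n) * d * (x⁻¹ * n)⁻¹) * x⁻¹ * d := by simp only [cm]; group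
        _ = _ := by rw [this]; group
    rw [SetLike.mem_coe, e]
    exact mul_mem hx ((Subgroup.mem_normalizer_iff.mp (hPA (Subgroup.mem_zpowers d)) _).mp (inv_mem hx))
  have hT : T.Normal := by
    refine ⟨fun y hy g => ?_⟩
    induction hy using Subgroup.closure_induction with
    | one => simp
    | mul a b _ _ ha hb =>
      rw [show g * (a * b) * g⁻¹ = g * a * g⁻¹ * (g * b * g⁻¹) by group]
      exact mul_mem ha hb
    | inv a _ ha =>
      rw [show g * a⁻¹ * g⁻¹ = (g * a * g⁻¹)⁻¹ by group]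
      exact inv_mem ha
    | mem a ha =>
      obtain ⟨n, hn, rfl⟩ := ha
      obtain ⟨k, -, -, hk, hkz⟩ := Invol.exists_odd_inverted hiso g
      have hkN : k ∈ N := by
        refine Subgroup.zpowers_le.mpr ?_ hkz
        have := hNmem g
        rw [hdi] at this
        rwa [show d * (g * d * g⁻¹) = d * g * d * g⁻¹ by group]
      have e : g * cm n * g⁻¹ = cm (g * n * g⁻¹ * k) * (cm k)⁻¹ := by
        calc g * cm n * g⁻¹ = (g * n * g⁻¹) * (g * d * g⁻¹) * (g * n * g⁻¹)⁻¹ * (g * d * g⁻¹) := by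
              simp only [cm]; group
          _ = _ := by
              rw [← hk]
              simp only [cm, mul_inv_rev, inv_inv, hdi]
              simp only [← mul_assoc]
              rw [mul_assoc _ d d, hdd, mul_one]
      rw [e]
      exact mul_mem (Subgroup.subset_closure ⟨_, mul_mem (hN.conj_mem n hn g) hkN, rfl⟩)
        (inv_mem (Subgroup.subset_closure ⟨k, hkN, rfl⟩))
  have hT3 : T ≤ pCore 3 G := Transfer.le_pCore hT (hPp.to_le hTP)
  obtain ⟨k, -, -, hk, hkz⟩ := Invol.exists_odd_inverted hiso g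
  have hkN : k ∈ N := by
    refine Subgroup.zpowers_le.mpr ?_ hkz
    have := hNmem g
    rw [hdi] at this
    rwa [show d * (g * d * g⁻¹) = d * g * d * g⁻¹ by group]
  refine hT3 ?_
  rw [← hk, show d * (k * d * k⁻¹) = (cm k)⁻¹ by simp only [cm, mul_inv_rev, inv_inv, hdi]; group]
  exact inv_mem (Subgroup.subset_closure ⟨k, hkN, rfl⟩)

end Cfsg.Agent.Spor.ThreePower
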