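import Cfsg.Agent.Lib.Spor.ThreeTransCriterion
import Cfsg.Agent.Lib.Spor.ThreePowerProducts
import Cfsg.Agent.Lib.Spor.OrderTwoThree
import Cfsg.Agent.Lib.Grp.Components

/-! Normal structure of a group generated by a class of 3-transpositions. -/

set_option autoImplicit false
set_option linter.style.haveILetI false

namespace Cfsg.Agent.Spor.FischerStr

open Cfsg

universe u

set_option linter.unusedSectionVars false

variable {G : Type u} [Group G] [Finite G] {D : Set G}

theorem eq_one_of_coprime {y : G} {k l : ℕ} (h : Nat.Coprime k l) (hk : y ^ k = 1) (hl : y ^ l = 1) : y = 1 := by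
  rw [← orderOf_eq_one_iff]
  exact Nat.eq_one_of_dvd_coprimes h (orderOf_dvd_of_pow_eq_one hk) (orderOf_dvd_of_pow_eq_one hl)

/-- No product of order at most 3 of commuting elements of orders 2 and 3. -/
theorem six {u v : G} (h : Commute u v) (hu : u ^ 2 = 1) (hu1 : u ≠ 1) (hv : v ^ 3 = 1) (hv1 : v ≠ 1)
    (huv : (u * v) ^ 2 = 1 ∨ (u * v) ^ 3 = 1) : False := by
  rcases huv with e | e
  · rw [h.mul_pow, hu, one_mul] at e
    exact hv1 (eq_one_of_coprime (by norm_num : Nat.Coprime 2 3) e hv)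
  · rw [h.mul_pow, hv, mul_one] at e
    exact hu1 (eq_one_of_coprime (by norm_num : Nat.Coprime 2 3) hu e)

theorem conj_mem (hD : IsThreeTranspositionClass D) (g : G) {d : G} (hd : d ∈ D) : g * d * g⁻¹ ∈ D := by
  obtain ⟨⟨-, ⟨a, -, rfl⟩, -⟩⟩ := And.intro hD trivial
  exact IsConj.trans hd (isConj_iff.mpr ⟨g, rfl⟩)

theorem exists_conj (hD : IsThreeTranspositionClass D) {a b : G} (ha : a ∈ D) (hb : b ∈ D) :
    ∃ g : G, g * a * g⁻¹ = b := by
  obtain ⟨c, -, e⟩ := hD.2.1
  rw [e] at ha hb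
  exact isConj_iff.mp (IsConj.trans (IsConj.symm ha) hb)

theorem commute_of_sq (h3 : IsThreeTranspositionSet D) {a b : G} (ha : a ∈ D) (hb : b ∈ D) (h : (a * b) ^ 2 = 1) :
    Commute a b := by
  have := inv_eq_of_mul_eq_one_right (show (a * b) * (a * b) = 1 by rw [← pow_two, h])
  rw [mul_inv_rev, ThreeTrans.inv_eq h3 ha, ThreeTrans.inv_eq h3 hb] at this
  exact this.symm

theorem not_mem_center (hD : IsThreeTranspositionClass D) (hD2 : ∃ a ∈ D, ∃ b ∈ D, a ≠ b) {d : G} (hd : d ∈ D) :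
    d ∉ Subgroup.center G := fun h => by
  obtain ⟨a, ha, b, hb, hab⟩ := hD2
  have key : ∀ c ∈ D, c = d := fun c hc => by
    obtain ⟨g, rfl⟩ := exists_conj hD hd hc
    rw [Subgroup.mem_center_iff.mp h g, mul_inv_cancel_right]
  exact hab ((key a ha).trans (key b hb).symm)

theorem mem_center_of (hgen : Subgroup.closure D = ⊤) {z : G} (h : ∀ d ∈ D, Commute d z) : z ∈ Subgroup.center G := by
  refine Subgroup.mem_center_iff.mpr fun g => ?_
  have hg : g ∈ Subgroup.centralizer ({z} : Set G) :=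
    (show Subgroup.closure D ≤ _ from (Subgroup.closure_le _).mpr fun d hd =>
      Subgroup.mem_centralizer_singleton_iff.mpr (h d hd).eq) (hgen.symm ▸ Subgroup.mem_top g)
  exact Subgroup.mem_centralizer_singleton_iff.mp hg

/-- A normal subgroup centralised by one member is central. -/
theorem le_center_of_normal (hD : IsThreeTranspositionClass D) (N : Subgroup G) [hN : N.Normal] {d : G} (hd : d ∈ D)
    (h : ∀ n ∈ N, Commute d n) : N ≤ Subgroup.center G := fun n hn => mem_center_of hD.2.2 fun e he => by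
  obtain ⟨g, rfl⟩ := exists_conj hD hd he
  have := h _ (hN.conj_mem' n hn g)
  have h2 := this.map (MulAut.conj g)
  simpa [MulAut.conj_apply, mul_assoc] using h2

theorem mul_conj_mem (h3 : IsThreeTranspositionSet D) (N : Subgroup G) [hN : N.Normal] {d n : G} (hd : d ∈ D) (hn : n ∈ N) :
    d * (n * d * n⁻¹) ∈ N := by
  rw [show d * (n * d * n⁻¹) = (d * n * d⁻¹) * n⁻¹ by rw [ThreeTrans.inv_eq h3 hd]; group]
  exact mul_mem (hN.conj_mem n hn d) (inv_mem hn)

theorem conj_mul_mem (h3 : IsThreeTranspositionSet D) (N : Subgroup G) [hN : N.Normal] {d n : G} (hd : d ∈ D) (hn : n ∈ N) :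
    n * d * n⁻¹ * d ∈ N := by
  rw [show n * d * n⁻¹ * d = n * (d * n⁻¹ * d⁻¹) by rw [ThreeTrans.inv_eq h3 hd]; group]
  exact mul_mem hn (hN.conj_mem _ (inv_mem hn) d)

theorem exists_moved (hD : IsThreeTranspositionClass D) {p : ℕ} (hp : ¬ pCore p G ≤ Subgroup.center G) {d : G}
    (hd : d ∈ D) : ∃ n ∈ pCore p G, n * d * n⁻¹ ≠ d := by
  haveI : (pCore p G).Normal := Grp.pCore_isNormal
  by_contra hcon
  refine hp (le_center_of_normal hD _ hd fun n hn => ?_)
  by_contra h
  exact hcon ⟨n, hn, fun e => h (mul_inv_eq_iff_eq_mul.mp e).symm⟩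

theorem commute_two (hD : IsThreeTranspositionClass D) {d n : G} (hd : d ∈ D) (hn : n ∈ pCore 2 G) :
    Commute d (n * d * n⁻¹) := by
  haveI : (pCore 2 G).Normal := Grp.pCore_isNormal
  rcases hD.1.2 d hd _ (conj_mem hD n hd) with e | e
  · exact commute_of_sq hD.1 hd (conj_mem hD n hd) e
  · obtain ⟨k, hk⟩ := Grp.pCore_isPGroup (p := 2) (G := G) ⟨_, mul_conj_mem hD.1 (pCore 2 G) hd hn⟩
    have h1 := eq_one_of_coprime (Nat.Coprime.pow_right k (by norm_num : Nat.Coprime 3 2)) e (congrArg Subtype.val hk)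
    rw [← eq_inv_of_mul_eq_one_right h1 |>.trans (ThreeTrans.inv_eq hD.1 hd) |>.symm]

theorem cube_three (hD : IsThreeTranspositionClass D) {d n : G} (hd : d ∈ D) (hn : n ∈ pCore 3 G) :
    (d * (n * d * n⁻¹)) ^ 3 = 1 := by
  haveI : (pCore 3 G).Normal := Grp.pCore_isNormal
  rcases hD.1.2 d hd _ (conj_mem hD n hd) with e | e
  · obtain ⟨k, hk⟩ := Grp.pCore_isPGroup (p := 3) (G := G) ⟨_, mul_conj_mem hD.1 (pCore 3 G) hd hn⟩
    rw [eq_one_of_coprime (Nat.Coprime.pow_right k (by norm_num : Nat.Coprime 2 3)) e (congrArg Subtype.val hk), one_pow]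
  · exact e

theorem pCore_central (hD : IsThreeTranspositionClass D) {p : ℕ} (hp : p.Prime) (h3 : 3 < p) :
    pCore p G ≤ Subgroup.center G := by
  haveI : (pCore p G).Normal := Grp.pCore_isNormal
  by_contra h
  obtain ⟨d, hd, -⟩ := hD.2.1
  obtain ⟨n, hn, hne⟩ := exists_moved hD h hd
  obtain ⟨k, hk⟩ := Grp.pCore_isPGroup (p := p) (G := G) ⟨_, mul_conj_mem hD.1 (pCore p G) hd hn⟩
  refine hne ?_
  have h1 : d * (n * d * n⁻¹) = 1 := by
    rcases hD.1.2 d hd _ (conj_mem hD n hd) with e | e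
    · exact eq_one_of_coprime (Nat.Coprime.pow_right k ((Nat.coprime_primes Nat.prime_two hp).mpr (by omega))) e (congrArg Subtype.val hk)
    · exact eq_one_of_coprime (Nat.Coprime.pow_right k ((Nat.coprime_primes Nat.prime_three hp).mpr (by omega))) e (congrArg Subtype.val hk)
  exact (eq_inv_of_mul_eq_one_right h1).trans (ThreeTrans.inv_eq hD.1 hd)

theorem cores_not_both (hD : IsThreeTranspositionClass D) (h2 : ¬ pCore 2 G ≤ Subgroup.center G) :
    pCore 3 G ≤ Subgroup.center G := by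
  by_contra h3
  haveI : (pCore 2 G).Normal := Grp.pCore_isNormal
  haveI : (pCore 3 G).Normal := Grp.pCore_isNormal
  obtain ⟨d, hd, -⟩ := hD.2.1
  obtain ⟨n, hn, hne⟩ := exists_moved hD h2 hd
  obtain ⟨m, hm, hme⟩ := exists_moved hD h3 hd
  let a := n * d * n⁻¹
  let b := m * d * m⁻¹
  have hco : (Nat.card (pCore 2 G)).Coprime (Nat.card (pCore 3 G)) := by
    haveI : Fact (Nat.Prime 2) := ⟨Nat.prime_two⟩
    haveI : Fact (Nat.Prime 3) := ⟨Nat.prime_three⟩
    exact IsPGroup.coprime_card_of_ne 2 3 (by norm_num) _ _ Grp.pCore_isPGroup Grp.pCore_isPGroup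
  have hu : a * d ∈ pCore 2 G := conj_mul_mem hD.1 _ hd hn
  have hv : d * b ∈ pCore 3 G := mul_conj_mem hD.1 _ hd hm
  have hcm : Commute (a * d) (d * b) :=
    (Subgroup.mem_centralizer_iff.mp (Grp.commute_of_coprime_normal hco hu) _ hv).symm
  refine six hcm ?_ (fun e => hne ?_) (cube_three hD hd hm) (fun e => hme ?_) ?_
  · rw [pow_two, ← pow_two, (commute_two hD hd hn).symm.mul_pow, pow_two, pow_two, ThreeTrans.mul_self hD.1 (conj_mem hD n hd),
      ThreeTrans.mul_self hD.1 hd, one_mul]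
  · exact (eq_inv_of_mul_eq_one_left e).trans (ThreeTrans.inv_eq hD.1 hd)
  · exact (eq_inv_of_mul_eq_one_right e).trans (ThreeTrans.inv_eq hD.1 hd)
  · rw [show a * d * (d * b) = a * b by rw [mul_assoc, ThreeTrans.mul_self_mul hD.1 hd]]
    exact hD.1.2 a (conj_mem hD n hd) b (conj_mem hD m hd)

/-- A perfect subgroup is centralised by an element whose commutators with it are central in it. -/
theorem commute_of_perfect {E : Subgroup G} (hperf : ⁅E, E⁆ = E) {d : G}
    (hmem : ∀ x ∈ E, x * d * x⁻¹ * d⁻¹ ∈ E) (hcent : ∀ x ∈ E, ∀ y ∈ E, Commute (x * d * x⁻¹ * d⁻¹) y) :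
    ∀ x ∈ E, Commute d x := by
  let φ : E →* Subgroup.center E :=
    MonoidHom.mk' (fun x => ⟨⟨_, hmem _ x.2⟩, Subgroup.mem_center_iff.mpr fun y => Subtype.ext (hcent _ x.2 _ y.2).symm.eq⟩)
      fun x y => Subtype.ext (Subtype.ext (by
        simp only [Subgroup.coe_mul, mul_inv_rev]
        have h1 := hcent _ y.2 _ x.2
        have h2 := hcent _ y.2 _ (hmem _ x.2)
        rw [show (x : G) * y * d * ((y : G)⁻¹ * (x : G)⁻¹) * d⁻¹ = x * (y * d * (y : G)⁻¹ * d⁻¹) * d * (x : G)⁻¹ * d⁻¹ by group,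
          ← h1.eq, ← h2.eq]
        group))
  have hk : commutator E ≤ φ.ker := by
    rw [commutator_def, Subgroup.commutator_le]
    intro a _ b _
    rw [MonoidHom.mem_ker, map_commutatorElement]
    exact commutatorElement_eq_one_iff_mul_comm.mpr (Subtype.ext (Subgroup.mem_center_iff.mp (φ b).2 (φ a).1))
  have htop : commutator E = ⊤ := by
    apply Subgroup.map_injective E.subtype_injective
    rw [commutator_def, Subgroup.map_commutator, ← MonoidHom.range_eq_map, Subgroup.range_subtype, hperf]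
  intro x hx
  have h1 := hk (show (⟨x, hx⟩ : E) ∈ commutator E by rw [htop]; trivial)
  rw [MonoidHom.mem_ker] at h1
  have h2 : x * d * x⁻¹ * d⁻¹ = 1 := congrArg (fun z : Subgroup.center E => (z : G)) h1
  exact (commutatorElement_eq_one_iff_mul_comm.mp h2).symm

/-- The hypothesis satisfied by components and by the layer. -/
def SolvCentral (E : Subgroup G) : Prop :=
  ∀ A : Subgroup G, Group.IsSolvable A → E ≤ Subgroup.normalizer (A : Set G) → E ≤ Subgroup.centralizer (A : Set G)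

theorem solvCentral_component {L : Subgroup G} (hL : IsComponent L) : SolvCentral L := fun _ hs hn =>
  Subgroup.commutator_eq_bot_iff_le_centralizer.mp (Grp.component_centralizes_solvable hL hs hn)

theorem solvCentral_layer : SolvCentral (layer G) := fun A hs hn =>
  sSup_le fun _ hL => solvCentral_component hL A hs ((Grp.IsComponent.le_layer hL).trans hn)

variable {E : Subgroup G}

theorem cm_mem (h3 : IsThreeTranspositionSet D) {d : G} (hd : d ∈ D) (hn : ∀ x ∈ E, d * x * d⁻¹ ∈ E) {x : G} (hx : x ∈ E) :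
    x * d * x⁻¹ * d ∈ E := by
  rw [show x * d * x⁻¹ * d = x * (d * x⁻¹ * d⁻¹) by rw [ThreeTrans.inv_eq h3 hd]; group]
  exact mul_mem hx (hn _ (inv_mem hx))

theorem commute_of_central (h3 : IsThreeTranspositionSet D) (hperf : ⁅E, E⁆ = E) {d : G} (hd : d ∈ D)
    (hn : ∀ x ∈ E, d * x * d⁻¹ ∈ E) {A : Subgroup G} (hA : E ≤ Subgroup.centralizer (A : Set G))
    (hmem : ∀ x ∈ E, x * d * x⁻¹ * d ∈ A) : ∀ x ∈ E, Commute d x :=
  commute_of_perfect hperf (fun x hx => by rw [ThreeTrans.inv_eq h3 hd]; exact cm_mem h3 hd hn hx)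
    fun x hx y hy => by
      rw [ThreeTrans.inv_eq h3 hd]
      exact Subgroup.mem_centralizer_iff.mp (hA hy) _ (hmem x hx)

theorem normalizes_closure (h3 : IsThreeTranspositionSet D) {d : G} (hd : d ∈ D) :
    E ≤ Subgroup.normalizer ((Subgroup.closure ((fun x => x * d * x⁻¹ * d) '' (E : Set G))) : Set G) := by
  intro e he
  have key : ∀ e ∈ E, ∀ a ∈ Subgroup.closure ((fun x => x * d * x⁻¹ * d) '' (E : Set G)),
      e * a * e⁻¹ ∈ Subgroup.closure ((fun x => x * d * x⁻¹ * d) '' (E : Set G)) := by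
    intro e he a ha
    induction ha using Subgroup.closure_induction with
    | mem a ha =>
      obtain ⟨x, hx, rfl⟩ := ha
      have e1 : e * (x * d * x⁻¹ * d) * e⁻¹ = (e * x * d * (e * x)⁻¹ * d) * (e * d * e⁻¹ * d)⁻¹ := by
        simp only [mul_inv_rev, inv_inv, ThreeTrans.inv_eq h3 hd, mul_assoc, ThreeTrans.mul_self_mul h3 hd, inv_mul_cancel_left]
      rw [e1]
      exact mul_mem (Subgroup.subset_closure ⟨_, mul_mem he hx, rfl⟩) (inv_mem (Subgroup.subset_closure ⟨e, he, rfl⟩))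
    | one => simp
    | mul a b _ _ ha hb => rw [show e * (a * b) * e⁻¹ = e * a * e⁻¹ * (e * b * e⁻¹) by group]; exact mul_mem ha hb
    | inv a _ ha => rw [show e * a⁻¹ * e⁻¹ = (e * a * e⁻¹)⁻¹ by group]; exact inv_mem ha
  refine Subgroup.mem_normalizer_iff.mpr fun a => ⟨fun ha => key e he a ha, fun ha => ?_⟩
  have := key _ (inv_mem he) _ ha
  simpa [mul_assoc] using this

theorem commute_of_all_commute (hD : IsThreeTranspositionClass D) (hperf : ⁅E, E⁆ = E) (hS : SolvCentral E)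
    {d : G} (hd : d ∈ D) (hn : ∀ x ∈ E, d * x * d⁻¹ ∈ E)
    (h : ∀ x ∈ E, Commute d (x * d * x⁻¹)) : ∀ x ∈ E, Commute d x := by
  let S := (fun x => x * d * x⁻¹ * d) '' (E : Set G)
  have hc : ∀ a ∈ S, ∀ b ∈ S, Commute a b := by
    rintro _ ⟨x, hx, rfl⟩ _ ⟨y, hy, rfl⟩
    have hxy : Commute (x * d * x⁻¹) (y * d * y⁻¹) := by
      have := (h _ (mul_mem (inv_mem hx) hy)).map (MulAut.conj x)
      simpa [MulAut.conj_apply, mul_assoc] using this
    exact (hxy.mul_right (h x hx).symm).mul_left ((h y hy).mul_right (Commute.refl d))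
  haveI : IsMulCommutative (Subgroup.closure S) := Subgroup.isMulCommutative_closure fun a ha b hb => (hc a ha b hb).eq
  have hs : Group.IsSolvable (Subgroup.closure S) := Group.isSolvable_of_comm fun a b => (IsMulCommutative.is_comm (M := Subgroup.closure S)).comm a b
  exact commute_of_central hD.1 hperf hd hn (hS _ hs (normalizes_closure hD.1 hd)) fun x hx => Subgroup.subset_closure ⟨x, hx, rfl⟩

theorem commute_of_all_cube (hD : IsThreeTranspositionClass D) (hperf : ⁅E, E⁆ = E) (hS : SolvCentral E)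
    {d : G} (hd : d ∈ D) (hn : ∀ x ∈ E, d * x * d⁻¹ ∈ E)
    (h : ∀ x ∈ E, (d * (x * d * x⁻¹)) ^ 3 = 1) : ∀ x ∈ E, Commute d x := by
  let H : Subgroup G := E ⊔ Subgroup.zpowers d
  have hnd : Subgroup.zpowers d ≤ Subgroup.normalizer (E : Set G) := by
    refine Subgroup.zpowers_le.mpr (Subgroup.mem_normalizer_iff.mpr fun a => ⟨hn a, fun ha => ?_⟩)
    have := hn _ ha
    rwa [ThreeTrans.inv_eq hD.1 hd, ← mul_assoc, ← mul_assoc, ThreeTrans.mul_self hD.1 hd, one_mul, mul_assoc,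
      ThreeTrans.mul_self hD.1 hd, mul_one] at this
  let d' : H := ⟨d, Subgroup.mem_sup_right (Subgroup.mem_zpowers d)⟩
  have hd2 : orderOf d' = 2 := by rw [← hD.1.1 d hd]; exact (Subgroup.orderOf_coe d').symm
  have hprod : ∀ g : H, ∃ k : ℕ, orderOf (d' * (g * d' * g⁻¹)) = 3 ^ k := by
    intro g
    obtain ⟨x, hx, z, hz, e⟩ : ∃ x ∈ E, ∃ z ∈ Subgroup.zpowers d, (g : G) = x * z := by
      have hg : (g : G) ∈ ((E ⊔ Subgroup.zpowers d : Subgroup G) : Set G) := g.2
      rw [Subgroup.coe_mul_of_right_le_normalizer_left E _ hnd] at hg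
      obtain ⟨x, hx, z, hz, e⟩ := hg
      exact ⟨x, hx, z, hz, e.symm⟩
    have hzd : z * d * z⁻¹ = d := by
      obtain ⟨i, rfl⟩ := Subgroup.mem_zpowers_iff.mp hz
      group
    have e2 : ((d' * (g * d' * g⁻¹) : H) : G) = d * (x * d * x⁻¹) := by
      simp only [Subgroup.coe_mul, InvMemClass.coe_inv, e, mul_inv_rev]
      rw [show d * (x * z * d * (z⁻¹ * x⁻¹)) = d * (x * (z * d * z⁻¹) * x⁻¹) by group, hzd]
    have h1 : orderOf (d' * (g * d' * g⁻¹)) ∣ 3 := orderOf_dvd_of_pow_eq_one (Subtype.ext (by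
      rw [SubmonoidClass.coe_pow, e2, h x hx]; rfl))
    rcases (Nat.dvd_prime Nat.prime_three).mp h1 with h' | h'
    · exact ⟨0, by rw [h', pow_zero]⟩
    · exact ⟨1, by rw [h', pow_one]⟩
  haveI : Fact (Nat.Prime 3) := ⟨Nat.prime_three⟩
  haveI hT : (pCore 3 H).Normal := Grp.pCore_isNormal
  let T : Subgroup G := (pCore 3 H).map H.subtype
  have hTn : E ≤ Subgroup.normalizer (T : Set G) := by
    intro e he
    refine Subgroup.mem_normalizer_iff.mpr fun a => ⟨?_, ?_⟩
    · rintro ⟨t, ht, rfl⟩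
      exact ⟨⟨e, Subgroup.mem_sup_left he⟩ * t * ⟨e, Subgroup.mem_sup_left he⟩⁻¹, hT.conj_mem t ht _, rfl⟩
    · rintro ⟨t, ht, e1⟩
      refine ⟨⟨e, Subgroup.mem_sup_left he⟩⁻¹ * t * ⟨e, Subgroup.mem_sup_left he⟩, hT.conj_mem' t ht _, ?_⟩
      have e1' : (t : G) = e * a * e⁻¹ := e1
      simp [e1', mul_assoc]
  have hTs : Group.IsSolvable T := by
    have hp : IsPGroup 3 T := (Grp.pCore_isPGroup (p := 3) (G := H)).map H.subtype
    have := hp.isNilpotent
    infer_instance
  refine commute_of_central hD.1 hperf hd hn (hS T hTs hTn) fun x hx => ?_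
  have hx' := ThreePower.mul_conj_mem_pCore hd2 hprod ⟨x, Subgroup.mem_sup_left hx⟩
  refine ⟨_, inv_mem hx', ?_⟩
  simp [d', mul_inv_rev, ThreeTrans.inv_eq hD.1 hd, mul_assoc]

theorem layer_le_center_of (hD : IsThreeTranspositionClass D) {d : G} (hd : d ∈ D)
    (h : ∀ x ∈ layer G, Commute d x) : layer G = ⊥ := by
  exact Grp.eq_bot_of_perfect_of_comm Grp.layer_perfect
    ((le_center_of_normal hD _ hd h).trans (Subgroup.center_le_centralizer _))

theorem layer_eq_bot_of_two (hD : IsThreeTranspositionClass D) (h2 : ¬ pCore 2 G ≤ Subgroup.center G) :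
    layer G = ⊥ := by
  haveI : (pCore 2 G).Normal := Grp.pCore_isNormal
  haveI : Fact (Nat.Prime 2) := ⟨Nat.prime_two⟩
  obtain ⟨d, hd, -⟩ := hD.2.1
  obtain ⟨n, hn, hne⟩ := exists_moved hD h2 hd
  have hs : Group.IsSolvable (pCore 2 G) := by
    have := (Grp.pCore_isPGroup (p := 2) (G := G)).isNilpotent
    infer_instance
  have hN := Grp.layer_le_centralizer_solvable (pCore 2 G) hs
  refine layer_le_center_of hD hd (commute_of_all_commute hD Grp.layer_perfect solvCentral_layer hd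
    (fun x hx => (inferInstance : (layer G).Normal).conj_mem x hx d) fun x hx => ?_)
  rcases hD.1.2 d hd _ (conj_mem hD x hd) with e | e
  · exact commute_of_sq hD.1 hd (conj_mem hD x hd) e
  by_contra hc
  refine six (u := n * d * n⁻¹ * d) (v := d * (x * d * x⁻¹)) ?_ ?_ ?_ e ?_ ?_
  · exact (Subgroup.mem_centralizer_iff.mp (hN (mul_conj_mem hD.1 (layer G) hd hx)) _ (conj_mul_mem hD.1 _ hd hn))
  · rw [(commute_two hD hd hn).symm.mul_pow, pow_two, pow_two, ThreeTrans.mul_self hD.1 (conj_mem hD n hd),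
      ThreeTrans.mul_self hD.1 hd, one_mul]
  · exact fun e => hne ((eq_inv_of_mul_eq_one_left e).trans (ThreeTrans.inv_eq hD.1 hd))
  · exact fun e => hc (by rw [(eq_inv_of_mul_eq_one_right e).trans (ThreeTrans.inv_eq hD.1 hd)])
  · rw [mul_assoc (n * d * n⁻¹), ThreeTrans.mul_self_mul hD.1 hd]
    exact hD.1.2 _ (conj_mem hD n hd) _ (conj_mem hD x hd)

theorem layer_eq_bot_of_three (hD : IsThreeTranspositionClass D) (h2 : ¬ pCore 3 G ≤ Subgroup.center G) :
    layer G = ⊥ := by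
  haveI : (pCore 3 G).Normal := Grp.pCore_isNormal
  haveI : Fact (Nat.Prime 3) := ⟨Nat.prime_three⟩
  obtain ⟨d, hd, -⟩ := hD.2.1
  obtain ⟨n, hn, hne⟩ := exists_moved hD h2 hd
  have hs : Group.IsSolvable (pCore 3 G) := by
    have := (Grp.pCore_isPGroup (p := 3) (G := G)).isNilpotent
    infer_instance
  have hN := Grp.layer_le_centralizer_solvable (pCore 3 G) hs
  refine layer_le_center_of hD hd (commute_of_all_cube hD Grp.layer_perfect solvCentral_layer hd
    (fun x hx => (inferInstance : (layer G).Normal).conj_mem x hx d) fun x hx => ?_)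
  rcases hD.1.2 d hd _ (conj_mem hD x hd) with e | e
  · by_contra hc
    refine six (u := x * d * x⁻¹ * d) (v := d * (n * d * n⁻¹)) ?_ ?_ ?_ (cube_three hD hd hn) ?_ ?_
    · exact (Subgroup.mem_centralizer_iff.mp (hN (conj_mul_mem hD.1 (layer G) hd hx)) _ (mul_conj_mem hD.1 _ hd hn)).symm
    · rw [(commute_of_sq hD.1 hd (conj_mem hD x hd) e).symm.mul_pow, pow_two, pow_two, ThreeTrans.mul_self hD.1 (conj_mem hD x hd),
        ThreeTrans.mul_self hD.1 hd, one_mul]
    · exact fun e => hc (by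
        rw [(eq_inv_of_mul_eq_one_left e).trans (ThreeTrans.inv_eq hD.1 hd), ThreeTrans.mul_self hD.1 hd, one_pow])
    · exact fun e => hne ((eq_inv_of_mul_eq_one_right e).trans (ThreeTrans.inv_eq hD.1 hd))
    · rw [mul_assoc (x * d * x⁻¹), ThreeTrans.mul_self_mul hD.1 hd]
      exact hD.1.2 _ (conj_mem hD x hd) _ (conj_mem hD n hd)
  · exact e

theorem center_le_fitting : Subgroup.center G ≤ fittingSubgroup G :=
  Grp.le_fittingSubgroup inferInstance (by open scoped IsMulCommutative in infer_instance)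

theorem fitting_le_center (hD : IsThreeTranspositionClass D) (h2 : pCore 2 G ≤ Subgroup.center G)
    (h3 : pCore 3 G ≤ Subgroup.center G) : fittingSubgroup G ≤ Subgroup.center G := by
  rw [Grp.fittingSubgroup_eq_iSup_pCore]
  refine iSup_le fun p => ?_
  have := p.2.two_le
  rcases eq_or_ne (p : ℕ) 2 with h | h
  · rw [h]; exact h2
  rcases eq_or_ne (p : ℕ) 3 with h' | h'
  · rw [h']; exact h3
  exact pCore_central hD p.2 (by omega)

theorem layer_ne_bot (hD : IsThreeTranspositionClass D) (hD2 : ∃ a ∈ D, ∃ b ∈ D, a ≠ b)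
    (h2 : pCore 2 G ≤ Subgroup.center G) (h3 : pCore 3 G ≤ Subgroup.center G) : layer G ≠ ⊥ := fun h => by
  obtain ⟨d, hd, -⟩ := hD.2.1
  refine not_mem_center hD hD2 hd (fitting_le_center hD h2 h3 (Grp.centralizer_fitting_le_of_layer_eq_bot h ?_))
  exact Subgroup.mem_centralizer_iff.mpr fun z hz =>
    (Subgroup.mem_center_iff.mp (fitting_le_center hD h2 h3 hz) d).symm

theorem trichotomy (hD : IsThreeTranspositionClass D) (hD2 : ∃ a ∈ D, ∃ b ∈ D, a ≠ b) :
    (∀ p : ℕ, p.Prime → 3 < p → pCore p G ≤ Subgroup.center G) ∧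
      ((¬ pCore 2 G ≤ Subgroup.center G ∧ pCore 3 G ≤ Subgroup.center G ∧ layer G = ⊥) ∨
        (pCore 2 G ≤ Subgroup.center G ∧ ¬ pCore 3 G ≤ Subgroup.center G ∧ layer G = ⊥) ∨
        (pCore 2 G ≤ Subgroup.center G ∧ pCore 3 G ≤ Subgroup.center G ∧ layer G ≠ ⊥)) := by
  refine ⟨fun p hp h => pCore_central hD hp h, ?_⟩
  by_cases h2 : pCore 2 G ≤ Subgroup.center G
  · by_cases h3 : pCore 3 G ≤ Subgroup.center G
    · exact Or.inr (Or.inr ⟨h2, h3, layer_ne_bot hD hD2 h2 h3⟩)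
    · exact Or.inr (Or.inl ⟨h2, h3, layer_eq_bot_of_three hD h3⟩)
  · exact Or.inl ⟨h2, cores_not_both hD h2, layer_eq_bot_of_two hD h2⟩

end Cfsg.Agent.Spor.FischerStr
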