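import Cfsg.Agent.Lib.Spor.ThreeTrans

/-! Four members in a path generate a symmetric group of degree five. -/

set_option autoImplicit false

namespace Cfsg.Agent.Spor.FiveHom

open Cfsg Cfsg.Agent.Spor.Rewrite

variable {G : Type*} [Group G] {D : Set G}

/-- Representatives of the cosets of the degree `k` stage. -/
def reps : Fin 4 → List (List (Fin 4))
  | 0 => [[], [0]]
  | 1 => [[], [1], [1, 0]]
  | 2 => [[], [2], [2, 1], [2, 1, 0]]
  | 3 => [[], [3], [3, 2], [3, 2, 1], [3, 2, 1, 0]]

/-- The normal forms. -/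
def forms : List (List (Fin 4)) :=
  (reps 0).flatMap fun a => (reps 1).flatMap fun b => (reps 2).flatMap fun c => (reps 3).map fun d => a ++ (b ++ (c ++ d))

/-- The rewriting rules. -/
def rules : List (List (Fin 4) × List (Fin 4)) :=
  [([0, 0], []), ([1, 1], []), ([2, 2], []), ([3, 3], []), ([2, 0], [0, 2]), ([3, 0], [0, 3]), ([3, 1], [1, 3]),
    ([1, 0, 1], [0, 1, 0]), ([2, 1, 0, 2], [1, 2, 1, 0]), ([2, 1, 2], [1, 2, 1]), ([3, 2, 1, 0, 3], [2, 3, 2, 1, 0]),
    ([3, 2, 1, 3], [2, 3, 2, 1]), ([3, 2, 3], [2, 3, 2])]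

/-- The adjacent transpositions. -/
def gens : Fin 4 → Equiv.Perm (Fin 5) :=
  ![Equiv.swap 0 1, Equiv.swap 1 2, Equiv.swap 2 3, Equiv.swap 3 4]

/-- The images of the points. -/
def code (w : List (Fin 4)) : List (Fin 5) :=
  (List.finRange 5).map fun x => w.foldr (fun i y => gens i y) x

theorem code_eq (w : List (Fin 4)) : code w = (List.finRange 5).map (fun x => evalWord gens w x) := by
  refine List.map_congr_left fun x _ => ?_
  induction w with
  | nil => rfl
  | cons i w ih => simp only [List.foldr_cons, ih, evalWord, List.map_cons, List.prod_cons, Equiv.Perm.mul_apply]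

set_option maxRecDepth 100000 in
theorem forms_closed : ∀ w ∈ forms, ∀ i : Fin 4, normal rules 11 (i :: w) ∈ forms := by decide +kernel

set_option maxRecDepth 100000 in
theorem forms_nodup : (forms.map code).Nodup := by decide +kernel

theorem forms_nil : ([] : List (Fin 4)) ∈ forms := by decide +kernel

theorem forms_single : ∀ i : Fin 4, [i] ∈ forms := by decide +kernel

theorem forms_length : forms.length = 120 := by decide +kernel

theorem forms_inj {w w' : List (Fin 4)} (hw : w ∈ forms) (hw' : w' ∈ forms) (e : evalWord gens w = evalWord gens w') :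
    w = w' :=
  List.inj_on_of_nodup_map forms_nodup hw hw' (by rw [code_eq, code_eq, e])

theorem forms_surj (σ : Equiv.Perm (Fin 5)) : ∃ w ∈ forms, evalWord gens w = σ := by
  classical
  have hcard : (forms.map (evalWord gens)).toFinset.card = 120 := by
    rw [List.toFinset_card_of_nodup, List.length_map, forms_length]
    refine List.Nodup.map_on (fun x hx y hy e => forms_inj hx hy e) ?_
    exact List.Nodup.of_map _ forms_nodup
  have : (forms.map (evalWord gens)).toFinset = Finset.univ :=
    Finset.eq_univ_of_card _ (by rw [hcard, Fintype.card_perm, Fintype.card_fin]; rfl)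
  have h := Finset.mem_univ σ
  rw [← this, List.mem_toFinset, List.mem_map] at h
  exact h

theorem simple_alt : IsSimpleGroup (alternatingGroup (Fin 5)) := alternatingGroup.isSimpleGroup (by simp)

set_option maxRecDepth 100000 in
theorem centralizer_cycles : ∀ σ : Equiv.Perm (Fin 5),
    σ * (Equiv.swap 0 1 * Equiv.swap 1 2) = (Equiv.swap 0 1 * Equiv.swap 1 2) * σ →
      σ * (Equiv.swap 2 3 * Equiv.swap 3 4) = (Equiv.swap 2 3 * Equiv.swap 3 4) * σ → σ = 1 := by decide +kernel

theorem exists_hom_s5 (hE : IsThreeTranspositionSet D) {a b c d : G} (ha : a ∈ D) (hb : b ∈ D) (hc : c ∈ D)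
    (hd : d ∈ D) (hab : ¬ Commute a b) (hbc : ¬ Commute b c) (hcd : ¬ Commute c d)
    (hac : Commute a c) (had : Commute a d) (hbd : Commute b d) (hne : a ≠ c) :
    ∃ φ : Equiv.Perm (Fin 5) →* G, Function.Injective φ ∧ φ (Equiv.swap 0 1) = a ∧ φ (Equiv.swap 1 2) = b ∧
      φ (Equiv.swap 2 3) = c ∧ φ (Equiv.swap 3 4) = d := by
  classical
  let v : Fin 4 → G := ![a, b, c, d]
  have hR : ∀ p ∈ rules, evalWord v p.1 = evalWord v p.2 := by
    have k1 : c * (a * (1 : G)) = a * (c * 1) := by rw [mul_one, mul_one]; exact hac.eq.symm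
    have k2 : d * (a * (1 : G)) = a * (d * 1) := by rw [mul_one, mul_one]; exact had.eq.symm
    have k3 : d * (b * (1 : G)) = b * (d * 1) := by rw [mul_one, mul_one]; exact hbd.eq.symm
    have b1 := ThreeTrans.braid hE ha hb hab
    have b2 := ThreeTrans.braid hE hb hc hbc
    have b3 := ThreeTrans.braid hE hc hd hcd
    have l1 : c * b * a * c = b * c * b * a := by
      rw [mul_assoc (c * b), hac.eq, ← mul_assoc, ← b2]
    have l2 : d * c * b * d = c * d * c * b := by
      rw [mul_assoc (d * c), hbd.eq, ← mul_assoc, ← b3]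
    have l3 : d * c * b * a * d = c * d * c * b * a := by
      rw [mul_assoc (d * c * b), had.eq, ← mul_assoc, l2]
    simp only [rules, List.forall_mem_cons, List.not_mem_nil, false_implies, implies_true, and_true,
      evalWord, List.map_cons, List.map_nil, List.prod_cons, List.prod_nil]
    simp only [v, Matrix.cons_val_zero, Matrix.cons_val_one, Matrix.cons_val, mul_one]
    refine ⟨ThreeTrans.mul_self hE ha, ThreeTrans.mul_self hE hb, ThreeTrans.mul_self hE hc, ThreeTrans.mul_self hE hd,
      hac.eq.symm, had.eq.symm, hbd.eq.symm, ?_, ?_, ?_, ?_, ?_, ?_⟩ <;> simp only [← mul_assoc]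
    · exact b1.symm
    · exact l1
    · exact b2.symm
    · exact l3
    · exact l2
    · exact b3.symm
  choose w hw he using forms_surj
  have hstep : ∀ i σ, evalWord v (w (gens i * σ)) = v i * evalWord v (w σ) := by
    intro i σ
    have hg : ∀ p ∈ rules, evalWord gens p.1 = evalWord gens p.2 := by decide +kernel
    have h1 : w (gens i * σ) = normal rules 11 (i :: w σ) := forms_inj (hw _) (forms_closed _ (hw σ) i) (by
      rw [he, normal_sound gens rules hg]
      conv_lhs => rw [← he σ]
      simp only [evalWord, List.map_cons, List.prod_cons])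
    rw [h1, normal_sound v rules hR]
    simp only [evalWord, List.map_cons, List.prod_cons]
  have h1 : w 1 = [] := forms_inj (hw 1) forms_nil (by rw [he]; rfl)
  have hmul : ∀ σ τ, evalWord v (w (σ * τ)) = evalWord v (w σ) * evalWord v (w τ) := by
    intro σ τ
    have : ∀ l : List (Fin 4), evalWord v (w (evalWord gens l * τ)) = evalWord v l * evalWord v (w τ) := by
      intro l
      induction l with
      | nil => simp [evalWord]
      | cons i l ih =>
        simp only [evalWord, List.map_cons, List.prod_cons] at ih hstep ⊢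
        rw [mul_assoc, hstep, ih, mul_assoc]
    have := this (w σ)
    rwa [he] at this
  let φ : Equiv.Perm (Fin 5) →* G :=
    { toFun := fun σ => evalWord v (w σ), map_one' := by rw [h1]; rfl, map_mul' := hmul }
  have hgen : ∀ i, φ (gens i) = v i := fun i => by
    show evalWord v (w (gens i)) = v i
    rw [forms_inj (hw _) (forms_single i) (by rw [he]; simp [evalWord])]
    simp [evalWord]
  refine ⟨φ, ?_, hgen 0, hgen 1, hgen 2, hgen 3⟩
  rw [← MonoidHom.ker_eq_bot_iff]
  have := simple_alt
  rcases ((MonoidHom.normal_ker φ).subgroupOf (alternatingGroup (Fin 5))).eq_bot_or_eq_top with e | e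
  · rw [Subgroup.eq_bot_iff_forall]
    intro σ hσ
    have hc : ∀ t ∈ alternatingGroup (Fin 5), σ * t = t * σ := fun t ht => by
      have hm : σ * t * σ⁻¹ * t⁻¹ ∈ φ.ker ⊓ alternatingGroup (Fin 5) := Subgroup.mem_inf.mpr
        ⟨by rw [mul_assoc σ, mul_assoc σ]; exact mul_mem hσ ((MonoidHom.normal_ker φ).conj_mem _ (inv_mem hσ) t),
          mul_mem ((inferInstance : (alternatingGroup (Fin 5)).Normal).conj_mem t ht σ) (inv_mem ht)⟩
      rw [Subgroup.subgroupOf_eq_bot, disjoint_iff] at e
      rw [e, Subgroup.mem_bot] at hm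
      exact mul_inv_eq_iff_eq_mul.mp (mul_inv_eq_one.mp hm)
    exact centralizer_cycles σ (hc _ (by rw [Equiv.Perm.mem_alternatingGroup]; decide))
      (hc _ (by rw [Equiv.Perm.mem_alternatingGroup]; decide))
  · exfalso
    have h0 : φ (gens 0 * gens 2) = 1 := Subgroup.subgroupOf_eq_top.mp e (by
      rw [Equiv.Perm.mem_alternatingGroup]; decide)
    rw [map_mul, hgen, hgen] at h0
    exact hne ((eq_inv_of_mul_eq_one_left h0).trans (ThreeTrans.inv_eq hE hc))

end Cfsg.Agent.Spor.FiveHom
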