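import Mathlib
import Cfsg.Prelude.Def_MonsterType
import Cfsg.Agent.Lib.Fus.Extraspecial
import Cfsg.Agent.Lib.Transfer.Cores
import Cfsg.Agent.Lib.Grp.Coprime

/-!
Elementary facts on large extraspecial subgroups.
-/

set_option autoImplicit false
set_option linter.style.haveILetI false

open scoped commutatorElement

namespace Cfsg.Agent.Spor.LargeExtra

variable {G : Type*} [Group G] [Finite G] {Q : Subgroup G}

/-- The centre of `Q` inside `G`. -/
abbrev zsub (Q : Subgroup G) : Subgroup G := (Subgroup.center ↥Q).map Q.subtype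

omit [Finite G] in
theorem zsub_le : zsub Q ≤ Q := Subgroup.map_subtype_le _

omit [Finite G] in
theorem mem_zsub {x : G} : x ∈ zsub Q ↔ x ∈ Q ∧ ∀ q ∈ Q, q * x = x * q := by
  constructor
  · rintro ⟨y, hy, rfl⟩
    exact ⟨y.2, fun q hq => congrArg Subtype.val (Subgroup.mem_center_iff.1 hy ⟨q, hq⟩)⟩
  · rintro ⟨hx, h⟩
    exact ⟨⟨x, hx⟩, Subgroup.mem_center_iff.2 fun q => Subtype.ext (h q q.2), rfl⟩

theorem card_zsub (hQ : IsExtraspecial 2 ↥Q) : Nat.card ↥(zsub Q) = 2 := by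
  rw [Subgroup.card_map_of_injective Q.subtype_injective]; exact hQ.2

/-- The generator of the centre. -/
theorem exists_gen (hQ : IsExtraspecial 2 ↥Q) :
    ∃ z ∈ zsub Q, z ≠ 1 ∧ (∀ x ∈ zsub Q, x = 1 ∨ x = z) ∧ z * z = 1 := by
  obtain ⟨z, hz1, hu⟩ := (Nat.card_eq_two_iff' (1 : zsub Q)).1 (card_zsub hQ)
  have key : ∀ x : zsub Q, x = 1 ∨ x = z := fun x => or_iff_not_imp_left.2 fun h => hu x h
  refine ⟨z, z.2, fun h => hz1 (Subtype.ext h), fun x hx => ?_, ?_⟩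
  · rcases key ⟨x, hx⟩ with h | h
    · exact Or.inl (congrArg Subtype.val h)
    · exact Or.inr (congrArg Subtype.val h)
  · rcases key (z * z) with h | h
    · exact congrArg Subtype.val h
    · exact absurd (mul_eq_left.1 h) hz1

theorem commutator_mem_zsub (hQ : IsExtraspecial 2 ↥Q) {x y : G} (hx : x ∈ Q) (hy : y ∈ Q) :
    ⁅x, y⁆ ∈ zsub Q :=
  ⟨_, (Fus.extraspecial_two_facts hQ).2 ⟨x, hx⟩ ⟨y, hy⟩, map_commutatorElement Q.subtype _ _⟩

theorem coprime_odd (hQ : IsExtraspecial 2 ↥Q) {K : Subgroup G} (hK : Odd (Nat.card K)) :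
    (Nat.card Q).Coprime (Nat.card K) := by
  haveI : Fact (Nat.Prime 2) := ⟨Nat.prime_two⟩
  obtain ⟨n, hn⟩ := IsPGroup.iff_card.1 hQ.1.1
  rw [hn]
  exact Nat.Coprime.pow_left _ (Nat.coprime_two_left.2 hK)

/-- An odd subgroup normalised by `Q` and centralised by the centre of `Q` is trivial. -/
theorem eq_bot_of_centralized (hL1 : IsExtraspecial 2 ↥Q)
    (hL2 : Subgroup.centralizer (Q : Set G) = zsub Q)
    (hL3 : Subgroup.centralizer ((zsub Q : Subgroup G) : Set G) ≤ Subgroup.normalizer (Q : Set G))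
    {K : Subgroup G} (hK : Odd (Nat.card K)) (hQK : Q ≤ Subgroup.normalizer (K : Set G))
    (hc : ∀ z ∈ zsub Q, ∀ k ∈ K, z * k = k * z) : K = ⊥ := by
  have hinf : Q ⊓ K = ⊥ := Subgroup.inf_eq_bot_of_coprime (coprime_odd hL1 hK)
  have hKQ : K ≤ Subgroup.centralizer (Q : Set G) := fun k hk => by
    refine Subgroup.mem_centralizer_iff.2 fun q hq => ?_
    have hkn : k ∈ Subgroup.normalizer (Q : Set G) :=
      hL3 (Subgroup.mem_centralizer_iff.2 fun z hz => hc z hz k hk)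
    have h1 : ⁅q, k⁆ ∈ Q := by
      rw [commutatorElement_def, show q * k * q⁻¹ * k⁻¹ = q * (k * q⁻¹ * k⁻¹) by group]
      exact Q.mul_mem hq ((Subgroup.mem_normalizer_iff.1 hkn _).1 (Q.inv_mem hq))
    have h2 : ⁅q, k⁆ ∈ K := by
      rw [commutatorElement_def]
      exact K.mul_mem ((Subgroup.mem_normalizer_iff.1 (hQK hq) _).1 hk) (K.inv_mem hk)
    have h3 : ⁅q, k⁆ ∈ Q ⊓ K := ⟨h1, h2⟩
    rw [hinf, Subgroup.mem_bot] at h3
    exact commutatorElement_eq_one_iff_mul_comm.1 h3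
  refine le_bot_iff.1 fun k hk => ?_
  have h3 : k ∈ Q ⊓ K := ⟨zsub_le (hL2 ▸ hKQ hk), hk⟩
  rwa [hinf] at h3

/-- If the centre lies in the 2-core, the subgroup is large. -/
theorem commute_of_pCore {z k : G} {H : Subgroup G} {K : Subgroup G} (hK : Odd (Nat.card K))
    (hz : z ∈ (pCore 2 ↥H).map H.subtype) (hk : k ∈ K) (hkH : k ∈ H)
    (hn : z ∈ Subgroup.normalizer (K : Set G)) : z * k = k * z := by
  haveI := Transfer.pCore_normal' 2 ↥H
  haveI : Fact (Nat.Prime 2) := ⟨Nat.prime_two⟩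
  have h2 : ⁅z, k⁆ ∈ K := by
    rw [commutatorElement_def]
    exact K.mul_mem ((Subgroup.mem_normalizer_iff.1 hn _).1 hk) (K.inv_mem hk)
  have h1 : ⁅z, k⁆ ∈ (pCore 2 ↥H).map H.subtype := by
    obtain ⟨w, hw, rfl⟩ := hz
    refine ⟨⁅w, ⟨k, hkH⟩⁆, ?_, map_commutatorElement H.subtype _ _⟩
    rw [commutatorElement_def, show w * ⟨k, hkH⟩ * w⁻¹ * (⟨k, hkH⟩ : H)⁻¹ = w * ((⟨k, hkH⟩ : H) * w⁻¹ * (⟨k, hkH⟩ : H)⁻¹) by group]
    exact mul_mem hw (Subgroup.Normal.conj_mem inferInstance _ (inv_mem hw) _)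
  have hp : IsPGroup 2 ↥((pCore 2 ↥H).map H.subtype) := (Transfer.pCore_isPGroup 2 ↥H).map _
  obtain ⟨n, hn'⟩ := IsPGroup.iff_card.1 hp
  have hinf : (pCore 2 ↥H).map H.subtype ⊓ K = ⊥ := Subgroup.inf_eq_bot_of_coprime (by
    rw [hn']; exact Nat.Coprime.pow_left _ (Nat.coprime_two_left.2 hK))
  have h3 : ⁅z, k⁆ ∈ (pCore 2 ↥H).map H.subtype ⊓ K := ⟨h1, h2⟩
  rw [hinf, Subgroup.mem_bot] at h3
  exact commutatorElement_eq_one_iff_mul_comm.1 h3

end Cfsg.Agent.Spor.LargeExtra
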