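import Mathlib
import Cfsg.Agent.Lib.Spor.LargeExtra

/-!
Pairs of conjugate extraspecial centres: if the conjugate of the centre lies in the extraspecial group, the
centre lies in the conjugate group.
-/

set_option autoImplicit false
set_option linter.style.haveILetI false

open scoped commutatorElement

namespace Cfsg.Agent.Spor.ExtraPair

variable {G : Type*} [Group G]

/-- The properties used of an extraspecial group `Q` with centre `⟨z⟩` in the centraliser of `z`. -/
structure Ext (z : G) (Q : Subgroup G) : Prop where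
  mem : z ∈ Q
  ne : z ≠ 1
  zz : z * z = 1
  central : ∀ q ∈ Q, q * z = z * q
  comm : ∀ x ∈ Q, ∀ y ∈ Q, ⁅x, y⁆ = 1 ∨ ⁅x, y⁆ = z
  sq : ∀ x ∈ Q, x * x = 1 ∨ x * x = z
  cen : ∀ x ∈ Q, (∀ q ∈ Q, q * x = x * q) → x = 1 ∨ x = z
  self : ∀ c, (∀ q ∈ Q, q * c = c * q) → c ∈ Q
  norm : ∀ c, c * z = z * c → ∀ q ∈ Q, c * q * c⁻¹ ∈ Q

namespace Ext

variable {z : G} {Q : Subgroup G}

/-- Conjugation inside `Q`. -/
theorem conj_cases (h : Ext z Q) {x y : G} (hx : x ∈ Q) (hy : y ∈ Q) :
    (y * x = x * y) ∨ (y * x ≠ x * y ∧ y * x * y⁻¹ = x * z) := by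
  by_cases hc : y * x = x * y
  · exact Or.inl hc
  refine Or.inr ⟨hc, ?_⟩
  rcases h.comm x hx y hy with e | e
  · exact absurd (commutatorElement_eq_one_iff_mul_comm.1 e).symm hc
  · have e' : ⁅y, x⁆ = z := by rw [← commutatorElement_inv, e, inv_eq_of_mul_eq_one_right h.zz]
    calc y * x * y⁻¹ = ⁅y, x⁆ * x := by rw [commutatorElement_def]; group
      _ = x * z := by rw [e', h.central x hx]

theorem conj_eq (h : Ext z Q) {x y : G} (hx : x ∈ Q) (hy : y ∈ Q) :
    y * x * y⁻¹ = x ∨ y * x * y⁻¹ = x * z := by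
  rcases h.conj_cases hx hy with e | ⟨-, e⟩
  · exact Or.inl (by rw [e, mul_inv_cancel_right])
  · exact Or.inr e

/-- The double centraliser property. -/
theorem double_centralizer (h : Ext z Q) : ∀ S : Finset G, (∀ s ∈ S, s ∈ Q) → ∀ x ∈ Q,
    (∀ y ∈ Q, (∀ s ∈ S, y * s = s * y) → y * x = x * y) → x ∈ Subgroup.closure (insert z (S : Set G)) := by
  classical
  intro S
  induction S using Finset.induction_on with
  | empty =>
    intro _ x hx hc
    rcases h.cen x hx fun q hq => hc q hq (by simp) with rfl | rfl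
    · exact one_mem _
    · exact Subgroup.subset_closure (by simp)
  | @insert w S hw ih =>
    intro hS x hx hc
    have hwQ : w ∈ Q := hS w (Finset.mem_insert_self _ _)
    have hS' : ∀ s ∈ S, s ∈ Q := fun s hs => hS s (Finset.mem_insert_of_mem hs)
    have hmono : Subgroup.closure (insert z (S : Set G)) ≤ Subgroup.closure (insert z (↑(insert w S) : Set G)) :=
      Subgroup.closure_mono (Set.insert_subset_insert (by simp))
    by_cases hall : ∀ y ∈ Q, (∀ s ∈ S, y * s = s * y) → y * x = x * y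
    · exact hmono (ih hS' x hx hall)
    simp only [not_forall] at hall
    obtain ⟨y₀, hy₀, hy₀S, hy₀x⟩ := hall
    have hy₀w : ¬ y₀ * w = w * y₀ := fun e => hy₀x (hc y₀ hy₀ (fun s hs => by
      rcases Finset.mem_insert.1 hs with rfl | hs
      · exact e
      · exact hy₀S s hs))
    have hxw : x * w ∈ Subgroup.closure (insert z (S : Set G)) := by
      refine ih hS' _ (mul_mem hx hwQ) fun y hy hyS => ?_
      rcases h.conj_cases hwQ hy with e | ⟨-, e⟩
      · have := hc y hy (fun s hs => by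
          rcases Finset.mem_insert.1 hs with rfl | hs
          · exact e
          · exact hyS s hs)
        rw [← mul_assoc, this, mul_assoc, e, mul_assoc]
      · have e₀ := ((h.conj_cases hwQ hy₀).resolve_left hy₀w).2
        have ex₀ := ((h.conj_cases hx hy₀).resolve_left hy₀x).2
        have hdiff : (y₀⁻¹ * y) * x = x * (y₀⁻¹ * y) := by
          refine hc _ (mul_mem (inv_mem hy₀) hy) fun s hs => ?_
          rcases Finset.mem_insert.1 hs with rfl | hs
          · calc y₀⁻¹ * y * s = y₀⁻¹ * (y * s * y⁻¹) * y := by group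
              _ = y₀⁻¹ * (y₀ * s * y₀⁻¹) * y := by rw [e, e₀]
              _ = _ := by group
          · calc y₀⁻¹ * y * s = y₀⁻¹ * (y * s) := by group
              _ = y₀⁻¹ * (s * y₀) * y₀⁻¹ * y := by rw [hyS s hs]; group
              _ = y₀⁻¹ * (y₀ * s) * y₀⁻¹ * y := by rw [hy₀S s hs]
              _ = _ := by group
        have ex : y * x * y⁻¹ = x * z := by
          calc y * x * y⁻¹ = y₀ * ((y₀⁻¹ * y) * x) * y⁻¹ := by group
            _ = y₀ * (x * (y₀⁻¹ * y)) * y⁻¹ := by rw [hdiff]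
            _ = y₀ * x * y₀⁻¹ := by group
            _ = x * z := ex₀
        calc y * (x * w) = (y * x * y⁻¹) * (y * w * y⁻¹) * y := by group
          _ = x * (z * w) * z * y := by rw [ex, e]; group
          _ = x * (w * z) * z * y := by rw [h.central w hwQ]
          _ = x * w * (z * z) * y := by group
          _ = x * w * y := by rw [h.zz, mul_one]
    have : x = (x * w) * w⁻¹ := by rw [mul_inv_cancel_right]
    rw [this]
    exact mul_mem (hmono hxw) (inv_mem (Subgroup.subset_closure (by simp)))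

/-- An element inducing an automorphism trivial modulo the centre lies in `Q`. -/
theorem mem_of_trivial [Finite G] (h : Ext z Q) {c : G} (hc : ∀ x ∈ Q, c * x * c⁻¹ = x ∨ c * x * c⁻¹ = x * z) :
    c ∈ Q := by
  classical
  by_cases hall : ∀ x ∈ Q, c * x * c⁻¹ = x
  · exact h.self c fun q hq => by
      have := hall q hq
      calc q * c = c * q * c⁻¹ * c := by rw [this]
        _ = c * q := by group
  simp only [not_forall] at hall
  obtain ⟨u, hu, hcu⟩ := hall
  have hcu' := (hc u hu).resolve_left hcu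
  have hcz : c * z * c⁻¹ = z := (hc z h.mem).resolve_right fun e => h.ne (by
    rw [h.zz] at e; exact conj_eq_one_iff.1 e)
  let H : Subgroup G :=
    { carrier := {x | x ∈ Q ∧ c * x * c⁻¹ = x}
      one_mem' := ⟨one_mem _, by group⟩
      mul_mem' := fun {a b} ha hb => ⟨mul_mem ha.1 hb.1, by rw [← conj_mul, ha.2, hb.2]⟩
      inv_mem' := fun {a} ha => ⟨inv_mem ha.1, by rw [← conj_inv, ha.2]⟩ }
  let S : Finset G := (Set.toFinite (H : Set G)).toFinset
  have hnot : ¬ u ∈ Subgroup.closure (insert z (S : Set G)) := fun hmem => by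
    have hle : Subgroup.closure (insert z (S : Set G)) ≤ H := by
      rw [Subgroup.closure_le, Set.insert_subset_iff]
      exact ⟨⟨h.mem, hcz⟩, fun s hs => by simpa [S] using hs⟩
    exact hcu (hle hmem).2
  obtain ⟨y, hy, hyS, hyu⟩ : ∃ y ∈ Q, (∀ s ∈ S, y * s = s * y) ∧ y * u ≠ u * y := by
    by_contra hcon
    simp only [not_exists, not_and, not_not] at hcon
    exact hnot (h.double_centralizer S (fun s hs => by
      have : s ∈ H := by simpa [S] using hs
      exact this.1) u hu hcon)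
  have hyu' := ((h.conj_cases hu hy).resolve_left hyu).2
  have hfix : ∀ x ∈ H, (y⁻¹ * c) * x * (y⁻¹ * c)⁻¹ = x := fun x hx => by
    have hys : y * x = x * y := hyS x (by simpa [S] using hx)
    calc y⁻¹ * c * x * (y⁻¹ * c)⁻¹ = y⁻¹ * (c * x * c⁻¹) * y := by group
      _ = y⁻¹ * (x * y) := by rw [hx.2, mul_assoc]
      _ = x := by rw [← hys, inv_mul_cancel_left]
  have hfu : (y⁻¹ * c) * u * (y⁻¹ * c)⁻¹ = u := by
    calc y⁻¹ * c * u * (y⁻¹ * c)⁻¹ = y⁻¹ * (c * u * c⁻¹) * y := by group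
      _ = y⁻¹ * (y * u * y⁻¹) * y := by rw [hcu', hyu']
      _ = u := by group
  have key : y⁻¹ * c ∈ Q := h.self _ fun q hq => by
    have hq' : (y⁻¹ * c) * q * (y⁻¹ * c)⁻¹ = q := by
      rcases hc q hq with e | e
      · exact hfix q ⟨hq, e⟩
      · have hqu : u⁻¹ * q ∈ H := ⟨mul_mem (inv_mem hu) hq, by
          rw [← conj_mul, ← conj_inv, hcu', e, mul_inv_rev, inv_eq_of_mul_eq_one_right h.zz]
          calc z * u⁻¹ * (q * z) = (u * z)⁻¹ * (q * z) := by
                rw [mul_inv_rev, inv_eq_of_mul_eq_one_right h.zz]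
            _ = u⁻¹ * (z * q) * z := by
                rw [h.central u hu, mul_inv_rev, inv_eq_of_mul_eq_one_right h.zz]; group
            _ = u⁻¹ * q * (z * z) := by rw [← h.central q hq]; group
            _ = u⁻¹ * q := by rw [h.zz, mul_one]⟩
        rw [show q = u * (u⁻¹ * q) by group, ← conj_mul, hfu, hfix _ hqu]
    calc q * (y⁻¹ * c) = y⁻¹ * c * q * (y⁻¹ * c)⁻¹ * (y⁻¹ * c) := by rw [hq']
      _ = _ := by group
  simpa using mul_mem hy key

/-- Conjugates. -/
theorem map_conj (h : Ext z Q) (g : G) : Ext (g * z * g⁻¹) (Q.map (MulAut.conj g).toMonoidHom) := by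
  have e : ∀ x, (MulAut.conj g).toMonoidHom x = g * x * g⁻¹ := fun x => rfl
  refine ⟨⟨z, h.mem, e z⟩, fun he => h.ne (conj_eq_one_iff.1 he), by rw [conj_mul, h.zz]; group, ?_, ?_, ?_,
    ?_, ?_, ?_⟩
  · rintro _ ⟨q, hq, rfl⟩; rw [e, conj_mul, conj_mul, h.central q hq]
  · rintro _ ⟨x, hx, rfl⟩ _ ⟨y, hy, rfl⟩
    rw [← map_commutatorElement, e]
    rcases h.comm x hx y hy with h' | h' <;> rw [h'] <;> simp
  · rintro _ ⟨x, hx, rfl⟩
    rw [← map_mul, e]
    rcases h.sq x hx with h' | h' <;> rw [h'] <;> simp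
  · rintro _ ⟨x, hx, rfl⟩ hc
    rcases h.cen x hx fun q hq => (MulAut.conj g).injective (by
      simpa [map_mul] using hc _ ⟨q, hq, rfl⟩) with rfl | rfl
    · exact Or.inl (by simp)
    · exact Or.inr (e _)
  · intro c hc
    refine ⟨g⁻¹ * c * g, h.self _ fun q hq => ?_, by rw [e]; group⟩
    have := hc _ ⟨q, hq, e q⟩
    calc q * (g⁻¹ * c * g) = g⁻¹ * ((g * q * g⁻¹) * c) * g := by group
      _ = g⁻¹ * (c * (g * q * g⁻¹)) * g := by rw [this]
      _ = _ := by group
  · rintro c hc _ ⟨q, hq, rfl⟩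
    refine ⟨(g⁻¹ * c * g) * q * (g⁻¹ * c * g)⁻¹, h.norm _ ?_ q hq, by rw [e, e]; group⟩
    calc g⁻¹ * c * g * z = g⁻¹ * (c * (g * z * g⁻¹)) * g := by group
      _ = g⁻¹ * ((g * z * g⁻¹) * c) * g := by rw [hc]
      _ = _ := by group

/-- What the commutation with `b ∈ Q` cuts out. -/
theorem centralized_by_hyperplane (h : Ext z Q) {b x : G} (hb : b ∈ Q) (hx : x ∈ Q)
    (hc : ∀ y ∈ Q, y * b = b * y → y * x = x * y) : x = 1 ∨ x = z ∨ x = b ∨ x = b * z := by
  by_cases hall : ∀ y ∈ Q, y * x = x * y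
  · rcases h.cen x hx hall with e | e
    exacts [Or.inl e, Or.inr (Or.inl e)]
  simp only [not_forall] at hall
  obtain ⟨y₀, hy₀, hy₀x⟩ := hall
  have hyb : ∀ y ∈ Q, y * (x * b⁻¹) = (x * b⁻¹) * y := fun y hy => by
    rcases h.conj_cases hb hy with e | ⟨-, e⟩
    · have := hc y hy e
      calc y * (x * b⁻¹) = x * (y * b⁻¹) := by rw [← mul_assoc, this, mul_assoc]
        _ = x * (b⁻¹ * y) := by rw [(Commute.inv_right e).eq]
        _ = _ := by group
    · have hb0 : y₀ * b ≠ b * y₀ := fun e0 => hy₀x (hc y₀ hy₀ e0)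
      have e0 := ((h.conj_cases hb hy₀).resolve_left hb0).2
      have ex0 := ((h.conj_cases hx hy₀).resolve_left hy₀x).2
      have hd := hc (y₀⁻¹ * y) (mul_mem (inv_mem hy₀) hy) (by
        calc y₀⁻¹ * y * b = y₀⁻¹ * (y * b * y⁻¹) * y := by group
          _ = y₀⁻¹ * (y₀ * b * y₀⁻¹) * y := by rw [e, e0]
          _ = _ := by group)
      have ex : y * x * y⁻¹ = x * z := by
        calc y * x * y⁻¹ = y₀ * ((y₀⁻¹ * y) * x) * y⁻¹ := by group
          _ = y₀ * (x * (y₀⁻¹ * y)) * y⁻¹ := by rw [hd]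
          _ = y₀ * x * y₀⁻¹ := by group
          _ = x * z := ex0
      calc y * (x * b⁻¹) = (y * x * y⁻¹) * (y * b * y⁻¹)⁻¹ * y := by group
        _ = x * z * (z⁻¹ * b⁻¹) * y := by rw [ex, e, mul_inv_rev]
        _ = _ := by group
  rcases h.cen _ (mul_mem hx (inv_mem hb)) hyb with e | e
  · exact Or.inr (Or.inr (Or.inl (mul_inv_eq_one.1 e)))
  · refine Or.inr (Or.inr (Or.inr ?_))
    rw [mul_inv_eq_iff_eq_mul.1 e, h.central b hb]

theorem card_le_centralizing [Finite G] (h : Ext z Q) {b : G} (hb : b ∈ Q) :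
    Nat.card Q ≤ 2 * Nat.card ↥(Q ⊓ Subgroup.centralizer ({b} : Set G)) := by
  classical
  by_cases hall : ∀ q ∈ Q, q * b = b * q
  · have : Q ⊓ Subgroup.centralizer ({b} : Set G) = Q :=
      inf_eq_left.2 fun q hq => Subgroup.mem_centralizer_singleton_iff.2 (hall q hq)
    rw [this]; omega
  simp only [not_forall] at hall
  obtain ⟨y₀, hy₀, hy₀b⟩ := hall
  set X := Q ⊓ Subgroup.centralizer ({b} : Set G)
  have hcov : (Q : Set G) ⊆ (X : Set G) ∪ (fun y => y₀ * y) '' (X : Set G) := by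
    intro y hy
    rcases h.conj_cases hb hy with e | ⟨-, e⟩
    · exact Or.inl ⟨hy, Subgroup.mem_centralizer_singleton_iff.2 e⟩
    · have e0 := ((h.conj_cases hb hy₀).resolve_left hy₀b).2
      refine Or.inr ⟨y₀⁻¹ * y, ⟨Q.mul_mem (Q.inv_mem hy₀) hy, Subgroup.mem_centralizer_singleton_iff.2 ?_⟩, by group⟩
      calc y₀⁻¹ * y * b = y₀⁻¹ * (y * b * y⁻¹) * y := by group
        _ = y₀⁻¹ * (y₀ * b * y₀⁻¹) * y := by rw [e, e0]
        _ = _ := by group
  have h1 := (Set.ncard_le_ncard hcov (Set.toFinite _)).trans (Set.ncard_union_le _ _)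
  rw [Set.ncard_image_of_injective _ (mul_right_injective y₀), ← Nat.card_coe_set_eq, ← Nat.card_coe_set_eq] at h1
  rw [two_mul]; exact h1

/-- The conjugate groups depend only on the conjugate of the centre. -/
theorem conj_congr (h : Ext z Q) {a c : G} (e : a * z * a⁻¹ = c * z * c⁻¹) {x : G} (hx : x ∈ Q) :
    c⁻¹ * (a * x * a⁻¹) * c ∈ Q := by
  have hc : (c⁻¹ * a) * z = z * (c⁻¹ * a) := by
    calc c⁻¹ * a * z = c⁻¹ * (a * z * a⁻¹) * a := by group
      _ = c⁻¹ * (c * z * c⁻¹) * a := by rw [e]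
      _ = _ := by group
  have := h.norm _ hc x hx
  rwa [show c⁻¹ * a * x * (c⁻¹ * a)⁻¹ = c⁻¹ * (a * x * a⁻¹) * c by group] at this

/-- The main symmetry: if a conjugate of `z` lies in `Q`, then `z` lies in the conjugate of `Q`. -/
theorem mem_pair [Finite G] (h : Ext z Q) {g : G} (hb : g * z * g⁻¹ ∈ Q)
    (hnon : ∃ x ∈ Q, x * (g * z * g⁻¹) = g * z * g⁻¹ * x ∧ ∃ y ∈ Q, y * (g * z * g⁻¹) = g * z * g⁻¹ * y ∧
      x * y ≠ y * x) :
    z ∈ Q.map (MulAut.conj g).toMonoidHom := by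
  classical
  have h' := h.map_conj g
  generalize hbdef : g * z * g⁻¹ = b at hb hnon h'
  set P := Q.map (MulAut.conj g).toMonoidHom with hP
  by_contra hzP
  have hzb : z * b = b * z := (h.central b hb).symm
  have hbne : b ≠ z := fun e => hzP (e ▸ h'.mem)
  have hbb : b⁻¹ = b := inv_eq_of_mul_eq_one_right h'.zz
  have hzi : z⁻¹ = z := inv_eq_of_mul_eq_one_right h.zz
  have hzn : ∀ x ∈ P, z * x * z⁻¹ ∈ P := h'.norm z hzb
  have hbP : ∀ p ∈ P, p * b = b * p := h'.central
  refine hzP (h'.mem_of_trivial ?_)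
  by_cases hm : ∃ m ∈ P, z * m * z⁻¹ = m * b
  · obtain ⟨m, hmP, hzm⟩ := hm
    have hmb := hbP m hmP
    have hmz : m * z * m⁻¹ = b * z := by
      calc m * z * m⁻¹ = b⁻¹ * (m * b) * z * m⁻¹ := by rw [hmb]; group
        _ = b⁻¹ * (z * m * z⁻¹) * z * m⁻¹ := by rw [hzm]
        _ = b⁻¹ * z := by group
        _ = b * z := by rw [hbb]
    obtain ⟨q, hq, hqb⟩ : ∃ q ∈ Q, q * b ≠ b * q := by
      by_contra hcon
      simp only [not_exists, not_and, not_not] at hcon
      rcases h.cen b hb hcon with e | e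
      · exact h'.ne e
      · exact hbne e
    have hqb' := ((h.conj_cases hb hq).resolve_left hqb).2
    have hsame : m * z * m⁻¹ = (q * g) * z * (q * g)⁻¹ := by
      rw [hmz, show q * g * z * (q * g)⁻¹ = q * (g * z * g⁻¹) * q⁻¹ by group, hbdef, hqb']
    let R := P ⊓ Subgroup.centralizer ({z} : Set G)
    let X := Q ⊓ Subgroup.centralizer ({b} : Set G)
    have hXR : ∀ x ∈ X, q⁻¹ * (m * x * m⁻¹) * q ∈ R := by
      rintro x ⟨hxQ, hxb⟩
      have hxb' : x * b = b * x := Subgroup.mem_centralizer_singleton_iff.1 hxb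
      refine ⟨⟨_, h.conj_congr hsame hxQ, ?_⟩, Subgroup.mem_centralizer_singleton_iff.2 ?_⟩
      · show g * ((q * g)⁻¹ * (m * x * m⁻¹) * (q * g)) * g⁻¹ = _
        group
      · have e1 : (m * x * m⁻¹) * (b * z) = (b * z) * (m * x * m⁻¹) := by
          rw [← hmz]
          calc m * x * m⁻¹ * (m * z * m⁻¹) = m * (x * z) * m⁻¹ := by group
            _ = m * (z * x) * m⁻¹ := by rw [h.central x hxQ]
            _ = _ := by group
        have e2 : (m * x * m⁻¹) * b = b * (m * x * m⁻¹) := by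
          have hb' : m⁻¹ * b = b * m⁻¹ := hbP _ (inv_mem hmP)
          calc m * x * m⁻¹ * b = m * (x * b) * m⁻¹ := by rw [mul_assoc (m * x), hb']; group
            _ = m * (b * x) * m⁻¹ := by rw [hxb']
            _ = (m * b) * x * m⁻¹ := by group
            _ = _ := by rw [hmb]; group
        have e3 : (m * x * m⁻¹) * z = z * (m * x * m⁻¹) := by
          calc m * x * m⁻¹ * z = b⁻¹ * (b * (m * x * m⁻¹)) * z := by group
            _ = b⁻¹ * ((m * x * m⁻¹) * (b * z)) := by rw [← e2]; group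
            _ = _ := by rw [e1]; group
        have hqz : q * z = z * q := h.central q hq
        calc q⁻¹ * (m * x * m⁻¹) * q * z = q⁻¹ * ((m * x * m⁻¹) * z) * q := by rw [mul_assoc, hqz]; group
          _ = q⁻¹ * (z * (m * x * m⁻¹)) * q := by rw [e3]
          _ = q⁻¹ * (z * q) * (q⁻¹ * (m * x * m⁻¹) * q) := by group
          _ = _ := by rw [← hqz]; group
    have h1 : Nat.card X ≤ Nat.card R := by
      refine Nat.card_le_card_of_injective (fun x : X => (⟨_, hXR x x.2⟩ : R)) fun x y e => Subtype.ext ?_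
      have := congrArg Subtype.val e
      simpa using this
    have h2 := h.card_le_centralizing hb
    have hcP : Nat.card P = Nat.card Q := Subgroup.card_map_of_injective (MulAut.conj g).injective
    have hmR : m ∉ R := fun hh => h'.ne (by
      have := Subgroup.mem_centralizer_singleton_iff.1 hh.2
      rw [← this, mul_inv_cancel_right] at hzm
      exact (mul_eq_left.1 hzm.symm))
    have hcov : (P : Set G) = (R : Set G) ∪ (fun y => m * y) '' (R : Set G) := by
      refine (Set.eq_of_subset_of_ncard_le (Set.union_subset (fun y hy => hy.1)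
        (by rintro _ ⟨y, hy, rfl⟩; exact mul_mem hmP hy.1)) ?_ (Set.toFinite _)).symm
      rw [Set.ncard_union_eq ?_ (Set.toFinite _) (Set.toFinite _),
        Set.ncard_image_of_injective _ (mul_right_injective m), ← Nat.card_coe_set_eq, ← Nat.card_coe_set_eq]
      · show Nat.card P ≤ Nat.card R + Nat.card R
        have h2' : Nat.card Q ≤ 2 * Nat.card X := h2
        omega
      · rw [Set.disjoint_right]
        rintro _ ⟨y, hy, rfl⟩ hy'
        exact hmR (by simpa using mul_mem hy' (inv_mem hy))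
    intro x hx
    have hx' : x ∈ (R : Set G) ∪ (fun y => m * y) '' (R : Set G) := hcov ▸ hx
    rcases hx' with hx' | ⟨y, hy, rfl⟩
    · left; rw [← Subgroup.mem_centralizer_singleton_iff.1 hx'.2, mul_inv_cancel_right]
    · right
      have hyz := Subgroup.mem_centralizer_singleton_iff.1 hy.2
      calc z * (m * y) * z⁻¹ = (z * m * z⁻¹) * (z * y) * z⁻¹ := by group
        _ = m * b * (y * z) * z⁻¹ := by rw [hzm, ← hyz]
        _ = m * (b * y) := by group
        _ = m * y * b := by rw [← hbP y hy.1, mul_assoc]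
  · simp only [not_exists, not_and] at hm
    -- the commutators with `z` are fixed by `z`
    have hw : ∀ x ∈ P, z * (z * x * z⁻¹ * x⁻¹) * z⁻¹ = z * x * z⁻¹ * x⁻¹ := by
      intro x hx
      have hwP : z * x * z⁻¹ * x⁻¹ ∈ P := mul_mem (hzn x hx) (inv_mem hx)
      have e : z * (z * x * z⁻¹ * x⁻¹) * z⁻¹ = (z * x * z⁻¹ * x⁻¹)⁻¹ := by
        calc z * (z * x * z⁻¹ * x⁻¹) * z⁻¹ = (z * z) * x * z⁻¹ * x⁻¹ * z⁻¹ := by group
          _ = x * z⁻¹ * x⁻¹ * z⁻¹ := by rw [h.zz, one_mul]
          _ = _ := by simp [mul_inv_rev, hzi, mul_assoc]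
      rcases h'.sq _ hwP with e2 | e2
      · rw [e, inv_eq_of_mul_eq_one_right e2]
      · exfalso
        refine hm _ hwP (e.trans (inv_eq_of_mul_eq_one_right ?_))
        rw [← mul_assoc, e2, h'.zz]
    -- `Q ∩ P` is at most the centre of `P`
    have hcap : ∀ t ∈ Q, t ∈ P → t = 1 ∨ t = b := by
      intro t htQ htP
      have := h.centralized_by_hyperplane hb htQ fun y hy hyb => by
        rcases h.conj_cases htQ hy with e | ⟨-, e⟩
        · exact e
        · have hin : y * t * y⁻¹ ∈ P := h'.norm y hyb t htP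
          rw [e] at hin
          exact absurd (by simpa using mul_mem (inv_mem htP) hin) hzP
      rcases this with rfl | rfl | rfl | rfl
      · exact Or.inl rfl
      · exact absurd htP hzP
      · exact Or.inr rfl
      · exact absurd (by simpa [← mul_assoc, h'.zz] using mul_mem h'.mem htP) hzP
    have hXR : ∀ x ∈ Q, x * b = b * x → ∀ r ∈ P, z * r * z⁻¹ = r → x * r * x⁻¹ = r ∨ x * r * x⁻¹ = r * b := by
      intro x hx hxb r hr hrz
      have hrz' : r * z = z * r := by conv_lhs => rw [← hrz, inv_mul_cancel_right]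
      rcases hcap (x * r * x⁻¹ * r⁻¹) (by
        rw [show x * r * x⁻¹ * r⁻¹ = x * (r * x⁻¹ * r⁻¹) by group]
        exact mul_mem hx (h.norm r hrz' _ (inv_mem hx)))
        (mul_mem (h'.norm x hxb r hr) (inv_mem hr)) with e | e
      · exact Or.inl (mul_inv_eq_one.1 e)
      · exact Or.inr ((mul_inv_eq_iff_eq_mul.1 e).trans (hbP r hr).symm)
    -- elements centralising all fixed points are fixed
    have hS : ∀ s ∈ P, (∀ r ∈ P, z * r * z⁻¹ = r → s * r = r * s) → z * s * z⁻¹ = s := by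
      intro s hs hsc
      have hwP : z * s * z⁻¹ * s⁻¹ ∈ P := mul_mem (hzn s hs) (inv_mem hs)
      suffices hcen : ∀ x ∈ P, x * (z * s * z⁻¹ * s⁻¹) = z * s * z⁻¹ * s⁻¹ * x by
        rcases h'.cen _ hwP hcen with e | e
        · exact mul_inv_eq_one.1 e
        · exact absurd ((mul_inv_eq_iff_eq_mul.1 e).trans (hbP s hs).symm) (hm s hs)
      intro x hx
      have hwx : z * x * z⁻¹ * x⁻¹ ∈ P := mul_mem (hzn x hx) (inv_mem hx)
      obtain ⟨e, he, hee⟩ : ∃ e, (e = 1 ∨ e = b) ∧ x * s * x⁻¹ = s * e := by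
        rcases h'.conj_eq hs hx with e | e
        · exact ⟨1, Or.inl rfl, by rw [mul_one, e]⟩
        · exact ⟨b, Or.inr rfl, e⟩
      have hzE : z * e = e * z := by
        rcases he with rfl | rfl
        · rw [one_mul, mul_one]
        · exact hzb
      have hwe : (z * x * z⁻¹ * x⁻¹) * (s * e) = (s * e) * (z * x * z⁻¹ * x⁻¹) := by
        have := hsc _ hwx (hw x hx)
        rcases he with rfl | rfl
        · rw [mul_one]; exact this.symm
        · rw [← mul_assoc, ← this, mul_assoc s (z * x * z⁻¹ * x⁻¹), hbP _ hwx, ← mul_assoc]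
      have key : x * (z * s * z⁻¹) * x⁻¹ = z * s * z⁻¹ * e := by
        calc x * (z * s * z⁻¹) * x⁻¹ = z * ((z⁻¹ * x * z * x⁻¹) * (x * s * x⁻¹) * (z⁻¹ * x * z * x⁻¹)⁻¹) * z⁻¹ := by
              group
          _ = z * ((z * x * z⁻¹ * x⁻¹) * (s * e) * (z * x * z⁻¹ * x⁻¹)⁻¹) * z⁻¹ := by rw [hee, hzi]
          _ = z * (s * e) * z⁻¹ := by rw [hwe, mul_inv_cancel_right]
          _ = z * s * (e * z⁻¹) := by group
          _ = _ := by rw [(Commute.inv_left (hzE : Commute z e)).eq.symm]; group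
      calc x * (z * s * z⁻¹ * s⁻¹) = (x * (z * s * z⁻¹) * x⁻¹) * (x * s * x⁻¹)⁻¹ * x := by group
        _ = (z * s * z⁻¹ * e) * (s * e)⁻¹ * x := by rw [key, hee]
        _ = _ := by group
    -- the group centralising `b` moves `P` into fixed points
    have hmove : ∀ x ∈ Q, x * b = b * x → ∀ p ∈ P, z * (x * p * x⁻¹ * p⁻¹) * z⁻¹ = x * p * x⁻¹ * p⁻¹ := by
      intro x hx hxb p hp
      refine hS _ (mul_mem (h'.norm x hxb p hp) (inv_mem hp)) fun r hr hrz => ?_
      have hpb := hbP p hp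
      have hcj : ∀ e, (e = 1 ∨ e = b) → x * e = e * x ∧ p * e = e * p := by
        rintro e (rfl | rfl)
        · exact ⟨by rw [one_mul, mul_one], by rw [one_mul, mul_one]⟩
        · exact ⟨hxb, hpb⟩
      obtain ⟨e, he, hee⟩ : ∃ e, (e = 1 ∨ e = b) ∧ x⁻¹ * r * x = r * e := by
        rcases hXR x⁻¹ (inv_mem hx) (Commute.inv_left hxb).eq r hr hrz with e | e
        · exact ⟨1, Or.inl rfl, by simpa using e⟩
        · exact ⟨b, Or.inr rfl, by simpa using e⟩
      obtain ⟨f, hf, hff⟩ : ∃ f, (f = 1 ∨ f = b) ∧ p⁻¹ * r * p = r * f := by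
        rcases h'.conj_eq hr (inv_mem hp) with e | e
        · exact ⟨1, Or.inl rfl, by simpa using e⟩
        · exact ⟨b, Or.inr rfl, by simpa using e⟩
      obtain ⟨hxe, hpe⟩ := hcj e he
      obtain ⟨hxf, hpf⟩ := hcj f hf
      have hef : e * f = f * e := by
        rcases he with rfl | rfl <;> rcases hf with rfl | rfl <;> simp
      have key : (x * p * x⁻¹ * p⁻¹)⁻¹ * r * (x * p * x⁻¹ * p⁻¹) = r := by
        calc (x * p * x⁻¹ * p⁻¹)⁻¹ * r * (x * p * x⁻¹ * p⁻¹)
            = p * (x * (p⁻¹ * (x⁻¹ * r * x) * p) * x⁻¹) * p⁻¹ := by group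
          _ = p * (x * ((p⁻¹ * r * p) * (p⁻¹ * (e * p))) * x⁻¹) * p⁻¹ := by rw [hee]; group
          _ = p * (x * (r * f * e) * x⁻¹) * p⁻¹ := by rw [hff, ← hpe, inv_mul_cancel_left]
          _ = p * (x * (r * e) * (f * x⁻¹)) * p⁻¹ := by rw [mul_assoc r f e, ← hef]; group
          _ = p * (x * (x⁻¹ * r * x) * (f * x⁻¹)) * p⁻¹ := by rw [hee]
          _ = p * (r * (x * f) * x⁻¹) * p⁻¹ := by group
          _ = p * (r * f) * p⁻¹ := by rw [hxf]; group
          _ = p * (p⁻¹ * r * p) * p⁻¹ := by rw [hff]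
          _ = r := by group
      calc x * p * x⁻¹ * p⁻¹ * r = x * p * x⁻¹ * p⁻¹ * ((x * p * x⁻¹ * p⁻¹)⁻¹ * r * (x * p * x⁻¹ * p⁻¹)) := by
            rw [key]
        _ = _ := by group
    obtain ⟨x, hx, hxb, y, hy, hyb, hxy⟩ := hnon
    have hz : z = x * y * (y * x)⁻¹ := by
      have := (h.comm x hx y hy).resolve_left fun e => hxy (commutatorElement_eq_one_iff_mul_comm.1 e)
      rw [← this, commutatorElement_def]; group
    -- equality modulo the centre of `P`
    let C : G → G → Prop := fun u v => u = v ∨ u = v * b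
    have Csymm : ∀ u v, C u v → C v u := by
      rintro u v (rfl | rfl)
      · exact Or.inl rfl
      · exact Or.inr (by rw [mul_assoc, h'.zz, mul_one])
    have Ctrans : ∀ u v w, C u v → C v w → C u w := by
      rintro u v w (rfl | rfl) (rfl | rfl)
      · exact Or.inl rfl
      · exact Or.inr rfl
      · exact Or.inr rfl
      · exact Or.inl (by rw [mul_assoc, h'.zz, mul_one])
    intro p hp
    obtain ⟨p₀, hp₀, rfl⟩ : ∃ p₀ ∈ P, p = (y * x) * p₀ * (y * x)⁻¹ := by
      refine ⟨x⁻¹ * (y⁻¹ * p * y) * x, ?_, by group⟩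
      have h1 := h'.norm y⁻¹ (Commute.inv_left hyb).eq p hp
      rw [inv_inv] at h1
      have h2 := h'.norm x⁻¹ (Commute.inv_left hxb).eq _ h1
      rwa [inv_inv] at h2
    set u := x * p₀ * x⁻¹ * p₀⁻¹ with hu
    set v := y * p₀ * y⁻¹ * p₀⁻¹ with hv
    have huP : u ∈ P := mul_mem (h'.norm x hxb p₀ hp₀) (inv_mem hp₀)
    have hvP : v ∈ P := mul_mem (h'.norm y hyb p₀ hp₀) (inv_mem hp₀)
    have hyu := hXR y hy hyb u huP (hmove x hx hxb p₀ hp₀)
    have hxv := hXR x hx hxb v hvP (hmove y hy hyb p₀ hp₀)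
    have e1 : C ((x * y) * p₀ * (x * y)⁻¹) (v * u * p₀) := by
      have e : (x * y) * p₀ * (x * y)⁻¹ = (x * v * x⁻¹) * u * p₀ := by rw [hu, hv]; group
      rcases hxv with h1 | h1
      · exact Or.inl (by rw [e, h1])
      · refine Or.inr ?_
        rw [e, h1, mul_assoc v b u, ← hbP u huP, ← mul_assoc, mul_assoc (v * u), ← hbP p₀ hp₀, ← mul_assoc]
    have e2 : C ((y * x) * p₀ * (y * x)⁻¹) (v * u * p₀) := by
      have e : (y * x) * p₀ * (y * x)⁻¹ = (y * u * y⁻¹) * v * p₀ := by rw [hu, hv]; group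
      have e3 : C (u * v * p₀) (v * u * p₀) := by
        rcases h'.conj_eq huP hvP with h1 | h1
        · left; rw [← mul_inv_eq_iff_eq_mul.1 h1]
        · refine Csymm _ _ (Or.inr ?_)
          rw [mul_inv_eq_iff_eq_mul.1 h1, mul_assoc u b v, ← hbP v hvP, ← mul_assoc, mul_assoc (u * v), ← hbP p₀ hp₀,
            ← mul_assoc]
      refine Ctrans _ _ _ ?_ e3
      rcases hyu with h1 | h1
      · exact Or.inl (by rw [e, h1])
      · refine Or.inr ?_
        rw [e, h1, mul_assoc u b v, ← hbP v hvP, ← mul_assoc, mul_assoc (u * v), ← hbP p₀ hp₀, ← mul_assoc]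
    have e4 : z * (y * x * p₀ * (y * x)⁻¹) * z⁻¹ = (x * y) * p₀ * (x * y)⁻¹ := by
      rw [hz]; group
    show C _ _
    rw [e4]
    exact Ctrans _ _ _ e1 (Csymm _ _ e2)

end Ext

end Cfsg.Agent.Spor.ExtraPair
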