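import Mathlib
import Cfsg.Agent.Lib.Spor.ExtraPair
import Cfsg.Agent.S0095

/-!
Extraspecial 2-cores of involution centralisers: the symmetry of the relation `x ∈ Q_y`.
-/

set_option autoImplicit false
set_option linter.style.haveILetI false

open scoped commutatorElement

namespace Cfsg.Agent.Spor.ExtraPair

variable {G : Type*} [Group G] [Finite G]

/-- The abstract hypotheses from the usual ones. -/
theorem Ext.of_extraspecial {Q : Subgroup G} {z : G} (hE : IsExtraspecial 2 ↥Q) (hz : z ∈ LargeExtra.zsub Q)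
    (hz1 : z ≠ 1) (hself : Subgroup.centralizer (Q : Set G) ≤ Q)
    (hnorm : ∀ c, c * z = z * c → c ∈ Subgroup.normalizer (Q : Set G)) : Ext z Q := by
  obtain ⟨z', -, -, hu, hzz⟩ := LargeExtra.exists_gen hE
  obtain rfl : z = z' := (hu z hz).resolve_left hz1
  obtain ⟨hzQ, hzc⟩ := LargeExtra.mem_zsub.1 hz
  refine ⟨hzQ, hz1, hzz, hzc, fun x hx y hy => hu _ (LargeExtra.commutator_mem_zsub hE hx hy),
    fun x hx => ?_, fun x hx h => hu x (LargeExtra.mem_zsub.2 ⟨hx, h⟩),
    fun c hc => hself (Subgroup.mem_centralizer_iff.2 hc),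
    fun c hc q hq => (Subgroup.mem_normalizer_iff.1 (hnorm c hc) q).1 hq⟩
  have h := (Fus.extraspecial_two_facts hE).1 ⟨x, hx⟩
  rcases hu (x * x) ⟨_, h, by rw [map_pow, pow_two]; rfl⟩ with e | e
  · exact Or.inl e
  · exact Or.inr e

theorem card_ge_eight {Q : Subgroup G} (hE : IsExtraspecial 2 ↥Q) : 8 ≤ Nat.card ↥Q := by
  haveI : Fact (Nat.Prime 2) := ⟨Nat.prime_two⟩
  obtain ⟨n, hn, hc⟩ := Cfsg.Agent.S0095.result hE
  rw [hc]
  calc 8 = 2 ^ 3 := by norm_num
    _ ≤ _ := Nat.pow_le_pow_right (by norm_num) (by omega)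

/-- The centraliser of a noncentral element is nonabelian as soon as `Q` is bigger than dihedral. -/
theorem Ext.exists_noncommuting {z b : G} {Q : Subgroup G} (h : Ext z Q) (hb : b ∈ Q) (h8 : 8 < Nat.card Q) :
    ∃ x ∈ Q, x * b = b * x ∧ ∃ y ∈ Q, y * b = b * y ∧ x * y ≠ y * x := by
  by_contra hcon
  simp only [not_exists, not_and, not_not] at hcon
  have hX : ((Q ⊓ Subgroup.centralizer ({b} : Set G) : Subgroup G) : Set G) ⊆ {1, z, b, b * z} := by
    rintro x ⟨hx, hxb⟩
    have hxb' := Subgroup.mem_centralizer_singleton_iff.1 hxb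
    rcases h.centralized_by_hyperplane hb hx fun y hy hyb => (hcon x hx hxb' y hy hyb).symm with e | e | e | e <;>
      simp [e]
  have h4 : Set.ncard ({1, z, b, b * z} : Set G) ≤ 4 := by
    refine (Set.ncard_insert_le _ _).trans ?_
    refine Nat.succ_le_succ ((Set.ncard_insert_le _ _).trans ?_)
    refine Nat.succ_le_succ ((Set.ncard_insert_le _ _).trans ?_)
    simp
  have h5 := (Set.ncard_le_ncard hX (Set.toFinite _)).trans h4
  rw [← Nat.card_coe_set_eq] at h5
  have h6 := h.card_le_centralizing hb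
  have h7 : Nat.card ↥(Q ⊓ Subgroup.centralizer ({b} : Set G)) ≤ 4 := h5
  omega

section Core

variable {Q : G → Subgroup G}
  (hQ : ∀ x : G, Q x = (Cfsg.pCore 2 ↥(Subgroup.centralizer ({x} : Set G))).map
    (Subgroup.centralizer ({x} : Set G)).subtype)
include hQ

omit [Finite G] in
theorem core_le (x : G) : Q x ≤ Subgroup.centralizer ({x} : Set G) := by
  rw [hQ]; exact Subgroup.map_subtype_le _

omit [Finite G] in
theorem core_conj_mem {x c q : G} (hc : c * x = x * c) (hq : q ∈ Q x) : c * q * c⁻¹ ∈ Q x := by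
  rw [hQ] at hq ⊢
  obtain ⟨w, hw, rfl⟩ := hq
  exact ⟨_, (Transfer.pCore_normal' 2 _).conj_mem w hw ⟨c, Subgroup.mem_centralizer_singleton_iff.2 hc⟩, rfl⟩

omit [Finite G] in
theorem le_core {x : G} {N : Subgroup G} (hN : N ≤ Subgroup.centralizer ({x} : Set G))
    (hn : ∀ c, c * x = x * c → ∀ q ∈ N, c * q * c⁻¹ ∈ N) (hp : IsPGroup 2 N) : N ≤ Q x := by
  rw [hQ]
  intro q hq
  haveI : (N.subgroupOf (Subgroup.centralizer ({x} : Set G))).Normal :=
    ⟨fun m hm c => hn c (Subgroup.mem_centralizer_singleton_iff.1 c.2) m hm⟩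
  exact ⟨⟨q, hN hq⟩, Transfer.le_pCore (N := N.subgroupOf (Subgroup.centralizer ({x} : Set G))) inferInstance
    (hp.comap_of_injective _ (Subgroup.subtype_injective _)) hq, rfl⟩

theorem mem_core_self {x : G} (hx : x * x = 1) : x ∈ Q x := by
  haveI : Fact (Nat.Prime 2) := ⟨Nat.prime_two⟩
  refine le_core hQ (N := Subgroup.zpowers x) ?_ (fun c hc q hq => ?_) ?_ (Subgroup.mem_zpowers x)
  · exact Subgroup.zpowers_le.2 (Subgroup.mem_centralizer_singleton_iff.2 rfl)
  · obtain ⟨k, rfl⟩ := Subgroup.mem_zpowers_iff.1 hq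
    rw [← conj_zpow, hc, mul_inv_cancel_right]
    exact ⟨k, rfl⟩
  · intro ⟨q, hq⟩
    obtain ⟨k, rfl⟩ := Subgroup.mem_zpowers_iff.1 hq
    refine ⟨1, Subtype.ext ?_⟩
    show (x ^ k) ^ (2 ^ 1) = 1
    rw [pow_one, pow_two, ← (Commute.refl x).mul_zpow, hx, one_zpow]

omit [Finite G] in
theorem core_conj (g x : G) : Q (g * x * g⁻¹) = (Q x).map (MulAut.conj g).toMonoidHom := by
  have key : ∀ g x : G, (Q x).map (MulAut.conj g).toMonoidHom ≤ Q (g * x * g⁻¹) := by
    intro g x
    refine le_core hQ ?_ ?_ ?_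
    · rintro _ ⟨q, hq, rfl⟩
      have := Subgroup.mem_centralizer_singleton_iff.1 (core_le hQ x hq)
      refine Subgroup.mem_centralizer_singleton_iff.2 ?_
      show g * q * g⁻¹ * (g * x * g⁻¹) = g * x * g⁻¹ * (g * q * g⁻¹)
      rw [conj_mul, conj_mul, this]
    · rintro c hc _ ⟨q, hq, rfl⟩
      refine ⟨(g⁻¹ * c * g) * q * (g⁻¹ * c * g)⁻¹, core_conj_mem hQ ?_ hq, ?_⟩
      · calc g⁻¹ * c * g * x = g⁻¹ * (c * (g * x * g⁻¹)) * g := by group
          _ = g⁻¹ * ((g * x * g⁻¹) * c) * g := by rw [hc]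
          _ = _ := by group
      · show g * (g⁻¹ * c * g * q * (g⁻¹ * c * g)⁻¹) * g⁻¹ = c * (g * q * g⁻¹) * c⁻¹
        group
    · exact IsPGroup.map (by rw [hQ]; exact (Transfer.pCore_isPGroup 2 _).map _) _
  refine le_antisymm ?_ (key g x)
  intro q hq
  refine ⟨g⁻¹ * q * g, ?_, show g * (g⁻¹ * q * g) * g⁻¹ = q by group⟩
  have := key g⁻¹ (g * x * g⁻¹) ⟨q, hq, rfl⟩
  rw [show g⁻¹ * (g * x * g⁻¹) * g⁻¹⁻¹ = x by group] at this
  simpa using this

theorem ext_core {z : G} (hz : orderOf z = 2) (hE : IsExtraspecial 2 ↥(Q z))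
    (hC : Subgroup.centralizer ((Q z : Subgroup G) : Set G) ≤ Q z) : Ext z (Q z) := by
  have hz2 : z * z = 1 := by rw [← pow_two, ← hz, pow_orderOf_eq_one]
  refine Ext.of_extraspecial hE (LargeExtra.mem_zsub.2 ⟨mem_core_self hQ hz2, fun q hq => ?_⟩)
    (fun e => by rw [e, orderOf_one] at hz; omega) hC fun c hc => ?_
  · exact Subgroup.mem_centralizer_singleton_iff.1 (core_le hQ z hq)
  · have hi : c⁻¹ * z = z * c⁻¹ := (Commute.inv_left hc).eq
    refine Subgroup.mem_normalizer_iff.2 fun q => ⟨core_conj_mem hQ hc, fun h => ?_⟩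
    have := core_conj_mem hQ hi h
    simpa [mul_assoc] using this

/-- If `Q z` is dihedral of order eight it is the whole centraliser. -/
theorem eq_centralizer_of_eight {z b : G} (hz : orderOf z = 2) (hE : IsExtraspecial 2 ↥(Q z))
    (hC : Subgroup.centralizer ((Q z : Subgroup G) : Set G) ≤ Q z) (h8 : Nat.card ↥(Q z) ≤ 8) (hb : b ∈ Q z)
    (hbb : b * b = 1) (hbz : b ≠ z) (hb1 : b ≠ 1) : Subgroup.centralizer ({z} : Set G) ≤ Q z := by
  classical
  haveI : Fact (Nat.Prime 2) := ⟨Nat.prime_two⟩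
  have h := ext_core hQ hz hE hC
  obtain ⟨q, hq, hqb⟩ : ∃ q ∈ Q z, q * b ≠ b * q := by
    by_contra hcon
    simp only [not_exists, not_and, not_not] at hcon
    rcases h.cen b hb hcon with e | e
    · exact hb1 e
    · exact hbz e
  set X := Q z ⊓ Subgroup.centralizer ({b} : Set G)
  have hbX : b ∈ X := ⟨hb, Subgroup.mem_centralizer_singleton_iff.2 rfl⟩
  -- an involution not commuting with `b`
  obtain ⟨d, hd, hdb, hdd⟩ : ∃ d ∈ Q z, d * b ≠ b * d ∧ d * d = 1 := by
    rcases h.sq q hq with e | e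
    · exact ⟨q, hq, hqb, e⟩
    refine ⟨q * b, mul_mem hq hb, fun hh => hqb (mul_right_cancel (b := b) ?_), ?_⟩
    · rw [hh, mul_assoc]
    · have hq' := ((h.conj_cases hb hq).resolve_left hqb).2
      calc q * b * (q * b) = (q * b * q⁻¹) * (q * q) * b := by group
        _ = b * z * z * b := by rw [hq', e]
        _ = 1 := by rw [mul_assoc b z z, h.zz, mul_one, hbb]
  have hgen : Subgroup.closure ({b, d} : Set G) = Q z := by
    refine le_antisymm ((Subgroup.closure_le _).2 ?_) fun x hx => ?_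
    · rintro x (rfl | rfl)
      exacts [hb, hd]
    have hz' : z = (d * b * d⁻¹) * b := by
      rw [((h.conj_cases hb hd).resolve_left hdb).2, h.central b hb, mul_assoc, hbb, mul_one]
    have hbcl : b ∈ Subgroup.closure ({b, d} : Set G) := Subgroup.subset_closure (by simp)
    have hdcl : d ∈ Subgroup.closure ({b, d} : Set G) := Subgroup.subset_closure (by simp)
    have hzcl : z ∈ Subgroup.closure ({b, d} : Set G) :=
      hz' ▸ mul_mem (mul_mem (mul_mem hdcl hbcl) (inv_mem hdcl)) hbcl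
    -- everything commuting with both generators is central
    have hcard : Nat.card ↥(Q z) ≤ Nat.card ↥(Subgroup.closure ({b, d} : Set G)) := by
      have hsub : ({1, z, b, b * z, d} : Set G) ⊆ (Subgroup.closure ({b, d} : Set G) : Set G) := by
        rintro y (rfl | rfl | rfl | rfl | rfl)
        exacts [one_mem _, hzcl, hbcl, mul_mem hbcl hzcl, hdcl]
      have h5 : 5 ≤ Set.ncard ({1, z, b, b * z, d} : Set G) := by
        have n1 : b * z ≠ 1 := fun e => hbz (by
          rw [← inv_eq_of_mul_eq_one_right h.zz]; exact eq_inv_of_mul_eq_one_left e)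
        have n2 : b * z ≠ z := fun e => hb1 (mul_eq_right.1 e)
        have n3 : b * z ≠ b := fun e => h.ne (mul_eq_left.1 e)
        have hd1 : d ≠ 1 := fun e => hdb (by rw [e, one_mul, mul_one])
        have hdz : d ≠ z := fun e => hdb (by rw [e, h.central b hb])
        have hdb' : d ≠ b := fun e => hdb (by rw [e])
        have hdbz : d ≠ b * z := fun e => hdb (by rw [e, mul_assoc, ← h.central b hb])
        rw [Set.ncard_insert_of_notMem (by simp [h.ne.symm, hb1.symm, n1.symm, hd1.symm]) (Set.toFinite _),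
          Set.ncard_insert_of_notMem (by simp [hbz.symm, n2.symm, hdz.symm]) (Set.toFinite _),
          Set.ncard_insert_of_notMem (by simp [n3.symm, hdb'.symm]) (Set.toFinite _),
          Set.ncard_insert_of_notMem (by simp [hdbz.symm]) (Set.toFinite _), Set.ncard_singleton]
      have h6 := h5.trans (Set.ncard_le_ncard hsub (Set.toFinite _))
      rw [← Nat.card_coe_set_eq] at h6
      have h7 : 5 ≤ Nat.card ↥(Subgroup.closure ({b, d} : Set G)) := h6
      have h8' := Subgroup.card_dvd_of_le ((Subgroup.closure_le _).2 (show ({b, d} : Set G) ⊆ Q z by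
        rintro y (rfl | rfl)
        exacts [hb, hd]))
      obtain ⟨k, hk⟩ := h8'
      rcases k with _ | _ | k
      · simp only [mul_zero] at hk; have := card_ge_eight hE; omega
      · rw [hk]; omega
      · exfalso; rw [hk] at h8; nlinarith
    rw [Subgroup.eq_of_le_of_card_ge ((Subgroup.closure_le _).2 (show ({b, d} : Set G) ⊆ Q z by
        rintro y (rfl | rfl)
        exacts [hb, hd])) hcard]
    exact hx
  -- the images of the pair `(b, d)`
  let P : Set (G × G) := {w | w.1 ∈ Q z ∧ w.2 ∈ Q z ∧ w.1 * w.1 = 1 ∧ w.2 * w.2 = 1 ∧ w.1 * w.2 ≠ w.2 * w.1}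
  let I : Set G := {u | u ∈ Q z ∧ u * u = 1 ∧ u ≠ 1 ∧ u ≠ z}
  have hI : I.ncard ≤ 4 := by
    have hsub : I ⊆ (Q z : Set G) \ {1, z, b * d, d * b} := by
      rintro u ⟨hu, huu, hu1, huz⟩
      refine ⟨hu, ?_⟩
      rintro (e | e | e | e)
      · exact hu1 e
      · exact huz e
      · rw [e] at huu
        exact hdb (by
          calc d * b = (b * d)⁻¹ := by rw [mul_inv_rev, inv_eq_of_mul_eq_one_right hbb, inv_eq_of_mul_eq_one_right hdd]
            _ = b * d := inv_eq_of_mul_eq_one_right huu)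
      · rw [Set.mem_singleton_iff] at e
        rw [e] at huu
        exact hdb (by
          calc d * b = (d * b)⁻¹ := (inv_eq_of_mul_eq_one_right huu).symm
            _ = b * d := by rw [mul_inv_rev, inv_eq_of_mul_eq_one_right hbb, inv_eq_of_mul_eq_one_right hdd])
    have h4 : ({1, z, b * d, d * b} : Set G).ncard = 4 := by
      have m1 : b * d ≠ 1 := fun e => hdb (by
        rw [← eq_inv_of_mul_eq_one_left e |>.trans (inv_eq_of_mul_eq_one_right hdd)])
      have m2 : d * b ≠ 1 := fun e => hdb (by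
        rw [← eq_inv_of_mul_eq_one_left e |>.trans (inv_eq_of_mul_eq_one_right hbb)])
      have m3 : b * d ≠ z := fun e => hdb (by
        have : d = b * z := by rw [← e, ← mul_assoc, hbb, one_mul]
        rw [this, mul_assoc, ← h.central b hb])
      have m4 : d * b ≠ z := fun e => hdb (by
        have : d = z * b := by rw [← e, mul_assoc, hbb, mul_one]
        rw [this, mul_assoc, hbb, mul_one, ← mul_assoc, h.central b hb, mul_assoc, hbb, mul_one])
      rw [Set.ncard_insert_of_notMem (by simp [h.ne.symm, m1.symm, m2.symm]) (Set.toFinite _),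
        Set.ncard_insert_of_notMem (by simp [m3.symm, m4.symm]) (Set.toFinite _),
        Set.ncard_pair (fun e => hdb e.symm)]
    have h' := Set.ncard_le_ncard hsub (Set.toFinite _)
    rw [Set.ncard_diff ?_ (Set.toFinite _), h4, ← Nat.card_coe_set_eq (Q z : Set G)] at h'
    · have h8' : Nat.card (↑(Q z : Set G)) ≤ 8 := h8
      omega
    · rintro y (rfl | rfl | rfl | rfl)
      exacts [one_mem _, h.mem, mul_mem hb hd, mul_mem hd hb]
  have hmemI : ∀ u v : G, u ∈ Q z → v ∈ Q z → u * u = 1 → u * v ≠ v * u → u ∈ I := fun u v hu hv huu hne =>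
    ⟨hu, huu, fun e => hne (by rw [e, one_mul, mul_one]), fun e => hne (by rw [e, h.central v hv])⟩
  have hP8 : P.ncard ≤ 8 := by
    have hsub : P ⊆ ⋃ u ∈ (Set.toFinite I).toFinset, (fun v => (u, v)) '' (I \ {u, u * z}) := by
      rintro ⟨u, v⟩ ⟨hu, hv, huu, hvv, hne⟩
      simp only [Set.mem_iUnion, Set.Finite.mem_toFinset]
      refine ⟨u, hmemI u v hu hv huu hne, v, ⟨hmemI v u hv hu hvv (Ne.symm hne), ?_⟩, rfl⟩
      rintro (rfl | rfl)
      · exact hne rfl
      · exact hne (by rw [mul_assoc, ← h.central u hu])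
    refine (Set.ncard_le_ncard hsub (Set.toFinite _)).trans ?_
    refine (Finset.set_ncard_biUnion_le _ _).trans ?_
    have hterm : ∀ u ∈ (Set.toFinite I).toFinset, ((fun v => (u, v)) '' (I \ {u, u * z})).ncard ≤ 2 := by
      intro u hu
      rw [Set.Finite.mem_toFinset] at hu
      obtain ⟨huQ, huu, hu1, huz⟩ := hu
      refine (Set.ncard_image_le (Set.toFinite _)).trans ?_
      have hz2 : u * z ∈ I := by
        refine ⟨mul_mem huQ h.mem, ?_, fun e => huz ?_, fun e => hu1 (mul_eq_right.1 e)⟩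
        · rw [mul_assoc, ← mul_assoc z u z, ← h.central u huQ, mul_assoc u z z, h.zz, mul_one, huu]
        · rw [← inv_eq_of_mul_eq_one_right h.zz]; exact eq_inv_of_mul_eq_one_left e
      rw [Set.ncard_diff (by rintro y (rfl | rfl); exacts [⟨huQ, huu, hu1, huz⟩, hz2]) (Set.toFinite _),
        Set.ncard_pair (fun e => h.ne (mul_eq_left.1 e.symm))]
      omega
    refine (Finset.sum_le_sum hterm).trans ?_
    rw [Finset.sum_const, smul_eq_mul, ← Set.ncard_eq_toFinset_card I (Set.toFinite _)]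
    omega
  set C := Subgroup.centralizer ({z} : Set G)
  let f : C → P := fun c => ⟨((c : G) * b * (c : G)⁻¹, (c : G) * d * (c : G)⁻¹), by
    have hcz : (c : G) * z = z * c := Subgroup.mem_centralizer_singleton_iff.1 c.2
    refine ⟨h.norm _ hcz _ hb, h.norm _ hcz _ hd, by rw [conj_mul, hbb]; group, by rw [conj_mul, hdd]; group, ?_⟩
    simp only [conj_mul]
    exact fun e => hdb (mul_left_cancel (mul_right_cancel e)).symm⟩
  have hfib : ∀ w : P, Nat.card {c : C // f c = w} ≤ 2 := by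
    intro w
    by_cases hne : Nonempty {c : C // f c = w}
    · obtain ⟨⟨c₀, hc₀⟩⟩ := hne
      let e : {c : C // f c = w} → ({1, z} : Set G) := fun c => ⟨(c₀ : G)⁻¹ * (c.1 : G), by
        have e1 := congrArg (fun t : P => (t : G × G)) (c.2.trans hc₀.symm)
        simp only [f, Prod.mk.injEq] at e1
        obtain ⟨eb, ed⟩ := e1
        have hq : ∀ q ∈ Q z, q * ((c₀ : G)⁻¹ * c.1) = ((c₀ : G)⁻¹ * c.1) * q := by
          intro q hq
          rw [← hgen] at hq
          refine Subgroup.closure_induction (p := fun t _ => t * ((c₀ : G)⁻¹ * c.1) = ((c₀ : G)⁻¹ * c.1) * t)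
            ?_ (by simp) (fun a a' _ _ h1 h2 => Commute.mul_left h1 h2) (fun a _ h1 => Commute.inv_left h1) hq
          rintro t (rfl | rfl)
          · calc t * ((c₀ : G)⁻¹ * c.1) = (c₀ : G)⁻¹ * ((c₀ : G) * t * (c₀ : G)⁻¹) * c.1 := by group
              _ = (c₀ : G)⁻¹ * ((c.1 : G) * t * (c.1 : G)⁻¹) * c.1 := by rw [eb]
              _ = _ := by group
          · calc t * ((c₀ : G)⁻¹ * c.1) = (c₀ : G)⁻¹ * ((c₀ : G) * t * (c₀ : G)⁻¹) * c.1 := by group
              _ = (c₀ : G)⁻¹ * ((c.1 : G) * t * (c.1 : G)⁻¹) * c.1 := by rw [ed]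
              _ = _ := by group
        exact h.cen _ (h.self _ hq) hq⟩
      refine (Nat.card_le_card_of_injective e fun x y hxy => ?_).trans ?_
      · exact Subtype.ext (Subtype.ext (mul_left_cancel (congrArg Subtype.val hxy)))
      · rw [Nat.card_coe_set_eq]
        exact (Set.ncard_insert_le _ _).trans (by simp)
    · haveI := not_nonempty_iff.1 hne
      simp
  have h16 : Nat.card C ≤ 16 := by
    haveI := Fintype.ofFinite P
    rw [Nat.card_congr (Equiv.sigmaFiberEquiv f).symm, Nat.card_sigma]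
    refine (Finset.sum_le_sum fun w _ => hfib w).trans ?_
    rw [Finset.sum_const, smul_eq_mul, Finset.card_univ, ← Nat.card_eq_fintype_card, Nat.card_coe_set_eq]
    omega
  have hle : Q z ≤ C := core_le hQ z
  have h8e : Nat.card ↥(Q z) = 8 := le_antisymm h8 (card_ge_eight hE)
  obtain ⟨k, hk⟩ := Subgroup.card_dvd_of_le hle
  have hpC : IsPGroup 2 C := by
    have hk' : k = 1 ∨ k = 2 := by
      have : 0 < Nat.card C := Nat.card_pos
      rw [h8e] at hk
      omega
    rcases hk' with rfl | rfl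
    · exact IsPGroup.of_card (n := 3) (by rw [hk, h8e]; norm_num)
    · exact IsPGroup.of_card (n := 4) (by rw [hk, h8e]; norm_num)
  exact le_core hQ le_rfl (fun c hc q hq => mul_mem (mul_mem (Subgroup.mem_centralizer_singleton_iff.2 hc) hq)
    (inv_mem (Subgroup.mem_centralizer_singleton_iff.2 hc))) hpC

/-- The symmetry. -/
theorem core_symm {z : G} (hz : orderOf z = 2) (hE : IsExtraspecial 2 ↥(Q z))
    (hC : Subgroup.centralizer ((Q z : Subgroup G) : Set G) ≤ Q z) (g : G) (hg : g * z * g⁻¹ ∈ Q z) :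
    z ∈ Q (g * z * g⁻¹) := by
  have h := ext_core hQ hz hE hC
  by_cases hbz : g * z * g⁻¹ = z
  · rw [hbz]; exact h.mem
  have hb1 : g * z * g⁻¹ ≠ 1 := fun e => h.ne (conj_eq_one_iff.1 e)
  rcases lt_or_ge 8 (Nat.card ↥(Q z)) with h8 | h8
  · rw [core_conj hQ]; exact h.mem_pair hg (h.exists_noncommuting hg h8)
  · have hle := eq_centralizer_of_eight hQ hz hE hC h8 hg (by rw [conj_mul, h.zz]; group) hbz hb1
    rw [core_conj hQ]
    refine ⟨g⁻¹ * z * g, hle (Subgroup.mem_centralizer_singleton_iff.2 ?_), show g * (g⁻¹ * z * g) * g⁻¹ = z by group⟩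
    have := h.central _ hg
    calc g⁻¹ * z * g * z = g⁻¹ * (z * (g * z * g⁻¹)) * g := by group
      _ = g⁻¹ * ((g * z * g⁻¹) * z) * g := by rw [this]
      _ = _ := by group

end Core

end Cfsg.Agent.Spor.ExtraPair
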