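import Cfsg.Agent.Lib.Spor.Steiner

/-! Intersection numbers of the Steiner systems S(5,8,24), S(4,7,23), S(3,6,22), S(5,6,12). -/

set_option autoImplicit false

namespace Cfsg.Agent.Spor.Steiner

open Finset

variable {α : Type*} [Fintype α] [DecidableEq α] {B : Set (Finset α)} {b : Finset α}

/-- The five low equations of an S(5,8,24). -/
theorem eqns824 (hα : Fintype.card α = 24) (hB : IsSteinerSystem 5 8 B) (A : Finset α) {n : ℕ}
    (hn : #A < n) :
    (∑ i ∈ range n, meetCount B A i * i.choose 0 = 759) ∧
    (∑ i ∈ range n, meetCount B A i * i.choose 1 = #A * 253) ∧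
    (∑ i ∈ range n, meetCount B A i * i.choose 2 = (#A).choose 2 * 77) ∧
    (∑ i ∈ range n, meetCount B A i * i.choose 3 = (#A).choose 3 * 21) ∧
    (∑ i ∈ range n, meetCount B A i * i.choose 4 = (#A).choose 4 * 5) ∧
    (∑ i ∈ range n, meetCount B A i * i.choose 5 = (#A).choose 5) := by
  refine ⟨?_, ?_, ?_, ?_, ?_, ?_⟩
  · simpa using sum_meetCount hB A hn (j := 0) (l := 759) (by omega) (by rw [hα]; decide) (by decide)
  · simpa using sum_meetCount hB A hn (j := 1) (l := 253) (by omega) (by rw [hα]; decide) (by decide)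
  · exact sum_meetCount hB A hn (by omega) (by rw [hα]; decide) (by decide)
  · exact sum_meetCount hB A hn (by omega) (by rw [hα]; decide) (by decide)
  · exact sum_meetCount hB A hn (by omega) (by rw [hα]; decide) (by decide)
  · simpa using sum_meetCount hB A hn (j := 5) (l := 1) (by omega) (by rw [hα]; decide) (by decide)

/-- Intersection numbers of a block of an S(5,8,24). -/
theorem table824 (hα : Fintype.card α = 24) (hB : IsSteinerSystem 5 8 B) (hb : b ∈ B) :
    meetCount B b 0 = 30 ∧ meetCount B b 1 = 0 ∧ meetCount B b 2 = 448 ∧ meetCount B b 3 = 0 ∧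
      meetCount B b 4 = 280 := by
  have hc : #b = 8 := card_eq hB hb
  have h8 := meetCount_self hB (by omega) hb
  have h5 := meetCount_high hB hb (i := 5) (by omega) (by omega)
  have h6 := meetCount_high hB hb (i := 6) (by omega) (by omega)
  have h7 := meetCount_high hB hb (i := 7) (by omega) (by omega)
  obtain ⟨e0, e1, e2, e3, e4, -⟩ := eqns824 hα hB b (n := 9) (by omega)
  simp [Finset.sum_range_succ, h5, h6, h7, h8, hc, Nat.choose] at e0 e1 e2 e3 e4
  omega

theorem card_inter824 (hα : Fintype.card α = 24) (hB : IsSteinerSystem 5 8 B) (hb : b ∈ B)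
    {c : Finset α} (hc : c ∈ B) (hne : b ≠ c) :
    #(b ∩ c) = 0 ∨ #(b ∩ c) = 2 ∨ #(b ∩ c) = 4 := by
  obtain ⟨-, h1, -, h3, -⟩ := table824 hα hB hb
  have hlt := card_inter_lt hB hb hc hne
  have e1 : #(b ∩ c) ≠ 1 := fun e => by
    have := meetCount_pos (B := B) hc (A := b) (i := 1) (by rw [inter_comm, e]); omega
  have e3 : #(b ∩ c) ≠ 3 := fun e => by
    have := meetCount_pos (B := B) hc (A := b) (i := 3) (by rw [inter_comm, e]); omega
  omega

/-- Intersection numbers of a block of an S(4,7,23). -/
theorem table723 (hα : Fintype.card α = 23) (hB : IsSteinerSystem 4 7 B) (hb : b ∈ B) :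
    meetCount B b 0 = 0 ∧ meetCount B b 1 = 112 ∧ meetCount B b 2 = 0 ∧
      meetCount B b 3 = 140 := by
  have hc : #b = 7 := card_eq hB hb
  have h8 := meetCount_self hB (by omega) hb
  have h4 := meetCount_high hB hb (i := 4) (by omega) (by omega)
  have h5 := meetCount_high hB hb (i := 5) (by omega) (by omega)
  have h6 := meetCount_high hB hb (i := 6) (by omega) (by omega)
  have e0 := sum_meetCount hB b (n := 8) (by omega) (j := 0) (l := 253) (by omega)
    (by rw [hα]; decide) (by decide)
  have e1 := sum_meetCount hB b (n := 8) (by omega) (j := 1) (l := 77) (by omega)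
    (by rw [hα]; decide) (by decide)
  have e2 := sum_meetCount hB b (n := 8) (by omega) (j := 2) (l := 21) (by omega)
    (by rw [hα]; decide) (by decide)
  have e3 := sum_meetCount hB b (n := 8) (by omega) (j := 3) (l := 5) (by omega)
    (by rw [hα]; decide) (by decide)
  simp [Finset.sum_range_succ, h4, h5, h6, h8, hc, Nat.choose] at e0 e1 e2 e3
  omega

/-- Intersection numbers of a block of an S(3,6,22). -/
theorem table622 (hα : Fintype.card α = 22) (hB : IsSteinerSystem 3 6 B) (hb : b ∈ B) :
    meetCount B b 0 = 16 ∧ meetCount B b 1 = 0 ∧ meetCount B b 2 = 60 := by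
  have hc : #b = 6 := card_eq hB hb
  have h8 := meetCount_self hB (by omega) hb
  have h3 := meetCount_high hB hb (i := 3) (by omega) (by omega)
  have h4 := meetCount_high hB hb (i := 4) (by omega) (by omega)
  have h5 := meetCount_high hB hb (i := 5) (by omega) (by omega)
  have e0 := sum_meetCount hB b (n := 7) (by omega) (j := 0) (l := 77) (by omega)
    (by rw [hα]; decide) (by decide)
  have e1 := sum_meetCount hB b (n := 7) (by omega) (j := 1) (l := 21) (by omega)
    (by rw [hα]; decide) (by decide)
  have e2 := sum_meetCount hB b (n := 7) (by omega) (j := 2) (l := 5) (by omega)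
    (by rw [hα]; decide) (by decide)
  simp [Finset.sum_range_succ, h3, h4, h5, h8, hc, Nat.choose] at e0 e1 e2
  omega

theorem card_inter622 (hα : Fintype.card α = 22) (hB : IsSteinerSystem 3 6 B) (hb : b ∈ B)
    {c : Finset α} (hc : c ∈ B) (hne : b ≠ c) : #(b ∩ c) = 0 ∨ #(b ∩ c) = 2 := by
  obtain ⟨-, h1, -⟩ := table622 hα hB hb
  have hlt := card_inter_lt hB hb hc hne
  have e1 : #(b ∩ c) ≠ 1 := fun e => by
    have := meetCount_pos (B := B) hc (A := b) (i := 1) (by rw [inter_comm, e]); omega
  omega

/-- Intersection numbers of a block of an S(5,6,12). -/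
theorem table612 (hα : Fintype.card α = 12) (hB : IsSteinerSystem 5 6 B) (hb : b ∈ B) :
    meetCount B b 0 = 1 ∧ meetCount B b 1 = 0 ∧ meetCount B b 2 = 45 ∧ meetCount B b 3 = 40 ∧
      meetCount B b 4 = 45 := by
  have hc : #b = 6 := card_eq hB hb
  have h8 := meetCount_self hB (by omega) hb
  have h5 := meetCount_high hB hb (i := 5) (by omega) (by omega)
  have e0 := sum_meetCount hB b (n := 7) (by omega) (j := 0) (l := 132) (by omega)
    (by rw [hα]; decide) (by decide)
  have e1 := sum_meetCount hB b (n := 7) (by omega) (j := 1) (l := 66) (by omega)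
    (by rw [hα]; decide) (by decide)
  have e2 := sum_meetCount hB b (n := 7) (by omega) (j := 2) (l := 30) (by omega)
    (by rw [hα]; decide) (by decide)
  have e3 := sum_meetCount hB b (n := 7) (by omega) (j := 3) (l := 12) (by omega)
    (by rw [hα]; decide) (by decide)
  have e4 := sum_meetCount hB b (n := 7) (by omega) (j := 4) (l := 4) (by omega)
    (by rw [hα]; decide) (by decide)
  simp [Finset.sum_range_succ, h5, h8, hc, Nat.choose] at e0 e1 e2 e3 e4
  omega

end Cfsg.Agent.Spor.Steiner
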