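import Cfsg.Agent.Lib.Spor.ThreeTransCriterion
import Cfsg.Agent.Lib.Classical.Transvection
import Cfsg.Agent.Lib.Classical.UnitRootGroups
import Cfsg.Agent.Lib.Lie.RepDegSUGen

/-! Unitary transvections over the field of four elements. -/

set_option autoImplicit false
set_option linter.style.haveILetI false
set_option linter.unusedSectionVars false

namespace Cfsg.Agent.Spor.UnitTwo

open Matrix Cfsg Cfsg.Agent.Classical Cfsg.Agent.Classical.PSUAut

variable {F : Type} [Field F] [Fintype F] {n : ℕ}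

theorem card_sq (h4 : Fintype.card F = 4) : Fintype.card F = 2 ^ 2 := h4

theorem add_self (h4 : Fintype.card F = 4) (a : F) : a + a = 0 := by
  have h : (2 : F) ^ 2 = 0 := by
    have := Nat.cast_card_eq_zero F
    rw [h4] at this
    exact_mod_cast this
  rw [← two_mul, (pow_eq_zero_iff two_ne_zero).1 h, zero_mul]

theorem neg_eq (h4 : Fintype.card F = 4) (a : F) : -a = a := neg_eq_of_add_eq_zero_left (add_self h4 a)

theorem norm_one (h4 : Fintype.card F = 4) {a : F} (ha : a ≠ 0) : a * qFrob (card_sq h4) a = 1 := by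
  have := FiniteField.pow_card_sub_one_eq_one a ha
  rw [h4] at this
  rw [qFrob_apply, ← this]
  ring

variable (h4 : Fintype.card F = 4)

local notation "hh" => hermForm n F 2
local notation "hF" => card_sq h4
local notation "T" v => eMat 2 v (0 : Fin n → F) (1 : F)

include h4

theorem eok {v : Fin n → F} (hv : hh v v = 0) : EOK (q := 2) v (0 : Fin n → F) (1 : F) :=
  ⟨hv, h_zero_left v, by rw [h_zero_left, one_pow, add_zero, add_self h4]⟩

theorem T_apply (v x : Fin n → F) : (T v) *ᵥ x = x + hh x v • v := by rw [tv_apply' hF, one_mul]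

theorem T_smul {a : F} (ha : a ≠ 0) (v : Fin n → F) : (T (a • v)) = T v := by
  rw [tv_smul hF, norm_one h4 ha, one_mul]

/-- The transvection of an isotropic vector. -/
noncomputable def tv {v : Fin n → F} (hv : hh v v = 0) : SU n F 2 := eSU hF (eok h4 hv)

theorem suVal_tv {v : Fin n → F} (hv : hh v v = 0) : suVal (tv h4 hv) = T v := rfl

theorem T_ne_one {v : Fin n → F} (hv : v ≠ 0) : (T v) ≠ 1 := fun e => by
  obtain ⟨x, hx⟩ := exists_h_eq hF hv 1
  have e' := congrArg (· *ᵥ x) e
  simp only [T_apply h4, Matrix.one_mulVec, add_eq_left, ← cj_h hF v x, hx, map_one, one_smul] at e'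
  exact hv e'

theorem rank_one_iff (g : SU n F 2) : (suVal g - 1).rank = 1 ↔
    ∃ v, v ≠ 0 ∧ ∃ hv : hh v v = 0, g = tv h4 hv := by
  constructor
  · intro h
    obtain ⟨v, φ, hv0, hφ, e⟩ := exists_vecMulVec_of_rank_eq_one h
    have e' : suVal g = 1 + Matrix.vecMulVec v φ := eq_add_of_sub_eq' e
    have hg : ∀ x, suVal g *ᵥ x = x + (φ ⬝ᵥ x) • v := fun x => by
      rw [e', Matrix.add_mulVec, Matrix.one_mulVec, Matrix.vecMulVec_mulVec, op_smul_eq_smul]
    have hφv : φ ⬝ᵥ v = 0 := by
      have hd : (suVal g).det = 1 := g.1.2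
      rw [e', Matrix.vecMulVec_eq Unit, Matrix.det_one_add_replicateCol_mul_replicateRow] at hd
      exact add_eq_left.1 hd
    have key : ∀ x y, (φ ⬝ᵥ x) * hh v y + qFrob hF (φ ⬝ᵥ y) * hh x v +
        (φ ⬝ᵥ x) * qFrob hF (φ ⬝ᵥ y) * hh v v = 0 := fun x y => by
      have h1 := su_form g x y
      rw [hg, hg] at h1
      simp only [h_add_left, h_smul_left, h_add_right hF, h_smul_right hF] at h1
      linear_combination h1
    obtain ⟨x0, hx0⟩ : ∃ x0, φ ⬝ᵥ x0 ≠ 0 := by
      obtain ⟨j, hj⟩ := Function.ne_iff.mp hφ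
      exact ⟨Pi.single j 1, by rw [dotProduct_single, mul_one]; exact hj⟩
    have hvv : hh v v = 0 := by
      have := key v x0
      rw [hφv, zero_mul, zero_add, zero_mul, zero_mul, add_zero] at this
      exact (mul_eq_zero.1 this).resolve_left (fun h0 => hx0 ((qFrob hF).injective (by rw [h0, map_zero])))
    obtain ⟨y, hy⟩ := exists_h_eq hF hv0 1
    obtain ⟨c, hc⟩ : ∃ c, c = qFrob hF (φ ⬝ᵥ y) := ⟨_, rfl⟩
    have hφ' : ∀ x, φ ⬝ᵥ x = c * hh x v := fun x => by
      have := key x y
      rw [hy, mul_one, hvv, mul_zero, add_zero, ← hc] at this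
      rw [eq_neg_of_add_eq_zero_left this, neg_eq h4]
    have hc0 : c ≠ 0 := fun h0 => hx0 (by rw [hφ', h0, zero_mul])
    have hc1 : c = 1 := by
      have h1 : φ ⬝ᵥ y = c := by rw [hφ', ← cj_h hF, hy, map_one, mul_one]
      have h2 : qFrob hF c = c := by conv_lhs => rw [← h1]; rw [← hc]
      have h3 := norm_one h4 hc0
      rw [h2] at h3
      have h4' : (c + 1) * (c + 1) = 0 := by linear_combination h3 + add_self h4 c + add_self h4 1
      rw [eq_neg_of_add_eq_zero_left (mul_self_eq_zero.1 h4'), neg_eq h4]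
    refine ⟨v, hv0, hvv, suVal_ext (Matrix.ext_iff_mulVec.2 fun x => ?_)⟩
    rw [hg, suVal_tv h4, T_apply h4, hφ', hc1, one_mul]
  · rintro ⟨v, hv0, hv, rfl⟩
    have e : suVal (tv h4 hv) - 1 = Matrix.vecMulVec v (fun i => (v i) ^ 2) := by
      refine Matrix.ext_iff_mulVec.2 fun x => ?_
      rw [Matrix.sub_mulVec, Matrix.one_mulVec, suVal_tv h4, T_apply h4, add_sub_cancel_left,
        Matrix.vecMulVec_mulVec, op_smul_eq_smul]
      congr 1
      simp [hermForm, dotProduct, mul_comm]
    refine le_antisymm (by rw [e]; exact Matrix.rank_vecMulVec_le _ _) ?_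
    by_contra h0
    have h0' : (suVal (tv h4 hv) - 1).rank = 0 := by omega
    rw [Matrix.rank, Submodule.finrank_eq_zero, LinearMap.range_eq_bot] at h0'
    refine T_ne_one h4 hv0 (Matrix.ext_iff_mulVec.2 fun x => ?_)
    have h1 := LinearMap.congr_fun h0' x
    simp only [Matrix.mulVecLin_apply, Matrix.sub_mulVec, suVal_tv h4, LinearMap.zero_apply] at h1
    exact sub_eq_zero.1 h1

theorem tv_mul_self {v : Fin n → F} (hv : hh v v = 0) : tv h4 hv * tv h4 hv = 1 :=
  suVal_ext (Matrix.ext_iff_mulVec.2 fun x => by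
    rw [suVal_mul, ← Matrix.mulVec_mulVec, suVal_tv h4, T_apply h4, T_apply h4, h_add_left, h_smul_left, hv,
      mul_zero, add_zero, add_assoc, ← add_smul, add_self h4, zero_smul, add_zero]
    exact (Matrix.one_mulVec x).symm)

theorem suVal_conj (g : SU n F 2) {v : Fin n → F} (hv : hh v v = 0) :
    g * tv h4 hv * g⁻¹ = tv h4 (v := suVal g *ᵥ v) (by rw [su_form]; exact hv) :=
  suVal_ext (by
    rw [suVal_mul, suVal_mul, suVal_tv h4, suVal_tv h4, eMat_conj hF, Matrix.mulVec_zero])

theorem isThreeTranspositionClass (hn : 4 ≤ n) :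
    IsThreeTranspositionClass {g : SU n F 2 | (suVal g - 1).rank = 1} := by
  classical
  rw [show {g : SU n F 2 | (suVal g - 1).rank = 1} =
    {g : SU n F 2 | ∃ v, v ≠ 0 ∧ ∃ hv : hh v v = 0, g = tv h4 hv} from Set.ext fun g => rank_one_iff h4 g]
  have hconj : ∀ (u v : Fin n → F) (hu : hh u u = 0) (hv : hh v v = 0),
      suVal (tv h4 hu * tv h4 hv * (tv h4 hu)⁻¹) = T (v + hh v u • u) := fun u v hu hv => by
    rw [suVal_conj h4 _ hv, suVal_tv h4, suVal_tv h4, T_apply h4]
  have hcomm : ∀ (u v : Fin n → F) (hu : hh u u = 0) (hv : hh v v = 0), v ≠ 0 →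
      (Commute (tv h4 hu) (tv h4 hv) ↔ hh v u = 0) := by
    intro u v hu hv hv0
    constructor
    · intro h
      by_contra hne
      have e := hconj u v hu hv
      rw [h.eq, mul_inv_cancel_right, suVal_tv h4] at e
      obtain ⟨a, ha, hva⟩ := exists_smul_of_tv_eq hF hv0 one_ne_zero e
      have := congrArg (hh · u) hva
      simp only [h_smul_left, h_add_left, hu, mul_zero, add_zero] at this
      have ha1 : a = 1 := (mul_eq_right₀ hne).1 this.symm
      rw [ha1, one_smul, left_eq_add, smul_eq_zero] at hva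
      rcases hva with h' | h'
      · exact hne h'
      · rw [h', h_zero_right hF] at hne
        exact hne rfl
    · intro h
      have e := hconj u v hu hv
      rw [h, zero_smul, add_zero] at e
      exact mul_inv_eq_iff_eq_mul.mp (suVal_ext e)
  refine ThreeTrans.isClass_of_chain ⟨?_, ?_⟩ ?_ ?_ ?_ ?_
  · rintro _ ⟨v, hv0, hv, rfl⟩
    exact orderOf_eq_prime (by rw [pow_two]; exact tv_mul_self h4 hv) fun e => T_ne_one h4 hv0 (by
      have := congrArg suVal e
      rwa [suVal_tv h4] at this)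
  · rintro _ ⟨u, hu0, hu, rfl⟩ _ ⟨v, hv0, hv, rfl⟩
    have iu := inv_eq_of_mul_eq_one_right (tv_mul_self h4 hu)
    have iv := inv_eq_of_mul_eq_one_right (tv_mul_self h4 hv)
    by_cases h : hh v u = 0
    · left
      rw [((hcomm u v hu hv hv0).mpr h).mul_pow, pow_two, pow_two, tv_mul_self, tv_mul_self, mul_one]
    · right
      have e : tv h4 hu * tv h4 hv * (tv h4 hu)⁻¹ = tv h4 hv * tv h4 hu * (tv h4 hv)⁻¹ := suVal_ext (by
        rw [hconj u v hu hv, hconj v u hv hu, ← T_smul h4 h (u + hh u v • v)]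
        congr 1
        rw [smul_add, smul_smul, ← cj_h hF v u, norm_one h4 h, one_smul, add_comm])
      rw [iu, iv] at e
      calc (tv h4 hu * tv h4 hv) ^ 3 = (tv h4 hu * tv h4 hv * tv h4 hu) * (tv h4 hv * tv h4 hu * tv h4 hv) := by
            simp only [pow_succ, pow_zero, one_mul, mul_assoc]
        _ = (tv h4 hv * tv h4 hu * tv h4 hv) * (tv h4 hv * tv h4 hu * tv h4 hv) := by rw [e]
        _ = tv h4 hv * (tv h4 hu * (tv h4 hv * tv h4 hv) * tv h4 hu) * tv h4 hv := by simp only [mul_assoc]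
        _ = 1 := by rw [tv_mul_self, mul_one, tv_mul_self, mul_one, tv_mul_self]
  · rintro g _ ⟨v, hv0, hv, rfl⟩
    exact ⟨suVal g *ᵥ v, fun h0 => hv0 (su_injective g h0), _, suVal_conj h4 g hv⟩
  · refine Lie.RepDegSU.eq_top_of_transvections hF (Subgroup.Normal.mk fun x hx g => ?_) ?_ (by omega) (by omega)
    · refine Subgroup.closure_induction (fun y hy => ?_) ?_ (fun a b _ _ ha hb => ?_) (fun a _ ha => ?_) hx
      · obtain ⟨v, hv0, hv, rfl⟩ := hy
        exact Subgroup.subset_closure ⟨suVal g *ᵥ v, fun h0 => hv0 (su_injective g h0), _, suVal_conj h4 g hv⟩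
      · simpa using one_mem _
      · rw [show g * (a * b) * g⁻¹ = g * a * g⁻¹ * (g * b * g⁻¹) by group]; exact mul_mem ha hb
      · rw [show g * a⁻¹ * g⁻¹ = (g * a * g⁻¹)⁻¹ by group]; exact inv_mem ha
    · intro v c H
      have hc : c + qFrob hF c = 0 := by
        have := H.cc
        rwa [h_zero_left, add_zero, cj_pow hF] at this
      by_cases h0 : c = 0
      · rw [show eSU hF H = 1 from suVal_ext (by subst h0; exact eMat_zero hF v)]; exact one_mem _
      by_cases hv0 : v = 0
      · rw [show eSU hF H = 1 from suVal_ext (Matrix.ext_iff_mulVec.2 fun x => by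
          rw [suVal_eSU, tv_apply' hF, hv0, smul_zero, add_zero]; exact (Matrix.one_mulVec x).symm)]
        exact one_mem _
      refine Subgroup.subset_closure ⟨v, hv0, H.ee, suVal_ext ?_⟩
      have hc1 : c = 1 := by
        have h3 := norm_one h4 h0
        rw [eq_neg_of_add_eq_zero_right hc, neg_eq h4] at h3
        have h4' : (c + 1) * (c + 1) = 0 := by linear_combination h3 + add_self h4 c + add_self h4 1
        rw [eq_neg_of_add_eq_zero_left (mul_self_eq_zero.1 h4'), neg_eq h4]
      subst hc1; rfl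
  · obtain ⟨v, hv0, hv⟩ : ∃ v : Fin n → F, v ≠ 0 ∧ hh v v = 0 := by
      let i : Fin n := ⟨0, by omega⟩
      let j : Fin n := ⟨1, by omega⟩
      have hij : i ≠ j := by simp [i, j, Fin.ext_iff]
      refine ⟨Pi.single i 1 + Pi.single j 1, fun h => one_ne_zero (α := F) ?_, ?_⟩
      · have := congrFun h i
        simpa [Pi.single_eq_of_ne hij] using this
      · rw [h_add_left, h_add_right hF, h_add_right hF, hermForm_single_right hF, hermForm_single_right hF,
          hermForm_single_right hF, hermForm_single_right hF]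
        simp [Pi.single_eq_of_ne hij, Pi.single_eq_of_ne hij.symm, add_self h4]
    exact ⟨_, v, hv0, hv, rfl⟩
  · rintro _ ⟨u, hu0, hu, rfl⟩ _ ⟨v, hv0, hv, rfl⟩ hab
    by_cases huv : tv h4 hu = tv h4 hv
    · exact Or.inl huv
    right
    have h0 := (hcomm u v hu hv hv0).mp hab
    obtain ⟨w, hw1, hw2⟩ : ∃ w, hh u w ≠ 0 ∧ hh v w ≠ 0 := by
      obtain ⟨a, ha⟩ := exists_h_eq hF hu0 1
      obtain ⟨b, hb⟩ := exists_h_eq hF hv0 1
      by_cases h1 : hh v a = 0
      · by_cases h2 : hh u b = 0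
        · exact ⟨a + b, by rw [h_add_right hF, ha, h2, add_zero]; exact one_ne_zero,
            by rw [h_add_right hF, h1, hb, zero_add]; exact one_ne_zero⟩
        · exact ⟨b, h2, by rw [hb]; exact one_ne_zero⟩
      · exact ⟨a, by rw [ha]; exact one_ne_zero, h1⟩
    obtain ⟨c, hc⟩ := PSUAut.exists_trace_eq hF (a := hh w w) (cj_h hF w w)
    obtain ⟨b, hb⟩ : ∃ b, b * hh u w = c := ⟨c / hh u w, div_mul_cancel₀ _ hw1⟩
    have hw' : hh (w + b • u) (w + b • u) = 0 := by
      rw [h_add_left, h_add_right hF, h_add_right hF, h_smul_left, h_smul_left, h_smul_right hF,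
        h_smul_right hF, hu, mul_zero, mul_zero, add_zero, ← cj_h hF u w, ← map_mul, hb]
      linear_combination hc + add_self h4 (hh w w)
    have k1 : hh u (w + b • u) = hh u w := by rw [h_add_right hF, h_smul_right hF, hu, mul_zero, add_zero]
    have k2 : hh v (w + b • u) = hh v w := by rw [h_add_right hF, h_smul_right hF, h0, mul_zero, add_zero]
    have hw0 : w + b • u ≠ 0 := fun h => hw1 (by rw [← k1, h, h_zero_right hF])
    refine ⟨tv h4 hw', ⟨_, hw0, hw', rfl⟩, fun h => hw1 ?_, fun h => hw2 ?_⟩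
    · rw [← k1, h_comm_zero hF ((hcomm u _ hu hw' hw0).mp h)]
    · rw [← k2, (hcomm _ v hw' hv hv0).mp h]

end Cfsg.Agent.Spor.UnitTwo
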