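import Mathlib
import Cfsg.Prelude.Def_CaseTheorems

/-!
Sectional 2-rank at most four for 2-groups in which a four-group has small centralizers:
reduction to a Sylow subgroup, and the case of an elementary abelian centralizer of order 16.
-/

set_option autoImplicit false

namespace Cfsg.Agent.Spor.SelfCentFour

universe u

/-- elementary abelian sections have order at most 16 -/
def SmallSections (S : Type u) [Group S] : Prop :=
  ∀ H K : Subgroup S, K ≤ H → (∀ a ∈ H, a * a ∈ K) →
    (∀ a ∈ H, ∀ b ∈ H, a * b * a⁻¹ * b⁻¹ ∈ K) → Nat.card H ≤ 16 * Nat.card K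

theorem sectional_of_sylow {G : Type u} [Group G] [Finite G] (S : Sylow 2 G)
    (h : SmallSections (S : Subgroup G)) : Cfsg.SectionalPRankLE 2 4 G := by
  intro H N _ A hA hA2
  haveI : Fact (Nat.Prime 2) := ⟨Nat.prime_two⟩
  set B := A.comap (QuotientGroup.mk' N) with hB
  let f : B →* A := (QuotientGroup.mk' N).subgroupComap A
  have hf : Function.Surjective f := fun a => by
    obtain ⟨x, hx⟩ := QuotientGroup.mk'_surjective N a
    exact ⟨⟨x, by show (QuotientGroup.mk' N) x ∈ A; rw [hx]; exact a.2⟩, Subtype.ext hx⟩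
  obtain ⟨P⟩ : Nonempty (Sylow 2 B) := inferInstance
  have hmap : (P : Subgroup B).map f = ⊤ := by
    rw [← Subgroup.index_eq_one]
    have h1 : ((P : Subgroup B).map f).index ∣ (P : Subgroup B).index := Subgroup.index_map_dvd _ hf
    have h2 : IsPGroup 2 A := fun a => ⟨1, Subtype.ext (by simpa using hA2 _ a.2)⟩
    obtain ⟨j, hj⟩ := IsPGroup.iff_card.1 h2
    obtain ⟨i, -, hi⟩ := (Nat.dvd_prime_pow Nat.prime_two).1
      (hj ▸ ((P : Subgroup B).map f).index_dvd_card)
    rcases Nat.eq_zero_or_pos i with hi0 | hi0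
    · rw [hi, hi0, pow_zero]
    · exfalso
      exact P.not_dvd_index ((dvd_pow_self 2 (by omega : i ≠ 0)).trans (hi ▸ h1))
  let ι : B →* G := H.subtype.comp B.subtype
  have hι : Function.Injective ι := H.subtype_injective.comp B.subtype_injective
  have hPp : IsPGroup 2 ((P : Subgroup B).map ι) := P.isPGroup'.map ι
  obtain ⟨Q, hQ⟩ := hPp.exists_le_sylow
  obtain ⟨g, hg⟩ := MulAction.exists_smul_eq G Q S
  let κ : G →* G := (MulAut.conj g).toMonoidHom
  have hκ : Function.Injective κ := (MulAut.conj g).injective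
  have hS : (Q : Subgroup G).map κ = (S : Subgroup G) := by rw [← hg]; rfl
  let θ : B →* G := κ.comp ι
  have hθ : Function.Injective θ := hκ.comp hι
  have hle : (P : Subgroup B).map θ ≤ (S : Subgroup G) := by
    rw [← Subgroup.map_map, ← hS]
    exact Subgroup.map_mono hQ
  let P' : Subgroup (S : Subgroup G) := ((P : Subgroup B).map θ).subgroupOf S
  let K' : Subgroup (S : Subgroup G) := (((P : Subgroup B) ⊓ f.ker).map θ).subgroupOf S
  have c1 : Nat.card P' = Nat.card (P : Subgroup B) := by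
    rw [Nat.card_congr (Subgroup.subgroupOfEquivOfLe hle).toEquiv,
      Subgroup.card_map_of_injective hθ]
  have c2 : Nat.card K' = Nat.card ((P : Subgroup B) ⊓ f.ker : Subgroup B) := by
    rw [Nat.card_congr (Subgroup.subgroupOfEquivOfLe
      ((Subgroup.map_mono inf_le_left).trans hle)).toEquiv, Subgroup.card_map_of_injective hθ]
  have key := h P' K' (fun x hx => by
      obtain ⟨b, hb, e⟩ := hx
      exact ⟨b, hb.1, e⟩) ?_ ?_
  · rw [c1, c2] at key
    have h3 : Nat.card A * Nat.card ((P : Subgroup B) ⊓ f.ker : Subgroup B) =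
        Nat.card (P : Subgroup B) := by
      let f' : (P : Subgroup B) →* A := f.comp (P : Subgroup B).subtype
      have hr : f'.range = ⊤ := by rw [MonoidHom.range_comp, Subgroup.range_subtype, hmap]
      have e1 := Subgroup.card_mul_index f'.ker
      rw [Subgroup.index_ker, hr, Subgroup.card_top] at e1
      have e2 : Nat.card f'.ker = Nat.card ((P : Subgroup B) ⊓ f.ker : Subgroup B) := by
        rw [← Subgroup.card_map_of_injective (P : Subgroup B).subtype_injective]
        congr 2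
        ext b
        constructor
        · rintro ⟨c, hc, rfl⟩
          exact ⟨c.2, hc⟩
        · rintro ⟨hb, hb'⟩
          exact ⟨⟨b, hb⟩, hb', rfl⟩
      rw [← e2, mul_comm]
      exact e1
    have h4 : 0 < Nat.card ((P : Subgroup B) ⊓ f.ker : Subgroup B) := Nat.card_pos
    have : Nat.card A * Nat.card ((P : Subgroup B) ⊓ f.ker : Subgroup B) ≤
        16 * Nat.card ((P : Subgroup B) ⊓ f.ker : Subgroup B) := h3 ▸ key
    exact (Nat.le_of_mul_le_mul_right this h4).trans (by norm_num)
  · rintro a ⟨b, hb, e⟩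
    refine ⟨b * b, ⟨(P : Subgroup B).mul_mem hb hb, MonoidHom.mem_ker.2 ?_⟩, by rw [map_mul, e]; rfl⟩
    rw [map_mul]
    exact Subtype.ext (by rw [Subgroup.coe_mul, ← pow_two]; exact hA2 _ (f b).2)
  · rintro a ⟨b, hb, e⟩ a' ⟨b', hb', e'⟩
    refine ⟨b * b' * b⁻¹ * b'⁻¹, ⟨(P : Subgroup B).mul_mem ((P : Subgroup B).mul_mem
      ((P : Subgroup B).mul_mem hb hb') ((P : Subgroup B).inv_mem hb)) ((P : Subgroup B).inv_mem hb'),
      MonoidHom.mem_ker.2 ?_⟩, by simp only [map_mul, map_inv, e, e']⟩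
    simp only [map_mul, map_inv]
    rw [hA.is_comm.comm (f b), mul_inv_cancel_right, mul_inv_cancel]

variable {S : Type u} [Group S] [Finite S]

theorem card_pow_two (h2 : IsPGroup 2 S) (H : Subgroup S) : ∃ n, Nat.card H = 2 ^ n :=
  haveI : Fact (Nat.Prime 2) := ⟨Nat.prime_two⟩
  IsPGroup.iff_card.1 (h2.to_subgroup H)

theorem two_mul_le_of_lt (h2 : IsPGroup 2 S) {H K : Subgroup S} (h : Nat.card H < Nat.card K) :
    2 * Nat.card H ≤ Nat.card K := by
  obtain ⟨a, ha⟩ := card_pow_two h2 H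
  obtain ⟨b, hb⟩ := card_pow_two h2 K
  rw [ha, hb] at h ⊢
  rw [← pow_succ']
  exact Nat.pow_le_pow_right (by norm_num) ((Nat.pow_lt_pow_iff_right (by norm_num)).1 h)

/-- the product formula as an inequality -/
theorem card_mul_le (A B U : Subgroup S) (hA : A ≤ U) (hB : B ≤ U) :
    Nat.card A * Nat.card B ≤ Nat.card (A ⊓ B : Subgroup S) * Nat.card U := by
  have e1 := Subgroup.card_mul_index ((A ⊓ B).subgroupOf A)
  rw [Nat.card_congr (Subgroup.subgroupOfEquivOfLe inf_le_left).toEquiv, ← Subgroup.relIndex] at e1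
  have e2 := Subgroup.card_mul_index (B.subgroupOf U)
  rw [Nat.card_congr (Subgroup.subgroupOfEquivOfLe hB).toEquiv, ← Subgroup.relIndex] at e2
  rw [Subgroup.inf_relIndex_left] at e1
  have e3 : B.relIndex A ≤ B.relIndex U := by
    refine Subgroup.relIndex_le_of_le_right hA ?_
    exact (Nat.pos_of_ne_zero Subgroup.index_ne_zero_of_finite).ne'
  rw [← e1, ← e2]
  calc Nat.card (A ⊓ B : Subgroup S) * B.relIndex A * Nat.card B
      ≤ Nat.card (A ⊓ B : Subgroup S) * B.relIndex U * Nat.card B := by gcongr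
    _ = _ := by ring

/-- the data -/
structure Data (E B : Subgroup S) : Prop where
  p2 : IsPGroup 2 S
  comm : ∀ x ∈ E, ∀ y ∈ E, x * y = y * x
  sq : ∀ x ∈ E, x * x = 1
  card : Nat.card E = 16
  le : B ≤ E
  cardB : Nat.card B = 4
  cent : ∀ b ∈ B, b ≠ 1 → Subgroup.centralizer ({b} : Set S) = E

variable {E B : Subgroup S}

theorem Data.meets (h : Data E B) {F : Subgroup S} (hF : F ≤ E) (h8 : 8 ≤ Nat.card F) :
    ∃ b ∈ B, b ≠ 1 ∧ b ∈ F := by
  have h1 := card_mul_le F B E hF h.le
  rw [h.cardB, h.card] at h1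
  have h2 : 1 < Nat.card (F ⊓ B : Subgroup S) := by omega
  obtain ⟨b, hb⟩ := Subgroup.ne_bot_iff_exists_ne_one.1
    (fun e : F ⊓ B = ⊥ => by rw [e, Subgroup.card_bot] at h2; omega)
  exact ⟨b, b.2.2, fun e => hb (Subtype.ext e), b.2.1⟩

theorem Data.mem_of_commutes (h : Data E B) {F : Subgroup S} (hF : F ≤ E) (h8 : 8 ≤ Nat.card F)
    {d : S} (hd : ∀ x ∈ F, d * x = x * d) : d ∈ E := by
  obtain ⟨b, hb, hb1, hbF⟩ := h.meets hF h8
  rw [← h.cent b hb hb1, Subgroup.mem_centralizer_singleton_iff]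
  exact hd b hbF

theorem Data.fix_card (h : Data E B) {d : S} (hd : d ∉ E) :
    Nat.card (E ⊓ Subgroup.centralizer ({d} : Set S) : Subgroup S) ≤ 4 := by
  by_contra hgt
  obtain ⟨n, hn⟩ := card_pow_two h.p2 (E ⊓ Subgroup.centralizer ({d} : Set S))
  refine hd (h.mem_of_commutes inf_le_left ?_ fun x hx =>
    (Subgroup.mem_centralizer_singleton_iff.1 hx.2).symm)
  rw [hn] at hgt ⊢
  have : 2 < n := (Nat.pow_lt_pow_iff_right (le_refl 2)).1 (by norm_num; omega)
  calc (8 : ℕ) = 2 ^ 3 := by norm_num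
    _ ≤ 2 ^ n := Nat.pow_le_pow_right (by norm_num) this

/-- at least four commutators -/
theorem Data.comm_card (h : Data E B) {d : S} (hdN : d ∈ Subgroup.normalizer (E : Set S))
    (hd : d ∉ E) {K : Subgroup S} (hK : ∀ e ∈ E, d * e * d⁻¹ * e⁻¹ ∈ K) :
    4 ≤ Nat.card (E ⊓ K : Subgroup S) := by
  have hc : ∀ e ∈ E, d * e * d⁻¹ ∈ E := fun e he => (Subgroup.mem_normalizer_iff.1 hdN e).1 he
  let f : E →* S :=
    { toFun := fun e => d * e * d⁻¹ * (e : S)⁻¹
      map_one' := by simp
      map_mul' := fun a b => by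
        have := h.comm (d * b * d⁻¹) (hc b b.2) (a : S)⁻¹ (E.inv_mem a.2)
        have e2 := h.comm (a : S)⁻¹ (E.inv_mem a.2) (b : S)⁻¹ (E.inv_mem b.2)
        show d * (a * b : S) * d⁻¹ * (a * b : S)⁻¹ = _
        calc d * (a * b : S) * d⁻¹ * (a * b : S)⁻¹
            = d * a * d⁻¹ * (d * b * d⁻¹) * ((b : S)⁻¹ * (a : S)⁻¹) := by group
          _ = d * a * d⁻¹ * (d * b * d⁻¹) * ((a : S)⁻¹ * (b : S)⁻¹) := by rw [← e2]
          _ = d * a * d⁻¹ * ((d * b * d⁻¹) * (a : S)⁻¹) * (b : S)⁻¹ := by group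
          _ = d * a * d⁻¹ * ((a : S)⁻¹ * (d * b * d⁻¹)) * (b : S)⁻¹ := by rw [this]
          _ = _ := by group }
  have hker : Nat.card f.ker ≤ 4 := by
    refine le_trans ?_ (h.fix_card hd)
    refine Nat.card_le_card_of_injective
      (fun k => ⟨((k : E) : S), (k : E).2, Subgroup.mem_centralizer_singleton_iff.2 ?_⟩)
      (fun a b e => Subtype.ext (Subtype.ext (congrArg Subtype.val e :)))
    have := MonoidHom.mem_ker.1 k.2
    change d * _ * d⁻¹ * _⁻¹ = 1 at this
    rw [mul_inv_eq_one, mul_inv_eq_iff_eq_mul] at this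
    exact this.symm
  have hle : f.range ≤ E ⊓ K := by
    rintro _ ⟨e, rfl⟩
    exact ⟨E.mul_mem (hc e e.2) (E.inv_mem e.2), hK e e.2⟩
  have e1 := Subgroup.card_mul_index f.ker
  rw [Subgroup.index_ker, h.card] at e1
  have e2 := Subgroup.card_le_of_le hle
  have : Nat.card f.ker * Nat.card f.range ≤ 4 * Nat.card f.range := Nat.mul_le_mul_right _ hker
  omega

/-- the automizer has order at most 4 -/
theorem Data.normalizer_card (h : Data E B) :
    Nat.card (Subgroup.normalizer (E : Set S)) ≤ 64 := by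
  set N := Subgroup.normalizer (E : Set S)
  have hEN : E ≤ N := Subgroup.le_normalizer
  haveI := (h.p2.to_subgroup N).isNilpotent
  have hstrict : ∀ W : Subgroup N, W.Normal → W ≠ ⊥ → ⁅W, (⊤ : Subgroup N)⁆ < W := by
    intro W hW hne
    refine lt_of_le_of_ne (Subgroup.commutator_le_left W ⊤) fun e => hne ?_
    have hall : ∀ n, W ≤ Subgroup.lowerCentralSeries (⊤ : Subgroup N) n := by
      intro n
      induction n with
      | zero => simp
      | succ n ih =>
        rw [Subgroup.lowerCentralSeries_succ]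
        exact le_trans (le_of_eq e.symm) (Subgroup.commutator_mono ih le_rfl)
    obtain ⟨n, hn⟩ := (Subgroup.isNilpotent_iff_lowerCentralSeries (⊤ : Subgroup N)).1 inferInstance
    exact le_bot_iff.1 (le_trans (hall n) (le_of_eq hn))
  set E0 := E.subgroupOf N with hE0
  have hEn : E0.Normal := Subgroup.normal_in_normalizer
  have hcE : Nat.card E0 = 16 := by
    rw [Nat.card_congr (Subgroup.subgroupOfEquivOfLe hEN).toEquiv, h.card]
  -- orbit of an element of `B` inside a coset
  have horb : ∀ W : Subgroup N, W ≤ E0 → ∀ b ∈ B, b ≠ 1 → ∀ hb : b ∈ N, (⟨b, hb⟩ : N) ∈ W →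
      Nat.card (N ⧸ E0) ≤ Nat.card ↥(⁅W, (⊤ : Subgroup N)⁆ : Subgroup N) := by
    intro W _ b hb hb1 hbN hbW
    set b0 : N := ⟨b, hbN⟩
    refine Nat.card_le_card_of_injective
      (fun q => (⟨b0 * q.out * b0⁻¹ * q.out⁻¹,
        Subgroup.commutator_mem_commutator hbW trivial⟩ : ↥(⁅W, (⊤ : Subgroup N)⁆ : Subgroup N))) fun q q' e => ?_
    have e1 : q.out * b0⁻¹ * q.out⁻¹ = q'.out * b0⁻¹ * q'.out⁻¹ := by
      have := congrArg Subtype.val e
      simp only [mul_assoc] at this ⊢
      exact mul_left_cancel this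
    rw [← QuotientGroup.out_eq' q, ← QuotientGroup.out_eq' q', QuotientGroup.eq]
    show ((q.out⁻¹ * q'.out : N) : S) ∈ E
    rw [← h.cent b hb hb1, Subgroup.mem_centralizer_singleton_iff]
    have e2 : Commute (q.out⁻¹ * q'.out) b0⁻¹ := by
      show q.out⁻¹ * q'.out * b0⁻¹ = b0⁻¹ * (q.out⁻¹ * q'.out)
      calc q.out⁻¹ * q'.out * b0⁻¹
          = q.out⁻¹ * (q'.out * b0⁻¹ * q'.out⁻¹) * q'.out := by group
        _ = q.out⁻¹ * (q.out * b0⁻¹ * q.out⁻¹) * q'.out := by rw [e1]
        _ = _ := by group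
    exact congrArg Subtype.val (Commute.inv_right_iff.1 e2)
  have hq : Nat.card (N ⧸ E0) ≤ 4 := by
    have hH := hstrict E0 hEn fun e => by rw [e, Subgroup.card_bot] at hcE; omega
    set H := ⁅E0, (⊤ : Subgroup N)⁆ with hHdef
    have hH8 : Nat.card H ≤ 8 := by
      obtain ⟨n, hn⟩ := IsPGroup.iff_card.1 ((h.p2.to_subgroup N).to_subgroup H)
      have h1 : Nat.card H < 16 := hcE ▸ Set.Finite.card_lt_card (Set.toFinite _) hH
      rw [hn] at h1 ⊢
      have : n < 4 := (Nat.pow_lt_pow_iff_right (le_refl 2)).1 (by norm_num; omega)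
      calc 2 ^ n ≤ 2 ^ 3 := Nat.pow_le_pow_right (by norm_num) (by omega)
        _ = 8 := by norm_num
    by_cases hH4 : Nat.card H ≤ 4
    · obtain ⟨b, hb, hb1, hbE⟩ := h.meets (le_refl E) (by rw [h.card]; norm_num)
      exact (horb E0 le_rfl b hb hb1 (hEN hbE) hbE).trans hH4
    · have hm : 8 ≤ Nat.card (H.map N.subtype) := by
        rw [Subgroup.card_map_of_injective N.subtype_injective]
        obtain ⟨n, hn⟩ := IsPGroup.iff_card.1 ((h.p2.to_subgroup N).to_subgroup H)
        rw [hn] at hH4 ⊢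
        have : 2 < n := (Nat.pow_lt_pow_iff_right (le_refl 2)).1 (by norm_num; omega)
        calc (8 : ℕ) = 2 ^ 3 := by norm_num
          _ ≤ 2 ^ n := Nat.pow_le_pow_right (by norm_num) this
      have hle : H.map N.subtype ≤ E := by
        rintro _ ⟨x, hx, rfl⟩
        exact hH.le hx
      obtain ⟨b, hb, hb1, ⟨x, hx, rfl⟩⟩ := h.meets hle hm
      haveI : H.Normal := Subgroup.commutator_normal E0 ⊤
      have hW := hstrict H inferInstance fun e => by rw [e, Subgroup.card_bot] at hH4; omega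
      have h2 := horb H hH.le _ hb hb1 x.2 hx
      have h3 : Nat.card ↥(⁅H, (⊤ : Subgroup N)⁆ : Subgroup N) < Nat.card H :=
        Set.Finite.card_lt_card (Set.toFinite _) hW
      obtain ⟨n, hn⟩ := IsPGroup.iff_card.1 ((h.p2.to_subgroup N).to_subgroup (⁅H, (⊤ : Subgroup N)⁆ : Subgroup N))
      have : n < 3 := (Nat.pow_lt_pow_iff_right (le_refl 2)).1 (by norm_num; omega)
      calc Nat.card (N ⧸ E0) ≤ 2 ^ n := hn ▸ h2
        _ ≤ 2 ^ 2 := Nat.pow_le_pow_right (by norm_num) (by omega)
        _ = 4 := by norm_num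
  rw [Subgroup.card_eq_card_quotient_mul_card_subgroup E0, hcE]
  omega

theorem mem_conj {A : Subgroup S} {g x : S} :
    x ∈ A.map (MulAut.conj g).toMonoidHom ↔ g⁻¹ * x * g ∈ A := by
  constructor
  · rintro ⟨a, ha, rfl⟩
    simpa [mul_assoc] using ha
  · intro h
    exact ⟨_, h, by simp [mul_assoc]⟩

theorem mem_normalizer_of_map_eq {A : Subgroup S} {g : S}
    (h : A.map (MulAut.conj g).toMonoidHom = A) : g ∈ Subgroup.normalizer (A : Set S) := by
  rw [Subgroup.mem_normalizer_iff]
  intro x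
  constructor
  · intro hx
    rw [← h]
    exact ⟨x, hx, by simp⟩
  · intro hx
    rw [← h, mem_conj] at hx
    simpa [mul_assoc] using hx

theorem Data.conj (h : Data E B) (g : S) :
    Data (E.map (MulAut.conj g).toMonoidHom) (B.map (MulAut.conj g).toMonoidHom) where
  p2 := h.p2
  comm := by
    rintro _ ⟨x, hx, rfl⟩ _ ⟨y, hy, rfl⟩
    rw [← map_mul, ← map_mul, h.comm x hx y hy]
  sq := by
    rintro _ ⟨x, hx, rfl⟩
    rw [← map_mul, h.sq x hx, map_one]
  card := by rw [Subgroup.card_map_of_injective (MulAut.conj g).injective, h.card]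
  le := Subgroup.map_mono h.le
  cardB := by rw [Subgroup.card_map_of_injective (MulAut.conj g).injective, h.cardB]
  cent := by
    rintro _ ⟨b, hb, rfl⟩ hb1
    ext x
    rw [mem_conj, Subgroup.mem_centralizer_singleton_iff,
      ← h.cent b hb (fun e => hb1 (by simp [e])), Subgroup.mem_centralizer_singleton_iff]
    simp only [MulEquiv.coe_toMonoidHom, MulAut.conj_apply]
    constructor
    · intro e
      calc g⁻¹ * x * g * b = g⁻¹ * (x * (g * b * g⁻¹)) * g := by group
        _ = g⁻¹ * ((g * b * g⁻¹) * x) * g := by rw [e]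
        _ = _ := by group
    · intro e
      calc x * (g * b * g⁻¹) = g * (g⁻¹ * x * g * b) * g⁻¹ := by group
        _ = g * (b * (g⁻¹ * x * g)) * g⁻¹ := by rw [e]
        _ = _ := by group

theorem card_lt_of_lt {A C : Subgroup S} (h : A < C) : Nat.card A < Nat.card C :=
  Set.Finite.card_lt_card (Set.toFinite _) (SetLike.coe_ssubset_coe.2 h)

theorem three_le_card (K : Subgroup S) {a b : S} (ha : a ∈ K) (hb : b ∈ K) (ha1 : a ≠ 1)
    (hb1 : b ≠ 1) (hab : a ≠ b) : 3 ≤ Nat.card K := by
  classical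
  have : Fintype K := Fintype.ofFinite _
  have h3 : ({(⟨a, ha⟩ : K), ⟨b, hb⟩, 1} : Finset K).card = 3 :=
    Finset.card_eq_three.2 ⟨_, _, _, fun e => hab (Subtype.ext_iff.1 e),
      fun e => ha1 (Subtype.ext_iff.1 e), fun e => hb1 (Subtype.ext_iff.1 e), rfl⟩
  rw [Nat.card_eq_fintype_card, ← h3]
  exact Finset.card_le_univ _

/-- the two-group with a centralizer `E` of order 16 -/
theorem Data.smallSections (h : Data E B) : SmallSections S := by
  intro H K hKH hsq hcom
  by_contra hlt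
  have h32 : 32 * Nat.card K ≤ Nat.card H := by
    obtain ⟨a, ha⟩ := card_pow_two h.p2 K
    obtain ⟨b, hb⟩ := card_pow_two h.p2 H
    rw [ha, hb] at hlt ⊢
    rw [show 16 * 2 ^ a = 2 ^ (a + 4) by ring] at hlt
    rw [show 32 * 2 ^ a = 2 ^ (a + 5) by ring]
    exact Nat.pow_le_pow_right (by norm_num)
      ((Nat.pow_lt_pow_iff_right (le_refl 2)).1 (not_le.1 hlt))
  have hKpos : 0 < Nat.card K := Nat.card_pos
  have hcomm' : Nat.card K = 1 → ∀ a ∈ H, ∀ b ∈ H, a * b = b * a := by
    intro h1 a ha b hb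
    have := hcom a ha b hb
    rw [Subgroup.eq_bot_of_card_eq K h1, Subgroup.mem_bot, mul_inv_eq_one,
      mul_inv_eq_iff_eq_mul] at this
    exact this
  have hbig : ∀ E' B' : Subgroup S, Data E' B' → Nat.card K = 1 →
      8 ≤ Nat.card (H ⊓ E' : Subgroup S) → False := by
    intro E' B' h' h1 h8
    have : H ≤ E' := fun d hd =>
      h'.mem_of_commutes inf_le_right h8 fun x hx => hcomm' h1 d hd x hx.1
    have := Subgroup.card_le_of_le this
    rw [h'.card] at this
    omega
  set N := Subgroup.normalizer (E : Set S) with hN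
  have hEN : E ≤ N := Subgroup.le_normalizer
  have hN64 : Nat.card N ≤ 64 := h.normalizer_card
  by_cases hNtop : N = ⊤
  · have hS : Nat.card S ≤ 64 := by rwa [hNtop, Subgroup.card_top] at hN64
    have hHS := Subgroup.card_le_card_group H
    by_cases h1 : Nat.card K = 1
    · refine hbig E B h h1 ?_
      have := card_mul_le H E ⊤ le_top le_top
      rw [h.card, Subgroup.card_top] at this
      have := Nat.mul_le_mul_left (Nat.card (H ⊓ E : Subgroup S)) hS
      omega
    · obtain ⟨d, hdH, hd⟩ : ∃ d ∈ H, d ∉ E := by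
        by_contra! hle
        have := Subgroup.card_le_of_le (show H ≤ E from hle)
        rw [h.card] at this
        omega
      have hH : H = ⊤ := Subgroup.eq_top_of_card_eq H (by omega)
      have := h.comm_card (hNtop ▸ trivial : d ∈ N) hd (K := K)
        fun e _ => hcom d hdH e (hH ▸ trivial)
      have := Subgroup.card_le_of_le (inf_le_right : E ⊓ K ≤ K)
      omega
  · haveI := h.p2.isNilpotent
    have hlt' := normalizerCondition_of_isNilpotent (G := S) N (lt_top_iff_ne_top.2 hNtop)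
    obtain ⟨g, hg, hgN⟩ := SetLike.exists_of_lt hlt'
    set E' := E.map (MulAut.conj g).toMonoidHom with hE'
    set B' := B.map (MulAut.conj g).toMonoidHom
    have h' : Data E' B' := h.conj g
    have hE'N : E' ≤ N := by
      rintro _ ⟨e, he, rfl⟩
      exact (Subgroup.mem_normalizer_iff.1 hg e).1 (hEN he)
    have hne : E' ≠ E := fun e => hgN (mem_normalizer_of_map_eq e)
    have hI : Nat.card (E ⊓ E' : Subgroup S) ≤ 4 := by
      by_contra hgt
      obtain ⟨n, hn⟩ := card_pow_two h.p2 (E ⊓ E')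
      have h8 : 8 ≤ Nat.card (E ⊓ E' : Subgroup S) := by
        rw [hn] at hgt ⊢
        have : 2 < n := (Nat.pow_lt_pow_iff_right (le_refl 2)).1 (by norm_num; omega)
        calc (8 : ℕ) = 2 ^ 3 := by norm_num
          _ ≤ 2 ^ n := Nat.pow_le_pow_right (by norm_num) this
      refine hne (Subgroup.eq_of_le_of_card_ge (fun d hd => ?_) (by rw [h.card, h'.card]))
      exact h.mem_of_commutes inf_le_left h8 fun x hx => h'.comm d hd x hx.2
    have hmul := card_mul_le E E' N hEN hE'N
    rw [h.card, h'.card] at hmul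
    have hI4 : Nat.card (E ⊓ E' : Subgroup S) = 4 := by nlinarith
    have hN' : Nat.card N = 64 := by
      rw [hI4] at hmul
      omega
    -- decomposition
    have hdec : ∀ u ∈ N, ∃ e' ∈ E', u * e'⁻¹ ∈ E := by
      intro u hu
      haveI : (E.subgroupOf N).Normal := Subgroup.normal_in_normalizer
      let φ : E' →* N ⧸ E.subgroupOf N :=
        (QuotientGroup.mk' _).comp (Subgroup.inclusion hE'N)
      have hk : Nat.card φ.ker ≤ 4 := by
        refine le_trans (Nat.card_le_card_of_injective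
          (fun k => (⟨((k : E') : S), ?_, (k : E').2⟩ : (E ⊓ E' : Subgroup S))) ?_) hI
        · have := MonoidHom.mem_ker.1 k.2
          exact Subgroup.mem_subgroupOf.1
            ((QuotientGroup.eq_one_iff (N := E.subgroupOf N) (Subgroup.inclusion hE'N (k : E'))).1 this)
        · intro a b e
          exact Subtype.ext (Subtype.ext (congrArg Subtype.val e :))
      have hq : Nat.card (N ⧸ E.subgroupOf N) = 4 := by
        have := Subgroup.card_eq_card_quotient_mul_card_subgroup (E.subgroupOf N)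
        rw [Nat.card_congr (Subgroup.subgroupOfEquivOfLe hEN).toEquiv, h.card, hN'] at this
        omega
      have e1 := Subgroup.card_mul_index φ.ker
      rw [Subgroup.index_ker, h'.card] at e1
      have e2 : Nat.card φ.range ≤ 4 := hq ▸ Subgroup.card_le_card_group _
      have hr : φ.range = ⊤ := Subgroup.eq_top_of_card_eq _ (by rw [hq]; nlinarith)
      obtain ⟨e', he'⟩ := (MonoidHom.range_eq_top.1 hr) (QuotientGroup.mk' _ ⟨u, hu⟩)
      refine ⟨e', e'.2, ?_⟩
      obtain ⟨z, hz, e⟩ := (QuotientGroup.mk'_eq_mk' (N := E.subgroupOf N)).1 he'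
      have e0 : (e' : S) * (z : S) = u := congrArg Subtype.val e
      rw [← e0]
      exact (Subgroup.mem_normalizer_iff.1 (hE'N e'.2) _).1 hz
    -- elements of the two subgroups do not commute
    have hnc : ∀ e ∈ E, e ∉ E' → ∀ v ∈ E', v ∉ E → e * v ≠ v * e := by
      intro e he he' v hv hv' hc
      have hle : E ⊓ E' ≤ E ⊓ Subgroup.centralizer ({v} : Set S) := fun x hx =>
        ⟨hx.1, Subgroup.mem_centralizer_singleton_iff.2 (h'.comm x hx.2 v hv)⟩
      have hlt : (E ⊓ E' : Subgroup S) < E ⊓ Subgroup.centralizer ({v} : Set S) :=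
        lt_of_le_of_ne hle fun eq =>
          he' (eq.symm ▸ (⟨he, Subgroup.mem_centralizer_singleton_iff.2 hc⟩ :
            e ∈ E ⊓ Subgroup.centralizer ({v} : Set S)) : e ∈ E ⊓ E').2
      have h1 := card_lt_of_lt hlt
      have := h.fix_card hv'
      omega
    have hinv : ∀ u ∈ N, u * u = 1 → u ∈ E ∨ u ∈ E' := by
      intro u hu hu2
      obtain ⟨v, hv, he⟩ := hdec u hu
      set e := u * v⁻¹ with hedef
      have hu' : u = e * v := by rw [hedef]; group
      by_cases hvE : v ∈ E
      · exact Or.inl (hu' ▸ E.mul_mem he hvE)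
      by_cases heE : e ∈ E'
      · exact Or.inr (hu' ▸ E'.mul_mem heE hv)
      exfalso
      refine hnc e he heE v hv hvE ?_
      rw [hu'] at hu2
      calc e * v = (e * v)⁻¹ := (inv_eq_of_mul_eq_one_right hu2).symm
        _ = v⁻¹ * e⁻¹ := mul_inv_rev _ _
        _ = v * e := by
          rw [inv_eq_of_mul_eq_one_right (h'.sq v hv), inv_eq_of_mul_eq_one_right (h.sq e he)]
    have helem : ∀ F : Subgroup S, F ≤ N → (∀ x ∈ F, x * x = 1) → F ≤ E ∨ F ≤ E' := by
      intro F hFN hF
      by_contra! hcon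
      obtain ⟨h1, h2⟩ := hcon
      obtain ⟨a, ha, ha'⟩ := SetLike.not_le_iff_exists.1 h1
      obtain ⟨b, hb, hb'⟩ := SetLike.not_le_iff_exists.1 h2
      have haE := (hinv a (hFN ha) (hF a ha)).resolve_left ha'
      have hbE := (hinv b (hFN hb) (hF b hb)).resolve_right hb'
      rcases hinv (a * b) (hFN (F.mul_mem ha hb)) (hF _ (F.mul_mem ha hb)) with hab | hab
      · exact ha' ((E.mul_mem_cancel_right hbE).1 hab)
      · exact hb' ((E'.mul_mem_cancel_left haE).1 hab)
    set M := Subgroup.normalizer (N : Set S) with hM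
    have hNM : N ≤ M := Subgroup.le_normalizer
    -- image of `E` under conjugation
    have himg : ∀ k : S, E.map (MulAut.conj k).toMonoidHom ≤ N →
        k ∈ N ∨ g⁻¹ * k ∈ N := by
      intro k hk
      rcases helem _ hk (h.conj k).sq with hle | hle
      · exact Or.inl (mem_normalizer_of_map_eq
          (Subgroup.eq_of_le_of_card_ge hle (by rw [h.card, (h.conj k).card])))
      · have e1 := Subgroup.eq_of_le_of_card_ge hle (by rw [h'.card, (h.conj k).card])
        refine Or.inr (mem_normalizer_of_map_eq ?_)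
        ext x
        have e2 : g * x * g⁻¹ ∈ E' ↔ x ∈ E := by
          rw [hE', mem_conj]
          simp [mul_assoc]
        rw [mem_conj, ← e2, ← e1, mem_conj]
        simp [mul_assoc]
    have hMi : ∀ k ∈ M, k ∈ N ∨ g⁻¹ * k ∈ N := fun k hk => himg k (by
      rintro _ ⟨e, he, rfl⟩
      exact (Subgroup.mem_normalizer_iff.1 hk e).1 (hEN he))
    have hM128 : Nat.card M ≤ 128 := by
      have h2 : N.relIndex M ≤ 2 := by
        classical
        haveI := Fintype.ofFinite (M ⧸ N.subgroupOf M)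
        show Nat.card (M ⧸ N.subgroupOf M) ≤ 2
        have : (Set.univ : Set (M ⧸ N.subgroupOf M)) ⊆
            {QuotientGroup.mk 1, QuotientGroup.mk ⟨g, hg⟩} := by
          intro q _
          induction q using QuotientGroup.induction_on with
          | H k =>
            rcases hMi k k.2 with hk | hk
            · left
              refine (QuotientGroup.eq.2 ?_).symm
              simpa [Subgroup.mem_subgroupOf] using hk
            · right
              refine (QuotientGroup.eq.2 ?_).symm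
              simpa [Subgroup.mem_subgroupOf] using hk
        have := Set.ncard_le_ncard this (Set.toFinite _)
        rw [Set.ncard_univ] at this
        exact this.trans ((Set.ncard_insert_le _ _).trans (by rw [Set.ncard_singleton]))
      have e := Subgroup.card_mul_index (N.subgroupOf M)
      rw [Nat.card_congr (Subgroup.subgroupOfEquivOfLe hNM).toEquiv, hN', ← Subgroup.relIndex] at e
      omega
    have hMtop : M = ⊤ := by
      by_contra hMne
      obtain ⟨k, hk, hkM⟩ := SetLike.exists_of_lt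
        (normalizerCondition_of_isNilpotent (G := S) M (lt_top_iff_ne_top.2 hMne))
      set F := E.map (MulAut.conj k).toMonoidHom
      have hF : Data F (B.map (MulAut.conj k).toMonoidHom) := h.conj k
      have hFM : F ≤ M := by
        rintro _ ⟨e, he, rfl⟩
        exact (Subgroup.mem_normalizer_iff.1 hk e).1 (hNM (hEN he))
      have h8 : 8 ≤ Nat.card (F ⊓ N : Subgroup S) := by
        have := card_mul_le F N M hFM hNM
        rw [hF.card, hN'] at this
        have := Nat.mul_le_mul_left (Nat.card (F ⊓ N : Subgroup S)) hM128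
        omega
      have hFN : F ≤ N := by
        rcases helem (F ⊓ N) inf_le_right (fun x hx => hF.sq x hx.1) with hle | hle
        · exact fun d hd => hEN (h.mem_of_commutes hle h8 fun x hx => hF.comm d hd x hx.1)
        · exact fun d hd => hE'N (h'.mem_of_commutes hle h8 fun x hx => hF.comm d hd x hx.1)
      rcases himg k hFN with hk' | hk'
      · exact hkM (hNM hk')
      · refine hkM ?_
        have := M.mul_mem hg (hNM hk')
        rwa [mul_inv_cancel_left] at this
    have hS : Nat.card S ≤ 128 := by rwa [hMtop, Subgroup.card_top] at hM128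
    have hswap : ∀ k ∉ N, ∀ e ∈ E, k * e * k⁻¹ ∈ E' := by
      intro k hk e he
      have hkM : k ∈ M := hMtop ▸ trivial
      have hk' := (hMi k hkM).resolve_left hk
      have := (Subgroup.mem_normalizer_iff.1 hk' e).1 he
      exact ⟨_, this, by simp [mul_assoc]⟩
    obtain ⟨v0, hv0, hv0'⟩ : ∃ v ∈ E', v ∉ E := by
      by_contra! hle
      exact hne (Subgroup.eq_of_le_of_card_ge hle (by rw [h.card, h'.card]))
    have hHS := Subgroup.card_le_card_group H
    by_cases h1 : Nat.card K = 1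
    · have hm := card_mul_le H N ⊤ le_top le_top
      rw [hN', Subgroup.card_top] at hm
      have := Nat.mul_le_mul_left (Nat.card (H ⊓ N : Subgroup S)) hS
      have h16 : 16 ≤ Nat.card (H ⊓ N : Subgroup S) := by omega
      have hsq1 : ∀ x ∈ (H ⊓ N : Subgroup S), x * x = 1 := fun x hx => by
        have := hsq x hx.1
        rwa [Subgroup.eq_bot_of_card_eq K h1, Subgroup.mem_bot] at this
      rcases helem _ inf_le_right hsq1 with hle | hle
      · refine hbig E B h h1 ?_
        have := Subgroup.card_le_of_le (le_inf inf_le_left hle : H ⊓ N ≤ H ⊓ E)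
        omega
      · refine hbig E' B' h' h1 ?_
        have := Subgroup.card_le_of_le (le_inf inf_le_left hle : H ⊓ N ≤ H ⊓ E')
        omega
    obtain ⟨hh, hhH, hhN⟩ | hHN : (∃ x ∈ H, x ∉ N) ∨ H ≤ N := by
      by_cases hle : H ≤ N
      · exact Or.inr hle
      · exact Or.inl (SetLike.not_le_iff_exists.1 hle)
    · -- an element exchanging `E` and `E'`
      have h8 : 8 ≤ Nat.card (H ⊓ E : Subgroup S) := by
        have := card_mul_le H E ⊤ le_top le_top
        rw [h.card, Subgroup.card_top] at this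
        have := Nat.mul_le_mul_left (Nat.card (H ⊓ E : Subgroup S)) hS
        omega
      obtain ⟨e, heHE, heE'⟩ : ∃ e ∈ (H ⊓ E : Subgroup S), e ∉ E' := by
        by_contra! hle
        have := Subgroup.card_le_of_le (le_inf inf_le_right hle : H ⊓ E ≤ E ⊓ E')
        omega
      obtain ⟨heH, heE⟩ := heHE
      set v := hh * e * hh⁻¹ with hv
      have hvE' : v ∈ E' := hswap hh hhN e heE
      have hvE : v ∉ E := fun hvE => heE' (by
        have := hswap hh⁻¹ (fun hc => hhN (inv_inv hh ▸ N.inv_mem hc)) v hvE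
        simpa [hv, mul_assoc] using this)
      have hvH : v ∈ H := H.mul_mem (H.mul_mem hhH heH) (H.inv_mem hhH)
      have hc1 : e * v * e⁻¹ * v⁻¹ ∈ K := hcom e heH v hvH
      have hc1E : e * v * e⁻¹ * v⁻¹ ∈ E := by
        rw [show e * v * e⁻¹ * v⁻¹ = e * (v * e⁻¹ * v⁻¹) by group]
        exact E.mul_mem heE ((Subgroup.mem_normalizer_iff.1 (hE'N hvE') _).1 (E.inv_mem heE))
      have hc1ne : e * v * e⁻¹ * v⁻¹ ≠ 1 := fun e0 => by
        rw [mul_inv_eq_one, mul_inv_eq_iff_eq_mul] at e0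
        exact hnc e heE heE' v hvE' hvE e0
      have hw : v * e⁻¹ ∈ K := hcom hh hhH e heH
      have hwE : v * e⁻¹ ∉ E := fun hc => hvE ((E.mul_mem_cancel_right (E.inv_mem heE)).1 hc)
      have h3 := three_le_card K hc1 hw hc1ne (fun e0 => hwE (e0 ▸ E.one_mem))
        fun e0 => hwE (e0 ▸ hc1E)
      by_cases h128 : Nat.card H ≤ 64
      · omega
      · have hHtop : H = ⊤ := Subgroup.eq_top_of_card_eq H (by
          obtain ⟨n, hn⟩ := card_pow_two h.p2 H
          rw [hn] at h128 hHS ⊢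
          have : 6 < n := (Nat.pow_lt_pow_iff_right (le_refl 2)).1 (by norm_num; omega)
          have : 2 ^ 7 ≤ 2 ^ n := Nat.pow_le_pow_right (by norm_num) this
          omega)
        have h4 := h.comm_card (hE'N hv0 : v0 ∈ N) hv0' (K := K)
          fun x _ => hcom v0 (hHtop ▸ trivial) x (hHtop ▸ trivial)
        have hlt : (E ⊓ K : Subgroup S) < K :=
          lt_of_le_of_ne inf_le_right fun eq => hwE (eq.symm ▸ hw : _ ∈ E ⊓ K).1
        have := card_lt_of_lt hlt
        omega
    · have hH64 := Subgroup.card_le_of_le hHN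
      have hHe : H = N := Subgroup.eq_of_le_of_card_ge hHN (by omega)
      have h4 := h.comm_card (hE'N hv0 : v0 ∈ N) hv0' (K := K)
        fun x hx => hcom v0 (hHe ▸ hE'N hv0) x (hHe ▸ hEN hx)
      have := Subgroup.card_le_of_le (inf_le_right : E ⊓ K ≤ K)
      omega

theorem exists_mul_of_mem_sup (D B : Subgroup S) (hc : ∀ a ∈ D, ∀ b ∈ B, a * b = b * a) :
    ∀ t ∈ D ⊔ B, ∃ c ∈ D, ∃ b ∈ B, t = c * b := by
  intro t ht
  have hcom : ∀ (a : D) (b : B), Commute (D.subtype a) (B.subtype b) :=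
    fun a b => hc a a.2 b b.2
  have hr := MonoidHom.noncommCoprod_range D.subtype B.subtype hcom
  rw [Subgroup.range_subtype, Subgroup.range_subtype] at hr
  rw [← hr] at ht
  obtain ⟨⟨c, b⟩, rfl⟩ := ht
  exact ⟨c, c.2, b, b.2, rfl⟩

/-- the product of a group with a cyclic subgroup of index two and a four-group -/
theorem smallSections_of_cyclic (h2 : IsPGroup 2 S) (T D B : Subgroup S) (hDT : D ≤ T) (hBT : B ≤ T)
    (hcomm : ∀ a ∈ D, ∀ b ∈ B, a * b = b * a) (hinf : D ⊓ B = ⊥) (hsup : D ⊔ B = T)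
    (hB4 : Nat.card B = 4) (hBsq : ∀ b ∈ B, b * b = 1)
    (hcent : ∀ b ∈ B, b ≠ 1 → Subgroup.centralizer ({b} : Set S) = T)
    (x y : S) (n : ℕ) (hn : 2 ≤ n) (hxD : x ∈ D) (hord : orderOf x = 2 ^ n)
    (hcard : Nat.card D = 2 ^ (n + 1)) (hyD : y ∈ D)
    (hy : ∀ w ∈ Subgroup.zpowers x, y * w * y⁻¹ = w → w * w = 1) : SmallSections S := by
  set X := Subgroup.zpowers x with hX
  have hXD : X ≤ D := Subgroup.zpowers_le.2 hxD
  have hXc : Nat.card X = 2 ^ n := by rw [hX, Nat.card_zpowers, hord]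
  have hXi : (X.subgroupOf D).index = 2 := by
    have := Subgroup.card_mul_index (X.subgroupOf D)
    rw [Nat.card_congr (Subgroup.subgroupOfEquivOfLe hXD).toEquiv, hXc, hcard, pow_succ] at this
    exact Nat.eq_of_mul_eq_mul_left (by positivity) this
  have hmul : ∀ a ∈ D, ∀ b ∈ D, (a * b ∈ X ↔ (a ∈ X ↔ b ∈ X)) := fun a ha b hb => by
    have := Subgroup.mul_mem_iff_of_index_two hXi (a := ⟨a, ha⟩) (b := ⟨b, hb⟩)
    simpa [Subgroup.mem_subgroupOf] using this
  set z := x ^ (2 ^ (n - 1)) with hz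
  have hz1 : z ≠ 1 := pow_ne_one_of_lt_orderOf (by positivity)
    (by rw [hord]; exact Nat.pow_lt_pow_right (by norm_num) (by omega))
  have hzz : z * z = 1 := by
    rw [hz, ← pow_add, ← two_mul, ← pow_succ', show n - 1 + 1 = n by omega, ← hord,
      pow_orderOf_eq_one]
  have hinv : ∀ w ∈ X, w * w = 1 → w = 1 ∨ w = z := by
    intro w hw hww
    obtain ⟨k, rfl⟩ := (mem_powers_iff_mem_zpowers.2 hw : w ∈ Submonoid.powers x)
    change x ^ k = 1 ∨ x ^ k = z
    change x ^ k * x ^ k = 1 at hww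
    rw [← pow_add, ← orderOf_dvd_iff_pow_eq_one, hord, ← two_mul,
      show 2 ^ n = 2 * 2 ^ (n - 1) by rw [← pow_succ', show n - 1 + 1 = n by omega]] at hww
    obtain ⟨j, rfl⟩ := Nat.dvd_of_mul_dvd_mul_left (by norm_num) hww
    rcases Nat.even_or_odd' j with ⟨i, rfl | rfl⟩
    · left
      rw [← mul_assoc, pow_mul, ← pow_succ, show n - 1 + 1 = n by omega, ← hord,
        pow_orderOf_eq_one, one_pow]
    · right
      rw [mul_add, mul_one, pow_add, ← mul_assoc, pow_mul, ← pow_succ,
        show n - 1 + 1 = n by omega, ← hord, pow_orderOf_eq_one, one_pow, one_mul]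
  have hxx : x * x ≠ 1 := fun e => by
    have h4 : 2 ^ 2 ≤ 2 ^ n := Nat.pow_le_pow_right (by norm_num) hn
    have := Nat.le_of_dvd (by norm_num) (orderOf_dvd_of_pow_eq_one (pow_two x ▸ e : x ^ 2 = 1))
    omega
  -- the center of `D`
  have hZ : ∀ c ∈ D, (∀ a ∈ D, c * a = a * c) → c = 1 ∨ c = z := by
    intro c hc hcz
    by_cases hcX : c ∈ X
    · exact hinv c hcX (hy c hcX (by rw [← hcz y hyD, mul_inv_cancel_right]))
    · exfalso
      have hyX : y ∉ X := fun hyX => hxx (hy x (Subgroup.mem_zpowers x) (by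
        obtain ⟨k, rfl⟩ := Subgroup.mem_zpowers_iff.1 hyX
        rw [(Commute.zpow_self x k).eq, mul_inv_cancel_right]))
      have hcy : c⁻¹ * y ∈ X := (hmul _ (D.inv_mem hc) _ hyD).2
        (iff_of_false (fun h => hcX (inv_inv c ▸ X.inv_mem h)) hyX)
      obtain ⟨k, hk⟩ := Subgroup.mem_zpowers_iff.1 hcy
      refine hxx (hy x (Subgroup.mem_zpowers x) ?_)
      have hyk : y = c * x ^ k := by rw [hk, mul_inv_cancel_left]
      rw [hyk, mul_assoc c, (Commute.zpow_self x k).eq, mul_inv_rev, ← mul_assoc c, hcz x hxD]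
      group
  have hdec : ∀ t ∈ T, ∃ c ∈ D, ∃ b ∈ B, t = c * b := fun t ht =>
    exists_mul_of_mem_sup D B hcomm t (hsup.symm ▸ ht)
  have hBc : ∀ b ∈ B, ∀ t ∈ T, b * t = t * b := by
    intro b hb t ht
    by_cases hb1 : b = 1
    · simp [hb1]
    · rw [← hcent b hb hb1, Subgroup.mem_centralizer_singleton_iff] at ht
      exact ht.symm
  have hsqX : ∀ t ∈ T, t * t ∈ X := by
    intro t ht
    obtain ⟨c, hc, b, hb, rfl⟩ := hdec t ht
    rw [show c * b * (c * b) = c * (b * c) * b by group, ← hcomm c hc b hb,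
      show c * (c * b) * b = c * c * (b * b) by group, hBsq b hb, mul_one]
    exact (hmul c hc c hc).2 Iff.rfl
  -- the subgroup is the whole group
  have hTtop : T = ⊤ := by
    by_contra hne
    haveI := h2.isNilpotent
    obtain ⟨d₀, hd₀, hd₀T⟩ := SetLike.exists_of_lt
      (normalizerCondition_of_isNilpotent (G := S) T (lt_top_iff_ne_top.2 hne))
    have hex : ∃ i, d₀ ^ (2 ^ i) ∈ T := by
      obtain ⟨k, hk⟩ := h2 d₀
      exact ⟨k, hk ▸ T.one_mem⟩
    obtain ⟨d, hdN, hdT, hdd⟩ : ∃ d ∈ Subgroup.normalizer (T : Set S), d ∉ T ∧ d * d ∈ T := by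
      classical
      have hi0 : Nat.find hex ≠ 0 := fun e => hd₀T (by
        have := Nat.find_spec hex
        rwa [e, pow_zero, pow_one] at this)
      refine ⟨d₀ ^ (2 ^ (Nat.find hex - 1)), Subgroup.pow_mem _ hd₀ _,
        Nat.find_min hex (by omega), ?_⟩
      rw [← pow_add, ← two_mul, ← pow_succ', show Nat.find hex - 1 + 1 = Nat.find hex by omega]
      exact Nat.find_spec hex
    have hconj : ∀ t ∈ T, d * t * d⁻¹ ∈ T := fun t ht =>
      (Subgroup.mem_normalizer_iff.1 hdN t).1 ht
    have hfix : ∀ b ∈ B, d * b * d⁻¹ = b → b = 1 := fun b hb hdb => by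
      by_contra hb1
      refine hdT ?_
      rw [← hcent b hb hb1, Subgroup.mem_centralizer_singleton_iff]
      exact mul_inv_eq_iff_eq_mul.1 hdb
    have hdz : d * z * d⁻¹ = z := by
      set u := x ^ (2 ^ (n - 2))
      have hu : u * u = z := by
        rw [hz, ← pow_add, ← two_mul, ← pow_succ', show n - 2 + 1 = n - 1 by omega]
      have hm : d * z * d⁻¹ ∈ X := by
        have := hsqX _ (hconj u (hDT (D.pow_mem hxD _)))
        rwa [show d * u * d⁻¹ * (d * u * d⁻¹) = d * (u * u) * d⁻¹ by group, hu] at this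
      refine (hinv _ hm ?_).resolve_left fun e => hz1 ?_
      · rw [show d * z * d⁻¹ * (d * z * d⁻¹) = d * (z * z) * d⁻¹ by group, hzz]
        group
      · exact conj_eq_one_iff.1 e
    have hw : ∀ b ∈ B, d * b * d⁻¹ * b = 1 ∨ d * b * d⁻¹ * b = z := by
      intro b hb
      set w := d * b * d⁻¹ * b with hwdef
      have hwT : w ∈ T := T.mul_mem (hconj b (hBT hb)) (hBT hb)
      have hwc : ∀ t ∈ T, w * t = t * w := by
        intro t ht
        have e1 : d * b * d⁻¹ * t = t * (d * b * d⁻¹) := by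
          have h' : d⁻¹ * t * d ∈ T := by
            have := (Subgroup.mem_normalizer_iff.1 hdN (d⁻¹ * t * d)).2
            exact this (by simpa [mul_assoc] using ht)
          calc d * b * d⁻¹ * t = d * (b * (d⁻¹ * t * d)) * d⁻¹ := by group
            _ = d * ((d⁻¹ * t * d) * b) * d⁻¹ := by rw [hBc b hb _ h']
            _ = _ := by group
        rw [hwdef, mul_assoc, hBc b hb t ht, ← mul_assoc, e1, mul_assoc]
      have hwd : d * w * d⁻¹ = w := by
        have e2 : d * d * b * (d * d)⁻¹ = b := by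
          rw [← hBc b hb _ hdd, mul_inv_cancel_right]
        calc d * w * d⁻¹ = (d * d * b * (d * d)⁻¹) * (d * b * d⁻¹) := by rw [hwdef]; group
          _ = b * (d * b * d⁻¹) := by rw [e2]
          _ = w := hBc b hb _ (hconj b (hBT hb))
      obtain ⟨c, hc, b', hb', e⟩ := hdec w hwT
      have hc1 : c = 1 ∨ c = z := hZ c hc fun a ha => by
        have := hwc a (hDT ha)
        rw [e, mul_assoc, ← hcomm a ha b' hb', ← mul_assoc, ← mul_assoc] at this
        exact mul_right_cancel this
      have hcd : d * c * d⁻¹ = c := by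
        rcases hc1 with rfl | rfl
        · group
        · exact hdz
      have hb1 : b' = 1 := by
        refine hfix b' hb' ?_
        rw [e, show d * (c * b') * d⁻¹ = (d * c * d⁻¹) * (d * b' * d⁻¹) by group, hcd] at hwd
        exact mul_left_cancel hwd
      rwa [e, hb1, mul_one]
    have hle : Nat.card B ≤ Nat.card ({1, z} : Set S) := by
      refine Nat.card_le_card_of_injective
        (fun b : B => (⟨d * b * d⁻¹ * b, hw b b.2⟩ : ({1, z} : Set S))) fun b b' e => ?_
      have e1 : d * b * d⁻¹ * b = d * b' * d⁻¹ * b' := congrArg Subtype.val e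
      have hinvb : (b : S)⁻¹ = b := inv_eq_of_mul_eq_one_right (hBsq b b.2)
      have h3 : d * ((b : S)⁻¹ * b') * d⁻¹ = (b : S)⁻¹ * b' := by
        have e3 : d * (b : S) * d⁻¹ * b * b' = d * b' * d⁻¹ := by
          rw [e1, mul_assoc _ (b' : S), hBsq b' b'.2, mul_one]
        calc d * ((b : S)⁻¹ * b') * d⁻¹ = (d * b * d⁻¹)⁻¹ * (d * b' * d⁻¹) := by group
          _ = (d * b * d⁻¹)⁻¹ * (d * (b : S) * d⁻¹ * b * b') := by rw [e3]
          _ = (b : S) * b' := by group
          _ = (b : S)⁻¹ * b' := by rw [hinvb]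
      have := hfix _ (B.mul_mem (B.inv_mem b.2) b'.2) h3
      exact Subtype.ext (inv_mul_eq_one.1 this)
    have : Nat.card ({1, z} : Set S) ≤ 2 := by
      rw [Nat.card_coe_set_eq]
      exact (Set.ncard_insert_le _ _).trans (by rw [Set.ncard_singleton])
    omega
  intro H K hKH hsq hcom
  have hTc : Nat.card S ≤ 2 ^ n * 8 := by
    have e : Function.Surjective (fun p : D × B => ((p.1 : S) * (p.2 : S))) := by
      intro t
      obtain ⟨c, hc, b, hb, rfl⟩ := hdec t (hTtop ▸ trivial)
      exact ⟨(⟨c, hc⟩, ⟨b, hb⟩), rfl⟩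
    refine (Nat.card_le_card_of_surjective _ e).trans (le_of_eq ?_)
    rw [Nat.card_prod, hcard, hB4]
    ring
  have h1 := card_mul_le H X ⊤ le_top le_top
  rw [Subgroup.card_top, hXc] at h1
  have h2' : Nat.card H ≤ Nat.card (H ⊓ X : Subgroup S) * 8 := by
    refine Nat.le_of_mul_le_mul_right ?_ (by positivity : 0 < 2 ^ n)
    calc Nat.card H * 2 ^ n ≤ Nat.card (H ⊓ X : Subgroup S) * Nat.card S := h1
      _ ≤ Nat.card (H ⊓ X : Subgroup S) * (2 ^ n * 8) := Nat.mul_le_mul_left _ hTc
      _ = _ := by ring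
  let f : (H ⊓ X : Subgroup S) →* S :=
    { toFun := fun a => (a : S) * a
      map_one' := by simp
      map_mul' := fun a b => by
        obtain ⟨i, hi⟩ := Subgroup.mem_zpowers_iff.1 a.2.2
        obtain ⟨j, hj⟩ := Subgroup.mem_zpowers_iff.1 b.2.2
        simp only [Subgroup.coe_mul, ← hi, ← hj, ← zpow_add]
        congr 1
        ring }
  have hk : Nat.card f.ker ≤ 2 := by
    refine le_trans (Nat.card_le_card_of_injective
      (fun a => (⟨((a : (H ⊓ X : Subgroup S)) : S),
        hinv _ (a : (H ⊓ X : Subgroup S)).2.2 (MonoidHom.mem_ker.1 a.2)⟩ : ({1, z} : Set S)))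
      fun a b e => Subtype.ext (Subtype.ext (congrArg Subtype.val e :))) ?_
    rw [Nat.card_coe_set_eq]
    exact (Set.ncard_insert_le _ _).trans (by rw [Set.ncard_singleton])
  have hr : f.range ≤ K := by
    rintro _ ⟨a, rfl⟩
    exact hsq _ a.2.1
  have e1 := Subgroup.card_mul_index f.ker
  rw [Subgroup.index_ker] at e1
  have := Nat.mul_le_mul hk (Subgroup.card_le_of_le hr)
  omega

theorem mul_inv_self_fixed_of_pow {n : ℕ} (hn : 3 ≤ n) {x y : S} (hord : orderOf x = 2 ^ n)
    (hxy : y * x * y⁻¹ = x ^ (2 ^ (n - 1) - 1)) :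
    ∀ w ∈ Subgroup.zpowers x, y * w * y⁻¹ = w → w * w = 1 := by
  intro w hw e
  obtain ⟨k, rfl⟩ := (mem_powers_iff_mem_zpowers.2 hw : w ∈ Submonoid.powers x)
  change x ^ k * x ^ k = 1
  change y * x ^ k * y⁻¹ = x ^ k at e
  rw [← conj_pow, hxy, ← pow_mul, pow_eq_pow_iff_modEq, hord] at e
  obtain ⟨m, rfl⟩ : ∃ m, n = m + 3 := ⟨n - 3, by omega⟩
  have h4 : 4 ≤ 2 ^ (m + 2) := by
    calc 4 = 2 ^ 2 := by norm_num
      _ ≤ _ := Nat.pow_le_pow_right (by norm_num) (by omega)
  rw [show m + 3 - 1 = m + 2 by omega] at e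
  have hd := (Nat.modEq_iff_dvd' (Nat.le_mul_of_pos_left k (by omega))).1 e.symm
  have he : (2 ^ (m + 2) - 1) * k - k = 2 * ((2 ^ (m + 1) - 1) * k) := by
    rw [← mul_assoc, Nat.mul_sub, mul_one, ← pow_succ', Nat.sub_mul, Nat.sub_mul, one_mul,
      Nat.sub_sub, two_mul]
  rw [he, show 2 ^ (m + 3) = 2 * 2 ^ (m + 2) by ring] at hd
  have hd2 := Nat.dvd_of_mul_dvd_mul_left (by norm_num) hd
  have hodd : Nat.Coprime (2 ^ (m + 2)) (2 ^ (m + 1) - 1) := by
    refine Nat.Coprime.pow_left _ ((Nat.prime_two.coprime_iff_not_dvd).2 ?_)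
    have : 2 ∣ 2 ^ (m + 1) := dvd_pow_self 2 (by omega)
    have : 0 < 2 ^ (m + 1) := by positivity
    omega
  obtain ⟨c, rfl⟩ := hodd.dvd_of_dvd_mul_left hd2
  rw [← pow_add, ← orderOf_dvd_iff_pow_eq_one, hord]
  exact ⟨c, by ring⟩

end Cfsg.Agent.Spor.SelfCentFour
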