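import Cfsg.Agent.Lib.Spor.SteinerUnique622
import Cfsg.Agent.S0378
import Cfsg.Agent.S0379
import Cfsg.Prelude.Def_Sporadic

/-! Consequences of the uniqueness of S(3,6,22). -/

set_option autoImplicit false
set_option maxHeartbeats 800000

namespace Cfsg.Agent.Spor.SteinerCode

open Finset Cfsg
open scoped Pointwise

variable {β : Type*} [Fintype β] [DecidableEq β]

/-- A bijection of the doubly extended point sets fixing both new points restricts. -/
theorem exists_restrict {γ : Type*} [DecidableEq γ] (Φ : Option (Option β) ≃ Option (Option γ))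
    (h : (Φ none = none ∧ Φ (some none) = some none) ∨ (Φ none = some none ∧ Φ (some none) = none)) :
    ∃ ψ : β ≃ γ, ∀ x, some (some (ψ x)) = Φ (some (some x)) := by
  have key : ∀ x, ∃ y, some (some y) = Φ (some (some x)) := fun x => by
    rcases hy : Φ (some (some x)) with _ | _ | y
    · rcases h with ⟨h1, -⟩ | ⟨-, h2⟩
      · exact absurd (Φ.injective (hy.trans h1.symm)) (by simp)
      · exact absurd (Φ.injective (hy.trans h2.symm)) (by simp)
    · rcases h with ⟨-, h2⟩ | ⟨h1, -⟩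
      · exact absurd (Φ.injective (hy.trans h2.symm)) (by simp)
      · exact absurd (Φ.injective (hy.trans h1.symm)) (by simp)
    · exact ⟨y, rfl⟩
  choose f hf using key
  refine ⟨Equiv.ofBijective f ⟨fun a b e => ?_, fun y => ?_⟩, hf⟩
  · exact Option.some.inj (Option.some.inj (Φ.injective (by rw [← hf, ← hf, e])))
  · obtain ⟨z, hz⟩ := Φ.surjective (some (some y))
    rcases z with _ | _ | x
    · rcases h with ⟨h1, -⟩ | ⟨h1, -⟩ <;> rw [h1] at hz <;> simp at hz
    · rcases h with ⟨-, h2⟩ | ⟨-, h2⟩ <;> rw [h2] at hz <;> simp at hz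
    · exact ⟨x, Option.some.inj (Option.some.inj ((hf x).trans hz))⟩

theorem ext2_restrict {γ : Type*} [DecidableEq γ] (Φ : Option (Option β) ≃ Option (Option γ))
    (h : (Φ none = none ∧ Φ (some none) = some none) ∨ (Φ none = some none ∧ Φ (some none) = none))
    (ψ : β ≃ γ) (hψ : ∀ x, some (some (ψ x)) = Φ (some (some x))) (b : Finset β) :
    ext2 (b.image ψ) = (ext2 b).image Φ := by
  ext z
  have hz : ∀ z, z ∈ ext2 b ↔ z = none ∨ z = some none ∨ ∃ x ∈ b, z = some (some x) := fun z => by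
    rcases z with _ | _ | x <;> simp [ext2, ext1]
  have hw : z ∈ ext2 (b.image ψ) ↔ z = none ∨ z = some none ∨ ∃ x ∈ b, z = some (some (ψ x)) := by
    rcases z with _ | _ | y <;> simp [ext2, ext1, eq_comm]
  rw [hw, mem_image]
  constructor
  · rintro (rfl | rfl | ⟨x, hx, rfl⟩)
    · rcases h with ⟨h1, -⟩ | ⟨-, h2⟩
      · exact ⟨none, (hz _).mpr (Or.inl rfl), h1⟩
      · exact ⟨some none, (hz _).mpr (Or.inr (Or.inl rfl)), h2⟩
    · rcases h with ⟨-, h2⟩ | ⟨h1, -⟩
      · exact ⟨some none, (hz _).mpr (Or.inr (Or.inl rfl)), h2⟩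
      · exact ⟨none, (hz _).mpr (Or.inl rfl), h1⟩
    · exact ⟨_, (hz _).mpr (Or.inr (Or.inr ⟨x, hx, rfl⟩)), (hψ x).symm⟩
  · rintro ⟨w, hwm, rfl⟩
    rcases (hz w).mp hwm with rfl | rfl | ⟨x, hx, rfl⟩
    · rcases h with ⟨h1, -⟩ | ⟨h1, -⟩ <;> rw [h1] <;> simp
    · rcases h with ⟨-, h2⟩ | ⟨-, h2⟩ <;> rw [h2] <;> simp
    · exact Or.inr (Or.inr ⟨x, hx, (hψ x).symm⟩)

theorem blocks_follow {γ : Type*} [Fintype γ] [DecidableEq γ] {B : Set (Finset β)} {B' : Set (Finset γ)}
    (e : Option (Option β) ≃ GolayPt) (e' : Option (Option γ) ≃ GolayPt)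
    (he : ∀ b, b ∈ B ↔ (ext2 b).image e ∈ octads) (he' : ∀ b, b ∈ B' ↔ (ext2 b).image e' ∈ octads)
    (σ : M24) (h : ((σ : Equiv.Perm GolayPt) (e none) = e' none ∧ (σ : Equiv.Perm GolayPt) (e (some none)) = e' (some none)) ∨
      ((σ : Equiv.Perm GolayPt) (e none) = e' (some none) ∧ (σ : Equiv.Perm GolayPt) (e (some none)) = e' none)) :
    ∃ ψ : β ≃ γ, (∀ x, e' (some (some (ψ x))) = (σ : Equiv.Perm GolayPt) (e (some (some x)))) ∧
      ∀ b, b ∈ B ↔ b.image ψ ∈ B' := by
  let Φ : Option (Option β) ≃ Option (Option γ) := (e.trans (σ : Equiv.Perm GolayPt)).trans e'.symm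
  have hΦ : (Φ none = none ∧ Φ (some none) = some none) ∨ (Φ none = some none ∧ Φ (some none) = none) := by
    simpa [Φ, Equiv.symm_apply_eq] using h
  obtain ⟨ψ, hψ⟩ := exists_restrict Φ hΦ
  refine ⟨ψ, fun x => by rw [hψ x]; simp [Φ], fun b => ?_⟩
  rw [he, he', ext2_restrict Φ hΦ ψ hψ b, image_image,
    show (⇑e' ∘ ⇑Φ) = ⇑(σ : Equiv.Perm GolayPt) ∘ ⇑e from funext fun x => by simp [Φ], ← image_image]
  have hσ' : (σ : Equiv.Perm GolayPt) ∈ setSystemAut octads := by rw [← Cfsg.Agent.S0369.result]; exact σ.2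
  exact (SteinerAut.mem_aut.mp hσ' _).symm

theorem iso622 {γ : Type*} [Fintype γ] [DecidableEq γ] {B : Set (Finset β)} {B' : Set (Finset γ)}
    (hα : Fintype.card β = 22) (hγ : Fintype.card γ = 22) (hB : IsSteinerSystem 3 6 B)
    (hB' : IsSteinerSystem 3 6 B') : SetSystemIso B B' := by
  obtain ⟨e, he, -⟩ := exists_equiv622 hα hB
  obtain ⟨e', he', -⟩ := exists_equiv622 hγ hB'
  have h2 : MulAction.IsMultiplyPretransitive M24 GolayPt 2 := Golay.M24_pretransitive (by norm_num)
  obtain ⟨σ, s1, s2⟩ := (MulAction.is_two_pretransitive_iff.mp h2) (show e none ≠ e (some none) by simp)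
    (show e' none ≠ e' (some none) by simp)
  obtain ⟨ψ, -, hψ⟩ := blocks_follow e e' he he' σ (Or.inl ⟨s1, s2⟩)
  refine ⟨ψ, ?_⟩
  ext c
  constructor
  · rintro ⟨b, hb, rfl⟩; exact (hψ b).mp hb
  · intro hc
    exact ⟨c.image ψ.symm, (hψ _).mpr (by rwa [image_preimage]), image_preimage _ c⟩

theorem aut622 {B : Set (Finset β)} (hα : Fintype.card β = 22) (hB : IsSteinerSystem 3 6 B) :
    Nat.card (setSystemAut B) = 887040 ∧ MulAction.IsMultiplyPretransitive (setSystemAut B) β 3 ∧
      ∃ H : Subgroup (setSystemAut B), H.index = 2 ∧ IsM22 H := by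
  classical
  obtain ⟨e, he, hsw, hM⟩ := exists_equiv622 hα hB
  let ex : Equiv.Perm β → Bool → Equiv.Perm (Option (Option β)) := fun g t =>
    g.optionCongr.optionCongr * (if t then sw β else 1)
  have hcomm : ∀ g : Equiv.Perm β, Commute (sw β) g.optionCongr.optionCongr := fun g => Equiv.ext fun x => by
    rcases x with _ | _ | x <;> simp [sw, Equiv.swap_apply_of_ne_of_ne]
  have hexmul : ∀ g h t u, ex g t * ex h u = ex (g * h) (t ^^ u) := by
    intro g h t u
    have hc : ∀ t : Bool, Commute (if t then sw β else 1) h.optionCongr.optionCongr := fun t => by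
      cases t
      · exact Commute.one_left _
      · exact hcomm h
    have hgh : (g * h).optionCongr.optionCongr = g.optionCongr.optionCongr * h.optionCongr.optionCongr :=
      Equiv.ext fun x => by rcases x with _ | _ | x <;> simp [Equiv.Perm.mul_apply]
    show g.optionCongr.optionCongr * _ * (h.optionCongr.optionCongr * _) = _ * _
    rw [hgh]
    simp only [mul_assoc]
    rw [← mul_assoc (if t then sw β else 1), (hc t).eq]
    simp only [mul_assoc]
    cases t <;> cases u <;> simp [sw]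
  have huni : ∀ g t u, e.permCongr (ex g t) ∈ M24 → e.permCongr (ex g u) ∈ M24 → t = u := by
    intro g t u ht hu
    by_contra hne
    have h := mul_mem (inv_mem ht) hu
    apply hsw
    convert h using 1
    cases t <;> cases u <;> simp_all [ex] <;>
      exact Equiv.ext fun x => by simp [Equiv.Perm.mul_apply, Equiv.permCongr_apply, sw]
  have hex : ∀ g : setSystemAut B, ∃ t, e.permCongr (ex g t) ∈ M24 := fun g =>
    (hM g g.2).elim (fun h => ⟨false, by simpa [ex] using h⟩) (fun h => ⟨true, by simpa [ex] using h⟩)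
  choose t ht using hex
  have hpermmul : ∀ a b : Equiv.Perm (Option (Option β)), e.permCongr (a * b) = e.permCongr a * e.permCongr b := fun a b =>
    Equiv.ext fun x => by simp [Equiv.Perm.mul_apply, Equiv.permCongr_apply]
  let Θ : setSystemAut B →* M24 := MonoidHom.mk' (fun g => ⟨e.permCongr (ex g (t g)), ht g⟩) fun g h => by
    apply Subtype.ext
    show e.permCongr (ex (g * h : setSystemAut B) (t (g * h))) = e.permCongr (ex g (t g)) * e.permCongr (ex h (t h))
    rw [← hpermmul, hexmul]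
    have : t (g * h) = (t g ^^ t h) := huni _ _ _ (ht _) (by
      show e.permCongr (ex ((g : Equiv.Perm β) * h) _) ∈ M24
      rw [← hexmul, hpermmul]; exact mul_mem (ht g) (ht h))
    rw [this]; rfl
  have hΘsome : ∀ (g : setSystemAut B) x, (Θ g : Equiv.Perm GolayPt) (e (some (some x))) = e (some (some ((g : Equiv.Perm β) x))) := by
    intro g x
    show e.permCongr (ex g (t g)) _ = _
    cases t g <;> simp [ex, sw, Equiv.permCongr_apply, Equiv.Perm.mul_apply, Equiv.swap_apply_of_ne_of_ne]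
  have hΘinj : Function.Injective Θ := fun g h e' => Subtype.ext (Equiv.ext fun x => by
    have h1 := hΘsome g x
    rw [e', hΘsome h x] at h1
    exact (Option.some.inj (Option.some.inj (e.injective h1))).symm)
  have hsurj : ∀ σ : M24, (((σ : Equiv.Perm GolayPt) (e none) = e none ∧ (σ : Equiv.Perm GolayPt) (e (some none)) = e (some none)) ∨
      ((σ : Equiv.Perm GolayPt) (e none) = e (some none) ∧ (σ : Equiv.Perm GolayPt) (e (some none)) = e none)) →
      ∃ g, Θ g = σ := by
    intro σ hσ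
    obtain ⟨ψ, hψ1, hψ2⟩ := blocks_follow e e he he σ hσ
    have hg : (ψ : Equiv.Perm β) ∈ setSystemAut B := SteinerAut.mem_aut.mpr fun b => (hψ2 b).symm
    refine ⟨⟨ψ, hg⟩, ?_⟩
    rcases hσ with ⟨a, b⟩ | ⟨a, b⟩
    · have hσe : (σ : Equiv.Perm GolayPt) = e.permCongr (ex ψ false) := Equiv.ext fun p => by
        obtain ⟨z, rfl⟩ := e.surjective p
        rcases z with _ | _ | x <;> simp [ex, a, b, Equiv.permCongr_apply, hψ1]
      have := huni ψ _ false (ht ⟨ψ, hg⟩) (hσe ▸ σ.2)
      exact Subtype.ext (by show e.permCongr (ex ψ _) = _; rw [this, hσe])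
    · have hσe : (σ : Equiv.Perm GolayPt) = e.permCongr (ex ψ true) := Equiv.ext fun p => by
        obtain ⟨z, rfl⟩ := e.surjective p
        rcases z with _ | _ | x <;>
          simp [ex, sw, a, b, Equiv.permCongr_apply, Equiv.Perm.mul_apply, hψ1, Equiv.swap_apply_of_ne_of_ne]
      have := huni ψ _ true (ht ⟨ψ, hg⟩) (hσe ▸ σ.2)
      exact Subtype.ext (by show e.permCongr (ex ψ _) = _; rw [this, hσe])
  have hpair : ∀ g : setSystemAut B, ((Θ g : Equiv.Perm GolayPt) (e none) = e none ∧ (Θ g : Equiv.Perm GolayPt) (e (some none)) = e (some none)) ∨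
      ((Θ g : Equiv.Perm GolayPt) (e none) = e (some none) ∧ (Θ g : Equiv.Perm GolayPt) (e (some none)) = e none) := by
    intro g
    show (e.permCongr (ex g (t g)) _ = _ ∧ e.permCongr (ex g (t g)) _ = _) ∨ (e.permCongr (ex g (t g)) _ = _ ∧ e.permCongr (ex g (t g)) _ = _)
    cases t g <;> simp [ex, sw, Equiv.permCongr_apply, Equiv.Perm.mul_apply]
  set H0 := (MulAction.stabilizer M24 (e none)).comap Θ with hH0
  have hmH : ∀ g, g ∈ H0 ↔ (Θ g : Equiv.Perm GolayPt) (e none) = e none := fun g => Iff.rfl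
  have hpq : e none ≠ e (some none) := by simp
  let W := MulAction.stabilizer M24 (e none) ⊓ MulAction.stabilizer M24 (e (some none))
  have hmap : H0.map Θ = W := by
    ext σ
    constructor
    · rintro ⟨g, hg, rfl⟩
      have hg' := (hmH g).mp hg
      refine ⟨hg', ?_⟩
      rcases hpair g with h | h
      · exact h.2
      · exact absurd (hg'.symm.trans h.1) hpq
    · rintro ⟨h1, h2⟩
      obtain ⟨g, hg⟩ := hsurj σ (Or.inl ⟨h1, h2⟩)
      exact ⟨g, (hmH g).mpr (by rw [hg]; exact h1), hg⟩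
  have hiso : H0 ≃* W := (H0.equivMapOfInjective Θ hΘinj).trans (MulEquiv.subgroupCongr hmap)
  obtain ⟨σ, s1, s2⟩ := (MulAction.is_two_pretransitive_iff.mp
    (Golay.M24_pretransitive (n := 2) (by norm_num) : MulAction.IsMultiplyPretransitive M24 GolayPt 2))
    hpq hpq.symm
  obtain ⟨g0, hg0⟩ := hsurj σ (Or.inr ⟨s1, s2⟩)
  have hidx : H0.index = 2 := by
    rw [Subgroup.index_eq_two_iff]
    refine ⟨g0, fun g => ?_⟩
    have h0 : (Θ g0 : Equiv.Perm GolayPt) (e none) = e (some none) ∧ (Θ g0 : Equiv.Perm GolayPt) (e (some none)) = e none := by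
      rw [hg0]; exact ⟨s1, s2⟩
    have hmul : (Θ (g * g0) : Equiv.Perm GolayPt) (e none) = (Θ g : Equiv.Perm GolayPt) (e (some none)) := by
      rw [map_mul]; show (Θ g : Equiv.Perm GolayPt) ((Θ g0 : Equiv.Perm GolayPt) (e none)) = _; rw [h0.1]
    rw [hmH, hmH, hmul]
    rcases hpair g with ⟨a, b⟩ | ⟨a, b⟩
    · exact Or.inr ⟨a, by rw [b]; exact hpq.symm⟩
    · exact Or.inl ⟨b, by rw [a]; exact hpq.symm⟩
  refine ⟨?_, ⟨fun x y => ?_⟩, H0, hidx, ?_⟩
  · rw [← Subgroup.card_mul_index H0, hidx, Nat.card_congr hiso.toEquiv, Cfsg.Agent.S0378.result _ _ hpq]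
  · have hinj : ∀ x : Fin 3 ↪ β, Function.Injective
        (Fin.cons (e none) (Fin.cons (e (some none)) (fun i => e (some (some (x i))))) : Fin 5 → GolayPt) := fun x =>
      Fin.cons_injective_iff.mpr ⟨by
          rintro ⟨i, hi⟩
          revert hi
          refine Fin.cases ?_ (fun j => ?_) i <;> simp,
        Fin.cons_injective_iff.mpr ⟨fun ⟨i, h⟩ => by simp at h,
          fun i j h => x.injective (Option.some.inj (Option.some.inj (e.injective h)))⟩⟩
    obtain ⟨τ, hτ⟩ := Golay.M24_pretransitive5.exists_smul_eq ⟨_, hinj x⟩ ⟨_, hinj y⟩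
    obtain ⟨g, hg⟩ := hsurj τ (Or.inl ⟨DFunLike.congr_fun hτ 0, DFunLike.congr_fun hτ 1⟩)
    refine ⟨g, Function.Embedding.ext fun i => ?_⟩
    have h1 := DFunLike.congr_fun hτ i.succ.succ
    have h2 := hΘsome g (x i)
    rw [hg] at h2
    exact Option.some.inj (Option.some.inj (e.injective (h2.symm.trans h1)))
  · refine ⟨?_, ?_⟩
    · haveI := Cfsg.Agent.S0379.result _ _ hpq
      exact hiso.isSimpleGroup_congr.mpr inferInstance
    · rw [Nat.card_congr hiso.toEquiv, Cfsg.Agent.S0378.result _ _ hpq]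

end Cfsg.Agent.Spor.SteinerCode
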