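import Cfsg.Agent.Lib.Spor.HeisFiftyFour
import Cfsg.Agent.Lib.Classical.Unit
import Cfsg.Agent.Lib.Classical.UnitCenter

/-! The derived group of `SU(3,2)` over an explicit field of four elements. -/

set_option autoImplicit false
set_option linter.style.haveILetI false
set_option maxRecDepth 100000

namespace Cfsg.Agent.Spor.SU32

open Matrix Cfsg Cfsg.Agent.Classical

/-- The field with four elements. -/
inductive F4 where
  | o | e | w | v
  deriving DecidableEq

namespace F4

instance : Fintype F4 where
  elems := {o, e, w, v}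
  complete x := by cases x <;> decide

instance : Zero F4 := ⟨o⟩
instance : One F4 := ⟨e⟩
instance : Neg F4 := ⟨fun x => x⟩

instance : Add F4 := ⟨fun
  | o, y => y
  | x, o => x
  | e, e => o | e, w => v | e, v => w
  | w, e => v | w, w => o | w, v => e
  | v, e => w | v, w => e | v, v => o⟩

instance : Mul F4 := ⟨fun
  | o, _ => o
  | _, o => o
  | e, y => y
  | x, e => x
  | w, w => v | w, v => e
  | v, w => e | v, v => w⟩

instance : Inv F4 := ⟨fun
  | o => o | e => e | w => v | v => w⟩

instance : Field F4 :=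
  Field.ofMinimalAxioms F4 (by decide) (by decide) (by decide) (by decide) (by decide) (by decide) (by decide)
    (by decide) (by decide) ⟨o, e, by decide⟩

end F4

open F4

theorem card_F4 : Fintype.card F4 = 4 := rfl

theorem hF4 : Fintype.card F4 = 2 ^ 2 := rfl

local notation "M3" => Matrix (Fin 3) (Fin 3) F4

def matM : M3 := !![e, o, o; o, w, o; o, o, v]
def matB : M3 := !![o, o, e; e, o, o; o, e, o]
def matZ : M3 := !![v, o, o; o, v, o; o, o, v]
def matD : M3 := !![e, o, o; o, o, e; o, e, o]
def matF : M3 := !![e, e, e; e, w, v; e, v, w]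
def matG : M3 := !![e, e, v; e, w, w; w, e, w]

/-- Membership test. -/
theorem ok_aux {M : M3} (h : Mᵀ * M.map (fun x => x ^ 2) = 1) : Mᵀ * M.map (qFrob hF4) = 1 := h

def elM : SU 3 F4 2 := suMk hF4 matM (by decide +kernel) (ok_aux (by decide +kernel))
def elB : SU 3 F4 2 := suMk hF4 matB (by decide +kernel) (ok_aux (by decide +kernel))
def elZ : SU 3 F4 2 := suMk hF4 matZ (by decide +kernel) (ok_aux (by decide +kernel))
def elD : SU 3 F4 2 := suMk hF4 matD (by decide +kernel) (ok_aux (by decide +kernel))
def elF : SU 3 F4 2 := suMk hF4 matF (by decide +kernel) (ok_aux (by decide +kernel))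
def elG : SU 3 F4 2 := suMk hF4 matG (by decide +kernel) (ok_aux (by decide +kernel))

theorem cube {x : SU 3 F4 2} (h : suVal x * suVal x * suVal x = 1) : x ^ 3 = 1 :=
  suVal_ext (by rw [pow_succ, pow_two, suVal_mul, suVal_mul, h]; rfl)

theorem eq_of_mul {x y z : SU 3 F4 2} (h : suVal x * suVal y = suVal z) : x * y = z := suVal_ext h

theorem ext_mul {x y z u : SU 3 F4 2} (h : suVal x * suVal y = suVal z * suVal u) : x * y = z * u := suVal_ext h

theorem inv_of {x y : SU 3 F4 2} (h : suVal x * suVal y = 1) : x = y⁻¹ :=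
  eq_inv_of_mul_eq_one_left (suVal_ext h)

/-- The relations in `SU(3,2)`. -/
def rel : Heis54.Rel (SU 3 F4 2) where
  m := elM
  b := elB
  z := elZ
  d := elD
  m3 := cube (show matM * matM * matM = 1 by decide +kernel)
  b3 := cube (show matB * matB * matB = 1 by decide +kernel)
  z3 := cube (show matZ * matZ * matZ = 1 by decide +kernel)
  d2 := suVal_ext (show matD * matD = 1 by decide +kernel)
  bm := suVal_ext (show matB * matM = matM * matB * matZ by decide +kernel)
  zm := suVal_ext (show matZ * matM = matM * matZ by decide +kernel)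
  zb := suVal_ext (show matZ * matB = matB * matZ by decide +kernel)
  zd := suVal_ext (show matZ * matD = matD * matZ by decide +kernel)
  dm := inv_of (show matD * matM * matD * matM = 1 by decide +kernel)
  db := inv_of (show matD * matB * matD * matB = 1 by decide +kernel)

/-- The matrix of a parameter. -/
def matNf (p : Heis54.Par) : M3 :=
  matM ^ p.1.val * matB ^ p.2.1.val * matZ ^ p.2.2.1.val * matD ^ p.2.2.2.val

theorem val_nf (p : Heis54.Par) : suVal (rel.nf p) = matNf p := by
  simp only [Heis54.Rel.nf, suVal_mul, suVal_pow]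
  rfl

/-- Two columns of a matrix. -/
def code (M : M3) : List F4 := [M 0 0, M 1 0, M 2 0, M 0 1, M 1 1, M 2 1]

theorem code_nodup : ∀ p q : Heis54.Par, code (matNf p) = code (matNf q) → p = q := by decide +kernel

theorem not_in : ∀ p : Heis54.Par, code (matNf p) ≠ code matF ∧ code (matNf p) ≠ code matG ∧
    code (matNf p) ≠ code (matF * matG) ∧ code (matNf p) ≠ code (matF * matD * matG) := by decide +kernel

theorem nf_injective : Function.Injective rel.nf := fun p q h =>
  code_nodup p q (by rw [← val_nf, ← val_nf, h])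

/-- The subgroup of order 54. -/
def T : Subgroup (SU 3 F4 2) := Subgroup.closure {elM, elB, elZ, elD}

theorem mem_T {g : SU 3 F4 2} : g ∈ T ↔ ∃ p, g = rel.nf p := by
  refine ⟨fun hg => Heis54.exists_nf rel hg, ?_⟩
  rintro ⟨p, rfl⟩
  exact mul_mem (mul_mem (mul_mem (pow_mem (Subgroup.subset_closure (by simp [rel])) _)
    (pow_mem (Subgroup.subset_closure (by simp [rel])) _)) (pow_mem (Subgroup.subset_closure (by simp [rel])) _))
    (pow_mem (Subgroup.subset_closure (by simp [rel])) _)

theorem card_T : Nat.card T = 54 := by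
  have e : (T : Set (SU 3 F4 2)) = Set.range rel.nf := Set.ext fun g => by
    rw [SetLike.mem_coe, mem_T]
    exact ⟨fun ⟨p, hp⟩ => ⟨p, hp.symm⟩, fun ⟨p, hp⟩ => ⟨p, hp.symm⟩⟩
  calc Nat.card T = Nat.card (Set.range rel.nf) := Nat.card_congr (Equiv.setCongr e)
    _ = Nat.card Heis54.Par := Nat.card_range_of_injective nf_injective
    _ = 54 := by simp

theorem card_SU : Nat.card (SU 3 F4 2) = 216 := by
  have h1 := order_GU hF4 3
  have h2 := natCard_GU_eq_SU hF4 (n := 3) (by norm_num)
  rw [h2] at h1
  norm_num [Finset.prod_range_succ] at h1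
  omega

theorem conj_gen (g : SU 3 F4 2) (M : M3) (hg : suVal g = M)
    (h : ∀ x ∈ [matM, matB, matZ, matD], (∃ p, M * x = matNf p * M) ∧ ∃ p, x * M = M * matNf p) :
    g ∈ Subgroup.normalizer (T : Set (SU 3 F4 2)) := by
  have key : ∀ (s : SU 3 F4 2), (∀ x ∈ ({elM, elB, elZ, elD} : Set (SU 3 F4 2)), s * x * s⁻¹ ∈ T) →
      ∀ y ∈ T, s * y * s⁻¹ ∈ T := by
    intro s hs y hy
    induction hy using Subgroup.closure_induction with
    | mem a ha => exact hs a ha
    | one => simp
    | mul a b _ _ ha hb => rw [show s * (a * b) * s⁻¹ = s * a * s⁻¹ * (s * b * s⁻¹) by group]; exact mul_mem ha hb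
    | inv a _ ha => rw [show s * a⁻¹ * s⁻¹ = (s * a * s⁻¹)⁻¹ by group]; exact inv_mem ha
  have hval : ∀ x ∈ ({elM, elB, elZ, elD} : Set (SU 3 F4 2)), suVal x ∈ [matM, matB, matZ, matD] := by
    rintro x (rfl | rfl | rfl | rfl) <;> simp [elM, elB, elZ, elD, suVal_suMk]
  refine Subgroup.mem_normalizer_iff.mpr fun y => ⟨key g (fun x hx => ?_) y, fun hy => ?_⟩
  · obtain ⟨⟨p, hp⟩, -⟩ := h _ (hval x hx)
    rw [show g * x * g⁻¹ = rel.nf p from mul_inv_eq_iff_eq_mul.mpr (suVal_ext (by
      rw [suVal_mul, suVal_mul, hg, val_nf, hp]))]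
    exact mem_T.mpr ⟨p, rfl⟩
  · have := key g⁻¹ (fun x hx => ?_) _ hy
    · simpa [mul_assoc] using this
    · obtain ⟨-, p, hp⟩ := h _ (hval x hx)
      rw [inv_inv, show g⁻¹ * x * g = rel.nf p by
        rw [mul_assoc, inv_mul_eq_iff_eq_mul]
        exact suVal_ext (by rw [suVal_mul, suVal_mul, hg, val_nf, hp])]
      exact mem_T.mpr ⟨p, rfl⟩

theorem conj_F : elF ∈ Subgroup.normalizer (T : Set (SU 3 F4 2)) :=
  conj_gen _ _ rfl (by
    simp only [List.forall_mem_cons, List.not_mem_nil, false_implies, implies_true, and_true]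
    exact ⟨⟨⟨(0, 2, 0, 0), by decide +kernel⟩, ⟨(0, 1, 0, 0), by decide +kernel⟩⟩,
      ⟨⟨(1, 0, 0, 0), by decide +kernel⟩, ⟨(2, 0, 0, 0), by decide +kernel⟩⟩,
      ⟨⟨(0, 0, 1, 0), by decide +kernel⟩, ⟨(0, 0, 1, 0), by decide +kernel⟩⟩,
      ⟨⟨(0, 0, 0, 1), by decide +kernel⟩, ⟨(0, 0, 0, 1), by decide +kernel⟩⟩⟩)

theorem conj_G : elG ∈ Subgroup.normalizer (T : Set (SU 3 F4 2)) :=
  conj_gen _ _ rfl (by
    simp only [List.forall_mem_cons, List.not_mem_nil, false_implies, implies_true, and_true]
    exact ⟨⟨⟨(2, 2, 0, 0), by decide +kernel⟩, ⟨(1, 1, 1, 0), by decide +kernel⟩⟩,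
      ⟨⟨(2, 1, 1, 0), by decide +kernel⟩, ⟨(1, 2, 0, 0), by decide +kernel⟩⟩,
      ⟨⟨(0, 0, 1, 0), by decide +kernel⟩, ⟨(0, 0, 1, 0), by decide +kernel⟩⟩,
      ⟨⟨(1, 2, 1, 1), by decide +kernel⟩, ⟨(0, 1, 0, 1), by decide +kernel⟩⟩⟩)

open scoped commutatorElement in
theorem commutator_eq : commutator (SU 3 F4 2) = T := by
  classical
  haveI : Finite (SU 3 F4 2) := Nat.finite_of_card_ne_zero (by rw [card_SU]; norm_num)
  let N := Subgroup.normalizer (T : Set (SU 3 F4 2))
  have hTN : T ≤ N := Subgroup.le_normalizer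
  have notmem : ∀ (g : SU 3 F4 2) (M : M3), suVal g = M → (∀ p, code (matNf p) ≠ code M) → g ∉ T := fun g M hg h hm => by
    obtain ⟨p, rfl⟩ := mem_T.mp hm
    exact h p (by rw [← val_nf, hg])
  have n1 : elF ∉ T := notmem _ _ rfl fun p => (not_in p).1
  have n2 : elG ∉ T := notmem _ _ rfl fun p => (not_in p).2.1
  have n3 : elF * elG ∉ T := notmem _ _ rfl fun p => (not_in p).2.2.1
  have n4 : elF⁻¹ * elG ∉ T := by
    rw [← inv_of (x := elF * elD) (y := elF) (show matF * matD * matF = 1 by decide +kernel)]
    exact notmem _ _ rfl fun p => (not_in p).2.2.2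
  haveI hTn : (T.subgroupOf N).Normal := Subgroup.normal_in_normalizer
  have hfour : 4 ≤ (T.subgroupOf N).index := by
    let π := QuotientGroup.mk' (T.subgroupOf N)
    let vF : N := ⟨elF, conj_F⟩
    let vG : N := ⟨elG, conj_G⟩
    have hne : ∀ x y : N, (x : SU 3 F4 2)⁻¹ * y ∉ T → π x ≠ π y := fun x y h e =>
      h (show x⁻¹ * y ∈ T.subgroupOf N from QuotientGroup.eq.mp e)
    have hinj : Function.Injective ![π 1, π vF, π vG, π (vF * vG)] := by
      have a := hne 1 vF (by simpa [vF] using n1)
      have b := hne 1 vG (by simpa [vG] using n2)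
      have c := hne 1 (vF * vG) (by simpa [vF, vG] using n3)
      have d := hne vF vG (by simpa [vF, vG] using n4)
      have e := hne vF (vF * vG) (by simpa [vF, vG] using n2)
      have f := hne vG (vF * vG) (fun h => n1 (by
        have := (Subgroup.mem_normalizer_iff.mp conj_G _).mp h
        simpa [vF, vG] using this))
      intro i j hij
      fin_cases i <;> fin_cases j <;> first
        | rfl
        | exact absurd hij a | exact absurd hij.symm a | exact absurd hij b | exact absurd hij.symm b
        | exact absurd hij c | exact absurd hij.symm c | exact absurd hij d | exact absurd hij.symm d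
        | exact absurd hij e | exact absurd hij.symm e | exact absurd hij f | exact absurd hij.symm f
    have := Nat.card_le_card_of_injective _ hinj
    rwa [Nat.card_fin] at this
  have hN : N = ⊤ := by
    refine Subgroup.eq_top_of_le_card N ?_
    rw [card_SU, ← Subgroup.card_mul_index (T.subgroupOf N), Nat.card_congr (Subgroup.subgroupOfEquivOfLe hTN).toEquiv, card_T]
    omega
  haveI hTn' : T.Normal := Subgroup.normalizer_eq_top_iff.mp hN
  refine le_antisymm ?_ ?_
  · haveI : Fact (Nat.Prime 2) := ⟨Nat.prime_two⟩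
    have hq : Nat.card (SU 3 F4 2 ⧸ T) = 2 ^ 2 := by
      have := Subgroup.card_mul_index T
      rw [card_T, card_SU, Subgroup.index_eq_card] at this
      omega
    letI := IsPGroup.commGroupOfCardEqPrimeSq hq
    exact Subgroup.Normal.quotient_commutative_iff_commutator_le.mp ⟨⟨mul_comm⟩⟩
  · have hm : elM ∈ commutator (SU 3 F4 2) := by
      rw [show elM = ⁅elD, elM⁆ from suVal_ext (by
        rw [commutatorElement_def, ← inv_of (x := elD) (y := elD) (show matD * matD = 1 by decide +kernel),
          ← inv_of (x := elM * elM) (y := elM) (show matM * matM * matM = 1 by decide +kernel)]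
        show matM = matD * matM * matD * (matM * matM)
        decide +kernel), commutator_def]
      exact Subgroup.commutator_mem_commutator (Subgroup.mem_top _) (Subgroup.mem_top _)
    have hb : elB ∈ commutator (SU 3 F4 2) := by
      rw [show elB = ⁅elD, elB⁆ from suVal_ext (by
        rw [commutatorElement_def, ← inv_of (x := elD) (y := elD) (show matD * matD = 1 by decide +kernel),
          ← inv_of (x := elB * elB) (y := elB) (show matB * matB * matB = 1 by decide +kernel)]
        show matB = matD * matB * matD * (matB * matB)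
        decide +kernel), commutator_def]
      exact Subgroup.commutator_mem_commutator (Subgroup.mem_top _) (Subgroup.mem_top _)
    have hz : elZ ∈ commutator (SU 3 F4 2) := by
      rw [show elZ = elB⁻¹ * elM⁻¹ * (elB * elM) by rw [show elB * elM = elM * elB * elZ from rel.bm]; group]
      exact mul_mem (mul_mem (inv_mem hb) (inv_mem hm)) (mul_mem hb hm)
    have hd : elD ∈ commutator (SU 3 F4 2) := by
      rw [show elD = (elB * elB * elZ * elZ)⁻¹ * ⁅elF, elG⁆ by
        rw [eq_inv_mul_iff_mul_eq]
        refine suVal_ext ?_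
        rw [commutatorElement_def, ← inv_of (x := elF * elD) (y := elF) (show matF * matD * matF = 1 by decide +kernel),
          ← inv_of (x := elG * elG * elG) (y := elG) (show matG * matG * matG * matG = 1 by decide +kernel)]
        show matB * matB * matZ * matZ * matD = matF * matG * (matF * matD) * (matG * matG * matG)
        decide +kernel]
      refine mul_mem (inv_mem (mul_mem (mul_mem (mul_mem hb hb) hz) hz)) ?_
      rw [commutator_def]
      exact Subgroup.commutator_mem_commutator (Subgroup.mem_top _) (Subgroup.mem_top _)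
    rw [T, Subgroup.closure_le]
    rintro x (rfl | rfl | rfl | rfl)
    · exact hm
    · exact hb
    · exact hz
    · exact hd

/-- The derived group as a group of order 54. -/
theorem data : Nonempty (Heis54.Data (commutator (SU 3 F4 2))) := by
  have hm : ∀ x ∈ ({elM, elB, elZ, elD} : Set (SU 3 F4 2)), x ∈ commutator (SU 3 F4 2) := fun x hx =>
    commutator_eq ▸ Subgroup.subset_closure hx
  refine ⟨{ m := ⟨elM, hm _ (by simp)⟩, b := ⟨elB, hm _ (by simp)⟩, z := ⟨elZ, hm _ (by simp)⟩,
            d := ⟨elD, hm _ (by simp)⟩, m3 := Subtype.ext rel.m3, b3 := Subtype.ext rel.b3, z3 := Subtype.ext rel.z3,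
            d2 := Subtype.ext rel.d2, bm := Subtype.ext rel.bm, zm := Subtype.ext rel.zm, zb := Subtype.ext rel.zb,
            zd := Subtype.ext rel.zd, dm := Subtype.ext rel.dm, db := Subtype.ext rel.db, gen := ?_, card := ?_ }⟩
  · apply Subgroup.map_injective (commutator (SU 3 F4 2)).subtype_injective
    rw [MonoidHom.map_closure, ← MonoidHom.range_eq_map, Subgroup.range_subtype]
    simp only [Set.image_insert_eq, Set.image_singleton, Subgroup.coe_subtype]
    rw [commutator_eq]; rfl
  · rw [commutator_eq, card_T]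

end Cfsg.Agent.Spor.SU32
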