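import Mathlib
import Cfsg.Agent.Lib.Spor.SUThreeTwoModel
import Cfsg.Agent.Lib.Classical.SLGroup

/-! Elements of order two, three and fifteen in `PSL(3,4)`. -/

set_option autoImplicit false
set_option linter.style.haveILetI false

namespace Cfsg.Agent.Spor.L34Elem

open Matrix Cfsg.Agent.Spor.SU32

local notation "M3" => Matrix (Fin 3) (Fin 3) F4
local notation "S" => Matrix.SpecialLinearGroup (Fin 3) F4
local notation "PS" => Matrix.ProjectiveSpecialLinearGroup (Fin 3) F4

theorem cube_of_ne : ∀ c : F4, c ≠ 0 → c ^ 3 = 1 := by decide +kernel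

theorem center_scalar {g : S} (hg : g ∈ Subgroup.center S) :
    ∃ c : F4, c ^ 3 = 1 ∧ (g : M3) = c • (1 : M3) := by
  obtain ⟨c, hc, h⟩ := Matrix.SpecialLinearGroup.mem_center_iff.mp hg
  exact ⟨c, by simpa using hc, by rw [← h, Matrix.scalar_apply, Matrix.smul_one_eq_diagonal]⟩

theorem center_mem {g : S} {c : F4} (h : (g : M3) = c • (1 : M3)) : g ∈ Subgroup.center S :=
  Subgroup.mem_center_iff.2 fun k => Subtype.ext (by
    rw [Matrix.SpecialLinearGroup.coe_mul, Matrix.SpecialLinearGroup.coe_mul, h, Matrix.mul_smul, Matrix.smul_mul,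
      mul_one, one_mul])

/-- The projection. -/
abbrev π : S →* PS := QuotientGroup.mk' (Subgroup.center S)

theorem π_eq_one {g : S} : π g = 1 ↔ g ∈ Subgroup.center S := QuotientGroup.eq_one_iff g

theorem center_cube {z : S} (hz : z ∈ Subgroup.center S) : z ^ 3 = 1 := by
  obtain ⟨c, hc, h⟩ := center_scalar hz
  apply Subtype.ext
  rw [Matrix.SpecialLinearGroup.coe_pow, h, smul_pow, hc, one_smul, one_pow]
  rfl

theorem norm_key : ∀ a b e c : F4, c ^ 3 = 1 → c ≠ 1 →
    a * (a * a + c * b * e) + c * b * (b * b + a * e) + c * e * (c * e * e + a * b) = 0 →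
    a = 0 ∧ b = 0 ∧ e = 0 := by decide +kernel

theorem lin_key : ∀ a b e c x y z : F4, a * x + b * y + e * z = 0 → a * y + b * z + e * c * x = 0 →
    a * z + b * c * x + e * c * y = 0 →
    (a * (a * a + c * b * e) + c * b * (b * b + a * e) + c * e * (c * e * e + a * b)) * x = 0 := by decide +kernel

theorem sum_key : ∀ p q r : F4,
    p = p + 1 * q + 1 * 1 * r + (p + F4.w * q + F4.w * F4.w * r + (p + F4.v * q + F4.v * F4.v * r)) := by decide +kernel

theorem supp_key : ∀ (i j : Fin 3) (c : F4), ![1, F4.w, F4.v] i = c * ![1, F4.w, F4.v] j →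
    c = ![1, F4.v, F4.w] (j - i) := by decide +kernel

theorem cube_root : ∀ c : F4, c ^ 3 = 1 → c = 1 ∨ c = F4.w ∨ c = F4.v := by decide +kernel

theorem diag_cube : ∀ a p x : F4, a * p * x = 1 → a * a * a = 1 ∧ p * p * p = 1 ∧ x * x * x = 1 := by decide +kernel

/-- A lift with the same power relation when the exponent is two. -/
theorem lift_two {x : PS} (hx : x ^ 2 = 1) : ∃ A : S, π A = x ∧ A ^ 2 = 1 := by
  obtain ⟨B, rfl⟩ := QuotientGroup.mk'_surjective _ x
  rw [← map_pow, π_eq_one] at hx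
  have hz : B ^ 2 ∈ Subgroup.center S := hx
  refine ⟨B * B ^ 2, ?_, ?_⟩
  · rw [map_mul, π_eq_one.2 hz, mul_one]
  · have h6 : (B ^ 2) ^ 3 = 1 := center_cube hz
    rw [← pow_succ', ← pow_mul, ← h6, ← pow_mul]

/-- The lifts of an element of order three have order three. -/
theorem lift_three {A : S} (hA : π A ^ 3 = 1) : A ^ 3 = 1 := by
  rw [← map_pow, π_eq_one] at hA
  obtain ⟨c, hc, h⟩ := center_scalar hA
  by_contra hne
  have hc1 : c ≠ 1 := fun e => hne (Subtype.ext (by rw [h, e, one_smul]; rfl))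
  have hcol : ∀ v : Fin 3 → F4, v ≠ 0 → LinearIndependent F4
      ![v, (A : M3) *ᵥ v, (A : M3) *ᵥ ((A : M3) *ᵥ v)] := by
    intro v hv
    rw [Fintype.linearIndependent_iff]
    intro g hg
    simp only [Fin.sum_univ_three, Matrix.cons_val_zero, Matrix.cons_val_one, Matrix.head_cons,
      Matrix.cons_val_two, Matrix.tail_cons] at hg
    have h3 : (A : M3) *ᵥ ((A : M3) *ᵥ ((A : M3) *ᵥ v)) = c • v := by
      rw [Matrix.mulVec_mulVec, Matrix.mulVec_mulVec, show (A : M3) * (A : M3) * (A : M3) = ((A ^ 3 : S) : M3) by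
        rw [Matrix.SpecialLinearGroup.coe_pow, pow_succ, pow_two], h, Matrix.smul_mulVec, Matrix.one_mulVec]
    have hA1 := congrArg (fun w => (A : M3) *ᵥ w) hg
    simp only [Matrix.mulVec_add, Matrix.mulVec_smul, Matrix.mulVec_zero, h3, smul_smul] at hA1
    have hA2 := congrArg (fun w => (A : M3) *ᵥ w) hA1
    simp only [Matrix.mulVec_add, Matrix.mulVec_smul, Matrix.mulVec_zero, h3, smul_smul] at hA2
    have h0 : (g 0 * (g 0 * g 0 + c * g 1 * g 2) + c * g 1 * (g 1 * g 1 + g 0 * g 2) +
        c * g 2 * (c * g 2 * g 2 + g 0 * g 1)) • v = 0 := by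
      funext i
      have e0 := congrFun hg i
      have e1 := congrFun hA1 i
      have e2 := congrFun hA2 i
      simp only [Pi.add_apply, Pi.smul_apply, Pi.zero_apply, smul_eq_mul] at e0 e1 e2 ⊢
      exact lin_key _ _ _ c _ _ _ e0 e1 e2
    have h0 := norm_key _ _ _ c hc hc1 ((smul_eq_zero.1 h0).resolve_right hv)
    intro i
    fin_cases i
    exacts [h0.1, h0.2.1, h0.2.2]
  let v : Fin 3 → F4 := ![1, 0, 0]
  let P : M3 := Matrix.of fun i j => ![v, (A : M3) *ᵥ v, (A : M3) *ᵥ ((A : M3) *ᵥ v)] j i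
  have hP : IsUnit P.det := (Matrix.isUnit_iff_isUnit_det P).1 <| Matrix.linearIndependent_cols_iff_isUnit.1
    (hcol v (fun e => absurd (congrFun e 0) (by decide)))
  have hcomp : (A : M3) * P = P * !![0, 0, c; 1, 0, 0; 0, 1, 0] := by
    have h3 : (A : M3) *ᵥ ((A : M3) *ᵥ ((A : M3) *ᵥ v)) = c • v := by
      rw [Matrix.mulVec_mulVec, Matrix.mulVec_mulVec, show (A : M3) * (A : M3) * (A : M3) = ((A ^ 3 : S) : M3) by
        rw [Matrix.SpecialLinearGroup.coe_pow, pow_succ, pow_two], h, Matrix.smul_mulVec, Matrix.one_mulVec]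
    ext i j
    have hl : ((A : M3) * P) i j = ((A : M3) *ᵥ ![v, (A : M3) *ᵥ v, (A : M3) *ᵥ ((A : M3) *ᵥ v)] j) i := rfl
    rw [hl, Matrix.mul_apply, Fin.sum_univ_three]
    fin_cases j
    · simp [P]
    · simp [P]
    · show ((A : M3) *ᵥ ((A : M3) *ᵥ ((A : M3) *ᵥ v))) i = _
      rw [h3]
      simp [P, mul_comm]
  have hd := congrArg Matrix.det hcomp
  rw [Matrix.det_mul, Matrix.det_mul, A.2, one_mul] at hd
  have : (!![0, 0, c; 1, 0, 0; 0, 1, 0] : M3).det = 1 := by
    refine hP.mul_left_cancel ?_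
    rw [mul_one]; exact hd.symm
  rw [Matrix.det_fin_three] at this
  simp at this
  exact hc1 this

/-- A change of basis of determinant one. -/
theorem conj_to {A D : S} (v : Fin 3 → Fin 3 → F4) (hv : LinearIndependent F4 v)
    (h : ∀ t : F4, t ≠ 0 → (A : M3) * Matrix.of (fun i j => (if j = 1 then t else 1) * v j i) =
      Matrix.of (fun i j => (if j = 1 then t else 1) * v j i) * (D : M3)) : IsConj D A := by
  set P : M3 := Matrix.of fun i j => v j i with hPdef
  have hP : IsUnit P.det := (Matrix.isUnit_iff_isUnit_det P).1 (Matrix.linearIndependent_cols_iff_isUnit.1 hv)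
  set t := (P.det)⁻¹
  set P' : M3 := Matrix.of fun i j => (if j = 1 then t else 1) * v j i with hP'
  have hdet : P'.det = 1 := by
    have e : P' = Matrix.updateCol P 1 (t • fun i => P i 1) := by
      ext i j
      by_cases hj : j = 1
      · subst hj; simp [P', P]
      · simp [P', P, hj]
    rw [e, Matrix.det_updateCol_smul, Matrix.updateCol_eq_self, inv_mul_cancel₀ hP.ne_zero]
  let g : S := ⟨P', hdet⟩
  refine isConj_iff.2 ⟨g, ?_⟩
  rw [mul_inv_eq_iff_eq_mul]
  exact (Subtype.ext (h t (inv_ne_zero hP.ne_zero))).symm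

/-- The standard element of order three. -/
def dS : S := ⟨!![1, 0, 0; 0, F4.w, 0; 0, 0, F4.v], by decide +kernel⟩

/-- The standard involution. -/
def tS : S := ⟨!![1, 0, 1; 0, 1, 0; 0, 0, 1], by decide +kernel⟩

theorem conj_three {A : S} (hA : A ^ 3 = 1) (hne : π A ≠ 1) : IsConj dS A := by
  have hA3 : (A : M3) * (A : M3) * (A : M3) = 1 := by
    rw [show (A : M3) * (A : M3) * (A : M3) = ((A ^ 3 : S) : M3) by
      rw [Matrix.SpecialLinearGroup.coe_pow, pow_succ, pow_two], hA]
    rfl
  let s : Set (Fin 3 → F4) := {v | ∃ a : F4, (A : M3) *ᵥ v = a • v}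
  have hspan : Submodule.span F4 s = ⊤ := by
    refine eq_top_iff.2 fun x _ => ?_
    have hx : x = ∑ a ∈ ({1, F4.w, F4.v} : Finset F4),
        (x + a • ((A : M3) *ᵥ x) + (a * a) • ((A : M3) *ᵥ ((A : M3) *ᵥ x))) := by
      funext i
      rw [Finset.sum_insert (by decide), Finset.sum_insert (by decide), Finset.sum_singleton]
      simp only [Pi.add_apply, Pi.smul_apply, smul_eq_mul]
      exact sum_key _ _ _
    rw [hx]
    refine Submodule.sum_mem _ fun a ha => Submodule.subset_span ⟨a * a, ?_⟩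
    have h3 : (A : M3) *ᵥ ((A : M3) *ᵥ ((A : M3) *ᵥ x)) = x := by
      rw [Matrix.mulVec_mulVec, Matrix.mulVec_mulVec, hA3, Matrix.one_mulVec]
    simp only [Matrix.mulVec_add, Matrix.mulVec_smul, h3]
    funext i
    simp only [Pi.add_apply, Pi.smul_apply, smul_eq_mul]
    simp only [Finset.mem_insert, Finset.mem_singleton] at ha
    generalize x i = p, ((A : M3) *ᵥ x) i = q, ((A : M3) *ᵥ ((A : M3) *ᵥ x)) i = r
    revert p q r
    rcases ha with rfl | rfl | rfl <;> decide +kernel
  obtain ⟨f, hf, hfs, hfi⟩ := Submodule.exists_fun_fin_finrank_span_eq F4 s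
  have h3 : Module.finrank F4 (Submodule.span F4 s) = 3 := by
    rw [hspan, finrank_top, Module.finrank_fintype_fun_eq_card, Fintype.card_fin]
  let v : Fin 3 → Fin 3 → F4 := fun i => f (Fin.cast h3.symm i)
  have hv : LinearIndependent F4 v := hfi.comp _ (Fin.cast_injective _)
  choose a ha using fun i => hf (Fin.cast h3.symm i)
  have hP : IsUnit (Matrix.of fun i j => v j i : M3).det :=
    (Matrix.isUnit_iff_isUnit_det _).1 (Matrix.linearIndependent_cols_iff_isUnit.1 hv)
  have hAP : (A : M3) * Matrix.of (fun i j => v j i) = Matrix.of (fun i j => v j i) * Matrix.diagonal a := by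
    ext i j
    rw [Matrix.mul_diagonal, show ((A : M3) * Matrix.of (fun i j => v j i)) i j = ((A : M3) *ᵥ v j) i from rfl, ha j]
    simp [v, mul_comm]
  have hprod : a 0 * a 1 * a 2 = 1 := by
    have hd := congrArg Matrix.det hAP
    rw [Matrix.det_mul, Matrix.det_mul, A.2, one_mul, Matrix.det_diagonal, Fin.prod_univ_three] at hd
    exact hP.mul_left_cancel (hd.symm.trans (mul_one _).symm)
  have hns : ¬ (a 0 = a 1 ∧ a 1 = a 2) := fun ⟨e1, e2⟩ => hne (π_eq_one.2 (center_mem (c := a 0) (by
    refine ((Matrix.isUnit_iff_isUnit_det _).2 hP).mul_right_cancel ?_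
    rw [hAP, Matrix.smul_mul, one_mul]
    ext i j
    rw [Matrix.mul_diagonal, Matrix.smul_apply, smul_eq_mul, mul_comm]
    fin_cases j <;> simp [e1, e2])))
  have key : ∀ x y z : F4, x * y * z = 1 → ¬ (x = y ∧ y = z) → ∃ σ : Equiv.Perm (Fin 3),
      ![x, y, z] (σ 0) = 1 ∧ ![x, y, z] (σ 1) = F4.w ∧ ![x, y, z] (σ 2) = F4.v := by decide +kernel
  obtain ⟨σ, hσ⟩ := key _ _ _ hprod hns
  have heq : ∀ i, ![a 0, a 1, a 2] i = a i := fun i => by fin_cases i <;> rfl
  rw [heq, heq, heq] at hσ
  refine conj_to (v ∘ σ) (hv.comp σ σ.injective) fun t _ => ?_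
  ext i j
  have hl : ((A : M3) * Matrix.of (fun i j => (if j = 1 then t else 1) * (v ∘ σ) j i)) i j =
      (if j = 1 then t else 1) * ((A : M3) *ᵥ v (σ j)) i := by
    rw [Matrix.mul_apply, Matrix.mulVec, dotProduct, Finset.mul_sum]
    exact Finset.sum_congr rfl fun k _ => by simp only [Matrix.of_apply, Function.comp_apply]; ring
  rw [hl, ha (σ j), Matrix.mul_apply, Fin.sum_univ_three]
  fin_cases j <;> simp [dS, v, hσ.1, hσ.2.1, hσ.2.2, mul_comm, mul_left_comm]

theorem conj_two {A : S} (hA : A ^ 2 = 1) (hne : A ≠ 1) : IsConj tS A := by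
  set N : M3 := (A : M3) + 1
  have hchar : ∀ x : F4, x + x = 0 := by decide
  have hAA : (A : M3) * (A : M3) = 1 := by
    rw [show (A : M3) * (A : M3) = ((A ^ 2 : S) : M3) by rw [Matrix.SpecialLinearGroup.coe_pow, pow_two], hA]
    rfl
  have hNN : N * N = 0 := by
    rw [show N * N = (A : M3) * (A : M3) + 1 + ((A : M3) + (A : M3)) by simp only [N]; noncomm_ring, hAA]
    ext i j
    simp only [Matrix.add_apply, Matrix.zero_apply, hchar, add_zero]
  have hAN : ∀ w, (A : M3) *ᵥ w = w + N *ᵥ w := fun w => by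
    funext i
    simp only [N, Matrix.add_mulVec, Matrix.one_mulVec, Pi.add_apply]
    generalize w i = p, ((A : M3) *ᵥ w) i = q
    revert p q
    decide
  obtain ⟨w, hw⟩ : ∃ w, N *ᵥ w ≠ 0 := by
    by_contra hc
    push Not at hc
    exact hne (Subtype.ext (Matrix.ext_of_mulVec_single fun i => by
      rw [hAN, hc, add_zero]; exact (Matrix.one_mulVec _).symm))
  obtain ⟨u, hu, hus⟩ : ∃ u, N *ᵥ u = 0 ∧ u ∉ Submodule.span F4 {N *ᵥ w} := by
    by_contra hc
    push Not at hc
    have hker : LinearMap.ker N.mulVecLin ≤ Submodule.span F4 {N *ᵥ w} := fun x hx => hc x hx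
    have hrange : LinearMap.range N.mulVecLin ≤ LinearMap.ker N.mulVecLin := by
      rintro _ ⟨y, rfl⟩
      show N *ᵥ (N *ᵥ y) = 0
      rw [Matrix.mulVec_mulVec, hNN, Matrix.zero_mulVec]
    have h1 := Submodule.finrank_mono hker
    have h2 := Submodule.finrank_mono hrange
    rw [finrank_span_singleton hw] at h1
    have h3 := LinearMap.finrank_range_add_finrank_ker N.mulVecLin
    rw [Module.finrank_fintype_fun_eq_card, Fintype.card_fin] at h3
    omega
  have hNw : N *ᵥ (N *ᵥ w) = 0 := by rw [Matrix.mulVec_mulVec, hNN, Matrix.zero_mulVec]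
  have hv : LinearIndependent F4 ![N *ᵥ w, u, w] := by
    rw [Fintype.linearIndependent_iff]
    intro g hg
    simp only [Fin.sum_univ_three, Matrix.cons_val_zero, Matrix.cons_val_one, Matrix.head_cons,
      Matrix.cons_val_two, Matrix.tail_cons] at hg
    have h := congrArg (fun x => N *ᵥ x) hg
    simp only [Matrix.mulVec_add, Matrix.mulVec_smul, hNw, hu, smul_zero, zero_add, Matrix.mulVec_zero] at h
    have h2 : g 2 = 0 := (smul_eq_zero.1 h).resolve_right hw
    rw [h2, zero_smul, add_zero] at hg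
    have h1 : g 1 = 0 := by
      by_contra hne'
      refine hus (Submodule.mem_span_singleton.2 ⟨-(g 1)⁻¹ * g 0, ?_⟩)
      rw [← smul_smul, eq_neg_of_add_eq_zero_left hg, smul_neg, neg_smul, neg_neg, smul_smul,
        inv_mul_cancel₀ hne', one_smul]
    rw [h1, zero_smul, add_zero] at hg
    intro i
    fin_cases i
    exacts [(smul_eq_zero.1 hg).resolve_right hw, h1, h2]
  refine conj_to _ hv fun t _ => ?_
  ext i j
  have hl : ((A : M3) * Matrix.of (fun i j => (if j = 1 then t else 1) * ![N *ᵥ w, u, w] j i)) i j =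
      (if j = 1 then t else 1) * ((A : M3) *ᵥ ![N *ᵥ w, u, w] j) i := by
    rw [Matrix.mul_apply, Matrix.mulVec, dotProduct, Finset.mul_sum]
    exact Finset.sum_congr rfl fun k _ => by simp only [Matrix.of_apply]; ring
  rw [hl, hAN, Matrix.mul_apply, Fin.sum_univ_three]
  fin_cases j
  · simp [tS, hNw]
  · simp [tS, hu]
  · simp [tS, add_comm]

theorem involutions_conj {x y : PS} (hx : orderOf x = 2) (hy : orderOf y = 2) : IsConj x y := by
  have key : ∀ x : PS, orderOf x = 2 → IsConj (π tS) x := by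
    intro x hx
    obtain ⟨A, rfl, hA⟩ := lift_two (show x ^ 2 = 1 by have := pow_orderOf_eq_one x; rwa [hx] at this)
    refine π.map_isConj (conj_two hA fun e => ?_)
    rw [e, map_one, orderOf_one] at hx
    norm_num at hx
  exact (key x hx).symm.trans (key y hy)

theorem three_conj {x y : PS} (hx : orderOf x = 3) (hy : orderOf y = 3) : IsConj x y := by
  have key : ∀ x : PS, orderOf x = 3 → IsConj (π dS) x := by
    intro x hx
    obtain ⟨A, rfl⟩ := QuotientGroup.mk'_surjective _ x
    refine π.map_isConj (conj_three (lift_three (by have := pow_orderOf_eq_one (π A); rwa [show orderOf (π A) = 3 from hx] at this)) fun e => ?_)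
    rw [show π A = 1 from e, orderOf_one] at hx
    norm_num at hx
  exact (key x hx).symm.trans (key y hy)

theorem no_fifteen (g : PS) : orderOf g ≠ 15 := by
  intro hg
  have h5 : orderOf (g ^ 5) = 3 := by rw [orderOf_pow, hg]; rfl
  have h3 : orderOf (g ^ 3) = 5 := by rw [orderOf_pow, hg]; rfl
  obtain ⟨A, hA⟩ := QuotientGroup.mk'_surjective _ (g ^ 5)
  obtain ⟨B, hB⟩ := QuotientGroup.mk'_surjective _ (g ^ 3)
  have hA3 : A ^ 3 = 1 := lift_three (by have := pow_orderOf_eq_one (g ^ 5); rwa [h5, ← hA] at this)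
  obtain ⟨h, hh⟩ := isConj_iff.1 (conj_three hA3 (fun e => by rw [hA] at e; rw [e, orderOf_one] at h5; norm_num at h5))
  set C : S := h⁻¹ * B * h
  have hC : orderOf (π C) = 5 := by
    rw [map_mul, map_mul, map_inv, hB, ← MulAut.conj_symm_apply, MulEquiv.orderOf_eq, h3]
  have hcomm : π C * π dS = π dS * π C := by
    have hAB : π A * π B = π B * π A := by rw [hA, hB, ← pow_add, ← pow_add, add_comm]
    have hd : dS = h⁻¹ * A * h := by rw [← hh]; group
    rw [hd]
    simp only [C, map_mul, map_inv]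
    calc (π h)⁻¹ * π B * π h * ((π h)⁻¹ * π A * π h) = (π h)⁻¹ * (π B * π A) * π h := by group
      _ = (π h)⁻¹ * (π A * π B) * π h := by rw [hAB]
      _ = _ := by group
  rw [← map_mul, ← map_mul] at hcomm
  have hz : (C * dS)⁻¹ * (dS * C) ∈ Subgroup.center S := by
    rw [← π_eq_one, map_mul, map_inv, hcomm, inv_mul_cancel]
  obtain ⟨c, hc, hcs⟩ := center_scalar hz
  have hmat : (dS : M3) * (C : M3) = c • ((C : M3) * (dS : M3)) := by
    have e : dS * C = (C * dS) * ((C * dS)⁻¹ * (dS * C)) := (mul_inv_cancel_left _ _).symm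
    have e' := congrArg (fun x : S => (x : M3)) e
    simp only [Matrix.SpecialLinearGroup.coe_mul] at e' hcs
    rw [e', hcs, Matrix.mul_smul, mul_one]
  have hd : ∀ i : Fin 3, (dS : M3) i i = ![1, F4.w, F4.v] i := fun i => by fin_cases i <;> rfl
  have hdd : (dS : M3) = Matrix.diagonal ![1, F4.w, F4.v] := by decide +kernel
  have hent : ∀ i j, ![1, F4.w, F4.v] i * (C : M3) i j = c * ((C : M3) i j * ![1, F4.w, F4.v] j) := fun i j => by
    have := congrFun (congrFun hmat i) j
    rw [hdd, Matrix.diagonal_mul, Matrix.smul_apply, Matrix.mul_diagonal, smul_eq_mul] at this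
    exact this
  have hzero : ∀ i j, (C : M3) i j ≠ 0 → ![1, F4.w, F4.v] i = c * ![1, F4.w, F4.v] j := fun i j hne => by
    have := hent i j
    rw [mul_comm ((C : M3) i j), ← mul_assoc] at this
    exact mul_right_cancel₀ hne this
  have hsupp : ∀ i j, (C : M3) i j = 0 ∨ c = ![1, F4.v, F4.w] (j - i) := fun i j => by
    by_cases hne : (C : M3) i j = 0
    · exact Or.inl hne
    · exact Or.inr (supp_key i j c (hzero i j hne))
  have h1 : π C ^ 3 = 1 := by
    rw [← map_pow, π_eq_one]
    rcases cube_root c hc with rfl | rfl | rfl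
    · have hoff : ∀ i j : Fin 3, i ≠ j → (C : M3) i j = 0 := fun i j hij =>
        (hsupp i j).resolve_right (by revert hij; revert i j; decide +kernel)
      have hD : (C : M3) = Matrix.diagonal fun i => (C : M3) i i := by
        ext i j
        by_cases hij : i = j
        · subst hij; simp
        · rw [Matrix.diagonal_apply_ne _ hij, hoff i j hij]
      have hdet : (C : M3).det = 1 := C.2
      rw [hD, Matrix.det_diagonal, Fin.prod_univ_three] at hdet
      obtain ⟨q0, q1, q2⟩ := diag_cube _ _ _ hdet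
      refine center_mem (c := 1) ?_
      rw [Matrix.SpecialLinearGroup.coe_pow, hD, Matrix.diagonal_pow, one_smul, ← Matrix.diagonal_one]
      refine congrArg Matrix.diagonal (funext fun i => ?_)
      rw [Pi.pow_apply, pow_succ, pow_two]
      fin_cases i
      exacts [q0, q1, q2]
    all_goals
      refine center_mem (c := ((C : M3) ^ 3) 0 0) ?_
      rw [Matrix.SpecialLinearGroup.coe_pow]
      ext i j
      rw [pow_succ, pow_two]
      have s00 := (hsupp 0 0).resolve_right (by decide); have s11 := (hsupp 1 1).resolve_right (by decide)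
      have s22 := (hsupp 2 2).resolve_right (by decide)
    · have s01 := (hsupp 0 1).resolve_right (by decide); have s12 := (hsupp 1 2).resolve_right (by decide)
      have s20 := (hsupp 2 0).resolve_right (by decide)
      fin_cases i <;> fin_cases j <;>
        simp [Matrix.mul_apply, Fin.sum_univ_three, s00, s11, s22, s01, s12, s20] <;> ring
    · have s02 := (hsupp 0 2).resolve_right (by decide); have s10 := (hsupp 1 0).resolve_right (by decide)
      have s21 := (hsupp 2 1).resolve_right (by decide)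
      fin_cases i <;> fin_cases j <;>
        simp [Matrix.mul_apply, Fin.sum_univ_three, s00, s11, s22, s02, s10, s21] <;> ring
  have := orderOf_dvd_of_pow_eq_one h1
  rw [hC] at this
  norm_num at this

set_option maxHeartbeats 1000000 in
/-- transport to any field with four elements -/
theorem model {F : Type*} [Field F] [Fintype F] (hF : Fintype.card F = 4) :
    Nonempty (Matrix.ProjectiveSpecialLinearGroup (Fin 3) F ≃* PS) := by
  let φ : F ≃+* F4 := FiniteField.ringEquivOfCardEq (hF.trans card_F4.symm)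
  let e : Matrix.SpecialLinearGroup (Fin 3) F ≃* S :=
    { toFun := Matrix.SpecialLinearGroup.map (φ : F →+* F4)
      invFun := Matrix.SpecialLinearGroup.map (φ.symm : F4 →+* F)
      left_inv := fun s => Subtype.ext (Matrix.ext fun i j => φ.symm_apply_apply _)
      right_inv := fun s => Subtype.ext (Matrix.ext fun i j => φ.apply_symm_apply _)
      map_mul' := map_mul _ }
  refine ⟨(QuotientGroup.congr (Subgroup.center (Matrix.SpecialLinearGroup (Fin 3) F)) (Subgroup.center S) e ?_ :)⟩
  ext x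
  constructor
  · rintro ⟨g, hg, rfl⟩
    refine Subgroup.mem_center_iff.2 fun h => ?_
    obtain ⟨h, rfl⟩ := e.surjective h
    show e h * e g = e g * e h
    rw [← map_mul, ← map_mul, Subgroup.mem_center_iff.1 hg h]
  · intro hx
    obtain ⟨g, rfl⟩ := e.surjective x
    refine ⟨g, Subgroup.mem_center_iff.2 fun h => e.injective ?_, rfl⟩
    rw [map_mul, map_mul, Subgroup.mem_center_iff.1 hx (e h)]

end Cfsg.Agent.Spor.L34Elem
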