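import Cfsg.Agent.Lib.Spor.ThreeTrans
import Cfsg.Agent.Lib.Spor.OrderTwoThree
import Cfsg.Agent.Lib.Grp.Quasisimple

/-! In a group generated by a class of 3-transpositions with perfect derived group and without a
solvable normal subgroup in it, every proper "uniform" equivalence on the class is trivial. -/

set_option autoImplicit false

namespace Cfsg.Agent.Spor.ThreeTrans

open scoped commutatorElement Pointwise

variable {G : Type*} [Group G] {D : Set G}

/-- Fischer's hypotheses. -/
structure Hyp (D : Set G) : Prop where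
  cls : IsThreeTranspositionClass D
  perf : ⁅commutator G, commutator G⁆ = commutator G
  solv : ∀ N : Subgroup G, N.Normal → Group.IsSolvable N → N ≤ commutator G → N = ⊥
  nc : ∃ a ∈ D, ∃ b ∈ D, ¬ Commute a b

theorem set_of_cls (h : IsThreeTranspositionClass D) : IsThreeTranspositionSet D := h.1

theorem conj_mem (h : IsThreeTranspositionClass D) (g : G) {x : G} (hx : x ∈ D) :
    g * x * g⁻¹ ∈ D := by
  obtain ⟨d, -, rfl⟩ := h.2.1
  exact IsConj.trans hx (isConj_iff.mpr ⟨g, rfl⟩)

theorem conj'_mem (h : IsThreeTranspositionClass D) {e x : G} (he : e ∈ D) (hx : x ∈ D) :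
    e * x * e ∈ D := by
  have := conj_mem h e hx
  rwa [inv_eq h.1 he] at this

theorem transitive (h : IsThreeTranspositionClass D) {a b : G} (ha : a ∈ D) (hb : b ∈ D) :
    ∃ g : G, g * a * g⁻¹ = b := by
  obtain ⟨d, -, rfl⟩ := h.2.1
  exact isConj_iff.mp (IsConj.trans (IsConj.symm ha) hb)

theorem commute_conj_iff (g a b : G) :
    Commute (g * a * g⁻¹) (g * b * g⁻¹) ↔ Commute a b := by
  constructor
  · intro h
    have := h.eq
    simp only [mul_assoc, inv_mul_cancel_left, mul_right_inj] at this
    show a * b = b * a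
    simpa [← mul_assoc, mul_left_inj] using this
  · intro h
    show g * a * g⁻¹ * (g * b * g⁻¹) = g * b * g⁻¹ * (g * a * g⁻¹)
    simp only [mul_assoc, inv_mul_cancel_left]
    rw [← mul_assoc a, h.eq, mul_assoc]

theorem mul_conj_mem_commutator (h : IsThreeTranspositionClass D) {a b : G} (ha : a ∈ D)
    (hb : b ∈ D) : a * b ∈ commutator G := by
  obtain ⟨g, rfl⟩ := transitive h ha hb
  have : a * (g * a * g⁻¹) = ⁅a, g⁆ := by
    rw [commutatorElement_def, inv_eq h.1 ha]
    simp [mul_assoc]
  rw [this]
  exact Subgroup.commutator_mem_commutator (Subgroup.mem_top a) (Subgroup.mem_top g)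

/-- A nonempty subset closed under non-commuting members is everything. -/
theorem noncomm_closed_eq (h : IsThreeTranspositionClass D) {M : Set G} (hM : M ⊆ D)
    (hne : M.Nonempty) (hcl : ∀ d ∈ M, ∀ e ∈ D, ¬ Commute d e → e ∈ M) : ∀ e ∈ D, e ∈ M := by
  have step : ∀ e ∈ D, ∀ d ∈ M, e * d * e ∈ M := by
    intro e he d hd
    by_cases hde : Commute d e
    · rw [← hde.eq, mul_assoc, mul_self h.1 he, mul_one]
      exact hd
    · refine hcl d hd _ (conj'_mem h he (hM hd)) fun hc => hde ?_
      rw [braid h.1 he (hM hd) fun c => hde c.symm] at hc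
      have hc' := (Commute.refl d).mul_right (hc.mul_right (Commute.refl d))
      simpa [mul_assoc, mul_self h.1 (hM hd), mul_self_mul h.1 (hM hd)] using hc'
  have all : ∀ g : G, ∀ d ∈ M, g * d * g⁻¹ ∈ M := by
    intro g
    have hg : g ∈ Subgroup.closure D := h.2.2 ▸ Subgroup.mem_top g
    induction hg using Subgroup.closure_induction_left with
    | one => simp
    | mul_left e he y _ ih =>
      intro d hd
      have := step e he _ (ih d hd)
      simpa [mul_assoc, inv_eq h.1 he] using this
    | inv_mul_cancel e he y _ ih =>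
      intro d hd
      have := step e he _ (ih d hd)
      simpa [mul_assoc, inv_eq h.1 he] using this
  intro e he
  obtain ⟨d, hd⟩ := hne
  obtain ⟨g, rfl⟩ := transitive h (hM hd) he
  exact all g d hd

/-- A uniform equivalence on the class. -/
structure IsSys (D : Set G) (R : G → G → Prop) : Prop where
  refl : ∀ a ∈ D, R a a
  symm : ∀ {a b}, R a b → R b a
  trans : ∀ {a b c}, R a b → R b c → R a c
  inv : ∀ (g : G) {a b}, R a b → R (g * a * g⁻¹) (g * b * g⁻¹)
  mem : ∀ {a b}, R a b → a ∈ D ∧ b ∈ D
  uniform : ∀ {x y e}, R x y → e ∈ D → ¬ R e x → (Commute e x ↔ Commute e y)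

/-- The elements fixing every class of a system. -/
def sysKer (h : IsThreeTranspositionClass D) {R : G → G → Prop} (hR : IsSys D R) : Subgroup G where
  carrier := {g | ∀ e ∈ D, R (g * e * g⁻¹) e}
  one_mem' := fun e he => by simpa using hR.refl e he
  mul_mem' := fun {a b} ha hb e he => by
    have := hR.trans (hR.inv a (hb e he)) (ha e he)
    simpa [mul_assoc] using this
  inv_mem' := fun {a} ha e he => by
    have := hR.symm (ha _ (conj_mem h a⁻¹ he))
    simpa [mul_assoc] using this

theorem mem_sysKer (h : IsThreeTranspositionClass D) {R : G → G → Prop} (hR : IsSys D R) {g : G} :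
    g ∈ sysKer h hR ↔ ∀ e ∈ D, R (g * e * g⁻¹) e := Iff.rfl

theorem sysKer_normal (h : IsThreeTranspositionClass D) {R : G → G → Prop} (hR : IsSys D R) :
    (sysKer h hR).Normal := ⟨fun k hk g e he => by
  have := hR.inv g (hk _ (conj_mem h g⁻¹ he))
  simpa [mul_assoc] using this⟩

theorem conj'_rel (h : IsThreeTranspositionClass D) {R : G → G → Prop} (hR : IsSys D R) {e a b : G}
    (he : e ∈ D) (hab : R a b) : R (e * a * e) (e * b * e) := by
  have := hR.inv e hab
  rwa [inv_eq h.1 he] at this

/-- Equivalent members have the same effect on classes. -/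
theorem mul_mem_sysKer (h : IsThreeTranspositionClass D) {R : G → G → Prop} (hR : IsSys D R)
    {x y : G} (hxy : R x y) : x * y ∈ sysKer h hR := by
  obtain ⟨hx, hy⟩ := hR.mem hxy
  intro e he
  have key : R (x * (y * e * y) * x) e := by
    by_cases hex : R e x
    · have h1 : R (y * x * y) y := by
        have := conj'_rel h hR hy hxy
        rwa [mul_assoc y y y, mul_self h.1 hy, mul_one] at this
      have h2 : R (y * e * y) x :=
        hR.trans (hR.trans (conj'_rel h hR hy hex) h1) (hR.symm hxy)
      have h3 := conj'_rel h hR hx h2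
      rw [mul_assoc x x x, mul_self h.1 hx, mul_one] at h3
      exact hR.trans h3 (hR.symm hex)
    · by_cases hc : Commute e x
      · have hc' := (hR.uniform hxy he hex).mp hc
        rw [← hc'.eq, mul_assoc e y y, mul_self h.1 hy, mul_one, ← hc.eq, mul_assoc e x x,
          mul_self h.1 hx, mul_one]
        exact hR.refl e he
      · have hc' : ¬ Commute e y := fun c => hc ((hR.uniform hxy he hex).mpr c)
        have h1 := conj'_rel h hR he hxy
        rw [braid h.1 he hx hc, braid h.1 he hy hc'] at h1
        have h2 := conj'_rel h hR hx h1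
        refine hR.symm ?_
        simpa [mul_assoc, mul_self h.1 hx, mul_self_mul h.1 hx] using h2
  simpa [mul_assoc, inv_eq h.1 hx, inv_eq h.1 hy] using key

variable [Finite G]

/-- A proper system in which members of different classes never commute is impossible. -/
theorem false_of_cross (H : Hyp D) {R : G → G → Prop} (hR : IsSys D R)
    (hp : ∃ a ∈ D, ∃ b ∈ D, ¬ R a b)
    (hcross : ∀ a ∈ D, ∀ b ∈ D, ¬ R a b → ¬ Commute a b) : False := by
  have h := H.cls
  have := sysKer_normal h hR
  set π := QuotientGroup.mk' (sysKer h hR) with hπ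
  have hsurj : Function.Surjective π := QuotientGroup.mk'_surjective _
  let S : Set (G ⧸ sysKer h hR) := π '' D
  have hinv : ∀ x ∈ S, x * x = 1 := by
    rintro _ ⟨a, ha, rfl⟩
    rw [← map_mul, mul_self h.1 ha, map_one]
  have hconj : ∀ g, ∀ x ∈ S, g * x * g⁻¹ ∈ S := by
    rintro g _ ⟨a, ha, rfl⟩
    obtain ⟨g, rfl⟩ := hsurj g
    exact ⟨_, conj_mem h g ha, by simp⟩
  have h3 : ∀ x ∈ S, ∀ y ∈ S, (x * y) ^ 3 = 1 := by
    rintro _ ⟨a, ha, rfl⟩ _ ⟨b, hb, rfl⟩
    rw [← map_mul]
    by_cases hab : Commute a b
    · have hr : R a b := by by_contra hc; exact hcross a ha b hb hc hab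
      rw [hπ, QuotientGroup.mk'_apply, (QuotientGroup.eq_one_iff _).mpr (mul_mem_sysKer h hR hr),
        one_pow]
    · rcases h.1.2 a ha b hb with h2 | h3
      · exact absurd (by
          have h2' := inv_eq_of_mul_eq_one_left (by rwa [← pow_two] : a * b * (a * b) = 1)
          rw [mul_inv_rev, inv_eq h.1 ha, inv_eq h.1 hb] at h2'
          exact h2'.symm) hab
      · rw [← map_pow, h3, map_one]
  set O := Cfsg.pCore 3 (G ⧸ sysKer h hR) with hO
  have hON : O.Normal := Cfsg.Agent.Grp.pCore_isNormal
  have : Fact (Nat.Prime 3) := ⟨Nat.prime_three⟩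
  set σ := (QuotientGroup.mk' O).comp π with hσ
  obtain ⟨a₀, ha₀, -⟩ := H.nc
  have hcomm : commutator G ≤ σ.ker := by
    have hrange : ∀ g, σ g ∈ Subgroup.zpowers (σ a₀) := by
      intro g
      have hg : g ∈ Subgroup.closure D := h.2.2 ▸ Subgroup.mem_top g
      have hsub : Subgroup.closure D ≤ (Subgroup.zpowers (σ a₀)).comap σ := by
        rw [Subgroup.closure_le]
        intro b hb
        rw [SetLike.mem_coe, Subgroup.mem_comap]
        have hab : π a₀ * π b ∈ O := FourGen.mul_mem_pCore S hinv hconj h3 ⟨a₀, ha₀, rfl⟩ ⟨b, hb, rfl⟩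
        have e : σ b = σ a₀ := by
          refine (QuotientGroup.mk'_eq_mk' O).mpr ⟨π b * π a₀, ?_, ?_⟩
          · have := O.inv_mem hab
            rwa [mul_inv_rev, ← map_inv, ← map_inv, inv_eq h.1 ha₀, inv_eq h.1 hb] at this
          · rw [← mul_assoc, ← map_mul π b b, mul_self h.1 hb, map_one, one_mul]
        rw [e]
        exact Subgroup.mem_zpowers _
      exact hsub hg
    rw [commutator_eq_closure, Subgroup.closure_le]
    rintro _ ⟨u, v, rfl⟩
    rw [SetLike.mem_coe, MonoidHom.mem_ker, map_commutatorElement]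
    obtain ⟨i, hi⟩ := Subgroup.mem_zpowers_iff.mp (hrange u)
    obtain ⟨j, hj⟩ := Subgroup.mem_zpowers_iff.mp (hrange v)
    rw [commutatorElement_eq_one_iff_commute, ← hi, ← hj]
    exact Commute.zpow_zpow_self _ i j
  have hle : (commutator G).map π ≤ O := by
    rintro _ ⟨g, hg, rfl⟩
    have := hcomm hg
    rwa [MonoidHom.mem_ker, hσ, MonoidHom.comp_apply, QuotientGroup.mk'_apply,
      QuotientGroup.eq_one_iff] at this
  have hsolv : Group.IsSolvable ((commutator G).map π) := by
    have hn := (Cfsg.Agent.Grp.pCore_isPGroup (G := G ⧸ sysKer h hR) (p := 3)).isNilpotent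
    exact Cfsg.Agent.Grp.isSolvable_of_le hle inferInstance
  have hbot : (commutator G).map π = ⊥ :=
    Cfsg.Agent.Grp.eq_bot_of_perfect_of_solvable
      (by rw [← Subgroup.map_commutator, H.perf]) hsolv
  have hK : commutator G ≤ sysKer h hR := by
    have := (Subgroup.map_eq_bot_iff _).mp hbot
    rwa [hπ, QuotientGroup.ker_mk'] at this
  obtain ⟨a, ha, b, hb, hab⟩ := hp
  have hnc : ¬ Commute a b := hcross a ha b hb hab
  apply hab
  have := hK (mul_conj_mem_commutator h ha hb) a ha
  rw [mul_inv_rev, inv_eq h.1 ha, inv_eq h.1 hb] at this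
  have e : a * b * a * (b * a) = b := by
    rw [braid h.1 ha hb hnc]
    simp [mul_assoc, mul_self_mul h.1 hb, mul_self h.1 ha]
  rw [e] at this
  exact hR.symm this

/-- A nonempty subset closed under commuting members is everything. -/
theorem comm_closed_eq (H : Hyp D) {M : Set G} (hM : M ⊆ D) (hne : M.Nonempty)
    (hcl : ∀ d ∈ M, ∀ e ∈ D, Commute d e → e ∈ M) : ∀ e ∈ D, e ∈ M := by
  have h := H.cls
  by_contra hnot
  push Not at hnot
  obtain ⟨b, hb, hbM⟩ := hnot
  let adj : G → G → Prop := fun u v => u ∈ D ∧ v ∈ D ∧ Commute u v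
  let R : G → G → Prop := fun u v => u ∈ D ∧ v ∈ D ∧ Relation.ReflTransGen adj u v
  have hR : IsSys D R :=
    { refl := fun a ha => ⟨ha, ha, .refl⟩
      symm := fun {a b} hab => ⟨hab.2.1, hab.1, by
        induction hab.2.2 with
        | refl => exact .refl
        | @tail c d hc hcd ih =>
          exact Relation.ReflTransGen.head ⟨hcd.2.1, hcd.1, hcd.2.2.symm⟩
            (ih ⟨hab.1, hcd.1, hc⟩)⟩
      trans := fun h1 h2 => ⟨h1.1, h2.2.1, h1.2.2.trans h2.2.2⟩
      inv := fun g {a b} hab => ⟨conj_mem h g hab.1, conj_mem h g hab.2.1,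
        Relation.ReflTransGen.lift (fun u => g * u * g⁻¹)
          (fun u v (huv : adj u v) => (⟨conj_mem h g huv.1, conj_mem h g huv.2.1,
            (commute_conj_iff g u v).mpr huv.2.2⟩ : adj _ _)) _ _ hab.2.2⟩
      mem := fun hab => ⟨hab.1, hab.2.1⟩
      uniform := fun {x y e} hxy he hex => by
        constructor
        · intro hc
          exact absurd ⟨he, hxy.1, .single ⟨he, hxy.1, hc⟩⟩ hex
        · intro hc
          refine absurd ⟨he, hxy.1, ?_⟩ hex
          refine Relation.ReflTransGen.head ⟨he, hxy.2.1, hc⟩ ?_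
          have h2 := hxy.2.2
          clear hxy hex hc
          induction h2 with
          | refl => exact .refl
          | @tail c d _ hcd ih => exact Relation.ReflTransGen.head ⟨hcd.2.1, hcd.1, hcd.2.2.symm⟩ ih }
  obtain ⟨a, ha⟩ := hne
  refine false_of_cross H hR ⟨a, hM ha, b, hb, fun hab => hbM ?_⟩
    fun u hu v hv huv hc => huv ⟨hu, hv, .single ⟨hu, hv, hc⟩⟩
  have hreach : ∀ v, Relation.ReflTransGen adj a v → v ∈ M := by
    intro v hv
    induction hv with
    | refl => exact ha
    | tail _ hcd ih => exact hcl _ ih _ hcd.2.1 hcd.2.2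
  exact hreach b hab.2.2

/-- The commuting members outside the class. -/
def across (D : Set G) (R : G → G → Prop) (x : G) : Set G := {e | e ∈ D ∧ Commute e x ∧ ¬ R e x}

theorem across_conj (h : IsThreeTranspositionClass D) {R : G → G → Prop} (hR : IsSys D R)
    (g x : G) : across D R (g * x * g⁻¹) = (fun e => g * e * g⁻¹) '' across D R x := by
  ext e
  constructor
  · rintro ⟨he, hc, hne⟩
    refine ⟨g⁻¹ * e * g, ⟨by simpa using conj_mem h g⁻¹ he, ?_, ?_⟩, by simp [mul_assoc]⟩
    · rw [← commute_conj_iff g]; simpa [mul_assoc] using hc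
    · intro hr
      have := hR.inv g hr
      exact hne (by simpa [mul_assoc] using this)
  · rintro ⟨u, ⟨hu, hc, hne⟩, rfl⟩
    refine ⟨conj_mem h g hu, (commute_conj_iff g u x).mpr hc, fun hr => hne ?_⟩
    have := hR.inv g⁻¹ hr
    simpa [mul_assoc] using this

/-- A family of finitely many homomorphisms to solvable groups that separates points. -/
theorem isSolvable_of_separating {E ι : Type*} [Group E] [Finite ι] {Q : ι → Type*}
    [∀ i, Group (Q i)] (f : ∀ i, E →* Q i) (hs : ∀ i, Group.IsSolvable (f i).range)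
    (hsep : ∀ u, (∀ i, f i u = 1) → u = 1) : Group.IsSolvable E := by
  have := Fintype.ofFinite ι
  have hn : ∀ i, ∃ n, ∀ u ∈ derivedSeries E n, f i u = 1 := by
    intro i
    obtain ⟨n, hn⟩ := (Group.isSolvable_def (f i).range).mp (hs i)
    refine ⟨n, fun u hu => ?_⟩
    have h1 : (f i).rangeRestrict u ∈ derivedSeries (f i).range n := by
      rw [← map_derivedSeries_eq (f := (f i).rangeRestrict) (f i).rangeRestrict_surjective]
      exact ⟨u, hu, rfl⟩
    rw [hn, Subgroup.mem_bot] at h1
    exact congrArg Subtype.val h1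
  choose n hn using hn
  refine (Group.isSolvable_def E).mpr ⟨Finset.univ.sup n, ?_⟩
  rw [eq_bot_iff]
  intro u hu
  exact hsep u fun i => hn i u (derivedSeries_antitone E (Finset.le_sup (Finset.mem_univ i)) hu)

/-- The products of equivalent members of one class. -/
def classGroup (R : G → G → Prop) (x : G) : Subgroup G :=
  Subgroup.closure {g | ∃ a b, R a x ∧ R b x ∧ g = a * b}

theorem classGroup_le_ker (h : IsThreeTranspositionClass D) {R : G → G → Prop} (hR : IsSys D R)
    (x : G) : classGroup R x ≤ sysKer h hR := by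
  rw [classGroup, Subgroup.closure_le]
  rintro _ ⟨a, b, ha, hb, rfl⟩
  exact mul_mem_sysKer h hR (hR.trans ha (hR.symm hb))

theorem classGroup_le_commutator (h : IsThreeTranspositionClass D) {R : G → G → Prop}
    (hR : IsSys D R) (x : G) : classGroup R x ≤ commutator G := by
  rw [classGroup, Subgroup.closure_le]
  rintro _ ⟨a, b, ha, hb, rfl⟩
  exact mul_conj_mem_commutator h (hR.mem ha).1 (hR.mem hb).1

/-- The map sending one member of a class to another. -/
theorem exists_translate (h : IsThreeTranspositionClass D) {R : G → G → Prop} (hR : IsSys D R)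
    {x z w : G} (hx : x ∈ D) (hz : z ∈ D) (hxz : ¬ R z x) (hnc : ¬ Commute z x) (hw : R w z) :
    ∃ x', R x' x ∧ x * x' * z * (x * x')⁻¹ = w := by
  obtain ⟨hwD, -⟩ := hR.mem hw
  set v := x * w * x with hv
  have hvD : v ∈ D := conj'_mem h hx hwD
  refine ⟨z * v * z, ?_, ?_⟩
  · have h1 := conj'_rel h hR hz (conj'_rel h hR hx hw)
    rw [braid h.1 hx hz fun c => hnc c.symm] at h1
    simpa [hv, mul_assoc, mul_self_mul h.1 hz, mul_self h.1 hz] using h1
  · have hx' : R (z * v * z) x := by
      have h1 := conj'_rel h hR hz (conj'_rel h hR hx hw)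
      rw [braid h.1 hx hz fun c => hnc c.symm] at h1
      simpa [hv, mul_assoc, mul_self_mul h.1 hz, mul_self h.1 hz] using h1
    have hx'D := (hR.mem hx').1
    have hnc' : ¬ Commute z (z * v * z) := fun c =>
      hnc ((hR.uniform (hR.symm hx') hz hxz).mpr c)
    calc x * (z * v * z) * z * (x * (z * v * z))⁻¹
        = x * ((z * v * z) * z * (z * v * z)) * x := by
          rw [mul_inv_rev, inv_eq h.1 hx, inv_eq h.1 hx'D]; simp only [mul_assoc]
      _ = x * (z * (z * v * z) * z) * x := by
          rw [← braid h.1 hz hx'D hnc']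
      _ = x * v * x := by simp [mul_assoc, mul_self_mul h.1 hz, mul_self h.1 hz]
      _ = w := by simp [hv, mul_assoc, mul_self_mul h.1 hx, mul_self h.1 hx]

theorem classGroup_commute (_h : IsThreeTranspositionClass D) {R : G → G → Prop} (hR : IsSys D R)
    {x y : G} (hyx : ¬ R y x) (hc : Commute y x) {u v : G}
    (hu : u ∈ classGroup R x) (hv : v ∈ classGroup R y) : Commute u v := by
  have hgen : ∀ a, R a x → ∀ b, R b y → Commute a b := by
    intro a ha b hb
    obtain ⟨hy, -⟩ := hR.mem (hR.symm hb)
    have h1 : Commute y a := (hR.uniform (hR.symm ha) hy hyx).mp hc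
    have hay : ¬ R a y := fun e => hyx (hR.trans (hR.symm e) ha)
    exact (hR.uniform (hR.symm hb) (hR.mem ha).1 hay).mp h1.symm
  have hcent : classGroup R x ≤ Subgroup.centralizer (classGroup R y : Set G) := by
    rw [classGroup, classGroup, Subgroup.centralizer_closure, Subgroup.closure_le]
    rintro _ ⟨a, b, ha, hb, rfl⟩
    rw [SetLike.mem_coe, Subgroup.mem_centralizer_iff]
    rintro _ ⟨c, d, hc', hd, rfl⟩
    exact ((((hgen a ha c hc').mul_left (hgen b hb c hc')).mul_right
      ((hgen a ha d hd).mul_left (hgen b hb d hd)))).symm.eq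
  exact ((Subgroup.mem_centralizer_iff.mp (hcent hu)) v hv).symm

/-- A class group is solvable, provided the system is coarsest. -/
theorem classGroup_solvable (H : Hyp D) {R : G → G → Prop} (hR : IsSys D R)
    (hp : ∃ a ∈ D, ∃ b ∈ D, ¬ R a b)
    (hmax : ∀ x ∈ D, ∀ y ∈ D, across D R x = across D R y → R x y) {x : G} (hx : x ∈ D) :
    Group.IsSolvable (classGroup R x) := by
  have h := H.cls
  let ι := {z : G // z ∈ D ∧ ¬ R z x ∧ ¬ Commute z x}
  let cl : ι → Type _ := fun z => {w : G // R w z.1}
  let ρ : ∀ z : ι, classGroup R x →* Equiv.Perm (cl z) := fun z =>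
    { toFun := fun u =>
        { toFun := fun w => ⟨(u : G) * w.1 * (u : G)⁻¹,
            hR.trans ((classGroup_le_ker h hR x) u.2 w.1 (hR.mem w.2).1) w.2⟩
          invFun := fun w => ⟨(u : G)⁻¹ * w.1 * (u : G), by
            have := (classGroup_le_ker h hR x) (inv_mem u.2) w.1 (hR.mem w.2).1
            exact hR.trans (by simpa using this) w.2⟩
          left_inv := fun w => Subtype.ext (by simp [mul_assoc])
          right_inv := fun w => Subtype.ext (by simp [mul_assoc]) }
      map_one' := by ext w; simp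
      map_mul' := fun u v => by ext w; simp [mul_assoc] }
  refine isSolvable_of_separating ρ (fun z => ?_) fun u hu => ?_
  · obtain ⟨z, hz, hzx, hnc⟩ := z
    -- a class commuting with that of `x` but not with that of `z`
    have hcard : (across D R x).ncard = (across D R z).ncard := by
      obtain ⟨g, rfl⟩ := transitive h hx hz
      rw [across_conj h hR g x, Set.ncard_image_of_injective _ fun a b e => by simpa using e]
    have hsub : ¬ across D R x ⊆ across D R z := fun hs =>
      hzx (hR.symm (hmax x hx z hz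
        (Set.eq_of_subset_of_ncard_le hs hcard.ge (Set.toFinite _))))
    obtain ⟨y, ⟨hy, hyx, hyx'⟩, hyz⟩ := Set.not_subset.mp hsub
    have hyz' : ¬ R y z := by
      intro hr
      have hxy : ¬ R x y := fun e => hyx' (hR.symm e)
      exact hnc ((hR.uniform hr hx hxy).mp hyx.symm).symm
    have hncy : ¬ Commute z y := fun c => hyz ⟨hy, c.symm, hyz'⟩
    refine OrderTwoThree.isSolvable fun t => ?_
    obtain ⟨_, u, rfl⟩ := t
    obtain ⟨x', hx', hx'e⟩ := exists_translate h hR hx hz hzx hnc
      (w := (u : G) * z * (u : G)⁻¹) ((classGroup_le_ker h hR x) u.2 z hz)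
    have hvmem : x * x' ∈ classGroup R x :=
      Subgroup.subset_closure ⟨x, x', hR.refl x hx, hx', rfl⟩
    let v : classGroup R x := ⟨x * x', hvmem⟩
    have huv : ρ ⟨z, hz, hzx, hnc⟩ u = ρ ⟨z, hz, hzx, hnc⟩ v := by
      ext ⟨w, hw⟩
      obtain ⟨y', hy', hy'e⟩ := exists_translate h hR hy hz (fun e => hyz' (hR.symm e)) hncy hw
      have hq : y * y' ∈ classGroup R y :=
        Subgroup.subset_closure ⟨y, y', hR.refl y hy, hy', rfl⟩
      have c1 := classGroup_commute h hR hyx' hyx u.2 hq
      have c2 := classGroup_commute h hR hyx' hyx hvmem hq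
      show (u : G) * w * (u : G)⁻¹ = x * x' * w * (x * x')⁻¹
      rw [← hy'e]
      have e : ∀ p : G, Commute p (y * y') →
          p * (y * y' * z * (y * y')⁻¹) * p⁻¹ = y * y' * (p * z * p⁻¹) * (y * y')⁻¹ := by
        intro p hpc
        have e2 : (y * y')⁻¹ * p⁻¹ = p⁻¹ * (y * y')⁻¹ := hpc.inv_inv.eq.symm
        calc p * (y * y' * z * (y * y')⁻¹) * p⁻¹
            = p * (y * y') * z * ((y * y')⁻¹ * p⁻¹) := by simp only [mul_assoc]
          _ = y * y' * p * z * (p⁻¹ * (y * y')⁻¹) := by rw [hpc.eq, e2]
          _ = _ := by simp only [mul_assoc]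
      rw [e _ c1, e _ c2, hx'e]
    have hpow : (x * x') ^ 2 = 1 ∨ (x * x') ^ 3 = 1 := h.1.2 x hx x' (hR.mem hx').1
    rcases hpow with e | e
    · left
      apply Subtype.ext
      show ρ ⟨z, hz, hzx, hnc⟩ u ^ 2 = 1
      rw [huv, ← map_pow, show v ^ 2 = 1 from Subtype.ext e, map_one]
    · right
      apply Subtype.ext
      show ρ ⟨z, hz, hzx, hnc⟩ u ^ 3 = 1
      rw [huv, ← map_pow, show v ^ 3 = 1 from Subtype.ext e, map_one]
  · have hfix : ∀ w ∈ D, ¬ R w x → Commute (u : G) w := by
      intro w hw hwx
      by_cases hc : Commute w x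
      · have hcent : classGroup R x ≤ Subgroup.centralizer {w} := by
          rw [classGroup, Subgroup.closure_le]
          rintro _ ⟨a, b, ha, hb, rfl⟩
          rw [SetLike.mem_coe, Subgroup.mem_centralizer_singleton_iff]
          exact (((hR.uniform (hR.symm ha) hw hwx).mp hc).mul_right
            ((hR.uniform (hR.symm hb) hw hwx).mp hc)).eq.symm
        exact Subgroup.mem_centralizer_singleton_iff.mp (hcent u.2)
      · have := congrArg Subtype.val
          (Equiv.ext_iff.mp (hu ⟨w, hw, hwx, hc⟩) ⟨w, hR.refl w hw⟩)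
        simp only [Equiv.Perm.coe_one, id_eq] at this
        exact mul_inv_eq_iff_eq_mul.mp this
    have hall : ∀ c ∈ D, Commute (u : G) c := by
      intro c hc
      by_cases hcx : R c x
      · by_cases hex : ∃ w ∈ D, ¬ R w c ∧ ¬ Commute w c
        · obtain ⟨w, hw, hwc, hncw⟩ := hex
          have h1 := hfix w hw fun e => hwc (hR.trans e (hR.symm hcx))
          have h2 : ¬ R (c * w * c) x := by
            intro e
            have := conj'_rel h hR hc (hR.trans e (hR.symm hcx))
            rw [mul_assoc c c c, mul_self h.1 hc, mul_one] at this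
            exact hwc (by simpa [mul_assoc, mul_self_mul h.1 hc, mul_self h.1 hc] using this)
          have h3 := hfix _ (conj'_mem h hc hw) h2
          have e : c = w * (c * w * c) * w := by
            rw [braid h.1 hc hw fun e => hncw e.symm]
            simp [mul_assoc, mul_self_mul h.1 hw, mul_self h.1 hw]
          rw [e]
          exact (h1.mul_right h3).mul_right h1
        · push Not at hex
          obtain ⟨a, ha, b, hb, hab⟩ := hp
          -- the class of `c` would be closed under non-commuting members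
          have := noncomm_closed_eq h (M := {d | R d c}) (fun d hd => (hR.mem hd).1)
            ⟨c, hR.refl c hc⟩ (fun d hd e he hde => by
              by_contra hne
              exact hde ((hR.uniform (hR.symm hd) he hne).mp (hex e he hne)).symm)
          exact absurd (hR.trans (this a ha) (hR.symm (this b hb))) hab
      · exact hfix c hc hcx
    have hz : (u : G) ∈ Subgroup.center G ⊓ commutator G := by
      refine ⟨Subgroup.mem_center_iff.mpr fun g => ?_, classGroup_le_commutator h hR x u.2⟩
      have hg : g ∈ Subgroup.closure D := h.2.2 ▸ Subgroup.mem_top g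
      have : Subgroup.closure D ≤ Subgroup.centralizer {(u : G)} := by
        rw [Subgroup.closure_le]
        intro c hc
        rw [SetLike.mem_coe, Subgroup.mem_centralizer_singleton_iff]
        exact (hall c hc).eq.symm
      exact Subgroup.mem_centralizer_singleton_iff.mp (this hg)
    have hs : Group.IsSolvable ↥(Subgroup.center G ⊓ commutator G) :=
      Group.isSolvable_of_comm fun a b =>
        Subtype.ext (Subgroup.mem_center_iff.mp b.2.1 a)
    rw [H.solv _ inferInstance hs inf_le_right, Subgroup.mem_bot] at hz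
    exact Subtype.ext hz

/-- Every proper system is trivial. -/
theorem sys_trivial (H : Hyp D) {R : G → G → Prop} (hR : IsSys D R)
    (hp : ∃ a ∈ D, ∃ b ∈ D, ¬ R a b) {x y : G} (hxy : R x y) : x = y := by
  have h := H.cls
  -- coarsen
  let R' : G → G → Prop := fun u v => u ∈ D ∧ v ∈ D ∧ across D R u = across D R v
  have hle : ∀ {u v}, R u v → R' u v := by
    intro u v huv
    obtain ⟨hu, hv⟩ := hR.mem huv
    refine ⟨hu, hv, ?_⟩
    ext e
    simp only [across, Set.mem_setOf_eq]
    constructor
    · rintro ⟨he, hc, hne⟩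
      exact ⟨he, (hR.uniform huv he hne).mp hc, fun e' => hne (hR.trans e' (hR.symm huv))⟩
    · rintro ⟨he, hc, hne⟩
      exact ⟨he, (hR.uniform (hR.symm huv) he hne).mp hc, fun e' => hne (hR.trans e' huv)⟩
  have hR' : IsSys D R' :=
    { refl := fun a ha => ⟨ha, ha, rfl⟩
      symm := fun e => ⟨e.2.1, e.1, e.2.2.symm⟩
      trans := fun e e' => ⟨e.1, e'.2.1, e.2.2.trans e'.2.2⟩
      inv := fun g {a b} e => ⟨conj_mem h g e.1, conj_mem h g e.2.1, by
        rw [across_conj h hR, across_conj h hR, e.2.2]⟩
      mem := fun e => ⟨e.1, e.2.1⟩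
      uniform := fun {u v e} huv he hne => by
        constructor
        · intro hc
          have : e ∈ across D R v := huv.2.2 ▸ ⟨he, hc, fun r => hne (hle r)⟩
          exact this.2.1
        · intro hc
          have hne' : ¬ R e v := fun r =>
            hne ⟨he, huv.1, (hle r).2.2.trans huv.2.2.symm⟩
          have : e ∈ across D R u := huv.2.2 ▸ ⟨he, hc, hne'⟩
          exact this.2.1 }
  have hp' : ∃ a ∈ D, ∃ b ∈ D, ¬ R' a b := by
    by_contra hall
    push Not at hall
    refine false_of_cross H hR hp fun a ha b hb hab hc => ?_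
    have h1 : a ∈ across D R b := ⟨ha, hc, hab⟩
    rw [(hall b hb a ha).2.2] at h1
    exact h1.2.2 (hR.refl a ha)
  have hsame : ∀ u ∈ D, across D R' u = across D R u := by
    intro u hu
    ext e
    constructor
    · rintro ⟨he, hc, hne⟩
      exact ⟨he, hc, fun r => hne (hle r)⟩
    · rintro ⟨he, hc, hne⟩
      refine ⟨he, hc, fun r => ?_⟩
      have h1 : e ∈ across D R u := ⟨he, hc, hne⟩
      rw [← r.2.2] at h1
      exact h1.2.2 (hR.refl e he)
  have hmax : ∀ u ∈ D, ∀ v ∈ D, across D R' u = across D R' v → R' u v := by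
    intro u hu v hv e
    rw [hsame u hu, hsame v hv] at e
    exact ⟨hu, hv, e⟩
  -- the normal subgroup
  let N : Subgroup G := ⨆ u ∈ D, classGroup R' u
  have hconjle : ∀ (g : G), ∀ u ∈ D,
      (classGroup R' u).map (MulAut.conj g).toMonoidHom ≤ classGroup R' (g * u * g⁻¹) := by
    intro g u _
    rw [classGroup, MonoidHom.map_closure, Subgroup.closure_le]
    rintro _ ⟨_, ⟨a, b, ha, hb, rfl⟩, rfl⟩
    exact Subgroup.subset_closure ⟨_, _, hR'.inv g ha, hR'.inv g hb, by simp [mul_assoc]⟩
  have hNn : N.Normal := by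
    refine ⟨fun n hn g => ?_⟩
    have hsub : N ≤ N.comap (MulAut.conj g).toMonoidHom := by
      refine iSup₂_le fun u hu => ?_
      rw [← Subgroup.map_le_iff_le_comap]
      exact (hconjle g u hu).trans
        (le_iSup₂ (f := fun v (_ : v ∈ D) => classGroup R' v) _ (conj_mem h g hu))
    exact hsub hn
  have hNs : Group.IsSolvable N := by
    have key : ∀ s : Set G, s.Finite → s ⊆ D →
        Group.IsSolvable ↥(⨆ u ∈ s, classGroup R' u) ∧
          ∀ k ∈ sysKer h hR', ∀ v ∈ ⨆ u ∈ s, classGroup R' u,
            k * v * k⁻¹ ∈ ⨆ u ∈ s, classGroup R' u := by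
      intro s hs
      induction s, hs using Set.Finite.induction_on with
      | empty =>
        intro _
        have he : (⨆ u ∈ (∅ : Set G), classGroup R' u) = ⊥ := by simp
        rw [he]
        exact ⟨inferInstance, fun k _ v hv => by rw [Subgroup.mem_bot] at hv ⊢; simp [hv]⟩
      | @insert a s _ _ ih =>
        intro hsD
        obtain ⟨ih1, ih2⟩ := ih fun u hu => hsD (Set.mem_insert_of_mem a hu)
        have haD := hsD (Set.mem_insert a s)
        rw [iSup_insert]
        set A := classGroup R' a
        set B := ⨆ u ∈ s, classGroup R' u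
        have hAn : ∀ k ∈ sysKer h hR', ∀ v ∈ A, k * v * k⁻¹ ∈ A := by
          intro k hk v hv
          have h1 := hconjle k a haD ⟨v, hv, rfl⟩
          have h2 : ∀ c, R' c (k * a * k⁻¹) → R' c a := fun c hc => hR'.trans hc (hk a haD)
          refine (Subgroup.closure_mono ?_) h1
          rintro _ ⟨c, d, hc, hd, rfl⟩
          exact ⟨c, d, h2 c hc, h2 d hd, rfl⟩
        have hBle : B ≤ sysKer h hR' := iSup₂_le fun u _ => classGroup_le_ker h hR' u
        have hAle : A ≤ sysKer h hR' := classGroup_le_ker h hR' a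
        have hnorm : A ⊔ B ≤ Subgroup.normalizer (B : Set G) := by
          intro k hk
          have hkK : k ∈ sysKer h hR' := sup_le hAle hBle hk
          rw [Subgroup.mem_normalizer_iff]
          refine fun v => ⟨ih2 k hkK v, fun hv => ?_⟩
          simpa [mul_assoc] using ih2 k⁻¹ (inv_mem hkK) _ hv
        refine ⟨?_, fun k hk v hv => ?_⟩
        · have hBn : (B.subgroupOf (A ⊔ B)).Normal :=
            (Subgroup.normal_subgroupOf_iff_le_normalizer le_sup_right).mpr hnorm
          have hAs : Group.IsSolvable A := classGroup_solvable H hR' hp' hmax haD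
          have h1 : Group.IsSolvable (B.subgroupOf (A ⊔ B)) :=
            solvable_of_solvable_injective
              (f := (Subgroup.subgroupOfEquivOfLe (le_sup_right : B ≤ A ⊔ B)).toMonoidHom)
              (MulEquiv.injective _)
          have h2 : Group.IsSolvable (↥(A ⊔ B) ⧸ B.subgroupOf (A ⊔ B)) := by
            refine solvable_of_surjective (f := (QuotientGroup.mk' (B.subgroupOf (A ⊔ B))).comp
              (Subgroup.inclusion (le_sup_left : A ≤ A ⊔ B))) ?_
            intro q
            obtain ⟨⟨w, hw⟩, rfl⟩ := QuotientGroup.mk'_surjective _ q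
            have hw' : w ∈ (A : Set G) * (B : Set G) := by
              rw [← Subgroup.coe_mul_of_left_le_normalizer_right A B (le_sup_left.trans hnorm)]
              exact hw
            obtain ⟨a', ha', b', hb', rfl⟩ := hw'
            refine ⟨⟨a', ha'⟩, ?_⟩
            rw [MonoidHom.comp_apply, QuotientGroup.mk'_eq_mk']
            exact ⟨⟨b', le_sup_right (a := A) hb'⟩, hb', rfl⟩
          exact solvable_of_ker_le_range (B.subgroupOf (A ⊔ B)).subtype
            (QuotientGroup.mk' (B.subgroupOf (A ⊔ B))) (by simp)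
        · have hle2 : A ⊔ B ≤ (A ⊔ B).comap (MulAut.conj k).toMonoidHom :=
            sup_le (fun w hw => le_sup_left (b := B) (hAn k hk w hw))
              (fun w hw => le_sup_right (a := A) (ih2 k hk w hw))
          exact hle2 hv
    exact (key D (Set.toFinite D) subset_rfl).1
  have hNle : N ≤ commutator G := iSup₂_le fun u _ => classGroup_le_commutator h hR' u
  have hNbot := H.solv N hNn hNs hNle
  obtain ⟨hx, hy⟩ := hR.mem hxy
  have hmem : x * y ∈ N :=
    (le_iSup₂ (f := fun v (_ : v ∈ D) => classGroup R' v) x hx)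
      (Subgroup.subset_closure ⟨x, y, hR'.refl x hx, hR'.symm (hle hxy), rfl⟩)
  rw [hNbot, Subgroup.mem_bot] at hmem
  rw [eq_inv_of_mul_eq_one_left hmem, inv_eq h.1 hy]

end Cfsg.Agent.Spor.ThreeTrans
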