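import Cfsg.Agent.Lib.Spor.M24SevenNorm

/-!
The centralizers of the elements of orders five, seven and eleven in the largest Mathieu group, with the number
of their elements of each order.
-/

set_option autoImplicit false
set_option maxRecDepth 100000

namespace Cfsg.Agent.Spor.M24PrimeCent

open Golay Golay.Census
open scoped Pointwise

/-- An element of order five. -/
def g5 : ℕ := 238423912128368683256847382849129537

/-- An element of order eleven. -/
def g11 : ℕ := 298774204068642972226003287205350465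

/-- Powers. -/
def cpw (R : ℕ) : ℕ → ℕ
  | 0 => idP
  | k + 1 => comp R (cpw R k)

/-- Compatibility on the positions fixed so far. -/
def ctest (g Q : ℕ) (cs : List ℕ) : Bool :=
  cs.all fun b => !Nat.blt b 24 || !(cs.any fun c => Nat.beq c (get g b)) || Nat.beq (get Q (get g b)) (get g (get Q b))

/-- The elements commuting with `g`. -/
def centList (g : ℕ) : List ℕ :=
  (cands table (ctest g) idP [] chainA).filter fun R => Nat.beq (comp R g) (comp g R)

/-- The least exponent that kills the element. -/
def per (cs : List ℕ) (R : ℕ) : ℕ := (cs.find? fun k => Nat.beq (cpw R k) idP).getD 0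

/-- The exponent found is the order. -/
def perOk (cs : List ℕ) (R : ℕ) : Bool :=
  !Nat.beq (per cs R) 0 && Nat.beq (cpw R (per cs R)) idP &&
    (List.range (per cs R)).all fun d => Nat.beq d 0 || !Nat.beq (per cs R % d) 0 || !Nat.beq (cpw R d) idP

/-- The whole certificate for one element. -/
def centOk (g p len : ℕ) (tbl : List (ℕ × ℕ)) : Bool :=
  inM24 g && Nat.beq (cpw g p) idP && !Nat.beq (get g 0) 0 && (centList g).all inM24 &&
    (centList g).all (perOk (tbl.map Prod.fst)) && Nat.beq (centList g).length len &&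
    ((centList g).all fun R => tbl.any fun t => Nat.beq t.1 (per (tbl.map Prod.fst) R)) &&
    tbl.all fun t => Nat.beq (((centList g).filter fun R => Nat.beq (per (tbl.map Prod.fst) R) t.1).length) t.2

theorem check5 : centOk g5 5 60 [(1, 1), (2, 3), (3, 8), (5, 4), (10, 12), (15, 32)] = true := by decide +kernel

theorem nodup5 : ((centList g5).map fun R => (List.range 24).map (get R)).Nodup := by decide +kernel

theorem check7 : centOk M24Seven.g7 7 42 [(1, 1), (2, 3), (3, 2), (7, 6), (14, 18), (21, 12)] = true := by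
  decide +kernel

theorem nodup7 : ((centList M24Seven.g7).map fun R => (List.range 24).map (get R)).Nodup := by decide +kernel

theorem check11 : centOk g11 11 11 [(1, 1), (11, 10)] = true := by decide +kernel

theorem nodup11 : ((centList g11).map fun R => (List.range 24).map (get R)).Nodup := by decide +kernel

theorem cpw_spec {R : ℕ} (h : valid R = true) :
    ∀ k, valid (cpw R k) = true ∧ permOf (cpw R k) = permOf R ^ k
  | 0 => ⟨valid_idP, by rw [pow_zero]; exact permOf_idP⟩
  | k + 1 => by
    obtain ⟨h1, h2⟩ := cpw_spec h k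
    exact ⟨valid_comp h h1, by rw [cpw, permOf_comp h h1, h2, pow_succ']⟩

theorem eq_idP {R : ℕ} {k : ℕ} (hR : valid R = true) (hk : k ≠ 0) (e : permOf R ^ k = 1) :
    Nat.beq (cpw R k) idP = true := by
  obtain ⟨j, rfl⟩ : ∃ j, k = j + 1 := ⟨k - 1, by omega⟩
  obtain ⟨h1, h2⟩ := cpw_spec hR j
  rw [pow_succ', ← h2] at e
  rw [cpw, comp_eq_idP hR h1 e]
  simp

theorem per_spec {cs : List ℕ} {R : ℕ} (hR : valid R = true) (h : perOk cs R = true) : orderOf (permOf R) = per cs R := by
  simp only [perOk, Bool.and_eq_true, List.all_eq_true, Bool.or_eq_true, Bool.not_eq_true'] at h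
  obtain ⟨⟨h0, h1⟩, h2⟩ := h
  have hk : per cs R ≠ 0 := fun e => by rw [e] at h0; simp at h0
  have hpow : permOf R ^ per cs R = 1 := by
    rw [← (cpw_spec hR _).2, Nat.eq_of_beq_eq_true h1, permOf_idP]
  have hd := orderOf_dvd_of_pow_eq_one hpow
  by_contra hne
  have hlt : orderOf (permOf R) < per cs R := lt_of_le_of_ne (Nat.le_of_dvd (Nat.pos_of_ne_zero hk) hd) hne
  have hpos : orderOf (permOf R) ≠ 0 := (orderOf_pos _).ne'
  rcases h2 _ (List.mem_range.2 hlt) with (h3 | h3) | h3
  · exact hpos (Nat.eq_of_beq_eq_true h3)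
  · rw [Nat.mod_eq_zero_of_dvd hd] at h3; simp at h3
  · rw [eq_idP hR hpos (pow_orderOf_eq_one _)] at h3; simp at h3

theorem mem_centList {g : ℕ} (hg : valid g = true) {n : Equiv.Perm GolayPt} (hn : n ∈ M24)
    (e : n * permOf g = permOf g * n) : ∃ R ∈ centList g, permOf R = n := by
  have hap : ∀ q, n (permOf g q) = permOf g (n q) := fun q => Equiv.congr_fun e q
  obtain ⟨R, hR, hv, eR⟩ := mem_cands tableOk (ctest g) (g := n) (fun Q cs hQ hag => by
      simp only [ctest, List.all_eq_true, Bool.or_eq_true, Bool.not_eq_true', List.any_eq_false]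
      intro b hb
      by_cases hb24 : b < 24
      · by_cases hm : get g b ∈ cs
        · refine Or.inr ?_
          have e2 := hag b hb
          have e3 := hag _ hm
          have hgb : permOf g (pt b) = pt (get g b) := idx_injective (by
            rw [idx_permOf hg, idx_pt hb24, idx_pt ((valid_iff.mp hg).2 b hb24)])
          have := congrArg idx (hap (pt b))
          rw [hgb, ← e3, ← e2, idx_permOf hQ, idx_permOf hg, idx_permOf hQ, idx_pt hb24,
            idx_pt ((valid_iff.mp hg).2 b hb24)] at this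
          rw [this]; simp
        · exact Or.inl (Or.inr fun c hc he => hm (Nat.eq_of_beq_eq_true he ▸ hc))
      · refine Or.inl (Or.inl ?_)
        cases hbl : Nat.blt b 24
        · rfl
        · exact absurd (lt_of_blt hbl) hb24) chainA [] idP valid_idP lowA upA idx_ok.1
    (by rw [permOf_idP, inv_one, one_mul, Fix_nil]; exact hn)
  refine ⟨R, List.mem_filter.mpr ⟨hR, ?_⟩, eR⟩
  have h2 : permOf (comp R g) = permOf (comp g R) := by
    rw [permOf_comp hv hg, permOf_comp hg hv, eR]; exact e
  have h3 : comp R g = comp g R := pack_ext 24 _ _ fun i hi => by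
    have := congrArg (fun q : Equiv.Perm GolayPt => idx (q (pt i))) h2
    rwa [idx_permOf (valid_comp hv hg), idx_permOf (valid_comp hg hv), idx_pt hi, get_comp _ _ hi,
      get_comp _ _ hi] at this
  rw [h3]; simp

/-- The number of elements of a given order in a centralizer. -/
noncomputable abbrev cnum {G : Type*} [Group G] (x : G) (n : ℕ) : ℕ :=
  Nat.card {g : G // x * g = g * x ∧ orderOf g = n}

theorem card_commute {g p len : ℕ} {tbl : List (ℕ × ℕ)} (h : centOk g p len tbl = true) (hp : p.Prime)
    (hnd : ((centList g).map fun R => (List.range 24).map (get R)).Nodup) :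
    ∃ x : ↥M24, orderOf x = p ∧ Nat.card {a : ↥M24 // x * a = a * x} = len ∧
      (∀ t ∈ tbl, cnum x t.1 = t.2) ∧ ∀ n, cnum x n ≠ 0 → ∃ t ∈ tbl, t.1 = n := by
  classical
  haveI := Fact.mk hp
  simp only [centOk, Bool.and_eq_true, List.all_eq_true, List.any_eq_true, Bool.not_eq_true'] at h
  obtain ⟨⟨⟨⟨⟨⟨⟨hg, hgp⟩, hg0⟩, hin⟩, hper⟩, hlen⟩, hcov⟩, htbl⟩ := h
  have hv := M24Seven.valid_of_inM24 hg
  set x : ↥M24 := ⟨permOf g, permOf_mem_M24 hg⟩ with hx
  have hord : orderOf x = p := by
    rw [← Subgroup.orderOf_coe, hx]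
    refine orderOf_eq_prime (by rw [← (cpw_spec hv p).2, Nat.eq_of_beq_eq_true hgp, permOf_idP]) fun e => ?_
    have h1 := idx_permOf hv (pt 0)
    rw [show permOf g = 1 from e, Equiv.Perm.one_apply, idx_pt (by norm_num)] at h1
    rw [← h1] at hg0
    simp at hg0
  have himg : ∀ (P : ↥M24 → Prop) (f : ℕ → Bool),
      (∀ R ∈ centList g, ∀ hm : permOf R ∈ M24, (f R = true ↔ P ⟨permOf R, hm⟩)) →
      Nat.card {a : ↥M24 // x * a = a * x ∧ P a} = ((centList g).filter f).length := by
    intro P f hf
    rw [← M24Seven.card_image (L := (centList g).filter f)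
      (List.all_eq_true.2 fun R hR => hin R (List.mem_filter.1 hR).1)
      ((List.filter_sublist.map _).nodup hnd)]
    refine (Nat.card_coe_set_eq {a : ↥M24 | x * a = a * x ∧ P a}).trans ?_
    rw [← Set.ncard_image_of_injective _ Subtype.val_injective]
    congr 1
    ext q
    simp only [Set.mem_image, Set.mem_setOf_eq, List.mem_filter]
    constructor
    · rintro ⟨a, ⟨hc, hP⟩, rfl⟩
      obtain ⟨R, hR, e⟩ := mem_centList hv a.2 (congrArg Subtype.val hc).symm
      refine ⟨R, ⟨hR, (hf R hR (e ▸ a.2)).2 ?_⟩, e⟩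
      simpa [e] using hP
    · rintro ⟨R, ⟨hR, hfR⟩, rfl⟩
      have hm := permOf_mem_M24 (hin R hR)
      have hvR := M24Seven.valid_of_inM24 (hin R hR)
      refine ⟨⟨permOf R, hm⟩, ⟨Subtype.ext ?_, (hf R hR hm).1 hfR⟩, rfl⟩
      show permOf g * permOf R = permOf R * permOf g
      rw [← permOf_comp hv hvR, ← permOf_comp hvR hv, Nat.eq_of_beq_eq_true (List.mem_filter.1 hR).2]
  have hnum : ∀ n, cnum x n = ((centList g).filter fun R => Nat.beq (per (tbl.map Prod.fst) R) n).length := fun n =>
    himg (fun a => orderOf a = n) _ fun R hR hm => by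
      rw [← Subgroup.orderOf_coe, per_spec (M24Seven.valid_of_inM24 (hin R hR)) (hper R hR)]
      exact ⟨Nat.eq_of_beq_eq_true, fun e => by rw [e]; simp⟩
  refine ⟨x, hord, ?_, fun t ht => (hnum t.1).trans (Nat.eq_of_beq_eq_true (htbl t ht)), fun n hn => ?_⟩
  · have h1 := himg (fun _ => True) (fun _ => true) fun _ _ _ => iff_of_true rfl trivial
    simp only [and_true, List.filter_true] at h1
    rw [h1, Nat.eq_of_beq_eq_true hlen]
  · rw [hnum, ← Nat.pos_iff_ne_zero, List.length_pos_iff_exists_mem] at hn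
    obtain ⟨R, hR⟩ := hn
    obtain ⟨t, ht, e⟩ := hcov R (List.mem_filter.1 hR).1
    exact ⟨t, ht, (Nat.eq_of_beq_eq_true e).trans (Nat.eq_of_beq_eq_true (List.mem_filter.1 hR).2)⟩

end Cfsg.Agent.Spor.M24PrimeCent
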