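import Mathlib

/-!
The centraliser of a transvection in SL(5,2).
-/

set_option autoImplicit false

namespace Cfsg.Agent.Spor.TransvectionFive

open Matrix
open scoped Pointwise

/-- The ring. -/
abbrev M5 := Matrix (Fin 5) (Fin 5) (ZMod 2)

/-- The parameters. -/
abbrev Par := ZMod 2 × (Fin 3 → ZMod 2) × (Fin 3 → ZMod 2) × Matrix (Fin 3) (Fin 3) (ZMod 2)

/-- The shape of a matrix centralising the transvection. -/
def mk (p : Par) : M5 :=
  !![1, p.1, p.2.1 0, p.2.1 1, p.2.1 2;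
     0, 1, 0, 0, 0;
     0, p.2.2.1 0, p.2.2.2 0 0, p.2.2.2 0 1, p.2.2.2 0 2;
     0, p.2.2.1 1, p.2.2.2 1 0, p.2.2.2 1 1, p.2.2.2 1 2;
     0, p.2.2.1 2, p.2.2.2 2 0, p.2.2.2 2 1, p.2.2.2 2 2]

/-- The product on parameters. -/
def pmul (p q : Par) : Par :=
  (p.1 + q.1 + p.2.1 ⬝ᵥ q.2.2.1, q.2.1 + p.2.1 ᵥ* q.2.2.2, p.2.2.1 + p.2.2.2 *ᵥ q.2.2.1, p.2.2.2 * q.2.2.2)

theorem mk_mul (p q : Par) : mk p * mk q = mk (pmul p q) := by
  ext i j
  fin_cases i <;> fin_cases j <;>
    simp [mk, pmul, Matrix.mul_apply, Fin.sum_univ_succ, dotProduct, Matrix.vecMul, Matrix.mulVec] <;> ring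

theorem mk_one : mk (0, 0, 0, 1) = 1 := by decide +kernel

theorem mk_injective : Function.Injective mk := by
  intro p q h
  have e := fun i j => congrFun (congrFun h i) j
  refine Prod.ext (e 0 1) (Prod.ext ?_ (Prod.ext ?_ ?_))
  · funext i; fin_cases i
    exacts [e 0 2, e 0 3, e 0 4]
  · funext i; fin_cases i
    exacts [e 2 1, e 3 1, e 4 1]
  · ext i j; fin_cases i <;> fin_cases j
    exacts [e 2 2, e 2 3, e 2 4, e 3 2, e 3 3, e 3 4, e 4 2, e 4 3, e 4 4]

/-- The transvection. -/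
def tv : M5 := Matrix.transvection 0 1 1

theorem tv_eq : tv = mk (1, 0, 0, 1) := by decide +kernel

theorem mk_commute (p : Par) : mk p * tv = tv * mk p := by
  rw [tv_eq, mk_mul, mk_mul]
  congr 1
  simp [pmul, Matrix.vecMul_one, Matrix.mulVec_zero, add_comm]

theorem exists_mk {A : M5} (h : A * tv = tv * A) (hA : A.det ≠ 0) : ∃ p, mk p = A := by
  have e := fun i j => congrFun (congrFun h i) j
  have h20 := e 2 1; have h30 := e 3 1; have h40 := e 4 1; have h10 := e 1 1
  have h00 := e 0 0; have h02 := e 0 2; have h03 := e 0 3; have h04 := e 0 4; have h01 := e 0 1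
  simp [tv, Matrix.mul_apply, Fin.sum_univ_succ, Matrix.transvection, Matrix.one_apply] at h20 h30 h40 h10 h00 h02 h03 h04 h01
  have h11 : A 0 0 = A 1 1 := by linear_combination h01
  have hA1 : A 0 0 = 1 := by
    rcases (show ∀ t : ZMod 2, t = 0 ∨ t = 1 by decide) (A 0 0) with h0 | h0
    · exfalso
      apply hA
      refine Matrix.det_eq_zero_of_column_eq_zero 0 fun i => ?_
      fin_cases i
      exacts [h0, h10, h20, h30, h40]
    · exact h0
  refine ⟨(A 0 1, ![A 0 2, A 0 3, A 0 4], ![A 2 1, A 3 1, A 4 1],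
    !![A 2 2, A 2 3, A 2 4; A 3 2, A 3 3, A 3 4; A 4 2, A 4 3, A 4 4]), ?_⟩
  ext i j
  fin_cases i <;> fin_cases j <;> simp [mk, hA1, ← h11, h20, h30, h40, h10, h00, h02, h03, h04]

section SL

variable (s : Matrix.SpecialLinearGroup (Fin 5) (ZMod 2))

/-- Membership in the centraliser. -/
theorem mem_iff (hs : (s : M5) = tv) (g : Matrix.SpecialLinearGroup (Fin 5) (ZMod 2)) :
    g ∈ Subgroup.centralizer ({s} : Set (Matrix.SpecialLinearGroup (Fin 5) (ZMod 2))) ↔ ∃ p, mk p = (g : M5) := by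
  rw [Subgroup.mem_centralizer_singleton_iff]
  constructor
  · intro h
    refine exists_mk ?_ (by rw [g.2]; exact one_ne_zero)
    have := congrArg (fun x : Matrix.SpecialLinearGroup (Fin 5) (ZMod 2) => (x : M5)) h
    simpa [hs] using this
  · rintro ⟨p, hp⟩
    refine Subtype.ext ?_
    simp only [Matrix.SpecialLinearGroup.coe_mul, hs, ← hp, mk_commute]

theorem two_cases : ∀ t : ZMod 2, t = 0 ∨ t = 1 := by decide

theorem isUnit_block {p : Par} (h : (mk p).det = 1) : IsUnit p.2.2.2 := by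
  have hu : IsUnit (mk p) := (Matrix.isUnit_iff_isUnit_det _).mpr (by rw [h]; exact isUnit_one)
  obtain ⟨B, hB⟩ := hu.exists_right_inv
  have hc : B * tv = tv * B := by
    have hB' : B * mk p = 1 := mul_eq_one_comm.mp hB
    calc B * tv = B * (tv * (mk p * B)) := by rw [hB, mul_one]
      _ = B * (tv * mk p) * B := by simp only [mul_assoc]
      _ = B * (mk p * tv) * B := by rw [mk_commute]
      _ = (B * mk p) * (tv * B) := by simp only [mul_assoc]
      _ = tv * B := by rw [hB', one_mul]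
  obtain ⟨q, hq⟩ := exists_mk hc fun e => by
    have := congrArg Matrix.det hB; rw [Matrix.det_mul, e, mul_zero, Matrix.det_one] at this; exact zero_ne_one this
  rw [← hq, mk_mul, ← mk_one] at hB
  exact IsUnit.of_mul_eq_one _ (congrArg (fun r : Par => r.2.2.2) (mk_injective hB))

theorem det_mk {p : Par} (h : IsUnit p.2.2.2) : (mk p).det = 1 := by
  obtain ⟨B, hB⟩ := h.exists_right_inv
  refine (two_cases _).resolve_left fun e => ?_
  have key : mk p * mk (p.1 + p.2.1 ⬝ᵥ (B *ᵥ p.2.2.1), p.2.1 ᵥ* B, B *ᵥ p.2.2.1, B) = 1 := by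
    rw [mk_mul, ← mk_one]
    congr 1
    refine Prod.ext ?_ (Prod.ext ?_ (Prod.ext ?_ hB))
    · simp only [pmul]
      linear_combination CharTwo.add_self_eq_zero p.1 + CharTwo.add_self_eq_zero (p.2.1 ⬝ᵥ (B *ᵥ p.2.2.1))
    · funext i; simp only [pmul, Pi.add_apply]; exact CharTwo.add_self_eq_zero _
    · funext i
      simp only [pmul, Matrix.mulVec_mulVec, hB, Matrix.one_mulVec, Pi.add_apply]
      exact CharTwo.add_self_eq_zero _
  have := congrArg Matrix.det key
  rw [Matrix.det_mul, e, zero_mul, Matrix.det_one] at this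
  exact zero_ne_one this

theorem card_units : Fintype.card {B : Matrix (Fin 3) (Fin 3) (ZMod 2) // B.det ≠ 0} = 168 := by decide +kernel

theorem card_centralizer (hs : (s : M5) = tv) :
    Nat.card (Subgroup.centralizer ({s} : Set (Matrix.SpecialLinearGroup (Fin 5) (ZMod 2)))) = 21504 := by
  classical
  let f : {p : Par // IsUnit p.2.2.2} → Subgroup.centralizer ({s} : Set (Matrix.SpecialLinearGroup (Fin 5) (ZMod 2))) :=
    fun p => ⟨⟨mk p.1, det_mk p.2⟩, (mem_iff s hs _).mpr ⟨p.1, rfl⟩⟩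
  have hf : Function.Bijective f := by
    refine ⟨fun p q h => Subtype.ext (mk_injective (congrArg (fun x : Subgroup.centralizer _ => ((x.1 : Matrix.SpecialLinearGroup (Fin 5) (ZMod 2)) : M5)) h)), fun g => ?_⟩
    obtain ⟨p, hp⟩ := (mem_iff s hs _).mp g.2
    exact ⟨⟨p, isUnit_block (by rw [hp]; exact g.1.2)⟩, Subtype.ext (Subtype.ext hp)⟩
  rw [← Nat.card_congr (Equiv.ofBijective f hf)]
  let e : {p : Par // IsUnit p.2.2.2} ≃ ZMod 2 × (Fin 3 → ZMod 2) × (Fin 3 → ZMod 2) × {B : Matrix (Fin 3) (Fin 3) (ZMod 2) // B.det ≠ 0} :=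
    { toFun := fun p => (p.1.1, p.1.2.1, p.1.2.2.1, ⟨p.1.2.2.2, ((Matrix.isUnit_iff_isUnit_det _).mp p.2).ne_zero⟩)
      invFun := fun x => ⟨(x.1, x.2.1, x.2.2.1, x.2.2.2.1), (Matrix.isUnit_iff_isUnit_det _).mpr (isUnit_iff_ne_zero.mpr x.2.2.2.2)⟩
      left_inv := fun p => rfl
      right_inv := fun x => rfl }
  rw [Nat.card_congr e, Nat.card_prod, Nat.card_prod, Nat.card_prod, Nat.card_eq_fintype_card (α := {B : Matrix (Fin 3) (Fin 3) (ZMod 2) // B.det ≠ 0}), card_units]
  simp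

/-- A Sylow 2-subgroup of the centraliser is centralised only by the centre of order two. -/
theorem sylow_centralizer (hs : (s : M5) = tv)
    (T : Sylow 2 (Subgroup.centralizer ({s} : Set (Matrix.SpecialLinearGroup (Fin 5) (ZMod 2)))))
    (x : Subgroup.centralizer ({s} : Set (Matrix.SpecialLinearGroup (Fin 5) (ZMod 2))))
    (hx : ∀ t ∈ (T : Subgroup _), x * t = t * x) : x.1 = 1 ∨ x.1 = s := by
  classical
  haveI : Fact (Nat.Prime 2) := ⟨Nat.prime_two⟩
  let C := Subgroup.centralizer ({s} : Set (Matrix.SpecialLinearGroup (Fin 5) (ZMod 2)))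
  have hex : ∀ g : C, ∃ p, mk p = ((g.1 : Matrix.SpecialLinearGroup (Fin 5) (ZMod 2)) : M5) := fun g => (mem_iff s hs _).mp g.2
  choose par hpar using hex
  have hmul : ∀ g h : C, par (g * h) = pmul (par g) (par h) := fun g h =>
    mk_injective (by rw [hpar, ← mk_mul, hpar, hpar]; rfl)
  have hone : par 1 = (0, 0, 0, 1) := mk_injective (by rw [hpar, mk_one]; rfl)
  let φ : C →* Matrix (Fin 3) (Fin 3) (ZMod 2) :=
    { toFun := fun g => (par g).2.2.2
      map_one' := by rw [hone]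
      map_mul' := fun g h => by rw [hmul]; rfl }
  let O : Subgroup C := φ.ker
  have hO : IsPGroup 2 O := by
    intro g
    refine ⟨2, ?_⟩
    obtain ⟨⟨g, hgm⟩, hg⟩ := g
    refine Subtype.ext ?_
    show (⟨g, hgm⟩ : C) ^ 2 ^ 2 = 1
    have h4 : ((⟨g, hgm⟩ : C) ^ 2 ^ 2 : C) = (⟨g, hgm⟩ * ⟨g, hgm⟩) * (⟨g, hgm⟩ * ⟨g, hgm⟩) := by
      rw [show (2 : ℕ) ^ 2 = 2 + 2 from rfl, pow_add, pow_two]
    rw [h4]
    apply Subtype.ext; apply Subtype.ext
    rw [← hpar, ← hpar, hone, hmul, hmul]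
    have hB : (par ⟨g, hgm⟩).2.2.2 = 1 := hg
    rcases hp : par ⟨g, hgm⟩ with ⟨a, u, v, B⟩
    rw [hp] at hB
    subst hB
    congr 1
    have huu : u + u = 0 := funext fun i => CharTwo.add_self_eq_zero (u i)
    have hvv : v + v = 0 := funext fun i => CharTwo.add_self_eq_zero (v i)
    refine Prod.ext ?_ (Prod.ext ?_ (Prod.ext ?_ ?_))
    · simp only [pmul, Matrix.vecMul_one, Matrix.one_mulVec, huu, zero_dotProduct, add_zero]
      exact CharTwo.add_self_eq_zero _
    · simp only [pmul, Matrix.vecMul_one, mul_one, huu, add_zero]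
    · simp only [pmul, Matrix.one_mulVec, mul_one, hvv, add_zero]
    · simp [pmul]
  have hOT : O ≤ (T : Subgroup C) := by
    obtain ⟨S, hS⟩ := hO.exists_le_sylow
    obtain ⟨g, hg⟩ := MulAction.exists_smul_eq C S T
    rw [← hg]
    intro o ho
    rw [Sylow.coe_subgroup_smul, Subgroup.mem_pointwise_smul_iff_inv_smul_mem]
    exact hS (Subgroup.Normal.conj_mem' inferInstance o ho g)
  have hmk : ∀ a u v, ∃ g : C, par g = (a, u, v, 1) := fun a u v =>
    ⟨⟨⟨mk (a, u, v, 1), det_mk isUnit_one⟩, (mem_iff s hs _).mpr ⟨_, rfl⟩⟩, mk_injective (hpar _)⟩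
  have hcomm : ∀ u v, pmul (par x) (0, u, v, 1) = pmul (0, u, v, 1) (par x) := by
    intro u v
    obtain ⟨g, hg⟩ := hmk 0 u v
    have h := hx g (hOT (show φ g = 1 by show (par g).2.2.2 = 1; rw [hg]))
    have := congrArg par h
    rwa [hmul, hmul, hg] at this
  obtain ⟨⟨b, w, y, B⟩, hxp⟩ : ∃ p, p = par x := ⟨_, rfl⟩
  rw [← hxp] at hcomm
  have hy : y = 0 := by
    funext i
    have h := congrArg Prod.fst (hcomm (Pi.single i 1) 0)
    simp [pmul, dotProduct_zero, single_dotProduct] at h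
    exact h.symm ▸ rfl
  have hw : w = 0 := by
    funext i
    have h := congrArg Prod.fst (hcomm 0 (Pi.single i 1))
    simp [pmul, zero_dotProduct, dotProduct_single] at h
    exact h
  have hB : B = 1 := by
    subst hw hy
    ext i j
    have h := congrFun (congrArg (fun r : Par => r.2.1) (hcomm (Pi.single i 1) 0)) j
    simp [pmul, Matrix.vecMul_one, Matrix.single_one_vecMul] at h
    rw [← h]
    simp [Matrix.one_apply, Pi.single_apply, eq_comm]
  subst hw hy hB
  rcases two_cases b with rfl | rfl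
  · exact Or.inl (Subtype.ext (by rw [← hpar, ← hxp, mk_one]; rfl))
  · exact Or.inr (Subtype.ext (by rw [← hpar, ← hxp, hs, tv_eq]))

end SL

end Cfsg.Agent.Spor.TransvectionFive
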