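import Cfsg.Agent.Lib.Spor.HallWidthOne
import Cfsg.Agent.Lib.Spor.FischerPrimitive
import Cfsg.Agent.Lib.Spor.SUThreeTwoModel
import Cfsg.Agent.Lib.Transfer.Cores

/-! The quotient by the 2-core when its Sylow 3-subgroup is normal of 2-power index. -/

set_option autoImplicit false
set_option linter.style.haveILetI false

namespace Cfsg.Agent.Spor.HallOne

open Cfsg

universe u

variable {H : Type u} [Group H] [Finite H] {E : Set H}

theorem quotient_cases (hE : IsThreeTranspositionClass E) (hE2 : ∃ a ∈ E, ∃ b ∈ E, a ≠ b)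
    (hF : generalizedFittingSubgroup H = pCore 2 H) [(pCore 2 H).Normal]
    (h232 : ∃ P : Sylow 3 (H ⧸ pCore 2 H), (P : Subgroup (H ⧸ pCore 2 H)).Normal ∧
      ∃ k : ℕ, (P : Subgroup (H ⧸ pCore 2 H)).index = 2 ^ k) :
    Nonempty (H ⧸ pCore 2 H ≃* Equiv.Perm (Fin 3)) ∨ Nonempty (Heis54.Data (H ⧸ pCore 2 H)) := by
  classical
  haveI : Fact (Nat.Prime 2) := ⟨Nat.prime_two⟩
  haveI : Fact (Nat.Prime 3) := ⟨Nat.prime_three⟩
  obtain ⟨Pb, hPbn, k, hk⟩ := h232
  haveI := hPbn
  set V := pCore 2 H with hVdef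
  have hV2 : IsPGroup 2 V := Grp.pCore_isPGroup
  have hVn : V.Normal := inferInstance
  have hV : Subgroup.centralizer (V : Set H) ≤ V := by
    have := Grp.centralizer_gfitting_le (G := H)
    rwa [hF] at this
  let π := QuotientGroup.mk' V
  have hπs : Function.Surjective π := QuotientGroup.mk'_surjective V
  have hπ1 : ∀ x, π x = 1 ↔ x ∈ V := fun x => QuotientGroup.eq_one_iff x
  obtain ⟨d, hd, -⟩ := hE.2.1
  have hdV : d ∉ V := by
    intro h
    have htop : (⊤ : Subgroup H) ≤ V := by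
      rw [← hE.2.2, Subgroup.closure_le]
      intro e he
      obtain ⟨g, rfl⟩ := FischerStr.exists_conj hE hd he
      exact hVn.conj_mem d h g
    refine FischerStr.not_mem_center hE hE2 hd (FischerStr.mem_center_of hE.2.2 fun e he => ?_)
    obtain ⟨g, rfl⟩ := FischerStr.exists_conj hE hd he
    exact (FischerStr.commute_two hE hd (htop (Subgroup.mem_top g))).symm
  let S := π '' E
  have hSgen : Subgroup.closure S = ⊤ := by
    rw [← MonoidHom.map_closure, hE.2.2, Subgroup.map_top_of_surjective π hπs]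
  have hdd : π d * π d = 1 := by rw [← map_mul, ThreeTrans.mul_self hE.1 hd, map_one]
  have hprod : ∀ a ∈ E, π d * π a ∈ (Pb : Subgroup (H ⧸ V)) := by
    let ρ := QuotientGroup.mk' (Pb : Subgroup (H ⧸ V))
    have hρs : Function.Surjective ρ := QuotientGroup.mk'_surjective _
    have hp : IsPGroup 2 ((H ⧸ V) ⧸ (Pb : Subgroup (H ⧸ V))) := IsPGroup.of_card (n := k) (by
      rw [← Subgroup.index_eq_card, hk])
    intro a ha
    have heq : ρ (π a) = ρ (π d) := pGroup_class_eq hp (S := ρ '' S) ⟨_, ⟨d, hd, rfl⟩, rfl⟩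
      (by rintro _ ⟨_, ⟨b, hb, rfl⟩, rfl⟩
          obtain ⟨g, rfl⟩ := FischerStr.exists_conj hE hd hb
          exact isConj_iff.mpr ⟨ρ (π g), by simp⟩)
      (by rw [← MonoidHom.map_closure, hSgen, Subgroup.map_top_of_surjective ρ hρs]) _ ⟨_, ⟨a, ha, rfl⟩, rfl⟩
    rw [← QuotientGroup.eq_one_iff]
    show ρ (π d * π a) = 1
    rw [map_mul, heq, ← map_mul, hdd, map_one]
  have hcomap : ∀ P : Sylow 3 H, (P : Subgroup H) ⊔ V = (Pb : Subgroup (H ⧸ V)).comap π := by
    intro P
    haveI := Sylow.unique_of_normal Pb hPbn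
    have : P.mapSurjective hπs = Pb := Subsingleton.elim _ _
    rw [← this, Sylow.coe_mapSurjective, Subgroup.comap_map_eq, QuotientGroup.ker_mk']
  obtain ⟨Ps, hPs⟩ := InvolSylow.exists_normalized_sylow _ H rfl d (ThreeTrans.mul_self hE.1 hd) V hVn hV2
    (fun P => by rw [hcomap]; exact hPbn.comap π) (fun x hx => by
      have hm : d * (x * d * x⁻¹) ∈ V :=
        ThreeTrans.mul_symm_mem hE (FischerStr.conj_mem hE x hd) hd hx
      obtain ⟨u, hu, e⟩ := ThreeTrans.exists_conj_core_two hE hE2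
        (ThreeTrans.perpTwo_of_core hE hd (FischerStr.conj_mem hE x hd) hm)
      refine ⟨u⁻¹ * x, ?_, ?_⟩
      · show u⁻¹ * x * d = d * (u⁻¹ * x)
        calc u⁻¹ * x * d = u⁻¹ * (x * d * x⁻¹) * x := by group
          _ = _ := by rw [e]; group
      · rw [show (u⁻¹ * x)⁻¹ * x = x⁻¹ * u * x⁻¹⁻¹ by group]
        exact hVn.conj_mem u hu x⁻¹)
  set P : Subgroup H := (Ps : Subgroup H) with hPdef
  have hP : IsPGroup 3 P := Ps.isPGroup'
  have hdi := ThreeTrans.inv_eq hE.1 hd
  have hn : ∀ p ∈ P, d * p * d ∈ P := fun p hp => by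
    have := (Subgroup.mem_normalizer_iff.mp hPs p).mp hp
    rwa [hdi] at this
  have hcover : ∀ a ∈ E, ∃ p ∈ P, π a = π d * π p := by
    intro a ha
    have h1 : π d * π a ∈ ((Pb : Subgroup (H ⧸ V)).comap π).map π := ⟨d * a, by
      show π (d * a) ∈ (Pb : Subgroup (H ⧸ V))
      rw [map_mul]; exact hprod a ha, map_mul π d a⟩
    rw [← hcomap Ps, Subgroup.map_sup, (Subgroup.map_eq_bot_iff V).mpr (by rw [QuotientGroup.ker_mk']), sup_bot_eq] at h1
    obtain ⟨p, hp, e⟩ := h1
    exact ⟨p, hp, by rw [e, ← mul_assoc, hdd, one_mul]⟩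
  have hPV : ∀ p ∈ P, p ∈ V → p = 1 := fun p hp hpV => InvolSylow.eq_one_of_two_three hV2 hP hpV hp
  obtain ⟨K, eK⟩ : ∃ K : Subgroup H, K = Subgroup.closure (cd d '' (P : Set H)) := ⟨_, rfl⟩
  have hKP : K ≤ P := eK ▸ (Subgroup.closure_le _).mpr (by rintro _ ⟨p, hp, rfl⟩; exact (cd_inv hE hd hn hp).1)
  -- the images
  have hgenX : Subgroup.zpowers (π d) ⊔ K.map π = ⊤ := by
    obtain ⟨M, eM⟩ : ∃ M : Subgroup (H ⧸ V), M = Subgroup.zpowers (π d) ⊔ K.map π := ⟨_, rfl⟩
    rw [← eM, eq_top_iff, ← hSgen, Subgroup.closure_le]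
    rintro _ ⟨a, ha, rfl⟩
    obtain ⟨g, rfl⟩ := FischerStr.exists_conj hE hd ha
    -- conjugates by the Sylow subgroup suffice
    have hPS : ∀ p ∈ P, π p * π d * (π p)⁻¹ ∈ M := fun p hp => by
      have e : π p * π d * (π p)⁻¹ = π (cd d p) * π d := by
        simp only [cd, map_mul, map_inv, mul_assoc, hdd, mul_one]
      rw [e, eM]
      exact mul_mem (Subgroup.mem_sup_right ⟨_, eK ▸ Subgroup.subset_closure ⟨p, hp, rfl⟩, rfl⟩)
        (Subgroup.mem_sup_left (Subgroup.mem_zpowers _))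
    have htop : Subgroup.zpowers (π d) ⊔ P.map π = ⊤ := by
      rw [eq_top_iff, ← hSgen, Subgroup.closure_le]
      rintro _ ⟨a, ha, rfl⟩
      obtain ⟨p, hp, e⟩ := hcover a ha
      rw [SetLike.mem_coe, e]
      exact mul_mem (Subgroup.mem_sup_left (Subgroup.mem_zpowers _)) (Subgroup.mem_sup_right ⟨p, hp, rfl⟩)
    have hnorm : Subgroup.zpowers (π d) ≤ Subgroup.normalizer ((P.map π : Subgroup (H ⧸ V)) : Set (H ⧸ V)) :=
      Subgroup.zpowers_le.mpr (Subgroup.le_normalizer_map π ⟨d, hPs, rfl⟩)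
    have hg : π g ∈ ((Subgroup.zpowers (π d) ⊔ P.map π : Subgroup (H ⧸ V)) : Set (H ⧸ V)) := by rw [htop]; trivial
    rw [sup_comm, Subgroup.coe_mul_of_right_le_normalizer_left _ _ hnorm] at hg
    obtain ⟨_, ⟨p, hp, rfl⟩, c, hc, e⟩ := hg
    obtain ⟨i, rfl⟩ := Subgroup.mem_zpowers_iff.mp hc
    show π (g * d * g⁻¹) ∈ M
    rw [map_mul, map_mul, map_inv, ← e, show π p * π d ^ i * π d * (π p * π d ^ i)⁻¹ = π p * π d * (π p)⁻¹ by group]
    exact hPS p hp
  have hPK : P ≤ K := by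
    intro p hp
    have hKn : Subgroup.zpowers (π d) ≤ Subgroup.normalizer ((K.map π : Subgroup (H ⧸ V)) : Set (H ⧸ V)) := by
      refine Subgroup.zpowers_le.mpr (Subgroup.le_normalizer_map π ⟨d, ?_, rfl⟩)
      have key : ∀ y ∈ K, d * y * d⁻¹ ∈ K := by
        rw [eK]
        intro y hy
        induction hy using Subgroup.closure_induction with
        | mem a ha =>
          obtain ⟨q, hq, rfl⟩ := ha
          rw [hdi, (cd_inv hE hd hn hq).2]
          exact inv_mem (Subgroup.subset_closure ⟨q, hq, rfl⟩)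
        | one => simp
        | mul a b _ _ ha hb => rw [show d * (a * b) * d⁻¹ = d * a * d⁻¹ * (d * b * d⁻¹) by group]; exact mul_mem ha hb
        | inv a _ ha => rw [show d * a⁻¹ * d⁻¹ = (d * a * d⁻¹)⁻¹ by group]; exact inv_mem ha
      refine Subgroup.mem_normalizer_iff.mpr fun y => ⟨key y, fun hy => ?_⟩
      have := key _ hy
      rwa [hdi, show d * (d * y * d) * d = (d * d) * y * (d * d) by group, ThreeTrans.mul_self hE.1 hd, one_mul, mul_one] at this
    have hg : π p ∈ ((Subgroup.zpowers (π d) ⊔ K.map π : Subgroup (H ⧸ V)) : Set (H ⧸ V)) := by rw [hgenX]; trivial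
    rw [sup_comm, Subgroup.coe_mul_of_right_le_normalizer_left _ _ hKn] at hg
    obtain ⟨_, ⟨q, hq, rfl⟩, c, hc, e⟩ := hg
    obtain ⟨i, rfl⟩ := Subgroup.mem_zpowers_iff.mp hc
    have e1 : π d ^ i = π (q⁻¹ * p) := by
      rw [map_mul, map_inv, eq_inv_mul_iff_mul_eq]; exact e
    obtain ⟨j, hj⟩ := hP ⟨q⁻¹ * p, mul_mem (inv_mem (hKP hq)) hp⟩
    have h2 : (π d ^ i) ^ 2 = 1 := by
      rw [← zpow_natCast, ← zpow_mul, mul_comm, zpow_mul, zpow_natCast, pow_two, hdd, one_zpow]
    have h3 : (π d ^ i) ^ 3 ^ j = 1 := by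
      rw [e1, ← map_pow, show (q⁻¹ * p) ^ 3 ^ j = 1 from congrArg Subtype.val hj, map_one]
    have h4 := FischerStr.eq_one_of_coprime (Nat.Coprime.pow_right j (by norm_num : Nat.Coprime 2 3)) h2 h3
    rw [e1, hπ1] at h4
    have := hPV _ (mul_mem (inv_mem (hKP hq)) hp) h4
    rw [inv_mul_eq_one] at this
    exact this ▸ hq
  have hKeq : K = P := le_antisymm hKP hPK
  rw [hKeq] at hgenX
  have hPne : P ≠ ⊥ := by
    intro h
    obtain ⟨a, ha, hna⟩ := ThreeTrans.exists_not_commute hE hE2 hd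
    obtain ⟨p, hp, e⟩ := hcover a ha
    rw [h, Subgroup.mem_bot] at hp
    subst hp
    rw [map_one, mul_one] at e
    have hm : a⁻¹ * d ∈ V := QuotientGroup.eq.mp e
    rw [ThreeTrans.inv_eq hE.1 ha] at hm
    exact hna (ThreeTrans.commute_of_core_two hE hd ha (ThreeTrans.mul_symm_mem hE ha hd hm))
  rcases structure_P hE hV hd hdV hP hn (hPK.trans eK.le) hPne with
    ⟨u, hu, hu1, hPu⟩ | ⟨m, b, z, hm, hb, hbm, hzP, hz3, hzm, hzb, hzd, hPgen, hmb⟩
  · left
    have hud := inv_mem_class hE hd hP hu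
    have hnc : ¬ Commute d (u * d) := fun h => by
      refine hu1 ?_
      have h2 := h.eq
      rw [mul_assoc, ThreeTrans.mul_self hE.1 hd, mul_one, ← mul_assoc, hu.2, inv_eq_iff_mul_eq_one] at h2
      exact FischerStr.eq_one_of_coprime (by norm_num : Nat.Coprime 2 3) (by rw [pow_two, h2]) (inv_cube hE hd hP hu)
    obtain ⟨φ, hφ, f1, f2⟩ := ThreeTrans.exists_hom_s3 hE.1 hd hud hnc
    refine ⟨(MulEquiv.ofBijective (π.comp φ) ⟨?_, ?_⟩).symm⟩
    · rw [injective_iff_map_eq_one]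
      intro σ hσ
      by_contra hne
      obtain ⟨g, hg1, hg3⟩ := perm_three_two_kernel σ hne
      have hmem : φ (g * σ * g⁻¹ * σ⁻¹) ∈ V := by
        rw [← hπ1]
        show (π.comp φ) _ = 1
        rw [map_mul, map_mul, map_mul, hσ, mul_one, ← map_mul, mul_inv_cancel, map_one, one_mul, map_inv, hσ, inv_one]
      obtain ⟨j, hj⟩ := hV2 ⟨_, hmem⟩
      refine hg1 (hφ ?_)
      rw [map_one]
      exact FischerStr.eq_one_of_coprime (Nat.Coprime.pow_right j (by norm_num : Nat.Coprime 3 2))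
        (by rw [← map_pow, hg3, map_one]) (congrArg Subtype.val hj)
    · rw [← MonoidHom.range_eq_top, eq_top_iff, ← hgenX, sup_le_iff, Subgroup.zpowers_le]
      refine ⟨⟨Equiv.swap 0 1, by rw [MonoidHom.comp_apply, f1]⟩, ?_⟩
      rw [hPu, MonoidHom.map_zpowers, Subgroup.zpowers_le]
      exact ⟨Equiv.swap 1 2 * Equiv.swap 0 1, by
        rw [MonoidHom.comp_apply, map_mul φ, f1, f2, mul_assoc, ThreeTrans.mul_self hE.1 hd, mul_one]⟩
  · right
    have hpow : ∀ x, x ^ 3 = 1 → π x ^ 3 = 1 := fun x h => by rw [← map_pow, h, map_one]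
    let R : Heis54.Rel (H ⧸ V) :=
      { m := π m, b := π b, z := π z, d := π d
        m3 := hpow _ (inv_cube hE hd hP hm), b3 := hpow _ (inv_cube hE hd hP hb), z3 := hpow _ hz3
        d2 := hdd, bm := by rw [← map_mul, ← map_mul, ← map_mul, hbm]
        zm := hzm.map π, zb := hzb.map π, zd := hzd.map π
        dm := by rw [← map_mul, ← map_mul, ← map_inv, hm.2]
        db := by rw [← map_mul, ← map_mul, ← map_inv, hb.2] }
    have hgenR : Subgroup.closure ({R.m, R.b, R.z, R.d} : Set (H ⧸ V)) = ⊤ := by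
      rw [eq_top_iff, ← hgenX, sup_le_iff, Subgroup.zpowers_le]
      refine ⟨Subgroup.subset_closure (by simp [R]), ?_⟩
      rw [hPgen, MonoidHom.map_closure, Subgroup.closure_le]
      rintro _ ⟨x, hx, rfl⟩
      rcases hx with rfl | rfl | rfl <;> exact Subgroup.subset_closure (by simp [R])
    refine ⟨{ R with gen := hgenR, card := le_antisymm ?_ ?_ }⟩
    · have hsurj : Function.Surjective R.nf := fun g =>
        (Heis54.exists_nf R (show g ∈ _ from hgenR.symm ▸ Subgroup.mem_top g)).imp fun _ h => h.symm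
      exact (Nat.card_le_card_of_surjective _ hsurj).trans (by simp)
    · have hle : P.map π ≤ (Pb : Subgroup (H ⧸ V)) := by
        rw [Subgroup.map_le_iff_le_comap, ← hcomap Ps]; exact le_sup_left
      have hcardP : Nat.card (P.map π) = Nat.card P := by
        have hinj : Function.Injective (π.comp P.subtype) := by
          rw [injective_iff_map_eq_one]
          exact fun x hx => Subtype.ext (hPV x x.2 ((hπ1 _).mp hx))
        rw [show P.map π = (π.comp P.subtype).range by rw [MonoidHom.range_eq_map, ← Subgroup.map_map, ← MonoidHom.range_eq_map, Subgroup.range_subtype]]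
        exact Nat.card_congr (MonoidHom.ofInjective hinj).toEquiv.symm
      obtain ⟨n, hn'⟩ := IsPGroup.iff_card.mp hP
      have h27 : 27 ≤ Nat.card P := by
        rcases (show n = 0 ∨ n = 1 ∨ n = 2 ∨ 3 ≤ n by omega) with h | h | h | h
        · exfalso; exact hPne (Subgroup.card_eq_one.mp (by rw [hn', h, pow_zero]))
        · exfalso
          haveI : IsCyclic P := isCyclic_of_prime_card (p := 3) (by rw [hn', h, pow_one])
          haveI := IsCyclic.isMulCommutative (α := P)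
          exact hmb (congrArg Subtype.val ((IsMulCommutative.is_comm (M := P)).comm ⟨m, hm.1⟩ ⟨b, hb.1⟩))
        · exfalso
          letI := IsPGroup.commGroupOfCardEqPrimeSq (p := 3) (G := P) (by rw [hn', h])
          exact hmb (congrArg Subtype.val (mul_comm (⟨m, hm.1⟩ : P) ⟨b, hb.1⟩))
        · rw [hn']; exact le_trans (by norm_num) (Nat.pow_le_pow_right (by norm_num) h)
      have hk1 : 2 ≤ (Pb : Subgroup (H ⧸ V)).index := by
        have h0 : (Pb : Subgroup (H ⧸ V)).index ≠ 0 := Subgroup.index_ne_zero_of_finite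
        have h1 : (Pb : Subgroup (H ⧸ V)).index ≠ 1 := fun e => by
          rw [Subgroup.index_eq_one] at e
          obtain ⟨j, hj⟩ := Pb.isPGroup' ⟨π d, e ▸ Subgroup.mem_top _⟩
          exact hdV ((hπ1 d).mp (FischerStr.eq_one_of_coprime (Nat.Coprime.pow_right j (by norm_num : Nat.Coprime 2 3))
            (by rw [pow_two]; exact hdd) (congrArg Subtype.val hj)))
        omega
      calc 54 = 27 * 2 := rfl
        _ ≤ Nat.card (Pb : Subgroup (H ⧸ V)) * (Pb : Subgroup (H ⧸ V)).index :=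
          Nat.mul_le_mul ((h27.trans hcardP.ge).trans (Subgroup.card_le_of_le hle)) hk1
        _ = Nat.card (H ⧸ V) := Subgroup.card_mul_index _

theorem quotient_classification (hE : IsThreeTranspositionClass E) (hE2 : ∃ a ∈ E, ∃ b ∈ E, a ≠ b)
    (hF : generalizedFittingSubgroup H = pCore 2 H) [(pCore 2 H).Normal]
    (h232 : ∃ P : Sylow 3 (H ⧸ pCore 2 H), (P : Subgroup (H ⧸ pCore 2 H)).Normal ∧
      ∃ k : ℕ, (P : Subgroup (H ⧸ pCore 2 H)).index = 2 ^ k) :
    Nonempty (H ⧸ pCore 2 H ≃* Equiv.Perm (Fin 3)) ∨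
      ∃ (F : Type) (_ : Field F) (_ : Fintype F), Fintype.card F = 4 ∧
        Nonempty (H ⧸ pCore 2 H ≃* ↥(commutator ↥(SU 3 F 2))) := by
  rcases quotient_cases hE hE2 hF h232 with h | hA
  · exact Or.inl h
  · right
    obtain ⟨A⟩ := hA
    obtain ⟨B⟩ := SU32.data
    haveI : Finite (commutator (SU 3 SU32.F4 2)) := Nat.finite_of_card_ne_zero (by rw [B.card]; norm_num)
    exact ⟨SU32.F4, inferInstance, inferInstance, rfl, Heis54.Data.iso A B⟩

end Cfsg.Agent.Spor.HallOne
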