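import Mathlib

/-! Checked word rewriting in a monoid, to evaluate small presented groups by `decide`. -/

set_option autoImplicit false

namespace Cfsg.Agent.Spor.Rewrite

variable {α : Type*} {M : Type*} [Monoid M]

/-- The product of a word. -/
def evalWord (v : α → M) (w : List α) : M := (w.map v).prod

variable [DecidableEq α]

/-- Apply the first rule matching at the head of the word. -/
def applyHead : List (List α × List α) → List α → Option (List α)
  | [], _ => none
  | (l, r) :: R, w => if l.isPrefixOf w then some (r ++ w.drop l.length) else applyHead R w

/-- One leftmost rewriting step. -/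
def rstep (R : List (List α × List α)) : List α → List α
  | [] => []
  | a :: w =>
    match applyHead R (a :: w) with
    | some v => v
    | none => a :: rstep R w

/-- `n` rewriting steps. -/
def normal (R : List (List α × List α)) : ℕ → List α → List α
  | 0, w => w
  | n + 1, w => normal R n (rstep R w)

theorem applyHead_sound (v : α → M) : ∀ (R : List (List α × List α)),
    (∀ p ∈ R, evalWord v p.1 = evalWord v p.2) → ∀ w u, applyHead R w = some u →
      evalWord v u = evalWord v w
  | [], _, w, u, h => by simp [applyHead] at h
  | (l, r) :: R, hR, w, u, h => by
    unfold applyHead at h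
    split at h
    · rename_i hp
      obtain ⟨t, rfl⟩ := List.isPrefixOf_iff_prefix.mp hp
      obtain rfl : r ++ (l ++ t).drop l.length = u := Option.some.inj h
      have := hR (l, r) (List.mem_cons_self ..)
      simp only [evalWord] at this
      simp [evalWord, this]
    · exact applyHead_sound v R (fun p hp => hR p (List.mem_cons_of_mem _ hp)) w u h

theorem rstep_sound (v : α → M) (R : List (List α × List α))
    (hR : ∀ p ∈ R, evalWord v p.1 = evalWord v p.2) :
    ∀ w, evalWord v (rstep R w) = evalWord v w
  | [] => rfl
  | a :: w => by
    unfold rstep
    split
    · rename_i u hu
      exact applyHead_sound v R hR _ _ hu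
    · have := rstep_sound v R hR w
      simp only [evalWord] at this
      simp [evalWord, this]

theorem normal_sound (v : α → M) (R : List (List α × List α))
    (hR : ∀ p ∈ R, evalWord v p.1 = evalWord v p.2) :
    ∀ n w, evalWord v (normal R n w) = evalWord v w
  | 0, _ => rfl
  | n + 1, w => by rw [normal, normal_sound v R hR n, rstep_sound v R hR]

end Cfsg.Agent.Spor.Rewrite
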