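import Mathlib
import Cfsg.Prelude.Def_SporadicB
import Cfsg.Agent.Lib.Spor.Rewrite

/-! Elementary facts about sets of 3-transpositions. -/

set_option autoImplicit false

namespace Cfsg.Agent.Spor.ThreeTrans

variable {G : Type*} [Group G] {E : Set G}

theorem mul_self {a : G} (hE : IsThreeTranspositionSet E) (ha : a ∈ E) : a * a = 1 := by
  have h := pow_orderOf_eq_one a
  rwa [hE.1 a ha, pow_two] at h

theorem mul_self_mul {a : G} (hE : IsThreeTranspositionSet E) (ha : a ∈ E) (x : G) :
    a * (a * x) = x := by
  rw [← mul_assoc, mul_self hE ha, one_mul]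

theorem inv_eq {a : G} (hE : IsThreeTranspositionSet E) (ha : a ∈ E) : a⁻¹ = a :=
  inv_eq_of_mul_eq_one_right (mul_self hE ha)

theorem ne_one {a : G} (hE : IsThreeTranspositionSet E) (ha : a ∈ E) : a ≠ 1 := by
  rintro rfl
  have := hE.1 1 ha
  simp at this

theorem braid {a b : G} (hE : IsThreeTranspositionSet E) (ha : a ∈ E) (hb : b ∈ E)
    (h : ¬ Commute a b) : a * b * a = b * a * b := by
  rcases hE.2 a ha b hb with h2 | h3
  · exfalso
    apply h
    have h2' : a * b = (a * b)⁻¹ := eq_inv_of_mul_eq_one_left (by rwa [← pow_two])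
    rw [mul_inv_rev, inv_eq hE ha, inv_eq hE hb] at h2'
    exact h2'
  · rw [pow_three] at h3
    have h4 : a * b * a = (b * a * b)⁻¹ := eq_inv_of_mul_eq_one_left (by simpa [mul_assoc] using h3)
    simpa [inv_eq hE ha, inv_eq hE hb, mul_assoc] using h4

theorem braid_mul {a b : G} (hE : IsThreeTranspositionSet E) (ha : a ∈ E) (hb : b ∈ E)
    (h : ¬ Commute a b) (x : G) : a * (b * (a * x)) = b * (a * (b * x)) := by
  simp only [← mul_assoc, braid hE ha hb h]

/-- A member commutes with a product of two commuting members iff it commutes with both. -/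
theorem commute_mul_iff {a b e : G} (hE : IsThreeTranspositionSet E) (ha : a ∈ E) (hb : b ∈ E)
    (he : e ∈ E) (hab : a ≠ b) (hcomm : Commute a b) :
    Commute e (a * b) ↔ (Commute e a ∧ Commute e b) := by
  refine ⟨fun h => ?_, fun h => h.1.mul_right h.2⟩
  by_cases hea : Commute e a
  · refine ⟨hea, ?_⟩
    have := hea.mul_right h
    rwa [mul_self_mul hE ha] at this
  · exfalso
    by_cases heb : Commute e b
    · apply hea
      have := h.mul_right heb
      rwa [mul_assoc, mul_self hE hb, mul_one] at this
    · apply hab
      have h1 : (e * a * e) * (e * b * e) = a * b := by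
        calc (e * a * e) * (e * b * e) = e * (a * (e * e) * b * e) := by simp [mul_assoc]
          _ = e * (a * b * e) := by rw [mul_self hE he, mul_one]
          _ = e * (e * (a * b)) := by rw [← h.eq]
          _ = a * b := mul_self_mul hE he _
      rw [braid hE he ha hea, braid hE he hb heb] at h1
      have h2 : e * (a * b) * (e * b) = b := by
        have := congrArg (a * ·) h1
        simpa [mul_assoc, mul_self_mul hE ha] using this
      have h3 : a * b * (e * e * b) = b := by
        rw [h.eq] at h2
        simpa [mul_assoc] using h2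
      rw [mul_self hE he, one_mul, mul_assoc, mul_self hE hb, mul_one] at h3
      exact h3

/-- A member commutes with a product of three pairwise commuting members iff with each. -/
theorem commute_mul_three_iff {a b c e : G} (hE : IsThreeTranspositionSet E) (ha : a ∈ E)
    (hb : b ∈ E) (hc : c ∈ E) (he : e ∈ E) (hab : a ≠ b) (hac : a ≠ c) (hbc : b ≠ c)
    (h₁ : Commute a b) (h₂ : Commute a c) (h₃ : Commute b c) :
    Commute e (a * b * c) ↔ (Commute e a ∧ Commute e b ∧ Commute e c) := by
  refine ⟨fun h => ?_, fun h => (h.1.mul_right h.2.1).mul_right h.2.2⟩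
  by_cases hec : Commute e c
  · have h' := h.mul_right hec
    rw [mul_assoc, mul_self hE hc, mul_one] at h'
    have := (commute_mul_iff hE ha hb he hab h₁).mp h'
    exact ⟨this.1, this.2, hec⟩
  · by_cases hea : Commute e a
    · have h' := hea.mul_right h
      rw [mul_assoc a b c, mul_self_mul hE ha] at h'
      have := (commute_mul_iff hE hb hc he hbc h₃).mp h'
      exact ⟨hea, this.1, this.2⟩
    · by_cases heb : Commute e b
      · have e1 : a * b * c * b = a * c := by
          rw [mul_assoc (a * b), ← h₃.eq, ← mul_assoc, mul_assoc a b b, mul_self hE hb, mul_one]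
        have h' := h.mul_right heb
        rw [e1] at h'
        have := (commute_mul_iff hE ha hc he hac h₂).mp h'
        exact ⟨this.1, heb, this.2⟩
      · exfalso
        -- `y = e (ab) e` commutes with `ab`
        let y := e * (a * b) * e
        have hy : y = a * (e * (a * b) * e) * b := by
          calc y = (e * a * e) * (e * b * e) := by
                simp [y, mul_assoc, mul_self_mul hE he]
            _ = (a * e * a) * (b * e * b) := by rw [braid hE he ha hea, braid hE he hb heb]
            _ = _ := by simp [mul_assoc]
        have hy1 : y * b = a * y := by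
          conv_lhs => rw [hy]
          simp [y, mul_assoc, mul_self hE hb]
        have hy' : y = b * (e * (a * b) * e) * a := by
          calc y = (e * b * e) * (e * a * e) := by
                simp [y, mul_assoc, mul_self_mul hE he, h₁.eq]
            _ = (b * e * b) * (a * e * a) := by rw [braid hE he ha hea, braid hE he hb heb]
            _ = _ := by simp [mul_assoc, h₁.symm.left_comm, h₁.eq]
        have hy2 : y * a = b * y := by
          conv_lhs => rw [hy']
          simp [y, mul_assoc, mul_self hE ha]
        have hyab : y * (a * b) = (a * b) * y := by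
          rw [← mul_assoc, hy2, mul_assoc, hy1, ← mul_assoc, h₁.eq]
        -- hence `x = (ab) e (ab)` commutes with `e`, and `c = e x e = x`
        have hx : e * ((a * b) * e * (a * b)) = (a * b) * e * (a * b) * e := by
          calc e * ((a * b) * e * (a * b)) = y * (a * b) := by simp [y, mul_assoc]
            _ = (a * b) * y := hyab
            _ = _ := by simp [y, mul_assoc]
        have hce : c * e * c = (a * b) * e * (a * b) := by
          have hsq : (a * b) * (a * b) = 1 := by
            rw [mul_assoc, ← mul_assoc b a, h₁.symm.eq, mul_assoc a b b, mul_self hE hb, mul_one,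
              mul_self hE ha]
          have h4 : e * (a * b * c) * c = (a * b * c) * e * c := by rw [h.eq]
          rw [mul_assoc, mul_assoc _ c c, mul_self hE hc, mul_one] at h4
          calc c * e * c = (a * b) * ((a * b * c) * e * c) := by
                rw [← mul_assoc (a * b), ← mul_assoc (a * b), ← mul_assoc (a * b), hsq, one_mul]
            _ = (a * b) * (e * (a * b)) := by rw [← h4]
            _ = _ := by simp [mul_assoc]
        have hc' : c = (a * b) * e * (a * b) := by
          have h5 : e * c * e = (a * b) * e * (a * b) := by rw [braid hE he hc hec, hce]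
          calc c = e * (e * c * e) * e := by
                simp [mul_assoc, mul_self hE he, mul_self_mul hE he]
            _ = (a * b) * e * (a * b) * e * e := by rw [h5, hx]
            _ = _ := by rw [mul_assoc _ e e, mul_self hE he, mul_one]
        -- `c` commutes with `a`, which forces `e` to commute with `a`
        apply hea
        have h7 : a * c = c * a := h₂.eq
        rw [hc'] at h7
        have h8 : b * e * (a * b) = a * b * e * b := by
          calc b * e * (a * b) = a * ((a * b) * e * (a * b)) := by
                simp [mul_assoc, mul_self_mul hE ha]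
            _ = (a * b) * e * (a * b) * a := h7
            _ = a * b * e * b := by
                rw [h₁.eq]; simp [mul_assoc, mul_self hE ha]
        have h9 : b * e * a = a * b * e := mul_right_cancel (b := b) (by simpa [mul_assoc] using h8)
        rw [h₁.eq, mul_assoc, mul_assoc] at h9
        exact mul_left_cancel h9

open Cfsg.Agent.Spor.Rewrite

/-- Two non-commuting members generate a symmetric group of degree 3. -/
theorem exists_hom_s3 {a b : G} (hE : IsThreeTranspositionSet E) (ha : a ∈ E) (hb : b ∈ E)
    (h : ¬ Commute a b) :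
    ∃ φ : Equiv.Perm (Fin 3) →* G, Function.Injective φ ∧ φ (Equiv.swap 0 1) = a ∧
      φ (Equiv.swap 1 2) = b := by
  let v : Fin 2 → G := ![a, b]
  let s : Fin 2 → Equiv.Perm (Fin 3) := ![Equiv.swap 0 1, Equiv.swap 1 2]
  let ws : List (List (Fin 2)) := [[], [0], [1], [0, 1], [1, 0], [0, 1, 0]]
  let wordOf : Equiv.Perm (Fin 3) → List (Fin 2) :=
    fun σ => (ws.find? fun w => evalWord s w = σ).getD []
  let R : List (List (Fin 2) × List (Fin 2)) := [([0, 0], []), ([1, 1], []), ([1, 0, 1], [0, 1, 0])]
  have hR : ∀ p ∈ R, evalWord v p.1 = evalWord v p.2 := by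
    simp [R, v, evalWord, mul_self hE ha, mul_self hE hb]
    simpa [mul_assoc] using (braid hE ha hb h).symm
  have key : ∀ (i : Fin 2) (σ : Equiv.Perm (Fin 3)),
      normal R 6 (i :: wordOf σ) = wordOf (s i * σ) := by decide +kernel
  have kword : ∀ σ : Equiv.Perm (Fin 3), evalWord s (wordOf σ) = σ := by decide +kernel
  let f : Equiv.Perm (Fin 3) → G := fun σ => evalWord v (wordOf σ)
  have hstep : ∀ i σ, f (s i * σ) = v i * f σ := by
    intro i σ
    show evalWord v (wordOf (s i * σ)) = v i * evalWord v (wordOf σ)
    rw [← key, normal_sound v R hR]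
    simp [evalWord]
  have h1 : f 1 = 1 := by
    have : wordOf 1 = [] := by decide +kernel
    simp [f, this, evalWord]
  have hmul : ∀ σ τ, f (σ * τ) = f σ * f τ := by
    intro σ τ
    have : ∀ w : List (Fin 2), f (evalWord s w * τ) = evalWord v w * f τ := by
      intro w
      induction w with
      | nil => simp [evalWord]
      | cons i w ih =>
        simp only [evalWord, List.map_cons, List.prod_cons] at ih ⊢
        rw [mul_assoc, hstep, ih, mul_assoc]
    have := this (wordOf σ)
    rwa [kword] at this
  let φ : Equiv.Perm (Fin 3) →* G := { toFun := f, map_one' := h1, map_mul' := hmul }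
  have hw0 : wordOf (Equiv.swap 0 1) = [0] := by decide +kernel
  have hw1 : wordOf (Equiv.swap 1 2) = [1] := by decide +kernel
  have e0 : φ (Equiv.swap 0 1) = a := by
    show f _ = a
    simp [f, hw0, evalWord, v]
  have e1 : φ (Equiv.swap 1 2) = b := by
    show f _ = b
    simp [f, hw1, evalWord, v]
  refine ⟨φ, ?_, e0, e1⟩
  rw [injective_iff_map_eq_one]
  intro σ hσ
  by_contra hne
  have hker : ∀ σ : Equiv.Perm (Fin 3), σ ≠ 1 →
      ∃ g g' : Equiv.Perm (Fin 3), (g * σ * g⁻¹) * (g' * σ * g'⁻¹) =
        Equiv.swap 0 1 * Equiv.swap 1 2 := by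
    decide +kernel
  have hconj : ∀ g, φ (g * σ * g⁻¹) = 1 := fun g => by rw [map_mul, map_mul, hσ]; simp
  have htr : φ (Equiv.swap 0 1 * Equiv.swap 1 2) = 1 := by
    obtain ⟨g, g', hg⟩ := hker σ hne
    rw [← hg, map_mul, hconj, hconj, mul_one]
  rw [map_mul, e0, e1] at htr
  apply h
  have : b = a := by
    rw [← inv_eq hE ha]; exact eq_inv_of_mul_eq_one_right htr
  rw [this]

theorem closure_pair_eq_range {a b : G} (φ : Equiv.Perm (Fin 3) →* G)
    (e0 : φ (Equiv.swap 0 1) = a) (e1 : φ (Equiv.swap 1 2) = b) :
    φ.range = Subgroup.closure {a, b} := by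
  apply le_antisymm
  · rintro _ ⟨σ, rfl⟩
    have hall : σ = 1 ∨ σ = Equiv.swap 0 1 ∨ σ = Equiv.swap 1 2 ∨
        σ = Equiv.swap 0 1 * Equiv.swap 1 2 ∨ σ = Equiv.swap 1 2 * Equiv.swap 0 1 ∨
        σ = Equiv.swap 0 1 * Equiv.swap 1 2 * Equiv.swap 0 1 := by
      revert σ; decide
    have ha : a ∈ Subgroup.closure {a, b} := Subgroup.subset_closure (Set.mem_insert _ _)
    have hb : b ∈ Subgroup.closure {a, b} :=
      Subgroup.subset_closure (Set.mem_insert_of_mem _ rfl)
    rcases hall with rfl | rfl | rfl | rfl | rfl | rfl <;>
      simp only [map_one, map_mul, e0, e1]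
    · exact one_mem _
    · exact ha
    · exact hb
    · exact mul_mem ha hb
    · exact mul_mem hb ha
    · exact mul_mem (mul_mem ha hb) ha
  · rw [Subgroup.closure_le]
    rintro x (rfl | rfl)
    · exact ⟨_, e0⟩
    · exact ⟨_, e1⟩

end Cfsg.Agent.Spor.ThreeTrans
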