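import Cfsg.Agent.Lib.Spor.FischerPlanes
import Cfsg.Agent.Lib.Spor.ThreeTrans
import Cfsg.Agent.S5344

/-! The planes in the line system of a set of 3-transpositions closed under conjugation. -/

set_option autoImplicit false
set_option linter.style.haveILetI false

namespace Cfsg.Agent.Spor.ThreeTransPlanes

open Cfsg Cfsg.Agent.Spor.FischerPlanes

variable {G : Type*} [Group G] {D : Set G}

/-- The hypotheses. -/
structure Closed (D : Set G) : Prop where
  three : IsThreeTranspositionSet D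
  conj : ∀ g : G, ∀ d ∈ D, g * d * g⁻¹ ∈ D

theorem conj' (h : Closed D) {x y : G} (hx : x ∈ D) (hy : y ∈ D) : x * y * x ∈ D := by
  have := h.conj x y hy
  rwa [ThreeTrans.inv_eq h.three hx] at this

theorem third_eq (h : Closed D) (x y : D) (hxy : ¬ Commute (x : G) y) :
    (y : G) * x * (y : G)⁻¹ = (x : G) * y * x := by
  rw [ThreeTrans.inv_eq h.three y.2, ← ThreeTrans.braid h.three x.2 y.2 hxy]

theorem not_commute_third (h : Closed D) {x y : G} (hx : x ∈ D) (hy : y ∈ D) (hxy : ¬ Commute x y) :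
    ¬ Commute x (x * y * x) := fun hc => by
  apply hxy
  have e : x * (x * y * x) = x * y * x * x := hc
  rw [mul_assoc (x * y) x x, ThreeTrans.mul_self h.three hx, mul_one, mul_assoc x y x,
    ThreeTrans.mul_self_mul h.three hx] at e
  exact e.symm

/-- A line is determined by any two of its points. -/
theorem line_eq (h : Closed D) {l : Set D} (hl : l ∈ threeTranspositionLines D) {u v : D} (hu : u ∈ l) (hv : v ∈ l)
    (hne : u ≠ v) : ¬ Commute (u : G) v ∧ l = {w : D | (w : G) = u ∨ (w : G) = v ∨ (w : G) = (u : G) * v * u} := by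
  obtain ⟨x, y, hxy, rfl⟩ := hl
  rw [Set.mem_setOf_eq, third_eq h x y hxy] at hu hv
  have ex := x.2
  have ey := y.2
  have nx : ¬ Commute (x : G) ((x : G) * y * x) := not_commute_third h ex ey hxy
  have ny : ¬ Commute (y : G) ((x : G) * y * x) := by
    rw [ThreeTrans.braid h.three ex ey hxy]
    exact not_commute_third h ey ex fun c => hxy c.symm
  have b := ThreeTrans.braid h.three ex ey hxy
  have e3 : (x : G) * ((x : G) * y * x) * x = y := by
    simp [mul_assoc, ThreeTrans.mul_self h.three ex, ThreeTrans.mul_self_mul h.three ex]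
  have e4 : (y : G) * ((x : G) * y * x) * y = x := by
    rw [b]; simp [mul_assoc, ThreeTrans.mul_self h.three ey, ThreeTrans.mul_self_mul h.three ey]
  have e5 : (x : G) * y * x * x * ((x : G) * y * x) = y := by
    rw [mul_assoc ((x : G) * y) x x, ThreeTrans.mul_self h.three ex, mul_one, mul_assoc]
    rw [show (y : G) * ((x : G) * y * x) = (y : G) * ((y : G) * x * y) by rw [b]]
    rw [mul_assoc (y : G) x y, ThreeTrans.mul_self_mul h.three ey, ThreeTrans.mul_self_mul h.three ex]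
  have e6 : (x : G) * y * x * y * ((x : G) * y * x) = x := by
    rw [show (x : G) * y * x * y = (y : G) * x by rw [b, mul_assoc _ (y : G) y, ThreeTrans.mul_self h.three ey, mul_one]]
    simp [mul_assoc, ThreeTrans.mul_self h.three ey, ThreeTrans.mul_self_mul h.three ex, ThreeTrans.mul_self_mul h.three ey]
  have hne' : (u : G) ≠ v := fun e => hne (Subtype.ext e)
  rcases hu with hu | hu | hu <;> rcases hv with hv | hv | hv <;>
    first
    | exact absurd (hu.trans hv.symm) hne'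
    | (refine ⟨?_, ?_⟩
       · rw [hu, hv]
         first
         | exact hxy
         | exact fun c => hxy c.symm
         | exact nx
         | exact fun c => nx c.symm
         | exact ny
         | exact fun c => ny c.symm
       · ext w
         simp only [Set.mem_setOf_eq, third_eq h x y hxy, hu, hv, e3, e4, e5, e6, ← b]
         try tauto)

theorem partialLinear (h : Closed D) : LineSystem.IsPartialLinear (threeTranspositionLines D) :=
  fun l hl m hm x y hne hxl hyl hxm hym => by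
    rw [(line_eq h hl hxl hyl hne).2, (line_eq h hm hxm hym hne).2]

theorem ncard_line (h : Closed D) : ∀ l ∈ threeTranspositionLines D, l.ncard = 3 := by
  rintro _ ⟨x, y, hxy, rfl⟩
  have hz : (x : G) * y * x ∈ D := conj' h x.2 y.2
  rw [Set.ncard_eq_three]
  refine ⟨x, y, ⟨_, hz⟩, ?_, ?_, ?_, ?_⟩
  · exact fun e => hxy (by rw [e])
  · intro e
    have : (x : G) = (x : G) * y * x := congrArg Subtype.val e
    exact not_commute_third h x.2 y.2 hxy (by rw [← this])
  · intro e
    have e' : (y : G) = (x : G) * y * x := congrArg Subtype.val e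
    have := not_commute_third h y.2 x.2 fun c => hxy c.symm
    rw [← ThreeTrans.braid h.three x.2 y.2 hxy, ← e'] at this
    exact this (Commute.refl _)
  · ext w
    simp only [Set.mem_setOf_eq, third_eq h x y hxy, Set.mem_insert_iff, Set.mem_singleton_iff, Subtype.ext_iff]

theorem mem_line (h : Closed D) {x y : D} (hxy : ¬ Commute (x : G) y) :
    {w : D | (w : G) = x ∨ (w : G) = y ∨ (w : G) = (x : G) * y * x} ∈ threeTranspositionLines D :=
  ⟨x, y, hxy, by rw [third_eq h x y hxy]⟩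

/-- A plane from a coordinatised configuration. -/
theorem plane_iso (h : Closed D) {M : Type*} {Λ : Set (Set M)} {r : M → M → M} (hM : Model Λ r)
    (hΛ : ∀ l ∈ Λ, ∃ x u, x ≠ u ∧ x ∈ l ∧ u ∈ l ∧ l = {x, u, r x u})
    (f : M → D) (hf : Function.Injective f) (hr : ∀ x u, (f x : G) * f u * f x = f (r x u))
    (hcol : ∀ x u, x ≠ u → (∃ l ∈ Λ, x ∈ l ∧ u ∈ l) ∨ Commute (f x : G) (f u))
    (seeds : Set M) (hclose : ∀ p, p ∈ seeds ∨ ∃ x ∈ seeds, ∃ u ∈ seeds, ∃ l ∈ Λ, x ≠ u ∧ x ∈ l ∧ u ∈ l ∧ p ∈ l)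
    {U : Set D} (hU : f '' seeds = U) :
    LineSystem.Isomorphic (LineSystem.restrict (threeTranspositionLines D)
      (LineSystem.span (threeTranspositionLines D) U)) Λ := by
  have himg : ∀ l ∈ Λ, f '' l ∈ threeTranspositionLines D := by
    intro l hl
    obtain ⟨x, u, hne, hx, hu, e⟩ := hΛ l hl
    obtain ⟨-, h2, -⟩ := hM.line x u hne ⟨l, hl, hx, hu⟩
    have hnc : ¬ Commute (f x : G) (f u) := fun c => by
      have := hr x u
      rw [c.eq, mul_assoc, ThreeTrans.mul_self h.three (f x).2, mul_one] at this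
      exact h2 (hf (Subtype.ext this.symm))
    convert mem_line h hnc using 1
    rw [e, Set.image_insert_eq, Set.image_insert_eq, Set.image_singleton, hr x u]
    ext w
    simp only [Set.mem_setOf_eq, Set.mem_insert_iff, Set.mem_singleton_iff, Subtype.ext_iff]
  have hsub : LineSystem.IsSubspace (threeTranspositionLines D) (Set.range f) := by
    rintro l hl _ ⟨x, rfl⟩ _ ⟨u, rfl⟩ hne hxl hul
    obtain ⟨hnc, -⟩ := line_eq h hl hxl hul hne
    rcases hcol x u (fun e => hne (congrArg f e)) with ⟨l', hl', hx', hu'⟩ | hc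
    · rw [partialLinear h l hl _ (himg l' hl') _ _ hne hxl hul ⟨x, hx', rfl⟩ ⟨u, hu', rfl⟩]
      exact Set.image_subset_range _ _
    · exact absurd hc hnc
  have hspan : LineSystem.span (threeTranspositionLines D) U = Set.range f := by
    refine Set.Subset.antisymm (Set.sInter_subset_of_mem ⟨hU ▸ Set.image_subset_range _ _, hsub⟩) ?_
    rintro _ ⟨p, rfl⟩ T ⟨hT, hTs⟩
    subst hU
    rcases hclose p with hp | ⟨x, hx, u, hu, l, hl, hne, hxl, hul, hpl⟩
    · exact hT ⟨p, hp, rfl⟩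
    · exact hTs _ (himg l hl) _ (hT ⟨x, hx, rfl⟩) _ (hT ⟨u, hu, rfl⟩) (hf.ne hne) ⟨x, hxl, rfl⟩ ⟨u, hul, rfl⟩
        ⟨p, hpl, rfl⟩
  rw [hspan]
  refine ⟨(Equiv.ofInjective f hf).symm, fun l => ⟨?_, fun hl => ?_⟩⟩
  · rintro ⟨k, hk, hkS, rfl⟩
    obtain ⟨a, b, c, hab, -, -, hk3⟩ := Set.ncard_eq_three.mp (ncard_line h k hk)
    have ha : a ∈ k := by rw [hk3]; exact Or.inl rfl
    have hb : b ∈ k := by rw [hk3]; exact Or.inr (Or.inl rfl)
    obtain ⟨x, rfl⟩ := hkS ha
    obtain ⟨u, rfl⟩ := hkS hb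
    rcases hcol x u (fun e => hab (congrArg f e)) with ⟨l', hl', hx', hu'⟩ | hc
    · convert hl' using 1
      have hkl := partialLinear h k hk _ (himg l' hl') _ _ hab ha hb ⟨x, hx', rfl⟩ ⟨u, hu', rfl⟩
      ext p
      simp only [Equiv.image_eq_preimage_symm, Equiv.symm_symm, Set.mem_preimage, Set.mem_setOf_eq, Equiv.ofInjective_apply]
      rw [hkl]
      exact hf.mem_set_image
    · exact absurd hc (line_eq h hk ha hb hab).1
  · refine ⟨_, himg _ hl, Set.image_subset_range _ _, ?_⟩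
    ext ⟨w, p, rfl⟩
    have e1 : (Equiv.ofInjective f hf).symm ⟨f p, p, rfl⟩ = p := Equiv.ofInjective_symm_apply hf p
    rw [Set.mem_setOf_eq, hf.mem_set_image, ← (Equiv.ofInjective f hf).symm.injective.mem_set_image (s := l), e1]

/-- The transposition attached to a point of the dual plane. -/
theorem dual_facts :
    (∀ x u : DualAffinePoint, dualSwap x * dualSwap u * dualSwap x = dualSwap (dualRefl x u)) ∧
    (∀ x u : DualAffinePoint, dualSwap x = dualSwap u → x = u) ∧
    (∀ x u : DualAffinePoint, x ≠ u → (∃ i : Fin 4, i ∉ x.val ∧ i ∉ u.val) ∨ dualSwap x * dualSwap u = dualSwap u * dualSwap x) ∧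
    (∀ x : DualAffinePoint, ∃ g : Equiv.Perm (Fin 4), g * Equiv.swap 0 1 * g⁻¹ = dualSwap x) ∧
    (∀ i : Fin 4, ∃ x u : DualAffinePoint, x ≠ u ∧ i ∉ x.val ∧ i ∉ u.val ∧
      ∀ p : DualAffinePoint, i ∉ p.val ↔ (p = x ∨ p = u ∨ p = dualRefl x u)) ∧
    (∀ p : DualAffinePoint, ((3 : Fin 4) ∉ p.val ∨ (0 : Fin 4) ∉ p.val) ∨
      ∃ x u : DualAffinePoint, ∃ i : Fin 4, ((3 : Fin 4) ∉ x.val ∨ (0 : Fin 4) ∉ x.val) ∧
        ((3 : Fin 4) ∉ u.val ∨ (0 : Fin 4) ∉ u.val) ∧ x ≠ u ∧ i ∉ x.val ∧ i ∉ u.val ∧ i ∉ p.val) ∧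
    (∀ p : DualAffinePoint, (3 : Fin 4) ∉ p.val ↔ (dualSwap p = Equiv.swap 1 2 ∨ dualSwap p = Equiv.swap 0 1 ∨
      dualSwap p = Equiv.swap 1 2 * Equiv.swap 0 1 * Equiv.swap 1 2)) ∧
    (∀ p : DualAffinePoint, (0 : Fin 4) ∉ p.val ↔ (dualSwap p = Equiv.swap 1 2 ∨ dualSwap p = Equiv.swap 2 3 ∨
      dualSwap p = Equiv.swap 1 2 * Equiv.swap 2 3 * Equiv.swap 1 2)) ∧
    (∀ g : Equiv.Perm (Fin 4), g = Equiv.swap 1 2 ∨ g = Equiv.swap 0 1 ∨ g = Equiv.swap 2 3 ∨
      g = Equiv.swap 1 2 * Equiv.swap 0 1 * Equiv.swap 1 2 ∨ g = Equiv.swap 1 2 * Equiv.swap 2 3 * Equiv.swap 1 2 →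
      ∃ p : DualAffinePoint, dualSwap p = g) := by
  refine ⟨?_, ?_, ?_, ?_, ?_, ?_, ?_, ?_, ?_⟩ <;> decide +kernel

/-- Two lines meeting in a point, two of whose other points commute, span a dual affine plane. -/
theorem span_dual (h : Closed D) {a b c : D} (hab : ¬ Commute (a : G) b) (hac : ¬ Commute (a : G) c)
    (hbc : Commute (b : G) c) (hne : b ≠ c) :
    LineSystem.Isomorphic (LineSystem.restrict (threeTranspositionLines D)
      (LineSystem.span (threeTranspositionLines D)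
        ({w : D | (w : G) = a ∨ (w : G) = b ∨ (w : G) = (a : G) * b * a} ∪
          {w : D | (w : G) = a ∨ (w : G) = c ∨ (w : G) = (a : G) * c * a}))) dualAffinePlaneTwo := by
  obtain ⟨φ, hφ, p01, p12, p23⟩ := S5344.result h.three b.2 a.2 c.2 (fun e => hne (Subtype.ext e)) hbc
    (fun c => hab c.symm) hac
  obtain ⟨d1, d2, d3, d4, d5, d6, d7, d8, d9⟩ := dual_facts
  let f : DualAffinePoint → D := fun p => ⟨φ (dualSwap p), by
    obtain ⟨g, hg⟩ := d4 p
    rw [← hg, map_mul, map_mul, map_inv, p01]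
    exact h.conj _ _ b.2⟩
  refine plane_iso h dual_model ?_ f (fun x u e => d2 x u (hφ (congrArg Subtype.val e)))
    (fun x u => by show φ _ * φ _ * φ _ = φ _; rw [← map_mul, ← map_mul, d1]) ?_
    {p | (3 : Fin 4) ∉ p.val ∨ (0 : Fin 4) ∉ p.val} ?_ ?_
  · rintro _ ⟨i, rfl⟩
    obtain ⟨x, u, hxu, hx, hu, hp⟩ := d5 i
    exact ⟨x, u, hxu, hx, hu, Set.ext fun p => hp p⟩
  · intro x u hxu
    rcases d3 x u hxu with ⟨i, hi, hi'⟩ | hc
    · exact Or.inl ⟨_, ⟨i, rfl⟩, hi, hi'⟩
    · exact Or.inr (by show φ _ * φ _ = φ _ * φ _; rw [← map_mul, ← map_mul, hc])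
  · intro p
    rcases d6 p with hp | ⟨x, u, i, hx, hu, hxu, hix, hiu, hip⟩
    · exact Or.inl hp
    · exact Or.inr ⟨x, hx, u, hu, _, ⟨i, rfl⟩, hxu, hix, hiu, hip⟩
  · ext w
    have key : ∀ (p : DualAffinePoint) (g : Equiv.Perm (Fin 4)), φ (dualSwap p) = φ g ↔ dualSwap p = g :=
      fun p g => hφ.eq_iff
    constructor
    · rintro ⟨p, hp, rfl⟩
      simp only [Set.mem_union, Set.mem_setOf_eq, f, ← p01, ← p12, ← p23, ← map_mul, key]
      exact hp.imp (d7 p).mp (d8 p).mp
    · intro hw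
      simp only [Set.mem_union, Set.mem_setOf_eq, ← p01, ← p12, ← p23, ← map_mul] at hw
      have get : ∀ g, (w : G) = φ g → ((3 : Fin 4) ∉ Finset.univ.filter (fun i => g i ≠ i) ∨ True) →
          ∀ hg : ∃ p, dualSwap p = g, (∀ p, dualSwap p = g → (3 : Fin 4) ∉ p.val ∨ (0 : Fin 4) ∉ p.val) → w ∈ f '' {p | (3 : Fin 4) ∉ p.val ∨ (0 : Fin 4) ∉ p.val} := by
        intro g hg _ ⟨p, hp⟩ hmem
        exact ⟨p, hmem p hp, Subtype.ext (by show φ _ = _; rw [hp, ← hg])⟩
      rcases hw with (hw | hw | hw) | (hw | hw | hw) <;>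
        refine get _ hw (Or.inr trivial) (d9 _ (by simp)) fun p hp => ?_
      · exact Or.inl ((d7 p).mpr (Or.inl hp))
      · exact Or.inl ((d7 p).mpr (Or.inr (Or.inl hp)))
      · exact Or.inl ((d7 p).mpr (Or.inr (Or.inr hp)))
      · exact Or.inr ((d8 p).mpr (Or.inl hp))
      · exact Or.inr ((d8 p).mpr (Or.inr (Or.inl hp)))
      · exact Or.inr ((d8 p).mpr (Or.inr (Or.inr hp)))

/-- A point of the affine plane. -/
def pt2 (i j : ZMod 3) : Fin 2 → ZMod 3 := ![i, j]

theorem affine_facts :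
    (∀ p : Fin 2 → ZMod 3, p = pt2 0 0 ∨ p = pt2 1 0 ∨ p = pt2 2 0 ∨ p = pt2 0 1 ∨ p = pt2 0 2 ∨ p = pt2 1 1 ∨
      p = pt2 2 2 ∨ p = pt2 1 2 ∨ p = pt2 2 1) ∧
    (∀ u w v : Fin 2 → ZMod 3, affRefl u (affRefl w (affRefl u v)) = affRefl (affRefl u w) v) ∧
    (∀ u v δ : Fin 2 → ZMod 3, δ = v - u → ∀ z, ∃ w, affRefl w u = z ∧ affRefl w v = z - δ) ∧
    (∀ δ : Fin 2 → ZMod 3, δ ≠ 0 → δ = pt2 1 0 ∨ δ = pt2 2 0 ∨ δ = pt2 0 1 ∨ δ = pt2 0 2 ∨ δ = pt2 1 1 ∨
      δ = pt2 2 2 ∨ δ = pt2 1 2 ∨ δ = pt2 2 1) ∧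
    (∀ p : Fin 2 → ZMod 3, (p 0 = 0 ∨ p 1 = 0) ∨
      ∃ x u : Fin 2 → ZMod 3, (x 0 = 0 ∨ x 1 = 0) ∧ (u 0 = 0 ∨ u 1 = 0) ∧ x ≠ u ∧ p = affRefl x u) ∧
    (∀ p : Fin 2 → ZMod 3, (p 0 = 0 ∨ p 1 = 0) ↔
      ((p = pt2 0 0 ∨ p = pt2 1 0 ∨ p = pt2 2 0) ∨ (p = pt2 0 0 ∨ p = pt2 0 1 ∨ p = pt2 0 2))) := by
  refine ⟨?_, ?_, ?_, ?_, ?_, ?_⟩ <;> decide +kernel

/-- The configuration of nine points. -/
def nine (a b c : G) (p : Fin 2 → ZMod 3) : G :=
  if p = pt2 0 0 then a else if p = pt2 1 0 then b else if p = pt2 2 0 then a * b * a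
  else if p = pt2 0 1 then c else if p = pt2 0 2 then a * c * a
  else if p = pt2 1 1 then a * b * a * (a * c * a) * (a * b * a)
  else if p = pt2 2 2 then b * c * b
  else if p = pt2 1 2 then a * b * a * c * (a * b * a)
  else b * (a * c * a) * b

/-- Two lines meeting in a point without commuting points span an affine plane. -/
theorem span_affine (h : Closed D) {a b c : D} (hab : ¬ Commute (a : G) b) (hac : ¬ Commute (a : G) c)
    (hbc : ¬ Commute (b : G) c) (hby : ¬ Commute (b : G) ((a : G) * c * a))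
    (hxc : ¬ Commute ((a : G) * b * a) (c : G)) (hxy : ¬ Commute ((a : G) * b * a) ((a : G) * c * a))
    (hm : (b : G) ≠ (a : G) * c * a) (hm' : b ≠ c) :
    LineSystem.Isomorphic (LineSystem.restrict (threeTranspositionLines D)
      (LineSystem.span (threeTranspositionLines D)
        ({w : D | (w : G) = a ∨ (w : G) = b ∨ (w : G) = (a : G) * b * a} ∪
          {w : D | (w : G) = a ∨ (w : G) = c ∨ (w : G) = (a : G) * c * a}))) affinePlaneThree := by
  obtain ⟨a1, a2, a3, a4, a5, a6⟩ := affine_facts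
  obtain ⟨a, ha⟩ := a
  obtain ⟨b, hb⟩ := b
  obtain ⟨c, hc⟩ := c
  simp only at hab hac hbc hby hxc hxy hm ⊢
  have hm'' : b ≠ c := fun e => hm' (Subtype.ext e)
  have aa := ThreeTrans.mul_self h.three ha
  have bb := ThreeTrans.mul_self h.three hb
  have cc := ThreeTrans.mul_self h.three hc
  have am := fun z => ThreeTrans.mul_self_mul h.three ha z
  have bm := fun z => ThreeTrans.mul_self_mul h.three hb z
  have cm := fun z => ThreeTrans.mul_self_mul h.three hc z
  have B1 : a * b * a = b * a * b := ThreeTrans.braid h.three ha hb hab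
  have B2 : a * c * a = c * a * c := ThreeTrans.braid h.three ha hc hac
  have B3 : b * c * b = c * b * c := ThreeTrans.braid h.three hb hc hbc
  have hX : a * b * a ∈ D := conj' h ha hb
  have hY : a * c * a ∈ D := conj' h ha hc
  have B4 := ThreeTrans.braid h.three hb hY hby
  have B5 := ThreeTrans.braid h.three hX hc hxc
  have B6 := ThreeTrans.braid h.three hX hY hxy
  set x := a * b * a with hx
  set y := a * c * a with hy
  have xx := ThreeTrans.mul_self h.three hX
  have yy := ThreeTrans.mul_self h.three hY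
  have f00 : nine a b c (pt2 0 0) = a := by
    unfold nine; repeat (first | rw [if_pos (by decide)] | rw [if_neg (by decide)])
  have f10 : nine a b c (pt2 1 0) = b := by
    unfold nine; repeat (first | rw [if_pos (by decide)] | rw [if_neg (by decide)])
  have f20 : nine a b c (pt2 2 0) = x := by
    unfold nine; repeat (first | rw [if_pos (by decide)] | rw [if_neg (by decide)])
  have f01 : nine a b c (pt2 0 1) = c := by
    unfold nine; repeat (first | rw [if_pos (by decide)] | rw [if_neg (by decide)])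
  have f02 : nine a b c (pt2 0 2) = y := by
    unfold nine; repeat (first | rw [if_pos (by decide)] | rw [if_neg (by decide)])
  have f11 : nine a b c (pt2 1 1) = x * y * x := by
    unfold nine; repeat (first | rw [if_pos (by decide)] | rw [if_neg (by decide)])
  have f22 : nine a b c (pt2 2 2) = b * c * b := by
    unfold nine; repeat (first | rw [if_pos (by decide)] | rw [if_neg (by decide)])
  have f12 : nine a b c (pt2 1 2) = x * c * x := by
    unfold nine; repeat (first | rw [if_pos (by decide)] | rw [if_neg (by decide)])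
  have f21 : nine a b c (pt2 2 1) = b * y * b := by
    unfold nine; repeat (first | rw [if_pos (by decide)] | rw [if_neg (by decide)])
  let F := nine a b c
  have hFD : ∀ p, F p ∈ D := fun p => by
    rcases a1 p with rfl|rfl|rfl|rfl|rfl|rfl|rfl|rfl|rfl <;> simp only [F, f00, f10, f20, f01, f02, f11, f22, f12, f21]
    exacts [ha, hb, hX, hc, hY, conj' h hX hY, conj' h hb hc, conj' h hX hc, conj' h hb hY]
  -- reflections in the three generators
  have axa : a * x * a = b := by simp [hx, mul_assoc, aa, am]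
  have aya : a * y * a = c := by simp [hy, mul_assoc, aa, am]
  have ainv : ∀ u v : G, a * (u * v * u) * a = a * u * a * (a * v * a) * (a * u * a) := fun u v => by
    simp [mul_assoc, am]
  have bx : b * x = a * b := by rw [B1]; simp [mul_assoc, bm]
  have xb : x * b = b * a := by rw [B1]; simp [mul_assoc, bb]
  have cy : c * y = a * c := by rw [B2]; simp [mul_assoc, cm]
  have yc : y * c = c * a := by rw [B2]; simp [mul_assoc, cc]
  have refA : ∀ p, a * F p * a = F (affRefl (pt2 0 0) p) := fun p => by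
    rcases a1 p with rfl|rfl|rfl|rfl|rfl|rfl|rfl|rfl|rfl
    · rw [show affRefl (pt2 0 0) (pt2 0 0) = pt2 0 0 by decide]; simp only [F, f00]; rw [mul_assoc, aa, mul_one]
    · rw [show affRefl (pt2 0 0) (pt2 1 0) = pt2 2 0 by decide]; simp only [F, f10, f20]; rfl
    · rw [show affRefl (pt2 0 0) (pt2 2 0) = pt2 1 0 by decide]; simp only [F, f10, f20]; exact axa
    · rw [show affRefl (pt2 0 0) (pt2 0 1) = pt2 0 2 by decide]; simp only [F, f01, f02]; rfl
    · rw [show affRefl (pt2 0 0) (pt2 0 2) = pt2 0 1 by decide]; simp only [F, f01, f02]; exact aya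
    · rw [show affRefl (pt2 0 0) (pt2 1 1) = pt2 2 2 by decide]; simp only [F, f11, f22]; rw [ainv, axa, aya]
    · rw [show affRefl (pt2 0 0) (pt2 2 2) = pt2 1 1 by decide]; simp only [F, f11, f22]; rw [ainv]
    · rw [show affRefl (pt2 0 0) (pt2 1 2) = pt2 2 1 by decide]; simp only [F, f12, f21]; rw [ainv, axa]
    · rw [show affRefl (pt2 0 0) (pt2 2 1) = pt2 1 2 by decide]; simp only [F, f12, f21]; rw [ainv, aya]
  have refB : ∀ p, b * F p * b = F (affRefl (pt2 1 0) p) := fun p => by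
    have key : b * (x * y * x) * b = x * c * x := by
      calc b * (x * y * x) * b = b * x * y * (x * b) := by simp only [mul_assoc]
        _ = a * b * y * (b * a) := by rw [bx, xb]
        _ = a * (b * y * b) * a := by simp only [mul_assoc]
        _ = a * b * a * (a * y * a) * (a * b * a) := ainv b y
        _ = _ := by rw [aya]
    rcases a1 p with rfl|rfl|rfl|rfl|rfl|rfl|rfl|rfl|rfl
    · rw [show affRefl (pt2 1 0) (pt2 0 0) = pt2 2 0 by decide]; simp only [F, f00, f20]; rw [← B1]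
    · rw [show affRefl (pt2 1 0) (pt2 1 0) = pt2 1 0 by decide]; simp only [F, f10]; rw [mul_assoc, bb, mul_one]
    · rw [show affRefl (pt2 1 0) (pt2 2 0) = pt2 0 0 by decide]; simp only [F, f20, f00]; rw [bx, mul_assoc, bb, mul_one]
    · rw [show affRefl (pt2 1 0) (pt2 0 1) = pt2 2 2 by decide]; simp only [F, f01, f22]
    · rw [show affRefl (pt2 1 0) (pt2 0 2) = pt2 2 1 by decide]; simp only [F, f02, f21]
    · rw [show affRefl (pt2 1 0) (pt2 1 1) = pt2 1 2 by decide]; simp only [F, f11, f12]; exact key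
    · rw [show affRefl (pt2 1 0) (pt2 2 2) = pt2 0 1 by decide]; simp only [F, f22, f01]; simp [mul_assoc, bb, bm]
    · rw [show affRefl (pt2 1 0) (pt2 1 2) = pt2 1 1 by decide]; simp only [F, f12, f11]; rw [← key]; simp [mul_assoc, bb, bm]
    · rw [show affRefl (pt2 1 0) (pt2 2 1) = pt2 0 2 by decide]; simp only [F, f21, f02]; simp [mul_assoc, bb, bm]
  have refC : ∀ p, c * F p * c = F (affRefl (pt2 0 1) p) := fun p => by
    have key : c * (x * y * x) * c = b * y * b := by
      calc c * (x * y * x) * c = c * (y * x * y) * c := by rw [B6]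
        _ = c * y * x * (y * c) := by simp only [mul_assoc]
        _ = a * c * x * (c * a) := by rw [cy, yc]
        _ = a * (c * x * c) * a := by simp only [mul_assoc]
        _ = a * (x * c * x) * a := by rw [B5]
        _ = _ := by rw [ainv, axa]
    rcases a1 p with rfl|rfl|rfl|rfl|rfl|rfl|rfl|rfl|rfl
    · rw [show affRefl (pt2 0 1) (pt2 0 0) = pt2 0 2 by decide]; simp only [F, f00, f02]; rw [← B2]
    · rw [show affRefl (pt2 0 1) (pt2 1 0) = pt2 2 2 by decide]; simp only [F, f10, f22]; rw [← B3]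
    · rw [show affRefl (pt2 0 1) (pt2 2 0) = pt2 1 2 by decide]; simp only [F, f20, f12]; rw [← B5]
    · rw [show affRefl (pt2 0 1) (pt2 0 1) = pt2 0 1 by decide]; simp only [F, f01]; rw [mul_assoc, cc, mul_one]
    · rw [show affRefl (pt2 0 1) (pt2 0 2) = pt2 0 0 by decide]; simp only [F, f02, f00]; rw [cy, mul_assoc, cc, mul_one]
    · rw [show affRefl (pt2 0 1) (pt2 1 1) = pt2 2 1 by decide]; simp only [F, f11, f21]; exact key
    · rw [show affRefl (pt2 0 1) (pt2 2 2) = pt2 1 0 by decide]; simp only [F, f22, f10]; rw [B3]; simp [mul_assoc, cc, cm]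
    · rw [show affRefl (pt2 0 1) (pt2 1 2) = pt2 2 0 by decide]; simp only [F, f12, f20]; rw [B5]; simp [mul_assoc, cc, cm]
    · rw [show affRefl (pt2 0 1) (pt2 2 1) = pt2 1 1 by decide]; simp only [F, f21, f11]; rw [← key]; simp [mul_assoc, cc, cm]
  have good : ∀ u w, (∀ p, F u * F p * F u = F (affRefl u p)) → (∀ p, F w * F p * F w = F (affRefl w p)) →
      ∀ p, F (affRefl u w) * F p * F (affRefl u w) = F (affRefl (affRefl u w) p) := by
    intro u w hu hw p
    rw [← a2 u w p, ← hu w, ← hu (affRefl w (affRefl u p)), ← hw (affRefl u p), ← hu p]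
    simp only [mul_assoc]
  have gA : ∀ p, F (pt2 0 0) * F p * F (pt2 0 0) = F (affRefl (pt2 0 0) p) := fun p => by
    rw [show F (pt2 0 0) = a from f00]; exact refA p
  have gB : ∀ p, F (pt2 1 0) * F p * F (pt2 1 0) = F (affRefl (pt2 1 0) p) := fun p => by
    rw [show F (pt2 1 0) = b from f10]; exact refB p
  have gC : ∀ p, F (pt2 0 1) * F p * F (pt2 0 1) = F (affRefl (pt2 0 1) p) := fun p => by
    rw [show F (pt2 0 1) = c from f01]; exact refC p
  have g20 := good _ _ gA gB
  rw [show affRefl (pt2 0 0) (pt2 1 0) = pt2 2 0 by decide] at g20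
  have g02 := good _ _ gA gC
  rw [show affRefl (pt2 0 0) (pt2 0 1) = pt2 0 2 by decide] at g02
  have hr : ∀ u p, F u * F p * F u = F (affRefl u p) := by
    intro u
    rcases a1 u with rfl|rfl|rfl|rfl|rfl|rfl|rfl|rfl|rfl
    · exact gA
    · exact gB
    · exact g20
    · exact gC
    · exact g02
    · have := good _ _ g20 g02; rwa [show affRefl (pt2 2 0) (pt2 0 2) = pt2 1 1 by decide] at this
    · have := good _ _ gB gC; rwa [show affRefl (pt2 1 0) (pt2 0 1) = pt2 2 2 by decide] at this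
    · have := good _ _ g20 gC; rwa [show affRefl (pt2 2 0) (pt2 0 1) = pt2 1 2 by decide] at this
    · have := good _ _ gB g02; rwa [show affRefl (pt2 1 0) (pt2 0 2) = pt2 2 1 by decide] at this
  have hinj : Function.Injective F := by
    intro u v e
    by_contra hne
    have trans : ∀ z, F z = F (z - (v - u)) := fun z => by
      obtain ⟨w, e1, e2⟩ := a3 u v _ rfl z
      calc F z = F (affRefl w u) := by rw [e1]
        _ = F w * F u * F w := (hr w u).symm
        _ = F (affRefl w v) := by rw [e, hr w v]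
        _ = _ := by rw [e2]
    have n1 : a ≠ b := fun e => hab (e ▸ Commute.refl a)
    have n2 : a ≠ c := fun e => hac (e ▸ Commute.refl a)
    rcases a4 _ (sub_ne_zero.mpr (Ne.symm hne)) with hδ|hδ|hδ|hδ|hδ|hδ|hδ|hδ <;> rw [hδ] at trans
    · have := trans (pt2 1 0); rw [show pt2 1 0 - pt2 1 0 = pt2 0 0 by decide] at this
      exact n1 (by simpa only [F, f10, f00] using this.symm)
    · have := trans (pt2 0 0); rw [show pt2 0 0 - pt2 2 0 = pt2 1 0 by decide] at this
      exact n1 (by simpa only [F, f10, f00] using this)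
    · have := trans (pt2 0 1); rw [show pt2 0 1 - pt2 0 1 = pt2 0 0 by decide] at this
      exact n2 (by simpa only [F, f01, f00] using this.symm)
    · have := trans (pt2 0 0); rw [show pt2 0 0 - pt2 0 2 = pt2 0 1 by decide] at this
      exact n2 (by simpa only [F, f01, f00] using this)
    · have := trans (pt2 1 0); rw [show pt2 1 0 - pt2 1 1 = pt2 0 2 by decide] at this
      exact hm (by simpa only [F, f10, f02] using this)
    · have := trans (pt2 0 2); rw [show pt2 0 2 - pt2 2 2 = pt2 1 0 by decide] at this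
      exact hm (by simpa only [F, f10, f02] using this.symm)
    · have := trans (pt2 1 0); rw [show pt2 1 0 - pt2 1 2 = pt2 0 1 by decide] at this
      exact hm'' (by simpa only [F, f10, f01] using this)
    · have := trans (pt2 0 1); rw [show pt2 0 1 - pt2 2 1 = pt2 1 0 by decide] at this
      exact hm'' (by simpa only [F, f10, f01] using this.symm)
  refine plane_iso h affine_model ?_ (fun p => ⟨F p, hFD p⟩) (fun u v e => hinj (congrArg Subtype.val e))
    (fun u p => hr u p) (fun u p hne => Or.inl ?_) {p | p 0 = 0 ∨ p 1 = 0} ?_ ?_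
  · rintro l ⟨v, w, hw, rfl⟩
    have hne : v ≠ v + w := fun e => hw (add_eq_left.mp e.symm)
    obtain ⟨-, -, v', w', hw', e⟩ := affine_model.line v (v + w) hne
      ⟨_, ⟨v, w, hw, rfl⟩, ⟨0, by simp⟩, ⟨1, by simp⟩⟩
    refine ⟨v, v + w, hne, ⟨0, by simp⟩, ⟨1, by simp⟩, ?_⟩
    have h1 : ∀ v w p : Fin 2 → ZMod 3, (∃ c : ZMod 3, p = v + c • w) ↔ (p = v ∨ p = v + w ∨ p = affRefl v (v + w)) := by
      decide +kernel
    exact Set.ext fun p => h1 v w p
  · exact ⟨{q | ∃ t : ZMod 3, q = u + t • (p - u)}, ⟨u, p - u, sub_ne_zero.mpr (Ne.symm hne), rfl⟩,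
      ⟨0, by simp⟩, ⟨1, by simp⟩⟩
  · intro p
    rcases a5 p with hp | ⟨u, v, hu, hv, hne, rfl⟩
    · exact Or.inl hp
    · obtain ⟨-, -, hl⟩ := affine_model.line u v hne ⟨{q | ∃ t : ZMod 3, q = u + t • (v - u)},
        ⟨u, v - u, sub_ne_zero.mpr (Ne.symm hne), rfl⟩, ⟨0, by simp⟩, ⟨1, by simp⟩⟩
      exact Or.inr ⟨u, hu, v, hv, _, hl, hne, Or.inl rfl, Or.inr (Or.inl rfl), Or.inr (Or.inr rfl)⟩
  · ext w
    constructor
    · rintro ⟨p, hp, rfl⟩
      rcases (a6 p).mp hp with (rfl|rfl|rfl)|(rfl|rfl|rfl) <;> simp [F, f00, f10, f20, f01, f02]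
    · intro hw
      rcases hw with (hw|hw|hw)|(hw|hw|hw)
      exacts [⟨pt2 0 0, (a6 _).mpr (Or.inl (Or.inl rfl)), Subtype.ext (f00.trans hw.symm)⟩,
        ⟨pt2 1 0, (a6 _).mpr (Or.inl (Or.inr (Or.inl rfl))), Subtype.ext (f10.trans hw.symm)⟩,
        ⟨pt2 2 0, (a6 _).mpr (Or.inl (Or.inr (Or.inr rfl))), Subtype.ext (f20.trans hw.symm)⟩,
        ⟨pt2 0 0, (a6 _).mpr (Or.inl (Or.inl rfl)), Subtype.ext (f00.trans hw.symm)⟩,
        ⟨pt2 0 1, (a6 _).mpr (Or.inr (Or.inr (Or.inl rfl))), Subtype.ext (f01.trans hw.symm)⟩,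
        ⟨pt2 0 2, (a6 _).mpr (Or.inr (Or.inr (Or.inr rfl))), Subtype.ext (f02.trans hw.symm)⟩]

/-- The line system of a conjugation-closed set of 3-transpositions is a Fischer space. -/
theorem isFischerSpace (h : Closed D) : IsFischerSpace (threeTranspositionLines D) := by
  refine ⟨partialLinear h, ncard_line h, ?_⟩
  rintro l hl m hm hne ⟨a, hal, ham⟩
  have other : ∀ {k : Set D}, k ∈ threeTranspositionLines D → a ∈ k → ∃ b ∈ k, b ≠ a := by
    intro k hk hak
    obtain ⟨x, y, z, hxy, -, -, e⟩ := Set.ncard_eq_three.mp (ncard_line h k hk)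
    by_cases hxa : x = a
    · exact ⟨y, by rw [e]; exact Or.inr (Or.inl rfl), fun e' => hxy (hxa.trans e'.symm)⟩
    · exact ⟨x, by rw [e]; exact Or.inl rfl, hxa⟩
  have notboth : ∀ {u : D}, u ∈ l → u ∈ m → u = a := fun {u} hu hu' => by
    by_contra hua
    exact hne (partialLinear h l hl m hm u a hua hu hal hu' ham)
  by_cases hcom : ∃ b ∈ l, ∃ c ∈ m, b ≠ a ∧ c ≠ a ∧ Commute (b : G) c
  · obtain ⟨b, hb, c, hc, hba, hca, hbc⟩ := hcom
    obtain ⟨nab, el⟩ := line_eq h hl hal hb (Ne.symm hba)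
    obtain ⟨nac, em⟩ := line_eq h hm ham hc (Ne.symm hca)
    left
    have := span_dual h nab nac hbc (fun e => hba (notboth hb (e ▸ hc)))
    rwa [← el, ← em] at this
  · obtain ⟨b, hb, hba⟩ := other hl hal
    obtain ⟨c, hc, hca⟩ := other hm ham
    simp only [not_exists, not_and] at hcom
    obtain ⟨nab, el⟩ := line_eq h hl hal hb (Ne.symm hba)
    obtain ⟨nac, em⟩ := line_eq h hm ham hc (Ne.symm hca)
    have hX : (a : G) * b * a ∈ D := conj' h a.2 b.2
    have hY : (a : G) * c * a ∈ D := conj' h a.2 c.2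
    have hXl : (⟨_, hX⟩ : D) ∈ l := by rw [el]; exact Or.inr (Or.inr rfl)
    have hYm : (⟨_, hY⟩ : D) ∈ m := by rw [em]; exact Or.inr (Or.inr rfl)
    have hXa : (⟨_, hX⟩ : D) ≠ a := fun e => not_commute_third h a.2 b.2 nab (by
      rw [show (a : G) * b * a = a from congrArg Subtype.val e])
    have hYa : (⟨_, hY⟩ : D) ≠ a := fun e => not_commute_third h a.2 c.2 nac (by
      rw [show (a : G) * c * a = a from congrArg Subtype.val e])
    right
    have := span_affine h nab nac (hcom b hb c hc hba hca) (hcom b hb ⟨_, hY⟩ hYm hba hYa)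
      (hcom ⟨_, hX⟩ hXl c hc hXa hca) (hcom ⟨_, hX⟩ hXl ⟨_, hY⟩ hYm hXa hYa)
      (fun e => hba (notboth hb (by rw [em]; exact Or.inr (Or.inr e)))) (fun e => hba (notboth hb (e ▸ hc)))
    rwa [← el, ← em] at this

end Cfsg.Agent.Spor.ThreeTransPlanes
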