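import Cfsg.Agent.Lib.Spor.Golay.Cosets
import Cfsg.Agent.Lib.Spor.Golay.Chain
import Cfsg.Agent.Lib.Spor.SteinerTables

/-! Linear maps of the code preserving the weight classes modulo the all-one word come from permutations. -/

set_option autoImplicit false
set_option maxRecDepth 100000

namespace Cfsg.Agent.Spor.GolayLin

open Golay
open scoped symmDiff Pointwise

local notation "𝒞" => supports (golayCode : Set (GolayPt → ZMod 2))

/-- Summing the coordinates in a set. -/
def phi (t : Finset GolayPt) : ↥golayCode →ₗ[ZMod 2] ZMod 2 :=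
  ∑ p ∈ t, (LinearMap.proj p : (GolayPt → ZMod 2) →ₗ[ZMod 2] ZMod 2).comp golayCode.subtype

theorem phi_apply (t : Finset GolayPt) (c : ↥golayCode) : phi t c = ∑ p ∈ t, (c : GolayPt → ZMod 2) p := by
  simp [phi]

theorem phi_card (t : Finset GolayPt) (c : ↥golayCode) :
    phi t c = ((t ∩ support₂ (c : GolayPt → ZMod 2)).card : ZMod 2) := by
  rw [phi_apply, Finset.inter_comm, support₂, Finset.filter_inter, Finset.univ_inter, Finset.card_filter, Nat.cast_sum]
  refine Finset.sum_congr rfl fun p _ => ?_
  generalize (c : GolayPt → ZMod 2) p = a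
  revert a; decide

theorem natCast_zero_iff {n : ℕ} : (n : ZMod 2) = 0 ↔ n % 2 = 0 := by
  rw [ZMod.natCast_eq_zero_iff_even, Nat.even_iff]

theorem natCast_one_iff {n : ℕ} : (n : ZMod 2) = 1 ↔ n % 2 = 1 := by
  rw [ZMod.natCast_eq_one_iff_odd, Nat.odd_iff]

theorem phi_symmDiff (s t : Finset GolayPt) : phi (s ∆ t) = phi s + phi t := by
  refine LinearMap.ext fun c => ?_
  rw [LinearMap.add_apply, phi_apply, phi_apply, phi_apply]
  have h1 := Finset.sum_union_inter (s₁ := s) (s₂ := t) (f := fun p => (c : GolayPt → ZMod 2) p)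
  have h2 : ∑ p ∈ s ∪ t, (c : GolayPt → ZMod 2) p =
      ∑ p ∈ s ∆ t, (c : GolayPt → ZMod 2) p + ∑ p ∈ s ∩ t, (c : GolayPt → ZMod 2) p := by
    rw [← Finset.sum_union (by rw [Finset.disjoint_iff_inter_eq_empty]; ext p; simp [Finset.mem_symmDiff]; tauto)]
    congr 1
    ext p; simp [Finset.mem_symmDiff]; tauto
  rw [← h1, h2, add_assoc, CharTwo.add_self_eq_zero, add_zero]

/-- Members of the code vanish as functionals. -/
theorem phi_code {s : Finset GolayPt} (hs : s ∈ 𝒞) : phi s = 0 := by
  refine LinearMap.ext fun c => ?_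
  obtain ⟨a, ha, rfl⟩ := mem_supports.mp hs
  obtain ⟨b, hb, e⟩ := mem_supports.mp (⟨(c : GolayPt → ZMod 2), c.2, rfl⟩ : support₂ (c : GolayPt → ZMod 2) ∈ 𝒞)
  rw [phi_card, e, pts_inter, card_pts, LinearMap.zero_apply, natCast_zero_iff]
  exact even_inter ha hb

theorem phi_cls {s t : Finset GolayPt} (h : Cls s t) : phi s = phi t := by
  have h1 := phi_symmDiff s t
  rw [phi_code h] at h1
  rw [← sub_eq_zero]
  refine Eq.trans ?_ h1.symm
  refine LinearMap.ext fun c => ?_
  rw [LinearMap.sub_apply, LinearMap.add_apply, sub_eq_add_neg, ZMod.neg_eq_self_mod_two]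

/-- Every functional is a set of coordinates with at most four points. -/
theorem exists_rep (h : ↥golayCode →ₗ[ZMod 2] ZMod 2) : ∃ t : Finset GolayPt, t.card ≤ 4 ∧ h = phi t := by
  obtain ⟨g, hg⟩ := LinearMap.exists_extend h
  let w : Finset GolayPt := Finset.univ.filter fun p => g (Pi.single p 1) = 1
  obtain ⟨t, ht, hcls⟩ := exists_leader w
  refine ⟨t, ht, ?_⟩
  rw [← phi_cls hcls, ← hg]
  refine LinearMap.ext fun c => ?_
  show g (c : GolayPt → ZMod 2) = phi w c
  conv_lhs => rw [pi_eq_sum_univ' (c : GolayPt → ZMod 2)]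
  rw [map_sum, phi_apply, Finset.sum_filter]
  refine Finset.sum_congr rfl fun p _ => ?_
  rw [map_smul, smul_eq_mul]
  rcases (by decide : ∀ a : ZMod 2, a = 0 ∨ a = 1) (g (Pi.single p 1)) with e | e <;> simp [e]

/-- The all-one word. -/
def oneC : ↥golayCode := ⟨1, Submodule.subset_span (Set.mem_union_right _ rfl)⟩

theorem phi_one (t : Finset GolayPt) : phi t oneC = (t.card : ZMod 2) := by
  rw [phi_apply]
  simp [oneC]

/-- The indicator word. -/
def ind (o : Finset GolayPt) : GolayPt → ZMod 2 := fun p => if p ∈ o then 1 else 0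

theorem support_ind (o : Finset GolayPt) : support₂ (ind o) = o := by
  ext p; simp [support₂, ind]

theorem ind_mem {o : Finset GolayPt} (ho : o ∈ 𝒞) : ind o ∈ golayCode := by
  obtain ⟨c, hc, e⟩ := ho
  rwa [show ind o = c from eq_of_support (by rw [support_ind, e])]

/-- The number of octads on which a functional is one. -/
noncomputable def count (h : ↥golayCode →ₗ[ZMod 2] ZMod 2) : ℕ :=
  {o : Finset GolayPt | ∃ ho : o ∈ octads, h ⟨ind o, ind_mem ho.1⟩ = 1}.ncard

theorem count_phi (t : Finset GolayPt) {n : ℕ} (hn : t.card < n) :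
    count (phi t) = ∑ i ∈ (Finset.range n).filter (fun i => i % 2 = 1), Steiner.meetCount octads t i := by
  classical
  have e : {o : Finset GolayPt | ∃ ho : o ∈ octads, phi t ⟨ind o, ind_mem ho.1⟩ = 1} =
      ↑((Steiner.blocks octads).filter fun o => (o ∩ t).card % 2 = 1) := by
    ext o
    simp only [Set.mem_setOf_eq, Finset.coe_filter, Steiner.mem_blocks]
    constructor
    · rintro ⟨ho, h⟩
      rw [phi_card, natCast_one_iff] at h
      exact ⟨ho, by rwa [support_ind, Finset.inter_comm] at h⟩
    · rintro ⟨ho, h⟩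
      refine ⟨ho, ?_⟩
      rw [phi_card, natCast_one_iff]
      rwa [support_ind, Finset.inter_comm]
  rw [count, e, Set.ncard_coe_finset, Finset.card_eq_sum_card_fiberwise (f := fun o => (o ∩ t).card)
    (t := (Finset.range n).filter fun i => i % 2 = 1) ?_]
  · refine Finset.sum_congr rfl fun i hi => ?_
    rw [Steiner.meetCount, Finset.filter_filter]
    congr 1
    refine Finset.filter_congr fun o _ => ⟨fun h => h.2, fun h => ⟨h ▸ (Finset.mem_filter.mp hi).2, h⟩⟩
  · intro o ho
    simp only [Finset.coe_filter, Set.mem_setOf_eq] at ho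
    simp only [Finset.coe_filter, Set.mem_setOf_eq, Finset.mem_range]
    exact ⟨lt_of_le_of_lt (Finset.card_le_card Finset.inter_subset_right) hn, ho.2⟩

theorem count_values {t : Finset GolayPt} (ht : t.card ≤ 4) :
    (t.card = 0 → count (phi t) = 0) ∧ (t.card = 2 → count (phi t) = 352) ∧ (t.card = 4 → count (phi t) = 384) := by
  obtain ⟨e0, e1, e2, e3, e4, -⟩ := Steiner.eqns824 (B := octads) card_golayPt octads_steiner t (n := 5) (by omega)
  have hc := count_phi t (n := 5) (by omega)
  rw [show (Finset.range 5).filter (fun i => i % 2 = 1) = {1, 3} from rfl,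
    Finset.sum_pair (by norm_num : (1 : ℕ) ≠ 3)] at hc
  refine ⟨fun h => ?_, fun h => ?_, fun h => ?_⟩ <;>
    (rw [h] at e1 e2 e3 e4; simp [Finset.sum_range_succ, Nat.choose] at e0 e1 e2 e3 e4; omega)

theorem eq_of_phi {s t : Finset GolayPt} (hs : s.card = 2) (ht : t.card = 2) (h : phi s = phi t) : s = t := by
  have h1 := card_symmDiff_add s t
  by_contra hne
  have h0 : (s ∆ t).card ≠ 0 := fun e => hne (symmDiff_eq_bot.mp (Finset.card_eq_zero.mp e))
  have hz : count (phi (s ∆ t)) = 0 := by
    have : phi (s ∆ t) = phi ∅ := by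
      rw [phi_symmDiff, h]
      exact LinearMap.ext fun c => (CharTwo.add_self_eq_zero (phi t c)).trans (by simp [phi_apply])
    rw [this]
    exact (count_values (t := ∅) (by simp)).1 rfl
  obtain ⟨-, c2, c4⟩ := count_values (t := s ∆ t) (by omega)
  rcases (show (s ∆ t).card = 2 ∨ (s ∆ t).card = 4 by omega) with e | e
  · rw [c2 e] at hz; omega
  · rw [c4 e] at hz; omega

theorem share_one {s t : Finset GolayPt} (hs : s.card = 2) (ht : t.card = 2) (h : (s ∆ t).card = 2) :
    (s ∩ t).card = 1 := by
  have := card_symmDiff_add s t; omega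

/-- A permutation of points from a map of pairs preserving triangles. -/
theorem recover (T : GolayPt → GolayPt → Finset GolayPt) (hcard : ∀ p q, p ≠ q → (T p q).card = 2)
    (hsym : ∀ p q, T p q = T q p) (hinj : ∀ p q r s, p ≠ q → r ≠ s → T p q = T r s → ({p, q} : Finset GolayPt) = {r, s})
    (htri : ∀ p q r, p ≠ q → p ≠ r → q ≠ r → T q r = T p q ∆ T p r) :
    ∃ f : Equiv.Perm GolayPt, ∀ p q, p ≠ q → T p q = {f p, f q} := by
  classical
  have hone : ∀ p q r, p ≠ q → p ≠ r → q ≠ r → (T p q ∩ T p r).card = 1 := fun p q r a b c =>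
    share_one (hcard _ _ a) (hcard _ _ b) (htri p q r a b c ▸ hcard _ _ c)
  have hTinj : ∀ p q r, p ≠ q → p ≠ r → T p q = T p r → q = r := fun p q r a b e => by
    have h := hinj _ _ _ _ a b e
    have : q ∈ ({p, r} : Finset GolayPt) := h ▸ by simp
    simp only [Finset.mem_insert, Finset.mem_singleton] at this
    exact this.resolve_left a.symm
  have hstar : ∀ p, ∃ a, ∀ q, p ≠ q → a ∈ T p q := by
    intro p
    have h24 := card_golayPt
    obtain ⟨q, r, hq, hr, hqr⟩ : ∃ q r, p ≠ q ∧ p ≠ r ∧ q ≠ r := by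
      obtain ⟨q, hq, r, hr, h⟩ := Finset.one_lt_card.mp (show 1 < (Finset.univ.erase p).card by
        rw [Finset.card_erase_of_mem (Finset.mem_univ p), Finset.card_univ]; omega)
      exact ⟨q, r, (Finset.ne_of_mem_erase hq).symm, (Finset.ne_of_mem_erase hr).symm, h⟩
    obtain ⟨a, ha⟩ := Finset.card_eq_one.mp (hone p q r hq hr hqr)
    have haq : a ∈ T p q := (Finset.mem_inter.mp (ha ▸ Finset.mem_singleton_self a)).1
    have har : a ∈ T p r := (Finset.mem_inter.mp (ha ▸ Finset.mem_singleton_self a)).2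
    obtain ⟨b, hb⟩ := Finset.card_eq_one.mp (show ((T p q).erase a).card = 1 by
      rw [Finset.card_erase_of_mem haq, hcard _ _ hq])
    obtain ⟨c, hc⟩ := Finset.card_eq_one.mp (show ((T p r).erase a).card = 1 by
      rw [Finset.card_erase_of_mem har, hcard _ _ hr])
    have eq1 : T p q = {a, b} := by rw [← hb, Finset.insert_erase haq]
    have eq2 : T p r = {a, c} := by rw [← hc, Finset.insert_erase har]
    have odd : ∀ s, p ≠ s → a ∉ T p s → T p s = {b, c} := fun s hs hn => by
      have hsq : s ≠ q := fun e => hn (e ▸ haq)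
      have hsr : s ≠ r := fun e => hn (e ▸ har)
      have hbm : b ∈ T p s := by
        obtain ⟨d, hd⟩ := Finset.card_eq_one.mp (hone p s q hs hq hsq)
        have hd' := Finset.mem_inter.mp (hd ▸ Finset.mem_singleton_self d)
        rw [eq1, Finset.mem_insert, Finset.mem_singleton] at hd'
        rcases hd'.2 with rfl | rfl
        · exact absurd hd'.1 hn
        · exact hd'.1
      have hcm : c ∈ T p s := by
        obtain ⟨d, hd⟩ := Finset.card_eq_one.mp (hone p s r hs hr hsr)
        have hd' := Finset.mem_inter.mp (hd ▸ Finset.mem_singleton_self d)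
        rw [eq2, Finset.mem_insert, Finset.mem_singleton] at hd'
        rcases hd'.2 with rfl | rfl
        · exact absurd hd'.1 hn
        · exact hd'.1
      have hbc : b ≠ c := fun e => hqr (hTinj p q r hq hr (by rw [eq1, eq2, e]))
      exact (Finset.eq_of_subset_of_card_le (by simp [Finset.insert_subset_iff, hbm, hcm])
        (by rw [hcard _ _ hs, Finset.card_pair hbc])).symm
    refine ⟨a, fun s hs => ?_⟩
    by_contra hn
    obtain ⟨u, hu, huq, hur, hus⟩ : ∃ u, p ≠ u ∧ u ≠ q ∧ u ≠ r ∧ u ≠ s := by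
      obtain ⟨u, -, hu⟩ := Finset.exists_mem_notMem_of_card_lt_card (s := ({p, q, r, s} : Finset GolayPt)) (t := Finset.univ)
        (Finset.card_le_four.trans_lt (by rw [Finset.card_univ]; omega))
      simp only [Finset.mem_insert, Finset.mem_singleton, not_or] at hu
      exact ⟨u, Ne.symm hu.1, hu.2.1, hu.2.2.1, hu.2.2.2⟩
    have hau : a ∈ T p u := by
      by_contra h
      exact hus (hTinj p u s hu hs (by rw [odd u hu h, odd s hs hn]))
    obtain ⟨d, hd⟩ := Finset.card_eq_one.mp (hone p u s hu hs hus)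
    have hd' := Finset.mem_inter.mp (hd ▸ Finset.mem_singleton_self d)
    rw [odd s hs hn, Finset.mem_insert, Finset.mem_singleton] at hd'
    have hab : a ≠ b := fun e => by have := hcard _ _ hq; rw [eq1, e] at this; simp at this
    have hac : a ≠ c := fun e => by have := hcard _ _ hr; rw [eq2, e] at this; simp at this
    have hda : d ≠ a := by rcases hd'.2 with rfl | rfl <;> [exact hab.symm; exact hac.symm]
    have hu2 : T p u = {a, d} := (Finset.eq_of_subset_of_card_le (by simp [Finset.insert_subset_iff, hau, hd'.1])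
      (by rw [hcard _ _ hu, Finset.card_pair hda.symm])).symm
    rcases hd'.2 with rfl | rfl
    · exact huq (hTinj p u q hu hq (hu2.trans eq1.symm))
    · exact hur (hTinj p u r hu hr (hu2.trans eq2.symm))
  choose f hf using hstar
  have hf' : Function.Injective f := by
    intro p r e
    by_contra hne
    have key : ∀ q, p ≠ q → r ≠ q → f q = f p := fun q hp hr => by
      obtain ⟨d, hd⟩ := Finset.card_eq_one.mp (hone q p r hp.symm hr.symm hne)
      have m1 : f q ∈ T q p ∩ T q r := Finset.mem_inter.mpr ⟨hf q p hp.symm, hf q r hr.symm⟩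
      have m2 : f p ∈ T q p ∩ T q r := Finset.mem_inter.mpr ⟨hsym p q ▸ hf p q hp, by rw [e]; exact hsym r q ▸ hf r q hr⟩
      rw [hd, Finset.mem_singleton] at m1 m2
      rw [m1, m2]
    obtain ⟨u, v, hu, hv, hu', hv', huv⟩ : ∃ u v, p ≠ u ∧ p ≠ v ∧ r ≠ u ∧ r ≠ v ∧ u ≠ v := by
      obtain ⟨u, hu, v, hv, h⟩ := Finset.one_lt_card.mp (show 1 < (({p, r} : Finset GolayPt)ᶜ).card by
        rw [Finset.card_compl, Finset.card_pair hne, card_golayPt]; norm_num)
      simp only [Finset.mem_compl, Finset.mem_insert, Finset.mem_singleton, not_or] at hu hv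
      exact ⟨u, v, Ne.symm hu.1, Ne.symm hv.1, Ne.symm hu.2, Ne.symm hv.2, h⟩
    have m : f p ∈ T u v := key u hu hu' ▸ hf u v huv
    rw [htri p u v hu hv huv, Finset.mem_symmDiff] at m
    rcases m with ⟨-, h⟩ | ⟨-, h⟩
    · exact h (hf p v hv)
    · exact h (hf p u hu)
  refine ⟨Equiv.ofBijective f (Finite.injective_iff_bijective.mp hf'), fun p q hpq => ?_⟩
  exact (Finset.eq_of_subset_of_card_le (by simp [Finset.insert_subset_iff, hf p q hpq, hsym p q ▸ hf q p hpq.symm])
    (by rw [hcard _ _ hpq, Equiv.ofBijective_apply, Equiv.ofBijective_apply, Finset.card_pair fun e => hpq (hf' e)])).symm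

/-- The main statement. -/
theorem exists_perm (x : ↥golayCode ≃ₗ[ZMod 2] ↥golayCode) (hx1 : x oneC = oneC)
    (horb : ∀ c : ↥golayCode, ∃ σ ∈ M24,
      ((x c : ↥golayCode) : GolayPt → ZMod 2) = (fun p => (c : GolayPt → ZMod 2) (σ.symm p)) ∨
      ((x c : ↥golayCode) : GolayPt → ZMod 2) = (fun p => (c : GolayPt → ZMod 2) (σ.symm p)) + fun _ => 1) :
    ∃ σ ∈ M24, ∀ c : ↥golayCode,
      ((x c : ↥golayCode) : GolayPt → ZMod 2) = (fun p => (c : GolayPt → ZMod 2) (σ.symm p)) ∨
      ((x c : ↥golayCode) : GolayPt → ZMod 2) = (fun p => (c : GolayPt → ZMod 2) (σ.symm p)) + fun _ => 1 := by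
  classical
  let v : ∀ o, o ∈ octads → ↥golayCode := fun o ho => ⟨ind o, ind_mem ho.1⟩
  have himg : ∀ o (ho : o ∈ octads), ∃ o' : Finset GolayPt, ∃ ho' : o' ∈ octads, x (v o ho) = v o' ho' ∨ x (v o ho) = v o' ho' + oneC := by
    intro o ho
    obtain ⟨σ, hσ, h⟩ := horb (v o ho)
    have hi : (fun p => ind o (σ.symm p)) = ind (σ • o) := funext fun p => by
      show (if σ⁻¹ • p ∈ o then (1 : ZMod 2) else 0) = if p ∈ σ • o then 1 else 0
      simp only [Finset.inv_smul_mem_iff]
    refine ⟨σ • o, smul_octad hσ ho, h.imp (fun e => Subtype.ext (e.trans hi)) fun e => Subtype.ext ?_⟩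
    show _ = ind (σ • o) + 1
    rw [← hi]; exact e
  choose img himg' hximg using himg
  have hinj : ∀ o o' (ho : o ∈ octads) (ho' : o' ∈ octads), img o ho = img o' ho' → o = o' := by
    intro o o' ho ho' e
    have hor : v o ho + v o' ho' = 0 ∨ v o ho + v o' ho' = oneC := by
      have e' : v (img o ho) (himg' o ho) = v (img o' ho') (himg' o' ho') := Subtype.ext (by show ind _ = ind _; rw [e])
      have two : ∀ a : ↥golayCode, a + a = 0 := fun a => Subtype.ext (funext fun p => CharTwo.add_self_eq_zero _)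
      rcases hximg o ho with a | a <;> rcases hximg o' ho' with b | b
      · exact Or.inl (x.injective (by rw [map_add, map_zero, a, b, e', two]))
      · exact Or.inr (x.injective (by rw [map_add, hx1, a, b, e', ← add_assoc, two, zero_add]))
      · exact Or.inr (x.injective (by rw [map_add, hx1, a, b, e', add_right_comm, two, zero_add]))
      · exact Or.inl (x.injective (by rw [map_add, map_zero, a, b, e', two]))
    by_contra hne
    obtain ⟨q, hq⟩ : ∃ q, q ∈ o ∧ q ∉ o' := Finset.not_subset.mp fun hs => hne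
      (Finset.eq_of_subset_of_card_le hs (by rw [octad_card ho, octad_card ho']))
    rcases hor with h | h
    · have := congrFun (congrArg Subtype.val h) q
      simp [v, ind, hq] at this
    · obtain ⟨r, hr⟩ : ∃ r, r ∉ o ∪ o' := by
        by_contra hall
        push Not at hall
        have h1 := Finset.card_union_le o o'
        rw [Finset.eq_univ_of_forall hall, Finset.card_univ, card_golayPt, octad_card ho, octad_card ho'] at h1
        omega
      simp only [Finset.mem_union, not_or] at hr
      have := congrFun (congrArg Subtype.val h) r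
      simp [v, ind, hr, oneC] at this
  have hcount : ∀ t : Finset GolayPt, t.card % 2 = 0 →
      count ((phi t).comp x.toLinearMap) = count (phi t) := by
    intro t ht
    have h1 : phi t oneC = 0 := by rw [phi_one, natCast_zero_iff, ht]
    have hval : ∀ o (ho : o ∈ octads), phi t (x (v o ho)) = phi t (v (img o ho) (himg' o ho)) := by
      intro o ho
      rcases hximg o ho with a | a <;> simp [a, h1]
    let F : Finset GolayPt → Finset GolayPt := fun o => if ho : o ∈ octads then img o ho else o
    have hF : ∀ o (ho : o ∈ octads), F o = img o ho := fun o ho => dif_pos ho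
    have hsurj : ∀ o' ∈ octads, ∃ o, ∃ ho : o ∈ octads, img o ho = o' := by
      intro o' ho'
      have hI : Set.InjOn F octads := fun a ha b hb e => hinj a b ha hb (by rwa [hF a ha, hF b hb] at e)
      have : F '' octads = octads := Set.eq_of_subset_of_ncard_le
        (by rintro _ ⟨o, ho, rfl⟩; rw [hF o ho]; exact himg' o ho)
        (Set.ncard_image_of_injOn hI).ge (Set.toFinite _)
      obtain ⟨o, ho, e⟩ := (this.symm ▸ ho' : o' ∈ F '' octads)
      exact ⟨o, ho, (hF o ho).symm.trans e⟩
    refine Set.ncard_congr (fun o ho => img o ho.choose) (fun o ⟨ho, h⟩ => ⟨himg' o ho, ?_⟩)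
      (fun a b ⟨ha, _⟩ ⟨hb, _⟩ e => hinj a b ha hb e) ?_
    · exact (hval o ho).symm.trans h
    · rintro o' ⟨ho', h⟩
      obtain ⟨o, ho, rfl⟩ := hsurj o' ho'
      exact ⟨o, ⟨ho, (hval o ho).trans h⟩, rfl⟩
  have hT : ∀ p q, ∃ t : Finset GolayPt, p ≠ q → t.card = 2 ∧ (phi {p, q}).comp x.toLinearMap = phi t := by
    intro p q
    by_cases hpq : p = q
    · exact ⟨∅, fun h => absurd hpq h⟩
    obtain ⟨t, ht, e⟩ := exists_rep ((phi {p, q}).comp x.toLinearMap)
    refine ⟨t, fun _ => ⟨?_, e⟩⟩
    have heven : t.card % 2 = 0 := by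
      rw [← natCast_zero_iff, ← phi_one, ← e]
      show phi {p, q} (x oneC) = 0
      rw [hx1, phi_one, Finset.card_pair hpq]; rfl
    have h2 := (count_values (t := {p, q}) (by rw [Finset.card_pair hpq]; norm_num)).2.1 (Finset.card_pair hpq)
    have h3 := hcount {p, q} (by rw [Finset.card_pair hpq])
    rw [e, h2] at h3
    obtain ⟨c0, -, c4⟩ := count_values ht
    rcases (show t.card = 0 ∨ t.card = 2 ∨ t.card = 4 by omega) with h | h | h
    · rw [c0 h] at h3; omega
    · exact h
    · rw [c4 h] at h3; omega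
  choose T0 hT0 using hT
  let T : GolayPt → GolayPt → Finset GolayPt := T0
  have hTc : ∀ p q, p ≠ q → (T p q).card = 2 := fun p q h => (hT0 p q h).1
  have hphi : ∀ p q, p ≠ q → (phi {p, q}).comp x.toLinearMap = phi (T p q) := fun p q h => (hT0 p q h).2
  let T' : GolayPt → GolayPt → Finset GolayPt := fun p q => if p = q then ∅ else T p q
  obtain ⟨f, hf⟩ := recover T' (fun p q h => by simp only [T', if_neg h]; exact hTc p q h)
    (fun p q => by
      by_cases h : p = q
      · subst h; rfl
      · simp only [T', if_neg h, if_neg (Ne.symm h)]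
        refine eq_of_phi (hTc p q h) (hTc q p (Ne.symm h)) ?_
        rw [← hphi p q h, ← hphi q p (Ne.symm h), Finset.pair_comm])
    (fun p q r s h h' e => by
      simp only [T', if_neg h, if_neg h'] at e
      refine eq_of_phi (Finset.card_pair h) (Finset.card_pair h') (LinearMap.ext fun c => ?_)
      have := LinearMap.congr_fun ((hphi p q h).trans (e ▸ (hphi r s h').symm)) (x.symm c)
      simpa using this)
    (fun p q r a b c => by
      simp only [T', if_neg a, if_neg b, if_neg c]
      have h1 := hTc p q a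
      have h2 := hTc p r b
      have e : phi (T q r) = phi (T p q ∆ T p r) := by
        rw [phi_symmDiff, ← hphi q r c, ← hphi p q a, ← hphi p r b, ← LinearMap.add_comp, ← phi_symmDiff,
          show ({p, q} : Finset GolayPt) ∆ {p, r} = {q, r} from by
            ext u; simp [Finset.mem_symmDiff]; grind]
      have h4 := card_symmDiff_add (T p q) (T p r)
      rcases (show (T p q ∆ T p r).card = 0 ∨ (T p q ∆ T p r).card = 2 ∨ (T p q ∆ T p r).card = 4 by omega) with h | h | h
      · have := congrArg count e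
        rw [(count_values (t := T q r) (by rw [hTc q r c]; norm_num)).2.1 (hTc q r c),
          (count_values (t := T p q ∆ T p r) (by omega)).1 h] at this
        omega
      · exact eq_of_phi (hTc q r c) h e
      · have := congrArg count e
        rw [(count_values (t := T q r) (by rw [hTc q r c]; norm_num)).2.1 (hTc q r c),
          (count_values (t := T p q ∆ T p r) h.le).2.2 h] at this
        omega)
  let σ : Equiv.Perm GolayPt := f.symm
  have key : ∀ (c : ↥golayCode) (p q : GolayPt), (x c : GolayPt → ZMod 2) p + (x c : GolayPt → ZMod 2) q =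
      (c : GolayPt → ZMod 2) (f p) + (c : GolayPt → ZMod 2) (f q) := by
    intro c p q
    by_cases h : p = q
    · rw [h, CharTwo.add_self_eq_zero, CharTwo.add_self_eq_zero]
    have e := hf p q h
    simp only [T', if_neg h] at e
    have := LinearMap.congr_fun (hphi p q h) c
    rw [e, LinearMap.comp_apply, phi_apply, phi_apply, Finset.sum_pair h, Finset.sum_pair fun he => h (f.injective he)] at this
    exact this
  have hc : ∀ c : ↥golayCode, (x c : GolayPt → ZMod 2) = (fun p => (c : GolayPt → ZMod 2) (σ.symm p)) ∨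
      (x c : GolayPt → ZMod 2) = (fun p => (c : GolayPt → ZMod 2) (σ.symm p)) + fun _ => 1 := by
    intro c
    have hdec : ∀ a b u w : ZMod 2, u + a = w + b → ((a = b → u = w) ∧ (a ≠ b → u = w + 1)) := by decide
    by_cases h0 : (x c : GolayPt → ZMod 2) none = (c : GolayPt → ZMod 2) (f none)
    · exact Or.inl (funext fun p => (hdec _ _ _ _ (key c p none)).1 h0)
    · exact Or.inr (funext fun p => (hdec _ _ _ _ (key c p none)).2 h0)
  refine ⟨σ, mem_M24_iff.mpr fun b hb => ?_, hc⟩
  obtain ⟨m, hm, e⟩ : ∃ m, m ∈ codeList ∧ m = b := ⟨b, List.all_eq_true.mp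
    (by decide +kernel : basis.all (fun b => codeList.contains b) = true) b hb |> fun h => by simpa using h, rfl⟩
  subst e
  have hmem : vec m ∈ golayCode := vec_mem (mem_codeList.mp hm)
  have hs : (fun p => vec m (σ.symm p)) ∈ golayCode := by
    rcases hc ⟨vec m, hmem⟩ with h | h
    · rw [← h]; exact (x ⟨vec m, hmem⟩).2
    · have h2 : (fun p => vec m (σ.symm p)) = (x ⟨vec m, hmem⟩ : GolayPt → ZMod 2) + oneC.1 := by
        rw [h]
        funext p
        show _ = _ + 1 + (1 : ZMod 2)
        rw [add_assoc, CharTwo.add_self_eq_zero, add_zero]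
      rw [h2]; exact golayCode.add_mem (x ⟨vec m, hmem⟩).2 oneC.2
  refine ⟨_, hs, ?_⟩
  ext p
  rw [← Finset.inv_smul_mem_iff, Equiv.Perm.smul_def, Equiv.Perm.coe_inv, ← support_vec]
  simp [support₂]

end Cfsg.Agent.Spor.GolayLin
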