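import Cfsg.Agent.Lib.Spor.SteinerUnique824
import Cfsg.Agent.Lib.Spor.SteinerAut
import Cfsg.Agent.Lib.Spor.Golay.M24
import Cfsg.Agent.Lib.Spor.Golay.M24Facts

/-! Uniqueness of the Steiner system S(4,7,23) and its automorphism group. -/

set_option autoImplicit false

namespace Cfsg.Agent.Spor.SteinerCode

open GolayAbstract Finset Cfsg
open scoped Pointwise

variable {β : Type*} [Fintype β] [DecidableEq β]

/-- A permutation of the family of generators maps the span to itself. -/
theorem code_perm {D : Set (Finset (Fin 24))} (ψ : Equiv.Perm (Fin 24)) (hψ : ∀ d ∈ D, d.image ψ ∈ D)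
    {w : GolayAbstract.F} (hw : w ∈ code D) : (fun i => w (ψ.symm i)) ∈ code D := by
  have h : (code D).map (LinearMap.funLeft (ZMod 2) (ZMod 2) ψ.symm) ≤ code D := by
    rw [code, Submodule.map_span_le]
    rintro _ ⟨d, hd, rfl⟩
    suffices LinearMap.funLeft (ZMod 2) (ZMod 2) ψ.symm (ind d) = ind (d.image ψ) from this ▸ ind_mem (hψ d hd)
    funext i
    have : i ∈ d.image ψ ↔ ψ.symm i ∈ d := by
      rw [mem_image]
      exact ⟨fun ⟨j, hj, e⟩ => by rw [← e, Equiv.symm_apply_apply]; exact hj, fun hi => ⟨_, hi, Equiv.apply_symm_apply _ i⟩⟩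
    simp [LinearMap.funLeft_apply, ind, this]
  exact h ⟨w, hw, rfl⟩

/-- Supports of code words follow such a permutation. -/
theorem perm_mem_supports {D : Set (Finset (Fin 24))} (φ : β ≃ Fin 24) (e : β ≃ GolayPt)
    (he : ∀ A : Finset β, A.image e ∈ supports (golayCode : Set (GolayPt → ZMod 2)) ↔ ind (A.image φ) ∈ code D)
    (g : Equiv.Perm β) (hg : ∀ A : Finset β, A.image φ ∈ D → (A.image g).image φ ∈ D) :
    e.permCongr g ∈ M24 := by
  rw [MulAction.mem_stabilizer_set]
  have key : ∀ g : Equiv.Perm β, (∀ A : Finset β, A.image φ ∈ D → (A.image g).image φ ∈ D) →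
      ∀ A : Finset β, ind (A.image φ) ∈ code D → ind ((A.image g).image φ) ∈ code D := by
    intro g hg A hA
    have h := code_perm (D := D) (φ.permCongr g) (fun d hd => by
      rw [← image_preimage φ d] at hd ⊢
      have := hg _ hd
      rw [image_image, show (⇑(φ.permCongr g) ∘ ⇑φ) = ⇑φ ∘ ⇑g from funext fun x => by simp [Equiv.permCongr_apply],
        ← image_image]
      exact this) hA
    convert h using 1
    funext i
    obtain ⟨x, rfl⟩ := φ.surjective i
    have h1 : φ x ∈ (A.image g).image φ ↔ g.symm x ∈ A := by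
      simp only [mem_image, φ.injective.eq_iff, exists_eq_right]
      exact ⟨fun ⟨y, hy, e⟩ => by rw [← e, Equiv.symm_apply_apply]; exact hy, fun hy => ⟨_, hy, g.apply_symm_apply x⟩⟩
    have h2 : (φ.permCongr g).symm (φ x) = φ (g.symm x) := (φ.permCongr g).symm_apply_eq.mpr (by simp [Equiv.permCongr_apply])
    have h3 : φ (g.symm x) ∈ A.image φ ↔ g.symm x ∈ A := φ.injective.mem_finset_image
    simp [ind, h1, h2, h3]
  intro s
  obtain ⟨A, rfl⟩ : ∃ A : Finset β, A.image e = s := ⟨s.image e.symm, image_preimage e s⟩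
  show (A.image e).image (e.permCongr g) ∈ _ ↔ _
  rw [image_image, show (⇑(e.permCongr g) ∘ ⇑e) = ⇑e ∘ ⇑g from funext fun x => by simp [Equiv.permCongr_apply],
    ← image_image, he, he]
  refine ⟨fun h => ?_, key g hg A⟩
  -- iterate `g` up to its inverse
  have hpow : ∀ (n : ℕ) (A : Finset β), ind (A.image φ) ∈ code D → ind ((A.image (g ^ n : Equiv.Perm β)).image φ) ∈ code D := by
    intro n
    induction n with
    | zero => intro A hA; simpa using hA
    | succ n ih =>
      intro A hA
      have := ih _ (key g hg A hA)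
      rwa [image_image (f := ⇑g), ← Equiv.Perm.coe_mul, ← pow_succ] at this
  have hN := pow_orderOf_eq_one g
  have hpos := orderOf_pos g
  have hb := hpow (orderOf g - 1) _ h
  rwa [image_image (f := ⇑g), ← Equiv.Perm.coe_mul, ← pow_succ, Nat.sub_add_cancel hpos, hN,
    Equiv.Perm.coe_one, image_id] at hb

/-- The extended block. -/
def ext1 (b : Finset β) : Finset (Option β) := Finset.insertNone b

theorem card_ext1_inter (b : Finset β) (A : Finset (Option β)) :
    (ext1 b ∩ A).card = (b ∩ A.eraseNone).card + if none ∈ A then 1 else 0 := by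
  have h : ext1 b ∩ A = if none ∈ A then Finset.insertNone (b ∩ A.eraseNone) else (b ∩ A.eraseNone).map Function.Embedding.some := by
    ext x
    cases x <;> by_cases hn : none ∈ A <;> simp [ext1, hn]
  rw [h]
  split_ifs <;> simp

theorem ext1_image (b : Finset β) (g : Equiv.Perm β) : ext1 (b.image g) = (ext1 b).image g.optionCongr := by
  ext x
  cases x with
  | none => simp [ext1]
  | some y => simp [ext1]

/-- No small set meets all extended blocks evenly. -/
theorem small723 {B : Set (Finset β)} (hα : Fintype.card β = 23) (hB : IsSteinerSystem 4 7 B) (A : Finset (Option β))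
    (h1 : 1 ≤ A.card) (h7 : A.card ≤ 7) : ∃ b ∈ B, ¬ Even (ext1 b ∩ A).card := by
  by_contra hc
  push Not at hc
  set A' := A.eraseNone with hA'
  have hcard : A.card = A'.card + if none ∈ A then 1 else 0 := by
    by_cases hn : none ∈ A
    · rw [if_pos hn, hA', card_eraseNone_eq_card_erase, card_erase_of_mem hn]; omega
    · rw [if_neg hn, hA', card_eraseNone_eq_card_erase, erase_eq_of_notMem hn]; rfl
  have hk : A'.card ≤ 7 := by omega
  have hmc : ∀ i, (∀ b ∈ B, (b ∩ A').card ≠ i) → Steiner.meetCount B A' i = 0 := fun i h =>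
    Steiner.meetCount_eq_zero h
  have e0 := Steiner.sum_meetCount hB A' (n := 8) (by omega) (j := 0) (l := 253) (by omega)
    (by rw [hα]; decide) (by decide)
  have e1 := Steiner.sum_meetCount hB A' (n := 8) (by omega) (j := 1) (l := 77) (by omega)
    (by rw [hα]; decide) (by decide)
  have e2 := Steiner.sum_meetCount hB A' (n := 8) (by omega) (j := 2) (l := 21) (by omega)
    (by rw [hα]; decide) (by decide)
  have e3 := Steiner.sum_meetCount hB A' (n := 8) (by omega) (j := 3) (l := 5) (by omega)
    (by rw [hα]; decide) (by decide)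
  have e4 := Steiner.sum_meetCount hB A' (n := 8) (by omega) (j := 4) (l := 1) (by omega)
    (by rw [hα]; decide) (by decide)
  by_cases hn : none ∈ A
  · have hev : ∀ b ∈ B, Odd (b ∩ A').card := fun b hb => by
      have := hc b hb
      rw [card_ext1_inter, if_pos hn, Nat.even_add_one, Nat.not_even_iff_odd] at this
      exact this
    have z : ∀ i, Even i → Steiner.meetCount B A' i = 0 := fun i hi => hmc i fun b hb e => by
      have := hev b hb; rw [e] at this; exact Nat.not_odd_iff_even.mpr hi this
    simp only [Finset.sum_range_succ, Finset.sum_range_zero, z 0 (by decide), z 2 (by decide), z 4 (by decide),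
      z 6 (by decide)] at e0 e1 e2 e3 e4
    rw [if_pos hn] at hcard
    have h6 : A'.card ≤ 6 := by omega
    generalize A'.card = k at h6 e0 e1 e2 e3 e4
    interval_cases k <;> norm_num [Nat.choose] at e0 e1 e2 e3 e4 <;> omega
  · have hev : ∀ b ∈ B, Even (b ∩ A').card := fun b hb => by
      have := hc b hb
      rwa [card_ext1_inter, if_neg hn, add_zero] at this
    have z : ∀ i, Odd i → Steiner.meetCount B A' i = 0 := fun i hi => hmc i fun b hb e => by
      have := hev b hb; rw [e] at this; exact Nat.not_even_iff_odd.mpr hi this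
    simp only [Finset.sum_range_succ, Finset.sum_range_zero, z 1 (by decide), z 3 (by decide), z 5 (by decide),
      z 7 (by decide)] at e0 e1 e2 e3 e4
    rw [if_neg hn, add_zero] at hcard
    have h1' : 1 ≤ A'.card := by omega
    generalize A'.card = k at h1' hk e0 e1 e2 e3 e4
    interval_cases k <;> norm_num [Nat.choose] at e0 e1 e2 e3 e4 <;> omega

theorem exists_equiv723 {B : Set (Finset β)} (hα : Fintype.card β = 23) (hB : IsSteinerSystem 4 7 B) :
    ∃ e : Option β ≃ GolayPt, (∀ b, b ∈ B ↔ (ext1 b).image e ∈ octads) ∧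
      ∀ g : Equiv.Perm β, g ∈ setSystemAut B → e.permCongr g.optionCongr ∈ M24 := by
  classical
  obtain ⟨φ⟩ : Nonempty (Option β ≃ Fin 24) := ⟨Fintype.equivFinOfCardEq (by rw [Fintype.card_option, hα])⟩
  let D : Set (Finset (Fin 24)) := (fun b => (ext1 b).image φ) '' B
  have heven : ∀ d ∈ D, ∀ d' ∈ D, Even (d ∩ d').card := by
    rintro _ ⟨b, hb, rfl⟩ _ ⟨c, hc, rfl⟩
    rw [image_inter_card, card_ext1_inter]
    have e : (ext1 c).eraseNone = c := by ext x; simp [ext1]
    rw [e, if_pos (by simp [ext1])]
    by_cases hbc : b = c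
    · rw [hbc, inter_self, Steiner.card_eq hB hc]; decide
    · obtain ⟨h0, -, h2, -⟩ := Steiner.table723 hα hB hc
      have hlt := Steiner.card_inter_lt hB hb hc hbc
      have n0 : (b ∩ c).card ≠ 0 := fun e => by
        have := Steiner.meetCount_pos (B := B) hb (A := c) (i := 0) e; omega
      have n2 : (b ∩ c).card ≠ 2 := fun e => by
        have := Steiner.meetCount_pos (B := B) hb (A := c) (i := 2) e; omega
      rw [Nat.even_add_one, Nat.not_even_iff_odd, Nat.odd_iff]
      omega
  have hyp : Hyp (code D) := hyp_of heven fun A h1 h7 => by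
    obtain ⟨b, hb, hodd⟩ := small723 hα hB (A.image φ.symm)
      (by rwa [card_image_of_injective _ φ.symm.injective]) (by rwa [card_image_of_injective _ φ.symm.injective])
    refine ⟨_, ⟨b, hb, rfl⟩, ?_⟩
    rwa [← image_preimage φ A, image_inter_card]
  obtain ⟨e, he⟩ := golay_coords hyp φ
  have hc8 : ∀ b : Finset β, (ext1 b).card = b.card + 1 := fun b => by simp [ext1]
  refine ⟨e, fun b => ⟨fun hb => ⟨(he _).mpr (ind_mem ⟨b, hb, rfl⟩), ?_⟩, fun ⟨hs, hc⟩ => ?_⟩, fun g hg => ?_⟩
  · rw [card_image_of_injective _ e.injective, hc8, Steiner.card_eq hB hb]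
  · rw [card_image_of_injective _ e.injective, hc8] at hc
    have hm := (he _).mp hs
    obtain ⟨s, hsb, hs4⟩ := exists_subset_card_eq (show 4 ≤ b.card by omega)
    obtain ⟨c, ⟨hcB, hsc⟩, -⟩ := hB.2 s hs4
    have hs5 : ((ext1 s).image φ).card = 5 := by
      rw [card_image_of_injective _ φ.injective, hc8, hs4]
    have hmono : ∀ t : Finset β, s ⊆ t → ext1 s ⊆ ext1 t := fun t ht x hx => by
      cases x with
      | none => simp [ext1]
      | some y =>
        rw [ext1, some_mem_insertNone] at hx ⊢
        exact ht hx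
    have heq := hyp.octad_unique hs5 hm (ind_mem (D := D) ⟨c, hcB, rfl⟩)
      (by rw [supp_ind, card_image_of_injective _ φ.injective, hc8, show b.card = 7 by omega])
      (by rw [supp_ind, card_image_of_injective _ φ.injective, hc8, Steiner.card_eq hB hcB])
      (by rw [supp_ind]; exact image_subset_image (hmono b hsb))
      (by rw [supp_ind]; exact image_subset_image (hmono c hsc))
    have := congrArg supp heq
    rw [supp_ind, supp_ind] at this
    have h2 : ext1 b = ext1 c := image_injective φ.injective this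
    have h3 : b = c := Finset.insertNone.injective h2
    exact h3 ▸ hcB
  · refine perm_mem_supports φ e he g.optionCongr fun A hA => ?_
    obtain ⟨b, hb, e0⟩ := hA
    have : ext1 b = A := image_injective φ.injective e0
    refine ⟨b.image g, (SteinerAut.mem_aut.mp hg b).mpr hb, ?_⟩
    show (ext1 (b.image g)).image φ = _
    congr 1
    rw [← this]
    ext x
    cases x with
    | none => simp [ext1]
    | some y => simp [ext1]

theorem iso723 {γ : Type*} [Fintype γ] [DecidableEq γ] {B : Set (Finset β)} {B' : Set (Finset γ)}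
    (hα : Fintype.card β = 23) (hγ : Fintype.card γ = 23) (hB : IsSteinerSystem 4 7 B)
    (hB' : IsSteinerSystem 4 7 B') : SetSystemIso B B' := by
  obtain ⟨e, he, -⟩ := exists_equiv723 hα hB
  obtain ⟨e', he', -⟩ := exists_equiv723 hγ hB'
  haveI := Golay.M24_pretransitive1
  obtain ⟨σ, hσ⟩ := MulAction.exists_smul_eq M24 (e none) (e' none)
  let Φ : Option β ≃ Option γ := (e.trans (σ : Equiv.Perm GolayPt)).trans e'.symm
  have hnone : Φ none = none := by
    show e'.symm ((σ : Equiv.Perm GolayPt) (e none)) = none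
    rw [show (σ : Equiv.Perm GolayPt) (e none) = e' none from hσ]; simp
  have hsome : ∀ x, some (Equiv.removeNone Φ x) = Φ (some x) := fun x => by
    have h := Φ.injective.ne (a₁ := some x) (a₂ := none) (by simp)
    rw [hnone] at h
    obtain ⟨y, hy⟩ := Option.ne_none_iff_exists'.mp h
    exact Equiv.removeNone_some Φ ⟨y, hy⟩
  have hext : ∀ b : Finset β, ext1 (b.image (Equiv.removeNone Φ)) = (ext1 b).image Φ := fun b => by
    ext x
    cases x with
    | none => simp only [ext1, none_mem_insertNone, true_iff, mem_image]; exact ⟨none, by simp, hnone⟩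
    | some y =>
      simp only [ext1, some_mem_insertNone, mem_image]
      constructor
      · rintro ⟨a, ha, rfl⟩
        exact ⟨some a, by simpa using ha, (hsome a).symm⟩
      · rintro ⟨_ | a, ha, e0⟩
        · rw [hnone] at e0; exact absurd e0 (by simp)
        · rw [← hsome] at e0
          exact ⟨a, by simpa using ha, Option.some.inj e0⟩
  have key : ∀ b : Finset β, b ∈ B ↔ b.image (Equiv.removeNone Φ) ∈ B' := fun b => by
    rw [he, he', hext, image_image, show (⇑e' ∘ ⇑Φ) = ⇑(σ : Equiv.Perm GolayPt) ∘ ⇑e from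
      funext fun x => by simp [Φ], ← image_image]
    have hσ' : (σ : Equiv.Perm GolayPt) ∈ setSystemAut octads := by rw [← Cfsg.Agent.S0369.result]; exact σ.2
    have h := (SteinerAut.mem_aut.mp hσ') ((ext1 b).image e)
    exact h.symm
  refine ⟨Equiv.removeNone Φ, ?_⟩
  ext c
  constructor
  · rintro ⟨b, hb, rfl⟩; exact (key b).mp hb
  · intro hc
    exact ⟨c.image (Equiv.removeNone Φ).symm, (key _).mpr (by rwa [image_preimage]), image_preimage _ c⟩

/-- The automorphism group as a point stabiliser in `M24`. -/
theorem exists_aut723 {B : Set (Finset β)} (hα : Fintype.card β = 23) (hB : IsSteinerSystem 4 7 B) :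
    ∃ e : Option β ≃ GolayPt, ∃ f : setSystemAut B ≃* MulAction.stabilizer M24 (e none),
      ∀ (g : setSystemAut B) (x : β), ((f g : M24) : Equiv.Perm GolayPt) (e (some x)) = e (some ((g : Equiv.Perm β) x)) := by
  obtain ⟨e, he, hM⟩ := exists_equiv723 hα hB
  have hfix : ∀ g : Equiv.Perm β, e.permCongr g.optionCongr (e none) = e none := fun g => by
    simp [Equiv.permCongr_apply]
  have hback : ∀ s : MulAction.stabilizer M24 (e none), (e.symm.permCongr ((s : M24) : Equiv.Perm GolayPt)) none = none := fun s => by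
    have h : ((s : M24) : Equiv.Perm GolayPt) (e none) = e none := s.2
    rw [Equiv.permCongr_apply, Equiv.symm_symm, h]; simp
  have hsome : ∀ (s : MulAction.stabilizer M24 (e none)) x,
      some (Equiv.removeNone (e.symm.permCongr ((s : M24) : Equiv.Perm GolayPt)) x) =
        e.symm.permCongr ((s : M24) : Equiv.Perm GolayPt) (some x) := fun s x => by
    have h := (e.symm.permCongr ((s : M24) : Equiv.Perm GolayPt)).injective.ne (a₁ := some x) (a₂ := none) (by simp)
    rw [hback s] at h
    obtain ⟨y, hy⟩ := Option.ne_none_iff_exists'.mp h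
    exact Equiv.removeNone_some _ ⟨y, hy⟩
  have hopt : ∀ s : MulAction.stabilizer M24 (e none),
      (Equiv.removeNone (e.symm.permCongr ((s : M24) : Equiv.Perm GolayPt))).optionCongr =
        e.symm.permCongr ((s : M24) : Equiv.Perm GolayPt) := fun s => Equiv.ext fun x => by
    cases x with
    | none => rw [hback s]; rfl
    | some y => rw [← hsome s y]; rfl
  refine ⟨e,
    { toFun := fun g => ⟨⟨e.permCongr (g : Equiv.Perm β).optionCongr, hM g g.2⟩, hfix g⟩
      invFun := fun s => ⟨Equiv.removeNone (e.symm.permCongr ((s : M24) : Equiv.Perm GolayPt)), ?_⟩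
      left_inv := fun g => Subtype.ext (Equiv.ext fun x => Option.some.inj ?_)
      right_inv := fun s => Subtype.ext (Subtype.ext ?_)
      map_mul' := fun g h => Subtype.ext (Subtype.ext (Equiv.ext fun x => ?_)) }, fun g x => ?_⟩
  · rw [SteinerAut.mem_aut]
    intro b
    rw [he, he]
    have : (ext1 (b.image (Equiv.removeNone (e.symm.permCongr ((s : M24) : Equiv.Perm GolayPt))))).image e =
        ((ext1 b).image e).image ((s : M24) : Equiv.Perm GolayPt) := by
      have h2 : ext1 (b.image (Equiv.removeNone (e.symm.permCongr ((s : M24) : Equiv.Perm GolayPt)))) =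
          (ext1 b).image (Equiv.removeNone (e.symm.permCongr ((s : M24) : Equiv.Perm GolayPt))).optionCongr := by
        exact ext1_image b _
      rw [h2, hopt s, image_image, image_image]
      congr 1
      funext x
      simp [Equiv.permCongr_apply]
    rw [this]
    have hs' : ((s : M24) : Equiv.Perm GolayPt) ∈ setSystemAut octads := by rw [← Cfsg.Agent.S0369.result]; exact (s : M24).2
    exact SteinerAut.mem_aut.mp hs' _
  · rw [hsome ⟨⟨e.permCongr (g : Equiv.Perm β).optionCongr, hM g g.2⟩, hfix g⟩ x]
    simp [Equiv.permCongr_apply]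
  · show e.permCongr (Equiv.optionCongr _) = _
    rw [hopt s]
    exact Equiv.ext fun x => by simp [Equiv.permCongr_apply]
  · simp [Equiv.permCongr_apply, Equiv.Perm.mul_apply]
  · simp [Equiv.permCongr_apply]

theorem pretransitive723 {B : Set (Finset β)} (hα : Fintype.card β = 23) (hB : IsSteinerSystem 4 7 B) :
    MulAction.IsMultiplyPretransitive (setSystemAut B) β 4 := by
  obtain ⟨e, f, hf⟩ := exists_aut723 hα hB
  refine ⟨fun x y => ?_⟩
  have hinj : ∀ x : Fin 4 ↪ β, Function.Injective (Fin.cons (e none) (fun i => e (some (x i))) : Fin 5 → GolayPt) :=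
    fun x => Fin.cons_injective_iff.mpr ⟨fun ⟨i, h⟩ => Option.some_ne_none _ (e.injective h),
      fun i j h => x.injective (Option.some.inj (e.injective h))⟩
  obtain ⟨σ, hσ⟩ := Golay.M24_pretransitive5.exists_smul_eq ⟨_, hinj x⟩ ⟨_, hinj y⟩
  have h0 : σ ∈ MulAction.stabilizer M24 (e none) := DFunLike.congr_fun hσ 0
  refine ⟨f.symm ⟨σ, h0⟩, Function.Embedding.ext fun i => ?_⟩
  have h1 := DFunLike.congr_fun hσ i.succ
  have h2 := hf (f.symm ⟨σ, h0⟩) (x i)
  rw [MulEquiv.apply_symm_apply] at h2
  exact Option.some.inj (e.injective (h2.symm.trans h1))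

end Cfsg.Agent.Spor.SteinerCode
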