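import Cfsg.Agent.Lib.Spor.GolayUnique
import Cfsg.Agent.Lib.Spor.Golay.Code
import Cfsg.Agent.S0362
import Cfsg.Agent.S0358

/-! The code `golayCode` is the only self-dual code of length 24 and minimum weight 8. -/

set_option autoImplicit false

namespace Cfsg.Agent.Spor.GolayUniq

open Cfsg

/-- Numbering of the points. -/
noncomputable def e0 : GolayPt ≃ Fin 24 where
  toFun p := ⟨Golay.idx p, Golay.idx_lt p⟩
  invFun i := Golay.pt i.val
  left_inv p := Golay.pt_idx p
  right_inv i := Fin.ext (Golay.idx_pt i.2)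

/-- The standard code on `Fin 24`. -/
noncomputable def std : Submodule (ZMod 2) GolayAbstract.F :=
  golayCode.comap (LinearEquiv.funCongrLeft (ZMod 2) (ZMod 2) e0).toLinearMap

theorem mem_std {w : GolayAbstract.F} : w ∈ std ↔ (fun p => w (e0 p)) ∈ golayCode := Iff.rfl

theorem std_hyp : GolayAbstract.Hyp std := by
  refine ⟨?_, fun v hv w hw => ?_, fun w hw hne => ?_⟩
  · rw [← Cfsg.Agent.S0358.result]
    exact ((LinearEquiv.funCongrLeft (ZMod 2) (ZMod 2) e0).ofSubmodule' golayCode).finrank_eq
  · rw [← e0.sum_comp]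
    exact Cfsg.Agent.S0362.result _ _ hv hw
  · obtain ⟨m, hm, e⟩ := Golay.mem_golayCode.mp (mem_std.mp hw)
    have hn : hammingNorm w = hammingNorm (fun p => w (e0 p)) := by
      simp only [hammingNorm, Finset.card_filter]
      rw [← e0.sum_comp]
    have h0 : hammingNorm w ≠ 0 := fun h => hne (hammingNorm_eq_zero.mp h)
    rw [hn, e, Golay.hammingNorm_vec] at h0 ⊢
    rcases Golay.pop_code hm with h | h | h | h | h <;> omega

/-- Every such code is the standard one in suitable coordinates. -/
theorem unique_golay {C : Submodule (ZMod 2) GolayAbstract.F} (h : GolayAbstract.Hyp C) :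
    ∃ e : Fin 24 ≃ GolayPt, ∀ w : GolayPt → ZMod 2, w ∈ golayCode ↔ (fun i => w (e i)) ∈ C := by
  obtain ⟨τ, hτ⟩ := unique h std_hyp
  refine ⟨Equiv.trans τ e0.symm, fun w => ?_⟩
  have := hτ (fun i => w (e0.symm i))
  rw [mem_std] at this
  simp only [Equiv.symm_apply_apply] at this
  exact this

end Cfsg.Agent.Spor.GolayUniq
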