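import Cfsg.Agent.Lib.Spor.SteinerCode
import Cfsg.Agent.Lib.Spor.GolayUniqueStd
import Cfsg.Agent.Lib.Spor.SteinerTables
import Cfsg.Agent.S0369

/-! Uniqueness of the Steiner system S(5,8,24). -/

set_option autoImplicit false

namespace Cfsg.Agent.Spor.SteinerCode

open GolayAbstract Finset Cfsg
open scoped Pointwise

variable {β : Type*} [Fintype β] [DecidableEq β]

/-- Coordinates sending a self-dual span to `golayCode`. -/
theorem golay_coords {C : Submodule (ZMod 2) GolayAbstract.F} (h : Hyp C) (φ : β ≃ Fin 24) :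
    ∃ e : β ≃ GolayPt, ∀ A : Finset β,
      A.image e ∈ supports (golayCode : Set (GolayPt → ZMod 2)) ↔ ind (A.image φ) ∈ C := by
  obtain ⟨ε, hε⟩ := GolayUniq.unique_golay h
  refine ⟨φ.trans ε, fun A => ?_⟩
  have key : ∀ w : GolayPt → ZMod 2, support₂ w = A.image (φ.trans ε) ↔ (fun i => w (ε i)) = ind (A.image φ) := by
    intro w
    have hmem : ∀ i, ε i ∈ A.image (φ.trans ε) ↔ i ∈ A.image φ := fun i => by
      simp [Equiv.trans_apply]
    constructor
    · intro e
      funext i
      have := hmem i
      rw [← e] at this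
      simp only [support₂, mem_filter, mem_univ, true_and] at this
      show w (ε i) = if i ∈ A.image φ then 1 else 0
      by_cases hi : i ∈ A.image φ
      · rw [if_pos hi]; exact (GolayAbstract.zcases (w (ε i))).resolve_left (this.mpr hi)
      · rw [if_neg hi]; exact not_not.mp (mt this.mp hi)
    · intro e
      ext p
      obtain ⟨i, rfl⟩ := ε.surjective p
      rw [hmem]
      have := congrFun e i
      by_cases hi : i ∈ A.image φ <;> simp [ind, hi] at this <;> simp [support₂, this, hi]
  constructor
  · rintro ⟨w, hw, e⟩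
    rw [← (key w).mp e]
    exact (hε w).mp hw
  · intro hA
    let w : GolayPt → ZMod 2 := fun p => ind (A.image φ) (ε.symm p)
    have hw : (fun i => w (ε i)) = ind (A.image φ) := funext fun i => by simp [w]
    exact ⟨w, (hε w).mpr (hw ▸ hA), (key w).mpr hw⟩

theorem image_inter_card {γ : Type*} [DecidableEq γ] (φ : β ≃ γ) (A A' : Finset β) :
    (A.image φ ∩ A'.image φ).card = (A ∩ A').card := by
  rw [← image_inter _ _ φ.injective, card_image_of_injective _ φ.injective]

theorem image_preimage {γ : Type*} [DecidableEq γ] (φ : β ≃ γ) (A : Finset γ) [DecidableEq β] :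
    (A.image φ.symm).image φ = A := by
  rw [image_image]; simp

/-- No small set meets all blocks evenly. -/
theorem small824 {B : Set (Finset β)} (hα : Fintype.card β = 24) (hB : IsSteinerSystem 5 8 B) (A : Finset β)
    (h1 : 1 ≤ A.card) (h7 : A.card ≤ 7) : ∃ b ∈ B, ¬ Even (b ∩ A).card := by
  by_contra hc
  push Not at hc
  have hz : ∀ i, Odd i → Steiner.meetCount B A i = 0 := fun i hi =>
    Steiner.meetCount_eq_zero fun b hb e => by
      have := hc b hb; rw [e] at this; exact Nat.not_even_iff_odd.mpr hi this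
  have z1 := hz 1 (by decide)
  have z3 := hz 3 (by decide)
  have z5 := hz 5 (by decide)
  have z7 := hz 7 (by decide)
  obtain ⟨e0, e1, e2, e3, e4, e5⟩ := Steiner.eqns824 hα hB A (n := 8) (by omega)
  simp only [Finset.sum_range_succ, Finset.sum_range_zero, z1, z3, z5, z7] at e0 e1 e2 e3 e4 e5
  generalize hk : A.card = k at h1 h7 e0 e1 e2 e3 e4 e5
  interval_cases k <;> norm_num [Nat.choose] at e0 e1 e2 e3 e4 e5 <;> omega

theorem exists_equiv824 {B : Set (Finset β)} (hα : Fintype.card β = 24) (hB : IsSteinerSystem 5 8 B) :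
    ∃ e : β ≃ GolayPt, ∀ b, b ∈ B ↔ b.image e ∈ octads := by
  classical
  obtain ⟨φ⟩ : Nonempty (β ≃ Fin 24) := ⟨Fintype.equivFinOfCardEq hα⟩
  let D : Set (Finset (Fin 24)) := (fun b => b.image φ) '' B
  have heven : ∀ d ∈ D, ∀ d' ∈ D, Even (d ∩ d').card := by
    rintro _ ⟨b, hb, rfl⟩ _ ⟨c, hc, rfl⟩
    rw [image_inter_card]
    by_cases hbc : b = c
    · rw [hbc, inter_self, Steiner.card_eq hB hc]; decide
    · rcases Steiner.card_inter824 hα hB hb hc hbc with e | e | e <;> rw [e] <;> decide
  have hyp : Hyp (code D) := hyp_of heven fun A h1 h7 => by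
    obtain ⟨b, hb, hodd⟩ := small824 hα hB (A.image φ.symm)
      (by rwa [card_image_of_injective _ φ.symm.injective]) (by rwa [card_image_of_injective _ φ.symm.injective])
    refine ⟨_, ⟨b, hb, rfl⟩, ?_⟩
    rwa [← image_preimage φ A, image_inter_card]
  obtain ⟨e, he⟩ := golay_coords hyp φ
  refine ⟨e, fun b => ⟨fun hb => ⟨(he b).mpr (ind_mem ⟨b, hb, rfl⟩), ?_⟩, fun ⟨hs, hc⟩ => ?_⟩⟩
  · rw [card_image_of_injective _ e.injective, Steiner.card_eq hB hb]
  · rw [card_image_of_injective _ e.injective] at hc
    have hm := (he b).mp hs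
    obtain ⟨s, hsb, hs5⟩ := exists_subset_card_eq (show 5 ≤ b.card by omega)
    obtain ⟨c, ⟨hcB, hsc⟩, -⟩ := hB.2 s hs5
    have heq := hyp.octad_unique (s := s.image φ) (by rw [card_image_of_injective _ φ.injective, hs5])
      hm (ind_mem (D := D) ⟨c, hcB, rfl⟩)
      (by rw [supp_ind, card_image_of_injective _ φ.injective, hc])
      (by rw [supp_ind, card_image_of_injective _ φ.injective, Steiner.card_eq hB hcB])
      (by rw [supp_ind]; exact image_subset_image hsb) (by rw [supp_ind]; exact image_subset_image hsc)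
    have := congrArg supp heq
    rw [supp_ind, supp_ind] at this
    exact (image_injective φ.injective this) ▸ hcB

/-- Two systems of the same parameters, through their standard forms. -/
theorem iso824 {γ : Type*} [Fintype γ] [DecidableEq γ] {B : Set (Finset β)} {B' : Set (Finset γ)}
    (hα : Fintype.card β = 24) (hγ : Fintype.card γ = 24) (hB : IsSteinerSystem 5 8 B)
    (hB' : IsSteinerSystem 5 8 B') : SetSystemIso B B' := by
  obtain ⟨e, he⟩ := exists_equiv824 hα hB
  obtain ⟨e', he'⟩ := exists_equiv824 hγ hB'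
  refine ⟨e.trans e'.symm, ?_⟩
  have key : ∀ b : Finset β, (b.image (e.trans e'.symm)).image e' = b.image e := fun b => by
    rw [image_image]; congr 1; funext x; simp
  ext c
  constructor
  · rintro ⟨b, hb, rfl⟩
    rw [he', key]
    exact (he b).mp hb
  · intro hc
    refine ⟨c.image (e'.trans e.symm), (he _).mpr ?_, ?_⟩
    · rw [image_image, show (⇑e ∘ ⇑(e'.trans e.symm)) = ⇑e' from funext fun x => by simp]
      exact (he' c).mp hc
    · show (c.image (e'.trans e.symm)).image (e.trans e'.symm) = c
      rw [image_image, show (⇑(e.trans e'.symm) ∘ ⇑(e'.trans e.symm)) = id from funext fun x => by simp, image_id]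

end Cfsg.Agent.Spor.SteinerCode
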