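import Cfsg.Agent.Lib.Spor.LargeExtra
import Cfsg.Agent.Lib.Grp.CoprimeAbelian
import Cfsg.Agent.Lib.Grp.Frattini

/-! The centralizer of an involution of the translation group inside an affine linear group over two elements. -/

set_option autoImplicit false
set_option linter.style.haveILetI false
set_option linter.unusedSectionVars false

namespace Cfsg.Agent.Spor.Affine

open Subgroup
open scoped commutatorElement

theorem zmod_two : ∀ c : ZMod 2, c = 0 ∨ c = 1 := by decide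

/-- A vector space. -/
abbrev V (n : ℕ) := Fin n → ZMod 2

/-- A vector space with a distinguished line. -/
abbrev W (n : ℕ) := V n × ZMod 2

/-- The distinguished vector. -/
def e (n : ℕ) : W n := (0, 1)

theorem two_self {n : ℕ} (v : V n) : v + v = 0 := funext fun i => CharTwo.add_self_eq_zero (v i)

/-- The translation group with the full linear group acting, containing the centralizers of its members. -/
structure Setup {G : Type*} [Group G] (P U : Subgroup G) (n : ℕ) where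
  le : U ≤ P
  β : ↥U ≃ W n
  β_mul : ∀ u v, β (u * v) = β u + β v
  act : ↥P →* (W n ≃ₗ[ZMod 2] W n)
  conj : ∀ (p : ↥P) (u : ↥U), ∃ h : (p : G) * u * (p : G)⁻¹ ∈ U, β ⟨_, h⟩ = act p (β u)
  ker : ∀ p, act p = 1 → (p : G) ∈ U
  sec : (W n ≃ₗ[ZMod 2] W n) →* ↥P
  act_sec : ∀ g, act (sec g) = g
  cent : ∀ u ∈ U, u ≠ 1 → centralizer ({u} : Set G) ≤ P

namespace Setup

variable {G : Type*} [Group G] {P U : Subgroup G} {n : ℕ} (S : Setup P U n)

/-- Translations. -/
def tr (w : W n) : G := (S.β.symm w : G)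

theorem tr_mem (w : W n) : S.tr w ∈ U := (S.β.symm w).2

theorem tr_add (a b : W n) : S.tr (a + b) = S.tr a * S.tr b := by
  have : S.β.symm (a + b) = S.β.symm a * S.β.symm b := S.β.injective (by rw [S.β_mul]; simp)
  show ((S.β.symm (a + b) : ↥U) : G) = _
  rw [this]; rfl

theorem tr_zero : S.tr 0 = 1 := by
  have := S.tr_add 0 0
  rw [add_zero] at this
  exact mul_eq_left.mp this.symm

theorem tr_inj {a b : W n} (h : S.tr a = S.tr b) : a = b := S.β.symm.injective (Subtype.ext h)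

theorem tr_surj {u : G} (hu : u ∈ U) : ∃ w, S.tr w = u :=
  ⟨S.β ⟨u, hu⟩, congrArg Subtype.val (S.β.symm_apply_apply _)⟩

theorem conj_tr (p : ↥P) (w : W n) : (p : G) * S.tr w * (p : G)⁻¹ = S.tr (S.act p w) := by
  obtain ⟨h, e⟩ := S.conj p (S.β.symm w)
  rw [Equiv.apply_symm_apply] at e
  show _ = ((S.β.symm (S.act p w) : ↥U) : G)
  rw [← e, Equiv.symm_apply_apply]
  rfl

theorem sec_tr (g : W n ≃ₗ[ZMod 2] W n) (w : W n) : (S.sec g : G) * S.tr w = S.tr (g w) * S.sec g := by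
  have h := S.conj_tr (S.sec g) w
  rw [S.act_sec] at h
  rw [← h]; group

theorem act_tr (w : W n) : S.act ⟨S.tr w, S.le (S.tr_mem w)⟩ = 1 := by
  refine LinearEquiv.ext fun x => S.tr_inj ?_
  rw [← S.conj_tr]
  show S.tr w * S.tr x * (S.tr w)⁻¹ = S.tr x
  rw [← S.tr_add, add_comm, S.tr_add]
  group

/-- Every element is a translation times a linear map. -/
theorem decomp (p : ↥P) : ∃ w, (p : G) = S.tr w * S.sec (S.act p) := by
  obtain ⟨w, hw⟩ := S.tr_surj (S.ker (p * (S.sec (S.act p))⁻¹) (by rw [map_mul, map_inv, S.act_sec]; exact mul_inv_cancel _))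
  exact ⟨w, by rw [hw]; simp [Subgroup.coe_mul, Subgroup.coe_inv]⟩

theorem act_pair (w : W n) (g : W n ≃ₗ[ZMod 2] W n) :
    S.act ⟨S.tr w * S.sec g, mul_mem (S.le (S.tr_mem w)) (S.sec g).2⟩ = g := by
  rw [show (⟨S.tr w * S.sec g, _⟩ : ↥P) = ⟨S.tr w, S.le (S.tr_mem w)⟩ * S.sec g from rfl, map_mul, S.act_tr, S.act_sec,
    one_mul]

theorem pair_inj {w w' : W n} {g g' : W n ≃ₗ[ZMod 2] W n} (h : S.tr w * S.sec g = S.tr w' * S.sec g') :
    w = w' ∧ g = g' := by
  have hg : g = g' := by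
    rw [← S.act_pair w g, ← S.act_pair w' g']
    exact congrArg S.act (Subtype.ext h)
  subst hg
  exact ⟨S.tr_inj (mul_right_cancel h), rfl⟩

theorem pair_mul (w w' : W n) (g g' : W n ≃ₗ[ZMod 2] W n) :
    S.tr w * S.sec g * (S.tr w' * S.sec g') = S.tr (w + g w') * S.sec (g * g') := by
  rw [S.tr_add, map_mul, Subgroup.coe_mul, mul_assoc, ← mul_assoc (S.sec g : G), S.sec_tr]
  group

/-- The central involution. -/
def z : G := S.tr (e n)

theorem z_mem : S.z ∈ U := S.tr_mem _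

theorem z_ne : S.z ≠ 1 := fun h => by
  have := congrArg Prod.snd (S.tr_inj (h.trans S.tr_zero.symm))
  simp [e] at this

theorem cent_le : centralizer ({S.z} : Set G) ≤ P := S.cent _ S.z_mem S.z_ne

theorem mem_cent {x : G} (hx : x ∈ P) : x ∈ centralizer ({S.z} : Set G) ↔ S.act ⟨x, hx⟩ (e n) = e n := by
  rw [mem_centralizer_singleton_iff]
  have h := S.conj_tr ⟨x, hx⟩ (e n)
  constructor
  · intro hc
    refine S.tr_inj ?_
    rw [← h]
    show x * S.z * x⁻¹ = S.z
    rw [hc]; group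
  · intro he
    rw [he] at h
    exact mul_inv_eq_iff_eq_mul.mp h

/-- The induced map on the quotient by the line. -/
def top (g : W n ≃ₗ[ZMod 2] W n) : Module.End (ZMod 2) (V n) :=
  (LinearMap.fst _ _ _).comp (g.toLinearMap.comp (LinearMap.inl _ _ _))

theorem top_apply (g : W n ≃ₗ[ZMod 2] W n) (x : V n) : top g x = (g (x, 0)).1 := rfl

theorem fst_apply {g : W n ≃ₗ[ZMod 2] W n} (hg : g (e n) = e n) (w : W n) : (g w).1 = top g w.1 := by
  have : w = (w.1, 0) + w.2 • e n := by simp [e]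
  conv_lhs => rw [this, map_add, map_smul, hg]
  simp [e, top_apply]

theorem top_mul {g h : W n ≃ₗ[ZMod 2] W n} (hg : g (e n) = e n) : top (g * h) = top g * top h :=
  LinearMap.ext fun x => fst_apply hg (h (x, 0))

/-- The action on the quotient. -/
def chi : ↥(centralizer ({S.z} : Set G)) →* (Module.End (ZMod 2) (V n))ˣ :=
  MonoidHom.toHomUnits
    { toFun := fun c => top (S.act ⟨c, S.cent_le c.2⟩)
      map_one' := by
        rw [show (⟨((1 : ↥(centralizer ({S.z} : Set G))) : G), _⟩ : ↥P) = 1 from rfl, map_one]; rfl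
      map_mul' := fun c d => by
        rw [← top_mul ((S.mem_cent (S.cent_le c.2)).mp c.2), ← map_mul]; rfl }

theorem chi_apply (c : ↥(centralizer ({S.z} : Set G))) :
    ((S.chi c : (Module.End (ZMod 2) (V n))ˣ) : Module.End (ZMod 2) (V n)) = top (S.act ⟨c, S.cent_le c.2⟩) := rfl

/-- Linear maps of the quotient inside the group of the whole space. -/
def lift : (Module.End (ZMod 2) (V n))ˣ →* (W n ≃ₗ[ZMod 2] W n) :=
  MonoidHom.mk' (fun g => (LinearMap.GeneralLinearGroup.generalLinearEquiv _ _ g).prodCongr (LinearEquiv.refl _ _))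
    fun g h => LinearEquiv.ext fun w => by rw [map_mul]; rfl

theorem lift_e (g : (Module.End (ZMod 2) (V n))ˣ) : lift g (e n) = e n := by
  show ((LinearMap.GeneralLinearGroup.generalLinearEquiv _ _ g) 0, (1 : ZMod 2)) = _
  rw [map_zero]; rfl

theorem top_lift (g : (Module.End (ZMod 2) (V n))ˣ) : top (lift g) = g := rfl

/-- The linear complement. -/
def comp : (Module.End (ZMod 2) (V n))ˣ →* ↥(centralizer ({S.z} : Set G)) :=
  MonoidHom.mk' (fun g => ⟨(S.sec (lift g) : G), (S.mem_cent (S.sec (lift g)).2).mpr (by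
      rw [Subtype.coe_eta, S.act_sec, lift_e])⟩)
    fun g h => Subtype.ext (by
      show (S.sec (lift (g * h)) : G) = S.sec (lift g) * S.sec (lift h)
      rw [map_mul lift, map_mul S.sec]; rfl)

theorem chi_comp (g : (Module.End (ZMod 2) (V n))ˣ) : S.chi (S.comp g) = g := Units.ext (by
  rw [chi_apply, show (⟨((S.comp g : ↥(centralizer ({S.z} : Set G))) : G), _⟩ : ↥P) = S.sec (lift g) from Subtype.ext rfl,
    S.act_sec, top_lift])

theorem chi_surj : Function.Surjective S.chi := fun g => ⟨S.comp g, S.chi_comp g⟩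

/-- The scalar product. -/
def dot (a : V n) (x : V n) : ZMod 2 := ∑ i, x i * a i

theorem dot_add (a x y : V n) : dot a (x + y) = dot a x + dot a y := by simp [dot, add_mul, Finset.sum_add_distrib]

theorem dot_smul (a x : V n) (c : ZMod 2) : dot a (c • x) = c * dot a x := by
  simp [dot, Finset.mul_sum, mul_assoc]

theorem dot_left (a b x : V n) : dot (a + b) x = dot a x + dot b x := by simp [dot, mul_add, Finset.sum_add_distrib]

theorem dot_single (a : V n) (i : Fin n) : dot a (Pi.single i 1) = a i := by simp [dot, Pi.single_apply]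

/-- Transvections towards the line. -/
def tl (a : V n) : W n ≃ₗ[ZMod 2] W n :=
  LinearEquiv.ofInvolutive
    { toFun := fun w => (w.1, w.2 + dot a w.1)
      map_add' := fun x y => by ext <;> simp [dot_add]; ring
      map_smul' := fun c x => by ext <;> simp [dot_smul, mul_add] }
    fun w => by
      ext
      · rfl
      · show w.2 + dot a w.1 + dot a w.1 = w.2
        rw [add_assoc, CharTwo.add_self_eq_zero, add_zero]

theorem tl_apply (a : V n) (w : W n) : tl a w = (w.1, w.2 + dot a w.1) := rfl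

theorem tl_mul (a b : V n) : tl a * tl b = tl (a + b) := LinearEquiv.ext fun w => by
  show tl a (tl b w) = _
  simp only [tl_apply, dot_left]
  ext <;> simp; ring

theorem tl_zero : tl (0 : V n) = 1 := LinearEquiv.ext fun w => by
  rw [tl_apply]; simp [dot]

theorem eq_tl {g : W n ≃ₗ[ZMod 2] W n} (hg : g (e n) = e n) (ht : top g = 1) : ∃ a, g = tl a := by
  refine ⟨fun i => (g (Pi.single i 1, 0)).2, LinearEquiv.ext fun w => Prod.ext ?_ ?_⟩
  · rw [fst_apply hg, ht]; rfl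
  · let f : V n →ₗ[ZMod 2] ZMod 2 := (LinearMap.snd _ _ _).comp (g.toLinearMap.comp (LinearMap.inl _ _ _))
    have hf : f w.1 = dot (fun i => (g (Pi.single i 1, 0)).2) w.1 := by
      conv_lhs => rw [pi_eq_sum_univ' w.1]
      simp only [map_sum, map_smul, dot, smul_eq_mul]
      rfl
    have : w = (w.1, 0) + w.2 • e n := by simp [e]
    rw [tl_apply, ← hf]
    conv_lhs => rw [this, map_add, map_smul, hg]
    show (g (w.1, 0)).2 + w.2 • (1 : ZMod 2) = w.2 + (g (w.1, 0)).2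
    rw [smul_eq_mul, mul_one, add_comm]

/-- The elements of the extraspecial group. -/
def q (w : W n) (a : V n) : G := S.tr w * S.sec (tl a)

theorem q_inj {w w' : W n} {a a' : V n} (h : S.q w a = S.q w' a') : w = w' ∧ a = a' := by
  obtain ⟨h1, h2⟩ := S.pair_inj h
  refine ⟨h1, funext fun i => ?_⟩
  have := congrArg (fun g : W n ≃ₗ[ZMod 2] W n => (g (Pi.single i 1, 0)).2) h2
  simpa [tl_apply, dot_single] using this

theorem q_mul (w w' : W n) (a a' : V n) : S.q w a * S.q w' a' = S.q (w + tl a w') (a + a') := by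
  rw [q, q, q, S.pair_mul, tl_mul]

theorem q_zero : S.q 0 0 = 1 := by rw [q, S.tr_zero, tl_zero, map_one]; simp

theorem tr_eq_q (w : W n) : S.tr w = S.q w 0 := by rw [q, tl_zero, map_one]; simp

/-- The extraspecial group. -/
def Q : Subgroup G where
  carrier := {x | ∃ w a, S.q w a = x}
  one_mem' := ⟨0, 0, S.q_zero⟩
  mul_mem' := by rintro _ _ ⟨w, a, rfl⟩ ⟨w', a', rfl⟩; exact ⟨_, _, (S.q_mul ..).symm⟩
  inv_mem' := by
    rintro _ ⟨w, a, rfl⟩
    refine ⟨tl a w, a, eq_inv_of_mul_eq_one_left ?_⟩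
    rw [S.q_mul, two_self, show tl a w + tl a w = 0 from Prod.ext (two_self _) (CharTwo.add_self_eq_zero _), S.q_zero]

theorem U_le_Q : U ≤ S.Q := fun u hu => by
  obtain ⟨w, rfl⟩ := S.tr_surj hu
  exact ⟨w, 0, (S.tr_eq_q w).symm⟩

theorem tl_e (a : V n) : tl a (e n) = e n := by rw [tl_apply]; simp [e, dot]

theorem Q_le : S.Q ≤ centralizer ({S.z} : Set G) := by
  rintro _ ⟨w, a, rfl⟩
  refine (S.mem_cent (mul_mem (S.le (S.tr_mem w)) (S.sec (tl a)).2)).mpr ?_
  show S.act ⟨S.tr w * S.sec (tl a), _⟩ (e n) = e n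
  rw [S.act_pair, tl_e]

theorem Q_subgroupOf : S.Q.subgroupOf (centralizer ({S.z} : Set G)) = S.chi.ker := by
  ext c
  rw [mem_subgroupOf, MonoidHom.mem_ker, Units.ext_iff, chi_apply, Units.val_one]
  constructor
  · rintro ⟨w, a, h⟩
    rw [show (⟨(c : G), _⟩ : ↥P) = ⟨S.tr w * S.sec (tl a), mul_mem (S.le (S.tr_mem w)) (S.sec (tl a)).2⟩ from
      Subtype.ext h.symm, S.act_pair]
    exact LinearMap.ext fun x => rfl
  · intro h
    obtain ⟨a, ha⟩ := eq_tl ((S.mem_cent (S.cent_le c.2)).mp c.2) h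
    obtain ⟨w, hw⟩ := S.decomp ⟨c, S.cent_le c.2⟩
    exact ⟨w, a, by rw [q, ← ha]; exact hw.symm⟩

theorem card_Q : Nat.card S.Q = 2 ^ (2 * n + 1) := by
  let f : W n × V n → S.Q := fun x => ⟨S.q x.1 x.2, _, _, rfl⟩
  have hf : Function.Bijective f := ⟨fun x y h => Prod.ext (S.q_inj (congrArg Subtype.val h)).1
    (S.q_inj (congrArg Subtype.val h)).2, fun ⟨x, w, a, h⟩ => ⟨(w, a), Subtype.ext h⟩⟩
  rw [← Nat.card_congr (Equiv.ofBijective f hf), Nat.card_prod, Nat.card_prod, Nat.card_fun, Nat.card_zmod,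
    Nat.card_eq_fintype_card, Fintype.card_fin]
  ring

/-- The commutator is the symplectic product. -/
theorem q_comm (w w' : W n) (a a' : V n) :
    ⁅S.q w a, S.q w' a'⁆ = S.tr (0, dot a w'.1 + dot a' w.1) := by
  rw [commutatorElement_def, mul_inv_eq_iff_eq_mul, mul_inv_eq_iff_eq_mul, S.tr_eq_q, S.q_mul, S.q_mul, S.q_mul,
    tl_zero, zero_add, add_comm a' a]
  congr 1
  show w + tl a w' = ((0, dot a w'.1 + dot a' w.1) : W n) + w' + tl a' w
  simp only [tl_apply]
  ext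
  · simp [add_comm]
  · have h2 : ∀ p q r s : ZMod 2, p + (q + r) = r + s + q + (p + s) := by decide
    exact h2 _ _ _ _

theorem center_Q (hn : 1 ≤ n) : (Subgroup.center ↥S.Q).map S.Q.subtype = zpowers S.z := by
  have hz2 : ∀ x ∈ zpowers S.z, x = 1 ∨ x = S.z := by
    intro x hx
    obtain ⟨k, rfl⟩ := mem_zpowers_iff.mp hx
    have hzz : S.z * S.z = 1 := by
      rw [z, ← S.tr_add, show e n + e n = 0 from Prod.ext (two_self _) (CharTwo.add_self_eq_zero _), S.tr_zero]
    rcases Int.even_or_odd' k with ⟨m, rfl | rfl⟩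
    · left; rw [zpow_mul, zpow_two, hzz, one_zpow]
    · right; rw [zpow_add, zpow_mul, zpow_two, hzz, one_zpow, one_mul, zpow_one]
  ext x
  constructor
  · rintro ⟨y, hy, rfl⟩
    obtain ⟨w, a, hwa⟩ := y.2
    have key : ∀ (w' : W n) (a' : V n), dot a w'.1 + dot a' w.1 = 0 := fun w' a' => by
      have h := mem_center_iff.mp hy ⟨S.q w' a', _, _, rfl⟩
      have h1 : ⁅S.q w a, S.q w' a'⁆ = 1 := by
        rw [hwa, commutatorElement_eq_one_iff_mul_comm]
        exact (congrArg Subtype.val h).symm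
      rw [S.q_comm, ← S.tr_zero] at h1
      exact congrArg Prod.snd (S.tr_inj h1)
    have ha : a = 0 := funext fun i => by
      have := key (Pi.single i 1, 0) 0
      simpa [dot, Pi.single_apply] using this
    have hw : w.1 = 0 := funext fun i => by
      have := key 0 (Pi.single i 1)
      simpa [ha, dot, Pi.single_apply] using this
    subst ha
    show (y : G) ∈ _
    rw [← hwa, ← S.tr_eq_q]
    rcases zmod_two w.2 with h | h
    · rw [show w = 0 from Prod.ext hw h, S.tr_zero]; exact one_mem _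
    · rw [show w = e n from Prod.ext hw h]; exact mem_zpowers _
  · intro hx
    have hxQ : x ∈ S.Q := zpowers_le.mpr (S.U_le_Q S.z_mem) hx
    refine ⟨⟨x, hxQ⟩, mem_center_iff.mpr fun y => Subtype.ext ?_, rfl⟩
    show (y : G) * x = x * y
    rcases hz2 x hx with rfl | rfl
    · simp
    · exact mem_centralizer_singleton_iff.mp (S.Q_le y.2)

theorem isExtraspecial [Finite G] (hn : 1 ≤ n) : Cfsg.IsExtraspecial 2 ↥S.Q := by
  haveI : Fact (Nat.Prime 2) := ⟨Nat.prime_two⟩
  have hp : IsPGroup 2 ↥S.Q := IsPGroup.of_card S.card_Q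
  have hzc : ∀ c : ZMod 2, S.tr (0, c) ∈ zpowers S.z := fun c => by
    rcases zmod_two c with rfl | rfl
    · rw [show ((0, 0) : W n) = 0 from rfl, S.tr_zero]; exact one_mem _
    · exact mem_zpowers _
  have hmem : ∀ y : ↥S.Q, (y : G) ∈ zpowers S.z → y ∈ Subgroup.center ↥S.Q := fun y hy => by
    rw [← S.center_Q hn] at hy
    obtain ⟨y', hy', e'⟩ := hy
    exact Subtype.ext e' ▸ hy'
  have hcz : Nat.card (Subgroup.center ↥S.Q) = 2 := by
    rw [← card_map_of_injective S.Q.subtype_injective, S.center_Q hn, Nat.card_zpowers]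
    refine orderOf_eq_prime ?_ S.z_ne
    rw [z, pow_two, ← S.tr_add, show e n + e n = 0 from Prod.ext (two_self _) (CharTwo.add_self_eq_zero _), S.tr_zero]
  have hcomm : commutator ↥S.Q ≤ Subgroup.center ↥S.Q := by
    rw [_root_.commutator_def, Subgroup.commutator_le]
    rintro ⟨_, w, a, rfl⟩ - ⟨_, w', a', rfl⟩ -
    refine hmem _ ?_
    show ⁅S.q w a, S.q w' a'⁆ ∈ _
    rw [S.q_comm]; exact hzc _
  have hsq : ∀ y : ↥S.Q, y ^ 2 ∈ Subgroup.center ↥S.Q := by
    rintro ⟨_, w, a, rfl⟩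
    refine hmem _ ?_
    show S.q w a ^ 2 ∈ _
    rw [pow_two, S.q_mul, two_self, ← S.tr_eq_q, tl_apply]
    have : w + (w.1, w.2 + dot a w.1) = (0, dot a w.1) :=
      Prod.ext (two_self _) (by show w.2 + (w.2 + _) = _; rw [← add_assoc, CharTwo.add_self_eq_zero, zero_add])
    rw [this]; exact hzc _
  have hge : Subgroup.center ↥S.Q ≤ commutator ↥S.Q := by
    have h1 : ⁅(⟨S.q 0 (Pi.single ⟨0, hn⟩ 1), _, _, rfl⟩ : ↥S.Q), ⟨S.q (Pi.single ⟨0, hn⟩ 1, 0) 0, _, _, rfl⟩⁆ ∈
        commutator ↥S.Q := commutator_mem_commutator (mem_top _) (mem_top _)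
    intro y hy
    have hy' : (y : G) ∈ zpowers S.z := S.center_Q hn ▸ mem_map_of_mem _ hy
    obtain ⟨k, hk⟩ := mem_zpowers_iff.mp hy'
    have : y = ⁅(⟨S.q 0 (Pi.single ⟨0, hn⟩ 1), _, _, rfl⟩ : ↥S.Q), ⟨S.q (Pi.single ⟨0, hn⟩ 1, 0) 0, _, _, rfl⟩⁆ ^ k := by
      refine Subtype.ext ?_
      rw [SubgroupClass.coe_zpow, ← hk]
      congr 1
      show S.tr (e n) = ⁅S.q _ _, S.q _ _⁆
      rw [S.q_comm]
      congr 1
      simp [e, dot, Pi.single_apply]
    rw [this]; exact zpow_mem h1 k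
  refine ⟨⟨hp, le_antisymm (Grp.frattini_le_of_elementary Nat.prime_two hcomm hsq) ?_, le_antisymm hcomm hge⟩, hcz⟩
  refine hge.trans ?_
  rw [_root_.commutator_def, Subgroup.commutator_le]
  intro x _ y _
  have h1 : ∀ t : ↥S.Q, t ^ 2 ∈ frattini ↥S.Q := fun t => Grp.pGroup_pow_mem_frattini hp t
  have : ⁅x, y⁆ = x ^ 2 * (x⁻¹ * y) ^ 2 * (y⁻¹) ^ 2 := by simp only [commutatorElement_def, pow_two]; group
  rw [this]
  exact mul_mem (mul_mem (h1 _) (h1 _)) (h1 _)

/-- Transitivity on nonzero vectors. -/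
theorem trans_V {x y : V n} (hx : x ≠ 0) (hy : y ≠ 0) : ∃ g : (Module.End (ZMod 2) (V n))ˣ, g.1 x = y := by
  obtain ⟨φ, hφx, hφy⟩ : ∃ φ : V n →ₗ[ZMod 2] ZMod 2, φ x = 1 ∧ φ y = 1 := by
    obtain ⟨i, hi⟩ := Function.ne_iff.mp hx
    obtain ⟨j, hj⟩ := Function.ne_iff.mp hy
    rw [Pi.zero_apply] at hi hj
    have h01 : ∀ c : ZMod 2, c ≠ 0 → c = 1 := by decide
    by_cases h1 : y i = 1
    · exact ⟨LinearMap.proj i, h01 _ hi, h1⟩
    by_cases h2 : x j = 1
    · exact ⟨LinearMap.proj j, h2, h01 _ hj⟩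
    have hy0 : y i = 0 := (by decide : ∀ c : ZMod 2, c ≠ 1 → c = 0) _ h1
    have hx0 : x j = 0 := (by decide : ∀ c : ZMod 2, c ≠ 1 → c = 0) _ h2
    refine ⟨(LinearMap.proj i : V n →ₗ[ZMod 2] ZMod 2) + LinearMap.proj j, ?_, ?_⟩
    · show x i + x j = 1
      rw [hx0, h01 _ hi, add_zero]
    · show y i + y j = 1
      rw [hy0, h01 _ hj, zero_add]
  let f : Module.End (ZMod 2) (V n) := LinearMap.id + φ.smulRight (y + x)
  have hf : f * f = 1 := LinearMap.ext fun v => by
    show v + φ v • (y + x) + φ (v + φ v • (y + x)) • (y + x) = v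
    rw [map_add, map_smul, map_add, hφx, hφy, show (1 + 1 : ZMod 2) = 0 from rfl, smul_zero, add_zero, add_assoc,
      two_self, add_zero]
  refine ⟨⟨f, f, hf, hf⟩, ?_⟩
  show x + φ x • (y + x) = y
  rw [hφx, one_smul, add_comm y x, ← add_assoc, two_self, zero_add]

/-- No normal 2-subgroups in the linear group. -/
theorem normal_two (hn : 1 ≤ n) {N : Subgroup (Module.End (ZMod 2) (V n))ˣ} (hN : N.Normal) (h2 : IsPGroup 2 N) :
    N = ⊥ := by
  classical
  haveI : Fact (Nat.Prime 2) := ⟨Nat.prime_two⟩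
  letI : MulAction N (V n) :=
    { smul := fun g v => g.1.1 v
      one_smul := fun v => rfl
      mul_smul := fun g h v => rfl }
  have h := h2.exists_fixed_point_of_prime_dvd_card_of_fixed_point (V n)
    (by rw [Nat.card_fun, Nat.card_zmod, Nat.card_eq_fintype_card, Fintype.card_fin]; exact dvd_pow_self 2 (by omega))
    (show (0 : V n) ∈ MulAction.fixedPoints N (V n) from fun g => map_zero g.1.1)
  obtain ⟨v, hv, hv0⟩ := h
  refine (eq_bot_iff_forall _).mpr fun g hg => Units.ext (LinearMap.ext fun w => ?_)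
  by_cases hw : w = 0
  · rw [hw, map_zero, map_zero]
  obtain ⟨k, rfl⟩ := trans_V hv0.symm hw
  have h1 : ((k⁻¹ * g * k : (Module.End (ZMod 2) (V n))ˣ) : Module.End (ZMod 2) (V n)) v = v :=
    hv ⟨_, by simpa using hN.conj_mem g hg k⁻¹⟩
  have := congrArg k.1 h1
  simp only [Units.val_mul, Module.End.mul_apply] at this
  rw [← Module.End.mul_apply k.1 k⁻¹.1, Units.mul_inv] at this
  simpa using this

theorem core [Finite G] (hn : 1 ≤ n) :
    (Cfsg.pCore 2 ↥(centralizer ({S.z} : Set G))).map (centralizer ({S.z} : Set G)).subtype = S.Q := by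
  haveI : Fact (Nat.Prime 2) := ⟨Nat.prime_two⟩
  suffices h : Cfsg.pCore 2 ↥(centralizer ({S.z} : Set G)) = S.chi.ker by
    rw [h, ← S.Q_subgroupOf, map_subgroupOf_eq_of_le S.Q_le]
  refine le_antisymm ?_ (Transfer.le_pCore inferInstance ?_)
  · rw [← Subgroup.map_eq_bot_iff]
    haveI := Transfer.pCore_normal' 2 ↥(centralizer ({S.z} : Set G))
    exact normal_two hn (Normal.map inferInstance _ S.chi_surj) ((Transfer.pCore_isPGroup 2 _).map _)
  · rw [← S.Q_subgroupOf]
    exact (IsPGroup.of_card S.card_Q).of_equiv (subgroupOfEquivOfLe S.Q_le).symm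

theorem large [Finite G] (hn : 1 ≤ n) : Cfsg.IsLargeExtraspecial S.Q := by
  haveI : Fact (Nat.Prime 2) := ⟨Nat.prime_two⟩
  have hx := S.isExtraspecial hn
  have hc : centralizer (S.Q : Set G) = (Subgroup.center ↥S.Q).map S.Q.subtype := by
    refine le_antisymm (fun g hg => ?_) ?_
    · rw [mem_centralizer_iff] at hg
      have hgC : g ∈ centralizer ({S.z} : Set G) := mem_centralizer_singleton_iff.mpr (hg _ (S.U_le_Q S.z_mem)).symm
      have hgU : g ∈ U := S.ker ⟨g, S.cent_le hgC⟩ (LinearEquiv.ext fun w => S.tr_inj (by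
        rw [← S.conj_tr]
        show g * S.tr w * g⁻¹ = S.tr w
        rw [← hg _ (S.U_le_Q (S.tr_mem w))]; group))
      exact ⟨⟨g, S.U_le_Q hgU⟩, mem_center_iff.mpr fun y => Subtype.ext (hg y y.2), rfl⟩
    · rintro _ ⟨y, hy, rfl⟩
      exact mem_centralizer_iff.mpr fun h hh => congrArg Subtype.val (mem_center_iff.mp hy ⟨h, hh⟩)
  have hnorm : centralizer (((Subgroup.center ↥S.Q).map S.Q.subtype : Subgroup G) : Set G) ≤ normalizer (S.Q : Set G) := by
    rw [S.center_Q hn, zpowers_eq_closure, centralizer_closure]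
    refine (normal_subgroupOf_iff_le_normalizer S.Q_le).mp ?_
    rw [S.Q_subgroupOf]; infer_instance
  refine ⟨hx, hc, hnorm, fun K hK hQK => LargeExtra.eq_bot_of_centralized hx hc hnorm hK hQK ?_⟩
  intro t ht k hk
  suffices hKC : K ≤ centralizer ({S.z} : Set G) by
    rw [LargeExtra.zsub, S.center_Q hn] at ht
    obtain ⟨i, rfl⟩ := mem_zpowers_iff.mp ht
    exact ((Commute.symm (mem_centralizer_singleton_iff.mp (hKC hk))).zpow_left i).eq
  haveI : IsMulCommutative U := ⟨⟨fun a b => S.β.injective (by rw [S.β_mul, S.β_mul, add_comm])⟩⟩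
  have hUc : ¬ IsCyclic U := by
    intro hc'
    obtain ⟨g, hg⟩ := hc'.exists_generator
    have hcard : Nat.card U = 2 ^ (n + 1) := by
      rw [Nat.card_congr S.β, Nat.card_prod, Nat.card_fun, Nat.card_zmod, Nat.card_eq_fintype_card, Fintype.card_fin]; ring
    have h2 : g * g = 1 := S.β.injective (by
      have h0 : S.β 1 = 0 := by have := S.β_mul 1 1; rw [mul_one] at this; exact add_eq_left.mp this.symm
      rw [S.β_mul, h0]; exact Prod.ext (two_self _) (CharTwo.add_self_eq_zero _))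
    have h3 : Nat.card U ≤ 2 := by
      rw [← orderOf_eq_card_of_forall_mem_zpowers hg]
      exact Nat.le_of_dvd two_pos (orderOf_dvd_of_pow_eq_one (by rw [pow_two, h2]))
    rw [hcard, pow_succ] at h3
    have : 2 ≤ 2 ^ n := le_self_pow₀ (by norm_num) (by omega)
    omega
  have hcop : (Nat.card U).Coprime (Nat.card K) :=
    (LargeExtra.coprime_odd hx hK).coprime_dvd_left (card_dvd_of_le S.U_le_Q)
  rw [← Grp.generated_by_centralizers U K hUc (S.U_le_Q.trans hQK) hcop]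
  refine iSup₂_le fun u ⟨huU, hu1⟩ k hk => ?_
  obtain ⟨hkK, hku⟩ := mem_inf.mp hk
  have hkP : k ∈ P := S.cent u huU hu1 hku
  obtain ⟨h1, -⟩ := S.conj ⟨k, hkP⟩ ⟨S.z, S.z_mem⟩
  have h2 : k * S.z * k⁻¹ * S.z⁻¹ ∈ U ⊓ K := by
    refine mem_inf.mpr ⟨mul_mem h1 (inv_mem S.z_mem), ?_⟩
    rw [show k * S.z * k⁻¹ * S.z⁻¹ = k * (S.z * k⁻¹ * S.z⁻¹) by group]
    exact mul_mem hkK ((mem_normalizer_iff.mp (hQK (S.U_le_Q S.z_mem)) _).mp (inv_mem hkK))
  rw [Subgroup.inf_eq_bot_of_coprime hcop, mem_bot, mul_inv_eq_one, mul_inv_eq_iff_eq_mul] at h2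
  exact mem_centralizer_singleton_iff.mpr h2

/-- The conclusions, with a complement. -/
theorem main [Finite G] (hn : 1 ≤ n) :
    (Cfsg.pCore 2 ↥(centralizer ({S.z} : Set G))).map (centralizer ({S.z} : Set G)).subtype = S.Q ∧
    Cfsg.IsExtraspecial 2 ↥S.Q ∧ Nat.card S.Q = 2 ^ (2 * n + 1) ∧
    (∃ E : Subgroup G, E ≤ S.Q ∧ Cfsg.IsElementaryAbelian 2 E ∧ Nat.card E = 2 ^ (n + 1)) ∧
    Cfsg.IsLargeExtraspecial S.Q ∧
    ∃ K : Subgroup G, K ≤ centralizer ({S.z} : Set G) ∧ S.Q ⊓ K = ⊥ ∧ S.Q ⊔ K = centralizer ({S.z} : Set G) ∧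
      Nonempty (↥K ≃* Matrix.GeneralLinearGroup (Fin n) (ZMod 2)) := by
  refine ⟨S.core hn, S.isExtraspecial hn, S.card_Q, ⟨U, S.U_le_Q, ⟨⟨⟨fun a b => S.β.injective
    (by rw [S.β_mul, S.β_mul, add_comm])⟩⟩, fun u hu => ?_⟩, ?_⟩, S.large hn,
    S.comp.range.map (centralizer ({S.z} : Set G)).subtype, map_subtype_le _, ?_, ?_, ?_⟩
  · obtain ⟨w, rfl⟩ := S.tr_surj hu
    rw [pow_two, ← S.tr_add, show w + w = 0 from Prod.ext (two_self _) (CharTwo.add_self_eq_zero _), S.tr_zero]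
  · rw [Nat.card_congr S.β, Nat.card_prod, Nat.card_fun, Nat.card_zmod, Nat.card_eq_fintype_card, Fintype.card_fin]; ring
  · rw [eq_bot_iff]
    rintro x ⟨hxQ, c, ⟨g, rfl⟩, rfl⟩
    have : S.comp g ∈ S.Q.subgroupOf (centralizer ({S.z} : Set G)) := hxQ
    rw [S.Q_subgroupOf, MonoidHom.mem_ker, S.chi_comp] at this
    rw [this, map_one, map_one]; exact one_mem _
  · refine le_antisymm (sup_le S.Q_le (map_subtype_le _)) fun x hx => ?_
    have h1 : (⟨x, hx⟩ : ↥(centralizer ({S.z} : Set G))) * (S.comp (S.chi ⟨x, hx⟩))⁻¹ ∈ S.chi.ker := by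
      rw [MonoidHom.mem_ker, map_mul, map_inv, S.chi_comp, mul_inv_cancel]
    rw [← S.Q_subgroupOf, mem_subgroupOf] at h1
    have h2 : ((S.comp (S.chi ⟨x, hx⟩)) : G) ∈ S.comp.range.map (centralizer ({S.z} : Set G)).subtype :=
      Subgroup.mem_map.mpr ⟨_, ⟨_, rfl⟩, rfl⟩
    have := mul_mem (mem_sup_left (T := S.comp.range.map (centralizer ({S.z} : Set G)).subtype) h1) (mem_sup_right (S := S.Q) h2)
    simpa using this
  · exact ⟨((S.comp.range.equivMapOfInjective _ (subtype_injective _)).symm.trans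
      (MonoidHom.ofInjective (Function.LeftInverse.injective S.chi_comp)).symm).trans
      Matrix.GeneralLinearGroup.toLin.symm⟩

theorem exists_pair {x : G} (hx : x ∈ P) : ∃ w g, x = S.tr w * S.sec g :=
  ⟨_, _, (S.decomp ⟨x, hx⟩).choose_spec⟩

/-- Any two such groups have isomorphic centralizers. -/
theorem cent_iso {G' : Type*} [Group G'] {P' U' : Subgroup G'} (T : Setup P' U' n) :
    Nonempty (↥(centralizer ({S.z} : Set G)) ≃* ↥(centralizer ({T.z} : Set G'))) := by
  let F : ↥P → G' := fun p => T.tr (S.decomp p).choose * T.sec (S.act p)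
  have hF : ∀ (w : W n) (g : W n ≃ₗ[ZMod 2] W n) (h : S.tr w * S.sec g ∈ P), F ⟨_, h⟩ = T.tr w * T.sec g := by
    intro w g h
    have hs := (S.decomp ⟨_, h⟩).choose_spec
    obtain ⟨h1, h2⟩ := S.pair_inj hs
    show T.tr (S.decomp ⟨_, h⟩).choose * T.sec (S.act ⟨_, h⟩) = _
    rw [← h1, ← h2]
  let f : ↥(centralizer ({S.z} : Set G)) →* ↥(centralizer ({T.z} : Set G')) :=
    MonoidHom.mk' (fun c => ⟨F ⟨c, S.cent_le c.2⟩, by
      obtain ⟨w, g, h⟩ := S.exists_pair (S.cent_le c.2)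
      have hP : S.tr w * S.sec g ∈ P := h ▸ S.cent_le c.2
      rw [show (⟨(c : G), S.cent_le c.2⟩ : ↥P) = ⟨_, hP⟩ from Subtype.ext h, hF]
      refine (T.mem_cent (mul_mem (T.le (T.tr_mem w)) (T.sec g).2)).mpr ?_
      rw [T.act_pair, ← S.act_pair w g]
      exact (S.mem_cent _).mp (h ▸ c.2)⟩) fun c d => Subtype.ext (by
        obtain ⟨w, g, h⟩ := S.exists_pair (S.cent_le c.2)
        obtain ⟨w', g', h'⟩ := S.exists_pair (S.cent_le d.2)
        have hP : S.tr w * S.sec g ∈ P := h ▸ S.cent_le c.2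
        have hP' : S.tr w' * S.sec g' ∈ P := h' ▸ S.cent_le d.2
        have hP'' : S.tr (w + g w') * S.sec (g * g') ∈ P := S.pair_mul w w' g g' ▸ mul_mem hP hP'
        show F _ = F _ * F _
        rw [show (⟨(c : G), S.cent_le c.2⟩ : ↥P) = ⟨_, hP⟩ from Subtype.ext h,
          show (⟨(d : G), S.cent_le d.2⟩ : ↥P) = ⟨_, hP'⟩ from Subtype.ext h',
          show (⟨((c * d : ↥(centralizer ({S.z} : Set G))) : G), S.cent_le (c * d).2⟩ : ↥P) = ⟨_, hP''⟩ from
            Subtype.ext (by rw [Subgroup.coe_mul, h, h', S.pair_mul]),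
          hF, hF, hF, T.pair_mul])
  refine ⟨MulEquiv.ofBijective f ⟨fun c d hcd => ?_, fun y => ?_⟩⟩
  · obtain ⟨w, g, h⟩ := S.exists_pair (S.cent_le c.2)
    obtain ⟨w', g', h'⟩ := S.exists_pair (S.cent_le d.2)
    have hP : S.tr w * S.sec g ∈ P := h ▸ S.cent_le c.2
    have hP' : S.tr w' * S.sec g' ∈ P := h' ▸ S.cent_le d.2
    have h0 : F ⟨_, S.cent_le c.2⟩ = F ⟨_, S.cent_le d.2⟩ := congrArg Subtype.val hcd
    rw [show (⟨(c : G), S.cent_le c.2⟩ : ↥P) = ⟨_, hP⟩ from Subtype.ext h,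
      show (⟨(d : G), S.cent_le d.2⟩ : ↥P) = ⟨_, hP'⟩ from Subtype.ext h', hF, hF] at h0
    obtain ⟨rfl, rfl⟩ := T.pair_inj h0
    exact Subtype.ext (h.trans h'.symm)
  · obtain ⟨w, g, h⟩ := T.exists_pair (T.cent_le y.2)
    have hP : S.tr w * S.sec g ∈ P := mul_mem (S.le (S.tr_mem w)) (S.sec g).2
    have hC : S.tr w * S.sec g ∈ centralizer ({S.z} : Set G) := (S.mem_cent hP).mpr (by
      rw [S.act_pair, ← T.act_pair w g]
      exact (T.mem_cent _).mp (h ▸ y.2))
    exact ⟨⟨_, hC⟩, Subtype.ext ((hF w g hP).trans h.symm)⟩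

end Setup

end Cfsg.Agent.Spor.Affine
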