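import Cfsg.Agent.Lib.Spor.AffineSetup

/-! The centralizer of a transvection over two elements as an affine situation. -/

set_option autoImplicit false
set_option linter.unusedSectionVars false

namespace Cfsg.Agent.Spor.Affine.Lin

open Matrix

variable {N : ℕ}

/-- A block matrix fixing the first basis vector. -/
def blk (φ : Fin N → ZMod 2) (A : Matrix (Fin N) (Fin N) (ZMod 2)) : Matrix (Fin (N + 1)) (Fin (N + 1)) (ZMod 2) :=
  Matrix.of (Fin.cons (Fin.cons 1 φ) fun i => Fin.cons 0 (A i))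

theorem blk_mul (φ ψ : Fin N → ZMod 2) (A B : Matrix (Fin N) (Fin N) (ZMod 2)) :
    blk φ A * blk ψ B = blk (ψ + φ ᵥ* B) (A * B) := by
  ext i j
  refine Fin.cases ?_ (fun i => ?_) i <;> refine Fin.cases ?_ (fun j => ?_) j <;>
    simp [blk, Matrix.mul_apply, Fin.sum_univ_succ, vecMul, dotProduct]

theorem blk_one : blk (0 : Fin N → ZMod 2) 1 = 1 := by
  ext i j
  refine Fin.cases ?_ (fun i => ?_) i <;> refine Fin.cases ?_ (fun j => ?_) j <;>
    simp [blk, Matrix.one_apply, Fin.succ_ne_zero, (Fin.succ_ne_zero _).symm]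

theorem blk_inj {φ ψ : Fin N → ZMod 2} {A B : Matrix (Fin N) (Fin N) (ZMod 2)} (h : blk φ A = blk ψ B) :
    φ = ψ ∧ A = B :=
  ⟨funext fun j => by simpa [blk] using congrFun (congrFun h 0) j.succ,
    Matrix.ext fun i j => by simpa [blk] using congrFun (congrFun h i.succ) j.succ⟩

theorem blk_inv (φ : Fin N → ZMod 2) (A : GL (Fin N) (ZMod 2)) :
    blk φ A.1 * blk (φ ᵥ* (↑(A⁻¹) : Matrix (Fin N) (Fin N) (ZMod 2))) (↑(A⁻¹) : Matrix (Fin N) (Fin N) (ZMod 2)) = 1 := by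
  rw [blk_mul, two_self, Units.mul_inv, blk_one]

theorem det_blk (φ : Fin N → ZMod 2) (A : GL (Fin N) (ZMod 2)) : (blk φ A.1).det = 1 := by
  have h := congrArg Matrix.det (blk_inv φ A)
  rw [det_mul, det_one] at h
  rcases zmod_two (blk φ A.1).det with e | e
  · rw [e, zero_mul] at h; exact absurd h zero_ne_one
  · exact e

/-- The elements fixing the first vector. -/
def mk (φ : Fin N → ZMod 2) (A : GL (Fin N) (ZMod 2)) : SpecialLinearGroup (Fin (N + 1)) (ZMod 2) :=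
  ⟨blk φ A.1, det_blk φ A⟩

theorem mk_mul (φ ψ : Fin N → ZMod 2) (A B : GL (Fin N) (ZMod 2)) :
    mk φ A * mk ψ B = mk (ψ + φ ᵥ* B.1) (A * B) := Subtype.ext (blk_mul φ ψ A.1 B.1)

theorem mk_one : mk (0 : Fin N → ZMod 2) 1 = 1 := Subtype.ext blk_one

theorem mk_inj {φ ψ : Fin N → ZMod 2} {A B : GL (Fin N) (ZMod 2)} (h : mk φ A = mk ψ B) : φ = ψ ∧ A = B :=
  ⟨(blk_inj (congrArg Subtype.val h)).1, Units.ext (blk_inj (congrArg Subtype.val h)).2⟩

theorem mk_inv (φ : Fin N → ZMod 2) (A : GL (Fin N) (ZMod 2)) : (mk φ A)⁻¹ = mk (φ ᵥ* (A⁻¹).1) A⁻¹ :=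
  inv_eq_of_mul_eq_one_right (Subtype.ext (blk_inv φ A))

/-- The stabiliser of the first vector. -/
def P (N : ℕ) : Subgroup (SpecialLinearGroup (Fin (N + 1)) (ZMod 2)) where
  carrier := {g | ∃ φ A, mk φ A = g}
  one_mem' := ⟨0, 1, mk_one⟩
  mul_mem' := by rintro _ _ ⟨φ, A, rfl⟩ ⟨ψ, B, rfl⟩; exact ⟨_, _, (mk_mul ..).symm⟩
  inv_mem' := by rintro _ ⟨φ, A, rfl⟩; exact ⟨_, _, (mk_inv φ A).symm⟩

/-- The translations. -/
def U (N : ℕ) : Subgroup (SpecialLinearGroup (Fin (N + 1)) (ZMod 2)) where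
  carrier := {g | ∃ φ, mk φ 1 = g}
  one_mem' := ⟨0, mk_one⟩
  mul_mem' := by rintro _ _ ⟨φ, rfl⟩ ⟨ψ, rfl⟩; exact ⟨ψ + φ, by rw [mk_mul]; simp⟩
  inv_mem' := by rintro _ ⟨φ, rfl⟩; exact ⟨φ, by rw [mk_inv]; simp⟩

/-- The complement. -/
def M (N : ℕ) : Subgroup (SpecialLinearGroup (Fin (N + 1)) (ZMod 2)) where
  carrier := {g | ∃ A, mk 0 A = g}
  one_mem' := ⟨1, mk_one⟩
  mul_mem' := by rintro _ _ ⟨A, rfl⟩ ⟨B, rfl⟩; exact ⟨A * B, by rw [mk_mul]; simp⟩
  inv_mem' := by rintro _ ⟨A, rfl⟩; exact ⟨A⁻¹, by rw [mk_inv]; simp⟩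

theorem conj_mk (φ ψ : Fin N → ZMod 2) (A : GL (Fin N) (ZMod 2)) :
    mk φ A * mk ψ 1 * (mk φ A)⁻¹ = mk (ψ ᵥ* (A⁻¹).1) 1 := by
  rw [mul_inv_eq_iff_eq_mul, mk_mul, mk_mul, mul_one, one_mul, Units.val_one, vecMul_one, vecMul_vecMul, ← Units.val_mul,
    inv_mul_cancel, Units.val_one, vecMul_one, add_comm φ ψ]

theorem card_U : Nat.card (U N) = 2 ^ N := by
  let f : (Fin N → ZMod 2) → U N := fun φ => ⟨mk φ 1, φ, rfl⟩
  rw [← Nat.card_congr (Equiv.ofBijective f ⟨fun a b h => (mk_inj (congrArg Subtype.val h)).1,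
    fun ⟨g, φ, h⟩ => ⟨φ, Subtype.ext h⟩⟩), Nat.card_fun, Nat.card_zmod, Nat.card_eq_fintype_card, Fintype.card_fin]

theorem card_aut_le : Nat.card (↥(U N) ≃* ↥(U N)) ≤ Nat.card (M N) := by
  let b : (Fin N → ZMod 2) ≃ U N := Equiv.ofBijective (fun φ => ⟨mk φ 1, φ, rfl⟩)
    ⟨fun a b h => (mk_inj (congrArg Subtype.val h)).1, fun ⟨g, φ, h⟩ => ⟨φ, Subtype.ext h⟩⟩
  have hb : ∀ x y, b (x + y) = b y * b x := fun x y => Subtype.ext (by
    show mk (x + y) 1 = mk y 1 * mk x 1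
    rw [mk_mul]; simp)
  let lin : (↥(U N) ≃* ↥(U N)) → ((Fin N → ZMod 2) ≃ₗ[ZMod 2] (Fin N → ZMod 2)) := fun t =>
    let a : (Fin N → ZMod 2) ≃+ (Fin N → ZMod 2) :=
      { toEquiv := b.trans (t.toEquiv.trans b.symm)
        map_add' := fun x y => by
          show b.symm (t (b (x + y))) = b.symm (t (b x)) + b.symm (t (b y))
          apply b.injective
          rw [Equiv.apply_symm_apply, hb, hb, map_mul, Equiv.apply_symm_apply, Equiv.apply_symm_apply] }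
    a.toLinearEquiv fun c x => ZMod.map_smul a c x
  let f : (↥(U N) ≃* ↥(U N)) → M N := fun t =>
    ⟨mk 0 (GeneralLinearGroup.toLin.symm ((LinearMap.GeneralLinearGroup.generalLinearEquiv _ _).symm (lin t))), _, rfl⟩
  refine Nat.card_le_card_of_injective f fun t t' h => ?_
  have h1 := (LinearMap.GeneralLinearGroup.generalLinearEquiv (ZMod 2) (Fin N → ZMod 2)).symm.injective
    (GeneralLinearGroup.toLin.symm.injective (mk_inj (congrArg Subtype.val h)).2)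
  refine MulEquiv.ext fun u => ?_
  obtain ⟨x, rfl⟩ := b.surjective u
  exact b.symm.injective (LinearEquiv.congr_fun h1 x)

theorem cent (u : SpecialLinearGroup (Fin (N + 1)) (ZMod 2)) (hu : u ∈ U N) (hu1 : u ≠ 1) :
    Subgroup.centralizer ({u} : Set _) ≤ P N := by
  intro g hg
  obtain ⟨φ, rfl⟩ := hu
  obtain ⟨j, hj⟩ := Function.ne_iff.mp fun h : φ = 0 => hu1 (by rw [h, mk_one])
  have hc : g.1 * blk φ 1 = blk φ 1 * g.1 := congrArg Subtype.val
    ((Subgroup.mem_centralizer_singleton_iff (G := SpecialLinearGroup (Fin (N + 1)) (ZMod 2))).mp hg)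
  have hcol : ∀ i : Fin N, g.1 i.succ 0 = 0 := fun i => by
    have h := congrFun (congrFun hc i.succ) j.succ
    simp [Matrix.mul_apply, Fin.sum_univ_succ, blk, Matrix.one_apply] at h
    rw [Pi.zero_apply] at hj
    exact h.resolve_right hj
  have h00 : g.1 0 0 = 1 := by
    refine (zmod_two _).resolve_left fun h => ?_
    have := det_eq_zero_of_column_eq_zero 0 (A := g.1) (Fin.cases h hcol)
    rw [g.2] at this
    exact one_ne_zero this
  let A : Matrix (Fin N) (Fin N) (ZMod 2) := Matrix.of fun i k => g.1 i.succ k.succ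
  let B : Matrix (Fin N) (Fin N) (ZMod 2) := Matrix.of fun i k => (g⁻¹).1 i.succ k.succ
  have hAB : A * B = 1 := Matrix.ext fun i k => by
    have h0 : g.1 * (g⁻¹).1 = 1 := congrArg Subtype.val (mul_inv_cancel g)
    have h := congrFun (congrFun h0 i.succ) k.succ
    rw [Matrix.mul_apply, Fin.sum_univ_succ, hcol, zero_mul, zero_add] at h
    rw [Matrix.mul_apply]
    refine h.trans ?_
    simp [Matrix.one_apply]
  refine ⟨fun k => g.1 0 k.succ, ⟨A, B, hAB, mul_eq_one_comm.mp hAB⟩, Subtype.ext (Matrix.ext fun i k => ?_)⟩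
  refine Fin.cases ?_ (fun i => ?_) i <;> refine Fin.cases ?_ (fun k => ?_) k <;>
    simp [mk, blk, A, h00, hcol]

/-- The situation for the transvection. -/
theorem exists_setup_sl (n : ℕ) (z : SpecialLinearGroup (Fin (n + 2)) (ZMod 2))
    (hz : (z : Matrix (Fin (n + 2)) (Fin (n + 2)) (ZMod 2)) = Matrix.transvection 0 1 1) :
    ∃ S : Setup (P (n + 1)) (U (n + 1)) n, S.z = z := by
  have hze : z = mk (Pi.single 0 1) 1 := Subtype.ext (by
    rw [hz]
    have hs : ∀ k : Fin (n + 1), (1 : Fin (n + 2)) = k.succ ↔ k = 0 := fun k => by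
      rw [← Fin.succ_zero_eq_one]; exact Fin.succ_inj.trans eq_comm
    ext i j
    refine Fin.cases ?_ (fun i => ?_) i <;> refine Fin.cases ?_ (fun j => ?_) j <;>
      simp [mk, blk, transvection, Matrix.one_apply, Matrix.single, Pi.single_apply, Fin.succ_ne_zero,
        (Fin.succ_ne_zero _).symm, hs])
  refine exists_setup (M := M (n + 1)) ?_ ?_ ?_ ?_ ⟨⟨⟨?_⟩⟩, ?_⟩ card_U ?_
    (full_of_card ?_ ?_ card_aut_le) cent (hze ▸ ⟨_, rfl⟩) ?_
  · rintro _ ⟨φ, rfl⟩; exact ⟨φ, 1, rfl⟩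
  · rintro _ ⟨A, rfl⟩; exact ⟨0, A, rfl⟩
  · rintro _ ⟨φ, A, rfl⟩ _ ⟨ψ, rfl⟩; exact ⟨_, (conj_mk φ ψ A).symm⟩
  · rintro _ ⟨φ, A, rfl⟩
    exact ⟨_, ⟨φ ᵥ* (A⁻¹).1, rfl⟩, _, ⟨A, rfl⟩, by
      rw [mk_mul, one_mul, zero_add, vecMul_vecMul, ← Units.val_mul, inv_mul_cancel, Units.val_one, vecMul_one]⟩
  · rintro ⟨_, φ, rfl⟩ ⟨_, ψ, rfl⟩
    refine Subtype.ext ?_
    show mk φ 1 * mk ψ 1 = mk ψ 1 * mk φ 1
    rw [mk_mul, mk_mul]; simp [add_comm]
  · rintro _ ⟨φ, rfl⟩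
    rw [pow_two, mk_mul, Units.val_one, vecMul_one, two_self, one_mul, mk_one]
  iterate 2
    rintro _ ⟨A, rfl⟩
    first
      | (intro h
         suffices A⁻¹ = 1 by rw [inv_eq_one.mp this, mk_one]
         refine Units.ext (Matrix.ext fun i k => ?_)
         have h2 := congrFun (mk_inj ((conj_mk 0 (Pi.single i 1) A).symm.trans (h _ ⟨_, rfl⟩))).1 k
         rw [single_one_vecMul] at h2
         rw [Units.val_one, Matrix.one_apply]
         simpa [Pi.single_apply, eq_comm] using h2)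
      | (rintro _ ⟨ψ, rfl⟩; exact ⟨_, (conj_mk 0 ψ A).symm⟩)
  · rintro _ ⟨A, rfl⟩ h
    suffices A⁻¹ = 1 by rw [inv_eq_one.mp this, mk_one]
    refine Units.ext (Matrix.ext fun i k => ?_)
    have h2 := congrFun (mk_inj ((conj_mk 0 (Pi.single i 1) A).symm.trans (h _ ⟨_, rfl⟩))).1 k
    rw [single_one_vecMul] at h2
    rw [Units.val_one, Matrix.one_apply]
    simpa [Pi.single_apply, eq_comm] using h2
  · intro h
    rw [hze, ← mk_one] at h
    simpa using congrFun (mk_inj h).1 0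

/-- Over two elements the special and general linear groups agree. -/
theorem sl_equiv_gl (n : ℕ) : Nonempty (SpecialLinearGroup (Fin n) (ZMod 2) ≃* GL (Fin n) (ZMod 2)) := by
  refine ⟨MulEquiv.ofBijective SpecialLinearGroup.toGL ⟨fun a b h => Subtype.ext (congrArg Units.val h), fun g => ?_⟩⟩
  have hd : g.1.det = 1 := by
    have h := congrArg Matrix.det g.mul_inv
    rw [det_mul, det_one] at h
    rcases zmod_two g.1.det with e | e
    · rw [e, zero_mul] at h; exact absurd h zero_ne_one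
    · exact e
  exact ⟨⟨g.1, hd⟩, Units.ext rfl⟩

end Cfsg.Agent.Spor.Affine.Lin
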