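import Cfsg.Agent.Lib.Spor.AffineThreeData

/-! Coordinates on a system of triples on nine points in which two points determine a triple. -/

set_option autoImplicit false
set_option maxHeartbeats 1600000

namespace Cfsg.Agent.Spor.AG3

open Finset

variable {α : Type*} [DecidableEq α]

/-- Nine points with triples through every pair. -/
structure Nine (P : Finset α) (Ln : Finset α → Prop) : Prop where
  card : P.card = 9
  sub : ∀ l, Ln l → l ⊆ P ∧ l.card = 3
  ex : ∀ p ∈ P, ∀ q ∈ P, p ≠ q → ∃ l, Ln l ∧ p ∈ l ∧ q ∈ l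
  uniq : ∀ l m p q, Ln l → Ln m → p ≠ q → p ∈ l → q ∈ l → p ∈ m → q ∈ m → l = m

variable {P : Finset α} {Ln : Finset α → Prop}

/-- The third point. -/
theorem exists_third (h : Nine P Ln) {p q : α} (hp : p ∈ P) (hq : q ∈ P) (hpq : p ≠ q) :
    ∃ r ∈ P, r ≠ p ∧ r ≠ q ∧ Ln {p, q, r} := by
  obtain ⟨l, hl, pl, ql⟩ := h.ex p hp q hq hpq
  obtain ⟨hs, hc⟩ := h.sub l hl
  obtain ⟨r, hr, hrn⟩ : ∃ r ∈ l, r ∉ ({p, q} : Finset α) := by
    by_contra hall
    push Not at hall
    have := card_le_card (show l ⊆ {p, q} from hall)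
    rw [hc, card_pair hpq] at this; omega
  simp only [mem_insert, mem_singleton, not_or] at hrn
  refine ⟨r, hs hr, hrn.1, hrn.2, ?_⟩
  rwa [eq_of_subset_of_card_le (show ({p, q, r} : Finset α) ⊆ l by simp [insert_subset_iff, pl, ql, hr])
    (by rw [hc, card_insert_of_notMem (by simp [hpq, Ne.symm hrn.1]), card_pair (Ne.symm hrn.2)])]

/-- Coordinates from three points in general position. -/
theorem coords (h : Nine P Ln) {u v w : α} (hu : u ∈ P) (hv : v ∈ P) (hw : w ∈ P) (huv : u ≠ v) (huw : u ≠ w)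
    (hvw : v ≠ w) (hnc : ¬ Ln {u, v, w}) :
    ∃ c : Fin 9 → α, Function.Injective c ∧ univ.image c = P ∧ c 0 = u ∧ c 1 = v ∧ c 3 = w ∧
      (∀ l ∈ lines, Ln (l.image c)) ∧ ∀ l, Ln l → ∃ l' ∈ lines, l'.image c = l := by
  classical
  have hT : ∀ p q, ∃ r, p ∈ P → q ∈ P → p ≠ q → r ∈ P ∧ r ≠ p ∧ r ≠ q ∧ Ln {p, q, r} := fun p q => by
    by_cases hc : p ∈ P ∧ q ∈ P ∧ p ≠ q
    · obtain ⟨r, hr⟩ := exists_third h hc.1 hc.2.1 hc.2.2
      exact ⟨r, fun _ _ _ => hr⟩
    · exact ⟨p, fun a b d => absurd ⟨a, b, d⟩ hc⟩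
  choose T hT using hT
  have hmem : ∀ p q r, ({p, q, r} : Finset α) = {q, p, r} ∧ ({p, q, r} : Finset α) = {p, r, q} := fun p q r =>
    ⟨by ext; simp [or_comm, or_left_comm, or_assoc], by ext; simp [or_comm, or_left_comm, or_assoc]⟩
  have tsym : ∀ p q, p ∈ P → q ∈ P → p ≠ q → T q p = T p q ∧ T p (T p q) = q := by
    intro p q hp hq hpq
    obtain ⟨r1, r2, r3, r4⟩ := hT p q hp hq hpq
    obtain ⟨s1, s2, s3, s4⟩ := hT q p hq hp hpq.symm
    obtain ⟨t1, t2, t3, t4⟩ := hT p (T p q) hp r1 r2.symm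
    constructor
    · have := h.uniq _ _ p q r4 s4 hpq (by simp) (by simp) (by simp) (by simp)
      have hm : T q p ∈ ({p, q, T p q} : Finset α) := this ▸ (by simp)
      simp only [mem_insert, mem_singleton] at hm
      exact (hm.resolve_left s3).resolve_left s2
    · have := h.uniq _ _ p (T p q) r4 t4 r2.symm (by simp) (by simp) (by simp) (by simp)
      have hm : T p (T p q) ∈ ({p, q, T p q} : Finset α) := this ▸ (by simp)
      simp only [mem_insert, mem_singleton] at hm
      rcases hm with e | e | e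
      · exact absurd e t2
      · exact e
      · exact absurd e t3
  -- two lines through different points
  have cancel : ∀ p q q', p ∈ P → q ∈ P → q' ∈ P → p ≠ q → p ≠ q' → T p q = T p q' → q = q' := by
    intro p q q' hp hq hq' n n' e
    rw [← (tsym p q hp hq n).2, e, (tsym p q' hp hq' n').2]
  -- the last line through a point
  have fourth : ∀ p q1 q2 q3 r s, p ∈ P → q1 ∈ P → q2 ∈ P → q3 ∈ P → r ∈ P → s ∈ P → p ≠ q1 → p ≠ q2 → p ≠ q3 →
      p ≠ r → r ∉ ({q1, T p q1, q2, T p q2, q3, T p q3} : Finset α) →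
      P = {p, q1, T p q1, q2, T p q2, q3, T p q3, r, s} → T p r = s := by
    intro p q1 q2 q3 r s hp h1 h2 h3 hr hs n1 n2 n3 nr hout hP
    obtain ⟨a1, a2, a3, -⟩ := hT p r hp hr nr
    rw [hP] at a1
    simp only [mem_insert, mem_singleton, not_or] at a1 hout
    have key : ∀ q, q ∈ P → p ≠ q → T p r = q → r = T p q := fun q hq nq e => by
      rw [← e, (tsym p r hp hr nr).2]
    rcases a1 with e | e | e | e | e | e | e | e | e
    · exact absurd e a2
    · exact absurd (key _ h1 n1 e) hout.2.1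
    · exact absurd (cancel p r q1 hp hr h1 nr n1 e) hout.1
    · exact absurd (key _ h2 n2 e) hout.2.2.2.1
    · exact absurd (cancel p r q2 hp hr h2 nr n2 e) hout.2.2.1
    · exact absurd (key _ h3 n3 e) hout.2.2.2.2.2
    · exact absurd (cancel p r q3 hp hr h3 nr n3 e) hout.2.2.2.2.1
    · exact absurd e a3
    · exact e
  set a := T u v with ha
  set b := T u w with hb
  obtain ⟨aP, au, av, la⟩ := hT u v hu hv huv
  obtain ⟨bP, bu, bw, lb⟩ := hT u w hu hw huw
  rw [← ha] at aP au av la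
  rw [← hb] at bP bu bw lb
  have aw : a ≠ w := fun e => hnc (by rw [e] at la; exact la)
  have bv : b ≠ v := fun e => hnc (by rw [e] at lb; rwa [(hmem u v w).2])
  have ab : a ≠ b := fun e => hvw (cancel u v w hu hv hw huv huw e)
  -- crossing lines meet the two given ones only in their own points
  have off : ∀ p q, p ∈ ({v, a} : Finset α) → q ∈ ({w, b} : Finset α) →
      T p q ∈ P ∧ T p q ∉ ({u, v, a, w, b} : Finset α) := by
    intro p q hp hq
    have hl1 : Ln {u, v, a} := la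
    have hl2 : Ln {u, w, b} := lb
    simp only [mem_insert, mem_singleton] at hp hq
    have hpP : p ∈ P := by rcases hp with rfl | rfl <;> assumption
    have hqP : q ∈ P := by rcases hq with rfl | rfl <;> assumption
    have hpu : p ≠ u := by rcases hp with rfl | rfl; exacts [huv.symm, au]
    have hqu : q ≠ u := by rcases hq with rfl | rfl; exacts [huw.symm, bu]
    have hpin : p ∈ ({u, v, a} : Finset α) := by rcases hp with rfl | rfl <;> simp
    have hqin : q ∈ ({u, w, b} : Finset α) := by rcases hq with rfl | rfl <;> simp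
    have hpq : p ≠ q := by
      rcases hp with rfl | rfl <;> rcases hq with rfl | rfl
      exacts [hvw, bv.symm, aw, ab]
    obtain ⟨x1, x2, x3, x4⟩ := hT p q hpP hqP hpq
    refine ⟨x1, fun hx => ?_⟩
    simp only [mem_insert, mem_singleton] at hx
    have c1 : T p q ∈ ({u, v, a} : Finset α) → False := fun hh => by
      have e := h.uniq _ _ p (T p q) hl1 x4 x2.symm hpin hh (by simp) (by simp)
      have hq1 : q ∈ ({u, v, a} : Finset α) := e ▸ (by simp)
      simp only [mem_insert, mem_singleton] at hq1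
      rcases hq with rfl | rfl <;> rcases hq1 with e | e | e
      exacts [hqu e, hvw e.symm, aw e.symm, hqu e, bv e, ab e.symm]
    have c2 : T p q ∈ ({u, w, b} : Finset α) → False := fun hh => by
      have e := h.uniq _ _ q (T p q) hl2 x4 x3.symm hqin hh (by simp) (by simp)
      have hp1 : p ∈ ({u, w, b} : Finset α) := e ▸ (by simp)
      simp only [mem_insert, mem_singleton] at hp1
      rcases hp with rfl | rfl <;> rcases hp1 with e | e | e
      exacts [hpu e, hvw e, bv e.symm, hpu e, aw e, ab e]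
    rcases hx with e | e | e | e | e
    · exact c1 (by simp [e])
    · exact c1 (by simp [e])
    · exact c1 (by simp [e])
    · exact c2 (by simp [e])
    · exact c2 (by simp [e])
  set d := T a b with hd
  set x5 := T v b with h5
  set x7 := T a w with h7
  set x8 := T v w with h8
  obtain ⟨dP, dn⟩ := off a b (by simp) (by simp)
  obtain ⟨P5, n5⟩ := off v b (by simp) (by simp)
  obtain ⟨P7, n7⟩ := off a w (by simp) (by simp)
  obtain ⟨P8, n8⟩ := off v w (by simp) (by simp)
  rw [← hd] at dP dn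
  rw [← h5] at P5 n5
  rw [← h7] at P7 n7
  rw [← h8] at P8 n8
  simp only [mem_insert, mem_singleton, not_or] at dn n5 n7 n8
  -- opposite crossings differ
  have opp : ∀ p p' q q', p ∈ P → p' ∈ P → q ∈ P → q' ∈ P → p' = T u p → q' = T u q → T p q = T p' q' →
      p ≠ q → p ≠ u → q ≠ u → p ≠ q' → p' ≠ q → p' ≠ q' → T p q ∉ ({u, p, p', q, q'} : Finset α) →
      T p q' ∉ ({u, p, p', q, q'} : Finset α) → False := by
    intro p p' q q' hp hp' hq hq' ep eq he npq npu nqu npq' np'q np'q' hX hr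
    set X := T p q with hXdef
    set r := T p q' with hrdef
    obtain ⟨XP, -, -, lX⟩ := hT p q hp hq npq
    obtain ⟨rP, r2, r3, lr⟩ := hT p q' hp hq' npq'
    rw [← hXdef] at XP
    rw [← hrdef] at rP r2 r3
    simp only [mem_insert, mem_singleton, not_or] at hX hr
    obtain ⟨-, pu', pp', -⟩ := hT u p hu hp npu.symm
    obtain ⟨-, qu', qq', -⟩ := hT u q hu hq nqu.symm
    rw [← ep] at pu' pp'
    rw [← eq] at qu' qq'
    have rX : r ≠ X := fun e => qq' (cancel p q q' hp hq hq' npq npq' e.symm).symm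
    have h7' : ({u, p, p', q, q', X, r} : Finset α).card = 7 := by
      rw [card_insert_of_notMem (by simp [npu.symm, Ne.symm pu', nqu.symm, Ne.symm qu', Ne.symm hX.1, Ne.symm hr.1]),
        card_insert_of_notMem (by simp [Ne.symm pp', npq, npq', Ne.symm hX.2.1, r2.symm]),
        card_insert_of_notMem (by simp [np'q, np'q', Ne.symm hX.2.2.1, Ne.symm hr.2.2.1]),
        card_insert_of_notMem (by simp [Ne.symm qq', Ne.symm hX.2.2.2.1, Ne.symm hr.2.2.2.1]),
        card_insert_of_notMem (by simp [Ne.symm hX.2.2.2.2, r3.symm]), card_pair rX.symm]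
    have hsub : ({u, p, p', q, q', X, r} : Finset α) ⊆ P := by
      simp [insert_subset_iff, hu, hp, hp', hq, hq', XP, rP]
    obtain ⟨y, z, hyz, hrest⟩ := card_eq_two.mp (show (P \ {u, p, p', q, q', X, r}).card = 2 by
      rw [card_sdiff_of_subset hsub, h.card, h7'])
    have hy : y ∈ P \ {u, p, p', q, q', X, r} := by rw [hrest]; simp
    have hz : z ∈ P \ {u, p, p', q, q', X, r} := by rw [hrest]; simp
    simp only [mem_sdiff, mem_insert, mem_singleton, not_or] at hy hz
    have hPeq : P = {p, u, p', q, X, q', r, y, z} := by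
      rw [← sdiff_union_of_subset hsub, hrest]; ext; simp [or_comm, or_left_comm, or_assoc]
    have tu : T p u = p' := by rw [(tsym u p hu hp npu.symm).1, ep]
    have e1 : T p y = z := fourth p u q q' y z hp hu hq hq' hy.1 hz.1 npu npq npq' (Ne.symm hy.2.2.1)
      (by simp [hy, tu, ← hXdef, ← hrdef]) (by rw [tu, ← hXdef, ← hrdef]; exact hPeq)
    have tq : T q' u = q := by
      rw [(tsym u q' hu hq' qu'.symm).1, eq]; exact (tsym u q hu hq nqu.symm).2
    have tp' : T q' p' = X := by rw [(tsym p' q' hp' hq' np'q').1]; exact he.symm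
    have tp : T q' p = r := by rw [(tsym p q' hp hq' npq').1]
    have e2 : T q' y = z := fourth q' u p' p y z hq' hu hp' hp hy.1 hz.1 qu' np'q'.symm npq'.symm
      (Ne.symm hy.2.2.2.2.2.1) (by simp [hy, tq, tp', tp]) (by rw [tq, tp', tp, hPeq]; ext; simp [or_comm, or_left_comm, or_assoc])
    -- the two lines share the pair `y`, `z`
    obtain ⟨-, -, -, ly⟩ := hT p y hp hy.1 (Ne.symm hy.2.2.1)
    obtain ⟨-, -, -, ly'⟩ := hT q' y hq' hy.1 (Ne.symm hy.2.2.2.2.2.1)
    rw [e1] at ly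
    rw [e2] at ly'
    have heq := h.uniq _ _ y z ly ly' hyz (by simp) (by simp) (by simp) (by simp)
    have hpm : p ∈ ({q', y, z} : Finset α) := heq ▸ (by simp)
    simp only [mem_insert, mem_singleton] at hpm
    rcases hpm with e | e | e
    · exact npq' e
    · exact hy.2.2.1 e.symm
    · exact hz.2.2.1 e.symm
  have tva : a = T u v := ha
  have tab : v = T u a := (tsym u v hu hv huv).2.symm
  have twb : b = T u w := hb
  have tbw : w = T u b := (tsym u w hu hw huw).2.symm
  have d5 : d ≠ x5 := fun e => av (cancel b a v bP aP hv ab.symm bv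
    (by rw [(tsym a b aP bP ab).1, (tsym v b hv bP bv.symm).1]; exact e))
  have d7 : d ≠ x7 := fun e => bw (cancel a b w aP bP hw ab aw e)
  have n57' : x8 ≠ d := fun e => opp v a w b hv aP hw bP tva twb e hvw huv.symm huw.symm bv.symm aw ab
    (by rw [← h8]; simp [n8]) (by rw [← h5]; simp [n5])
  have n57 : x5 ≠ x7 := fun e => opp v a b w hv aP bP hw tva tbw e bv.symm huv.symm bu hvw ab aw
    (by rw [← h5]; simp [n5]) (by rw [← h8]; simp [n8])
  have d8 : x5 ≠ x8 := fun e => bw (cancel v b w hv bP hw bv.symm hvw e)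
  have d78 : x7 ≠ x8 := fun e => av (cancel w a v hw aP hv aw.symm hvw.symm
    (by rw [(tsym a w aP hw aw).1, (tsym v w hv hw hvw).1]; exact e))
  let c : Fin 9 → α := ![u, v, a, w, d, x5, b, x7, x8]
  have cinj : Function.Injective c := by
    have hnd : ([u, v, a, w, d, x5, b, x7, x8] : List α).Nodup := by
      simp [List.nodup_cons, huv, Ne.symm au, huw, Ne.symm dn.1, Ne.symm n5.1, Ne.symm bu, Ne.symm n7.1, Ne.symm n8.1,
        Ne.symm av, hvw, Ne.symm dn.2.1, Ne.symm n5.2.1, Ne.symm bv, Ne.symm n7.2.1, Ne.symm n8.2.1,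
        aw, Ne.symm dn.2.2.1, Ne.symm n5.2.2.1, ab, Ne.symm n7.2.2.1, Ne.symm n8.2.2.1,
        Ne.symm dn.2.2.2.1, Ne.symm n5.2.2.2.1, Ne.symm bw, Ne.symm n7.2.2.2.1, Ne.symm n8.2.2.2.1,
        d5, dn.2.2.2.2, d7, Ne.symm n57', n5.2.2.2.2, n57, d8, Ne.symm n7.2.2.2.2, Ne.symm n8.2.2.2.2, d78]
    intro i j e
    exact Fin.ext ((List.nodup_iff_injective_getElem.mp hnd) (a₁ := ⟨i.val, i.2⟩) (a₂ := ⟨j.val, j.2⟩)
      (by fin_cases i <;> fin_cases j <;> exact e) |> congrArg Fin.val)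
  have cP : ∀ i, c i ∈ P := by intro i; fin_cases i <;> assumption
  have himg : univ.image c = P := eq_of_subset_of_card_le (fun x hx => by
    obtain ⟨i, -, rfl⟩ := mem_image.mp hx; exact cP i) (by rw [h.card, card_image_of_injective _ cinj]; rfl)
  have hPc : P = {u, v, a, w, d, x5, b, x7, x8} := by
    rw [← himg]; ext x
    simp only [mem_image, mem_univ, true_and, mem_insert, mem_singleton]
    constructor
    · rintro ⟨i, rfl⟩; fin_cases i <;> simp [c]
    · rintro (e | e | e | e | e | e | e | e | e)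
      exacts [⟨0, e.symm⟩, ⟨1, e.symm⟩, ⟨2, e.symm⟩, ⟨3, e.symm⟩, ⟨4, e.symm⟩, ⟨5, e.symm⟩, ⟨6, e.symm⟩, ⟨7, e.symm⟩, ⟨8, e.symm⟩]
  have ne : ∀ i j : Fin 9, i ≠ j → c i ≠ c j := fun i j hij e => hij (cinj e)
  have l0 : Ln {u, v, a} := la
  have l1 : Ln {u, w, b} := lb
  have l2 : Ln {v, w, x8} := (hT v w hv hw hvw).2.2.2
  have l3 : Ln {v, b, x5} := (hT v b hv bP bv.symm).2.2.2
  have l4 : Ln {a, w, x7} := (hT a w aP hw aw).2.2.2
  have l5 : Ln {a, b, d} := (hT a b aP bP ab).2.2.2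
  have tvu : T v u = a := (tsym u v hu hv huv).1
  have tau : T a u = v := by rw [(tsym u a hu aP au.symm).1, ← tab]
  have twu : T w u = b := (tsym u w hu hw huw).1
  have tbu : T b u = w := by rw [(tsym u b hu bP bu.symm).1, ← tbw]
  have twv : T w v = x8 := (tsym v w hv hw hvw).1
  have twa : T w a = x7 := (tsym a w aP hw aw).1
  have tbv : T b v = x5 := (tsym v b hv bP bv.symm).1
  have tba : T b a = d := (tsym a b aP bP ab).1
  have f1 : T v d = x7 := fourth v u w b d x7 hv hu hw bP dP P7 huv.symm hvw bv.symm (ne 1 4 (by decide))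
    (by simp [tvu, ← h8, ← h5, dn, d5, Ne.symm n57']) (by rw [tvu, ← h8, ← h5, hPc]; ext; simp [or_comm, or_left_comm, or_assoc])
  have f2 : T a x5 = x8 := fourth a u w b x5 x8 aP hu hw bP P5 P8 au aw ab (ne 2 5 (by decide))
    (by simp [tau, ← h7, ← hd, n5, n57, Ne.symm d5]) (by rw [tau, ← h7, ← hd, hPc]; ext; simp [or_comm, or_left_comm, or_assoc])
  have f3 : T w d = x5 := fourth w u v a d x5 hw hu hv aP dP P5 huw.symm hvw.symm aw.symm (ne 3 4 (by decide))
    (by simp [twu, twv, twa, dn, d7, Ne.symm n57']) (by rw [twu, twv, twa, hPc]; ext; simp [or_comm, or_left_comm, or_assoc])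
  have f4 : T b x7 = x8 := fourth b u v a x7 x8 bP hu hv aP P7 P8 bu bv ab.symm (ne 6 7 (by decide))
    (by simp [tbu, tbv, tba, n7, Ne.symm n57, Ne.symm d7]) (by rw [tbu, tbv, tba, hPc]; ext; simp [or_comm, or_left_comm, or_assoc])
  have tda : T d a = b := by rw [(tsym a d aP dP (ne 2 4 (by decide))).1, hd]; exact (tsym a b aP bP ab).2
  have tdv : T d v = x7 := by rw [(tsym v d hv dP (ne 1 4 (by decide))).1, f1]
  have tdw : T d w = x5 := by rw [(tsym w d hw dP (ne 3 4 (by decide))).1, f3]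
  have f5 : T d u = x8 := fourth d a v w u x8 dP aP hv hw hu P8 dn.2.2.1 dn.2.1 dn.2.2.2.1 dn.1
    (by simp [tda, tdv, tdw, huv, huw, Ne.symm au, Ne.symm bu, Ne.symm n5.1, Ne.symm n7.1])
    (by rw [tda, tdv, tdw, hPc]; ext; simp [or_comm, or_left_comm, or_assoc])
  have t5b : T x5 b = v := by rw [(tsym b x5 bP P5 (ne 6 5 (by decide))).1, ← tbv]; exact (tsym b v bP hv bv).2
  have t5a : T x5 a = x8 := by rw [(tsym a x5 aP P5 (ne 2 5 (by decide))).1, f2]
  have t5w : T x5 w = d := by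
    rw [(tsym w x5 hw P5 (ne 3 5 (by decide))).1, ← f3]; exact (tsym w d hw dP (ne 3 4 (by decide))).2
  have f6 : T x5 u = x7 := fourth x5 b a w u x7 P5 bP aP hw hu P7 n5.2.2.2.2 n5.2.2.1 n5.2.2.2.1 n5.1
    (by simp [t5b, t5a, t5w, huv, huw, Ne.symm au, Ne.symm bu, Ne.symm dn.1, Ne.symm n8.1])
    (by rw [t5b, t5a, t5w, hPc]; ext; simp [or_comm, or_left_comm, or_assoc])
  have l6 : Ln {v, d, x7} := f1 ▸ (hT v d hv dP (ne 1 4 (by decide))).2.2.2
  have l7 : Ln {a, x5, x8} := f2 ▸ (hT a x5 aP P5 (ne 2 5 (by decide))).2.2.2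
  have l8 : Ln {w, d, x5} := f3 ▸ (hT w d hw dP (ne 3 4 (by decide))).2.2.2
  have l9 : Ln {b, x7, x8} := f4 ▸ (hT b x7 bP P7 (ne 6 7 (by decide))).2.2.2
  have l10 : Ln {d, u, x8} := f5 ▸ (hT d u dP hu dn.1).2.2.2
  have l11 : Ln {x5, u, x7} := f6 ▸ (hT x5 u P5 hu n5.1).2.2.2
  have hlines : ∀ l ∈ lines, Ln (l.image c) := by
    have hm : lines = [{0, 1, 2}, {0, 3, 6}, {0, 4, 8}, {0, 5, 7}, {1, 3, 8}, {1, 4, 7}, {1, 5, 6}, {2, 3, 7}, {2, 4, 6},
        {2, 5, 8}, {3, 4, 5}, {6, 7, 8}] := by decide +kernel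
    intro l hl
    rw [hm] at hl
    simp only [List.mem_cons, List.not_mem_nil, or_false] at hl
    rcases hl with rfl | rfl | rfl | rfl | rfl | rfl | rfl | rfl | rfl | rfl | rfl | rfl <;>
      simp only [image_insert, image_singleton]
    · exact l0
    · exact l1
    · show Ln {u, d, x8}; rw [(hmem u d x8).1]; exact l10
    · show Ln {u, x5, x7}; rw [(hmem u x5 x7).1]; exact l11
    · exact l2
    · exact l6
    · show Ln {v, x5, b}; rw [(hmem v x5 b).2]; exact l3
    · exact l4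
    · show Ln {a, d, b}; rw [(hmem a d b).2]; exact l5
    · exact l7
    · exact l8
    · exact l9
  refine ⟨c, cinj, himg, rfl, rfl, rfl, hlines, fun l hl => ?_⟩
  obtain ⟨hs, hc⟩ := h.sub l hl
  obtain ⟨p, hp, q, hq, hpq⟩ := one_lt_card.mp (show 1 < l.card by omega)
  obtain ⟨i, -, rfl⟩ := mem_image.mp (himg.symm ▸ hs hp : p ∈ univ.image c)
  obtain ⟨j, -, rfl⟩ := mem_image.mp (himg.symm ▸ hs hq : q ∈ univ.image c)
  have hij : i ≠ j := fun e => hpq (by rw [e])
  refine ⟨{i, j, thr i j}, line_thr i j hij, h.uniq _ _ (c i) (c j) (hlines _ (line_thr i j hij)) hl hpq ?_ ?_ hp hq⟩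
  · exact mem_image_of_mem _ (by simp)
  · exact mem_image_of_mem _ (by simp)

end Cfsg.Agent.Spor.AG3
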