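import Cfsg.Agent.Lib.Spor.AffineExtraspecial

/-! Recognizing the affine situation from a translation subgroup and a complement. -/

set_option autoImplicit false
set_option linter.style.haveILetI false
set_option linter.unusedSectionVars false

namespace Cfsg.Agent.Spor.Affine

open Subgroup

/-- Moving a nonzero vector to the distinguished one. -/
theorem move_e {n : ℕ} {w : W n} (hw : w ≠ 0) : ∃ g : W n ≃ₗ[ZMod 2] W n, g w = e n := by
  obtain ⟨φ, hφw, hφe⟩ : ∃ φ : W n →ₗ[ZMod 2] ZMod 2, φ w = 1 ∧ φ (e n) = 1 := by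
    rcases zmod_two w.2 with h | h
    · obtain ⟨i, hi⟩ := Function.ne_iff.mp fun h1 : w.1 = 0 => hw (Prod.ext h1 h)
      rw [Pi.zero_apply] at hi
      refine ⟨LinearMap.snd _ _ _ + (LinearMap.proj i : V n →ₗ[ZMod 2] ZMod 2).comp (LinearMap.fst _ _ _), ?_, ?_⟩
      · show w.2 + w.1 i = 1
        rw [h, (zmod_two (w.1 i)).resolve_left hi, zero_add]
      · show (1 : ZMod 2) + (0 : ZMod 2) = 1
        rfl
    · exact ⟨LinearMap.snd _ _ _, h, rfl⟩
  have two : ∀ x : W n, x + x = 0 := fun x => Prod.ext (two_self _) (CharTwo.add_self_eq_zero _)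
  let f : W n →ₗ[ZMod 2] W n := LinearMap.id + φ.smulRight (e n + w)
  have hf : Function.Involutive f := fun v => by
    show v + φ v • (e n + w) + φ (v + φ v • (e n + w)) • (e n + w) = v
    rw [map_add, map_smul, map_add, hφw, hφe, show (1 + 1 : ZMod 2) = 0 from rfl, smul_zero, add_zero, add_assoc, two,
      add_zero]
  refine ⟨LinearEquiv.ofInvolutive f hf, ?_⟩
  show w + φ w • (e n + w) = e n
  rw [hφw, one_smul, add_comm (e n) w, ← add_assoc, two, zero_add]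

variable {G : Type*} [Group G] [Finite G]

/-- The situation from a complement inducing all automorphisms. -/
theorem exists_setup {P U M : Subgroup G} {n : ℕ} (hUP : U ≤ P) (hMP : M ≤ P)
    (hnorm : ∀ p ∈ P, ∀ u ∈ U, p * u * p⁻¹ ∈ U) (hsup : ∀ p ∈ P, ∃ u ∈ U, ∃ m ∈ M, p = u * m)
    (hel : Cfsg.IsElementaryAbelian 2 U) (hcard : Nat.card U = 2 ^ (n + 1))
    (hfaith : ∀ m ∈ M, (∀ u ∈ U, m * u * m⁻¹ = u) → m = 1)
    (hfull : ∀ φ : ↥U ≃* ↥U, ∃ m ∈ M, ∀ u : ↥U, ((φ u : ↥U) : G) = m * u * m⁻¹)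
    (hcent : ∀ u ∈ U, u ≠ 1 → centralizer ({u} : Set G) ≤ P) {z : G} (hz : z ∈ U) (hz1 : z ≠ 1) :
    ∃ S : Setup P U n, S.z = z := by
  classical
  haveI : Fact (Nat.Prime 2) := ⟨Nat.prime_two⟩
  obtain ⟨hcom, hsq⟩ := hel
  letI : CommGroup ↥U := { (inferInstance : Group ↥U) with mul_comm := fun a b => mul_comm' a b }
  letI : Module (ZMod 2) (Additive ↥U) := AddCommGroup.zmodModule fun x => by
    show Additive.ofMul (x.toMul ^ 2) = 0
    rw [show x.toMul ^ 2 = (1 : ↥U) from Subtype.ext (hsq _ x.toMul.2)]; rfl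
  have hW : Nat.card (W n) = 2 ^ (n + 1) := by
    rw [Nat.card_prod, Nat.card_fun, Nat.card_zmod, Nat.card_eq_fintype_card, Fintype.card_fin]; ring
  have hr : Module.finrank (ZMod 2) (Additive ↥U) = Module.finrank (ZMod 2) (W n) := by
    have h1 := Module.natCard_eq_pow_finrank (K := ZMod 2) (V := Additive ↥U)
    have h2 := Module.natCard_eq_pow_finrank (K := ZMod 2) (V := W n)
    rw [Nat.card_congr (Additive.toMul (α := ↥U)), hcard, Nat.card_zmod] at h1
    rw [hW, Nat.card_zmod] at h2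
    exact Nat.pow_right_injective le_rfl (h1.symm.trans h2)
  let l0 := LinearEquiv.ofFinrankEq (Additive ↥U) (W n) hr
  have hne : l0 (Additive.ofMul (⟨z, hz⟩ : ↥U)) ≠ 0 := fun h => by
    rw [LinearEquiv.map_eq_zero_iff] at h
    exact hz1 (congrArg Subtype.val (show (⟨z, hz⟩ : ↥U) = 1 from h))
  obtain ⟨g0, hg0⟩ := move_e hne
  let l := l0.trans g0
  let β : ↥U ≃ W n := Additive.ofMul.trans l.toEquiv
  have hβ : ∀ u v, β (u * v) = β u + β v := fun u v => map_add l (Additive.ofMul u) (Additive.ofMul v)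
  have hinv : ∀ p ∈ P, ∀ u ∈ U, p⁻¹ * u * p ∈ U := fun p hp u hu => by simpa using hnorm p⁻¹ (inv_mem hp) u hu
  let cj : ↥P → (↥U ≃* ↥U) := fun p =>
    { toFun := fun u => ⟨(p : G) * u * (p : G)⁻¹, hnorm p p.2 u u.2⟩
      invFun := fun u => ⟨(p : G)⁻¹ * u * p, hinv p p.2 u u.2⟩
      left_inv := fun u => Subtype.ext (by show (p : G)⁻¹ * ((p : G) * u * (p : G)⁻¹) * p = u; group)
      right_inv := fun u => Subtype.ext (by show (p : G) * ((p : G)⁻¹ * u * p) * (p : G)⁻¹ = u; group)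
      map_mul' := fun u v => Subtype.ext (by
        show (p : G) * (u * v) * (p : G)⁻¹ = (p : G) * u * (p : G)⁻¹ * ((p : G) * v * (p : G)⁻¹); group) }
  let lin : (↥U ≃* ↥U) → (W n ≃ₗ[ZMod 2] W n) := fun φ =>
    l.symm.trans (((MulEquiv.toAdditive φ).toLinearEquiv fun c x => ZMod.map_smul (MulEquiv.toAdditive φ) c x).trans l)
  have lin_apply : ∀ φ u, lin φ (β u) = β (φ u) := fun φ u => by
    show l ((MulEquiv.toAdditive φ) (l.symm (l (Additive.ofMul u)))) = _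
    rw [LinearEquiv.symm_apply_apply]; rfl
  let act : ↥P →* (W n ≃ₗ[ZMod 2] W n) := MonoidHom.mk' (fun p => lin (cj p)) fun p q => LinearEquiv.ext fun w => by
    obtain ⟨u, rfl⟩ := β.surjective w
    show lin (cj (p * q)) (β u) = lin (cj p) (lin (cj q) (β u))
    rw [lin_apply, lin_apply, lin_apply]
    congr 1
    exact Subtype.ext (by show ((p : G) * q) * u * ((p : G) * q)⁻¹ = (p : G) * ((q : G) * u * (q : G)⁻¹) * (p : G)⁻¹; group)
  have conj : ∀ (p : ↥P) (u : ↥U), ∃ h : (p : G) * u * (p : G)⁻¹ ∈ U, β ⟨_, h⟩ = act p (β u) := fun p u =>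
    ⟨hnorm p p.2 u u.2, (lin_apply (cj p) u).symm⟩
  have fix_of_one : ∀ p, act p = 1 → ∀ u ∈ U, (p : G) * u * (p : G)⁻¹ = u := fun p hp u hu => by
    obtain ⟨h, e⟩ := conj p ⟨u, hu⟩
    rw [hp] at e
    exact congrArg Subtype.val (β.injective (a₁ := ⟨_, h⟩) (a₂ := ⟨u, hu⟩) e)
  have ker : ∀ p, act p = 1 → (p : G) ∈ U := fun p hp => by
    obtain ⟨u, hu, m, hm, e⟩ := hsup p p.2
    suffices m = 1 by rw [e, this, mul_one]; exact hu
    refine hfaith m hm fun v hv => ?_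
    have h := fix_of_one p hp v hv
    rw [e] at h
    have hc : u * v = v * u := congrArg Subtype.val (mul_comm (⟨u, hu⟩ : ↥U) ⟨v, hv⟩)
    calc m * v * m⁻¹ = u⁻¹ * (u * m * v * (u * m)⁻¹) * u := by group
      _ = u⁻¹ * (v * u) := by rw [h]; group
      _ = v := by rw [← hc]; group
  have hsec : ∀ g : W n ≃ₗ[ZMod 2] W n, ∃ m : ↥P, (m : G) ∈ M ∧ act m = g := fun g => by
    let φ : ↥U ≃* ↥U :=
      { toEquiv := β.trans (g.toEquiv.trans β.symm)
        map_mul' := fun u v => β.injective (by simp [hβ, map_add]) }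
    obtain ⟨m, hm, hφ⟩ := hfull φ
    refine ⟨⟨m, hMP hm⟩, hm, LinearEquiv.ext fun w => ?_⟩
    obtain ⟨u, rfl⟩ := β.surjective w
    obtain ⟨h, e'⟩ := conj ⟨m, hMP hm⟩ u
    rw [← e', show (⟨_, h⟩ : ↥U) = φ u from Subtype.ext (hφ u).symm]
    exact Equiv.apply_symm_apply β _
  choose sec hsM hsec using hsec
  have huniq : ∀ m m' : ↥P, (m : G) ∈ M → (m' : G) ∈ M → act m = act m' → m = m' := fun m m' hm hm' e' => by
    have h1 : act (m⁻¹ * m') = 1 := by rw [map_mul, map_inv, e', inv_mul_cancel]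
    have := hfaith _ (by rw [Subgroup.coe_mul, Subgroup.coe_inv]; exact mul_mem (inv_mem hm) hm' : ((m⁻¹ * m' : ↥P) : G) ∈ M)
      (fix_of_one _ h1)
    exact (inv_mul_eq_one.mp (Subtype.ext this))
  let secHom : (W n ≃ₗ[ZMod 2] W n) →* ↥P := MonoidHom.mk' sec fun g h =>
    huniq _ _ (hsM _) (by rw [Subgroup.coe_mul]; exact mul_mem (hsM g) (hsM h)) (by rw [map_mul, hsec, hsec, hsec])
  refine ⟨⟨hUP, β, hβ, act, conj, ker, secHom, hsec, hcent⟩, ?_⟩
  show ((β.symm (e n) : ↥U) : G) = z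
  rw [show β.symm (e n) = ⟨z, hz⟩ from β.symm_apply_eq.mpr hg0.symm]

/-- All automorphisms are induced when the complement is large enough. -/
theorem full_of_card {U M : Subgroup G} (hnorm : ∀ m ∈ M, ∀ u ∈ U, m * u * m⁻¹ ∈ U)
    (hfaith : ∀ m ∈ M, (∀ u ∈ U, m * u * m⁻¹ = u) → m = 1) (hcard : Nat.card (↥U ≃* ↥U) ≤ Nat.card M)
    (φ : ↥U ≃* ↥U) : ∃ m ∈ M, ∀ u : ↥U, ((φ u : ↥U) : G) = m * u * m⁻¹ := by
  classical
  let f : ↥M → (↥U ≃* ↥U) := fun m =>
    { toFun := fun u => ⟨(m : G) * u * (m : G)⁻¹, hnorm m m.2 u u.2⟩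
      invFun := fun u => ⟨(m : G)⁻¹ * u * m, by simpa using hnorm _ (inv_mem m.2) u u.2⟩
      left_inv := fun u => Subtype.ext (by show (m : G)⁻¹ * ((m : G) * u * (m : G)⁻¹) * m = u; group)
      right_inv := fun u => Subtype.ext (by show (m : G) * ((m : G)⁻¹ * u * m) * (m : G)⁻¹ = u; group)
      map_mul' := fun u v => Subtype.ext (by
        show (m : G) * (u * v) * (m : G)⁻¹ = (m : G) * u * (m : G)⁻¹ * ((m : G) * v * (m : G)⁻¹); group) }
  have hf : Function.Injective f := fun a b h => by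
    have h1 : ((a⁻¹ * b : ↥M) : G) = 1 := hfaith _ (a⁻¹ * b).2 fun u hu => by
      have : (a : G) * u * (a : G)⁻¹ = (b : G) * u * (b : G)⁻¹ :=
        congrArg (fun t : ↥U ≃* ↥U => ((t ⟨u, hu⟩ : ↥U) : G)) h
      rw [Subgroup.coe_mul, Subgroup.coe_inv]
      calc (a : G)⁻¹ * b * u * ((a : G)⁻¹ * b)⁻¹ = (a : G)⁻¹ * ((b : G) * u * (b : G)⁻¹) * a := by group
        _ = u := by rw [← this]; group
    exact inv_mul_eq_one.mp (Subtype.ext h1)
  haveI : Finite (↥U ≃* ↥U) := Finite.of_injective (fun t => (t : ↥U → ↥U)) DFunLike.coe_injective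
  obtain ⟨m, hm⟩ := ((Nat.bijective_iff_injective_and_card f).mpr
    ⟨hf, le_antisymm (Nat.card_le_card_of_injective f hf) hcard⟩).2 φ
  exact ⟨m, m.2, fun u => by rw [← hm]; rfl⟩

/-- The number of automorphisms. -/
theorem card_aut {U : Subgroup G} {n : ℕ} {P : Subgroup G} (S : Setup P U n) :
    Nat.card (W n ≃ₗ[ZMod 2] W n) ≤ Nat.card P :=
  Nat.card_le_card_of_injective S.sec (Function.LeftInverse.injective S.act_sec)

end Cfsg.Agent.Spor.Affine
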