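import Mathlib

/-! The affine plane of order three on nine numbered points, its 4-arcs and their colouring. -/

set_option autoImplicit false
set_option maxRecDepth 100000

namespace Cfsg.Agent.Spor.AG3

/-- The points of a mask. -/
def pts9 (m : ℕ) : Finset (Fin 9) := Finset.univ.filter fun i => m.testBit i.val

/-- The lines. -/
def lineMasks : List ℕ := [7, 73, 273, 161, 266, 146, 98, 140, 84, 292, 56, 448]

/-- The lines as sets. -/
def lines : List (Finset (Fin 9)) := lineMasks.map pts9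

/-- The 4-arcs. -/
def arcMasks : List ℕ := [27, 43, 139, 51, 83, 291, 195, 323, 387, 29, 45, 269, 53, 149, 101, 197, 325, 389, 153, 297, 393, 113, 209, 353, 30, 46, 78, 54, 278, 166, 198, 326, 390, 90, 170, 202, 306, 338, 418, 284, 108, 332, 180, 404, 228, 216, 344, 408, 232, 360, 424, 240, 368, 432]

/-- An arc by its number. -/
def arc (i : Fin 54) : Finset (Fin 9) := pts9 (arcMasks.getD i.val 0)

/-- The colours of the arcs. -/
def colours : List ℕ := [0, 1, 2, 2, 1, 0, 0, 2, 1, 2, 0, 1, 1, 0, 2, 1, 0, 2, 1, 2, 0, 0, 2, 1, 1, 2, 0, 0, 2, 1, 2, 1, 0, 2, 0, 1, 1, 0, 2, 0, 1, 2, 2, 1, 0, 0, 1, 2, 2, 0, 1, 1, 2, 0]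

/-- The colour of an arc. -/
def col (i : Fin 54) : Fin 3 := ⟨colours.getD i.val 0 % 3, Nat.mod_lt _ (by norm_num)⟩

/-- Steps forcing the colouring. -/
def cert : List (ℕ × ℕ × ℕ) := [(3, 0, 1), (4, 0, 3), (5, 1, 3), (6, 2, 4), (7, 4, 5), (8, 2, 5), (18, 0, 2), (19, 1, 5), (20, 2, 8), (21, 3, 4), (22, 4, 6), (23, 5, 7), (33, 0, 4), (34, 1, 2), (35, 2, 6), (36, 3, 5), (37, 4, 7), (38, 5, 8), (45, 18, 22), (46, 33, 37), (47, 18, 20), (48, 34, 35), (49, 19, 23), (50, 19, 20), (51, 21, 22), (52, 21, 23), (53, 36, 38), (9, 0, 18), (10, 1, 9), (11, 9, 10), (12, 3, 10), (13, 9, 12), (14, 10, 12), (15, 6, 14), (16, 7, 11), (17, 8, 13), (24, 0, 9), (25, 1, 10), (26, 24, 25), (27, 3, 12), (28, 24, 27), (29, 25, 27), (30, 6, 15), (31, 7, 16), (32, 8, 17), (39, 9, 11), (40, 10, 14), (41, 11, 16), (42, 12, 13), (43, 13, 17), (44, 14, 15)]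

/-- The six maps fixing the points 0 and 1. -/
def maps : List (List ℕ) :=
  [[0, 1, 2, 3, 4, 5, 6, 7, 8], [0, 1, 2, 6, 7, 8, 3, 4, 5], [0, 1, 2, 4, 5, 3, 8, 6, 7],
   [0, 1, 2, 7, 8, 6, 5, 3, 4], [0, 1, 2, 5, 3, 4, 7, 8, 6], [0, 1, 2, 8, 6, 7, 4, 5, 3]]

/-- One of these maps. -/
def mapFun (k : Fin 6) (p : Fin 9) : Fin 9 := ⟨(maps.getD k.val []).getD p.val 0 % 9, Nat.mod_lt _ (by norm_num)⟩

/-- The third point of a line. -/
def thr (a b : Fin 9) : Fin 9 :=
  ⟨(2 * (a.val + b.val)) % 3 + 3 * ((2 * (a.val / 3 + b.val / 3)) % 3), by omega⟩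

/-- Whether a set of four points is one of the arcs. -/
def isArc (r : Finset (Fin 9)) : Bool := (List.finRange 54).any fun i => arc i = r

theorem line_card : ∀ l ∈ lines, l.card = 3 := by decide +kernel

theorem lines_nodup : lines.Nodup := by decide +kernel

theorem line_thr : ∀ a b : Fin 9, a ≠ b → ({a, b, thr a b} : Finset (Fin 9)) ∈ lines := by decide +kernel

theorem thr_line : ∀ l ∈ lines, ∀ a ∈ l, ∀ b ∈ l, a ≠ b → thr a b ∈ l ∧ thr a b ≠ a ∧ thr a b ≠ b := by
  decide +kernel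

theorem arc_card : ∀ i : Fin 54, (arc i).card = 4 := by decide +kernel

theorem arc_free : ∀ i : Fin 54, ∀ l ∈ lines, ¬ l ⊆ arc i := by decide +kernel

theorem arc_complete : ∀ a b c d : Fin 9, a < b → b < c → c < d →
    (∀ l ∈ lines, ¬ l ⊆ ({a, b, c, d} : Finset (Fin 9))) → isArc {a, b, c, d} = true := by decide +kernel

theorem over_triangle : ∀ i : Fin 54, ∃ a b c : Fin 9, ({a, b, c} : Finset (Fin 9)).card = 3 ∧ {a, b, c} ⊆ arc i ∧
    (Finset.univ.filter fun q => q ∉ ({a, b, c} : Finset (Fin 9)) ∧ isArc (insert q {a, b, c}) = true).card ≤ 3 := by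
  decide +kernel

theorem base_arcs : arc 0 = {0, 1, 3, 4} ∧ arc 1 = {0, 1, 3, 5} ∧ arc 2 = {0, 1, 3, 7} := by decide +kernel

/-- Whether a step of the certificate is valid. -/
def stepOk (known : List ℕ) (s : ℕ × ℕ × ℕ) : Bool :=
  decide (s.1 < 54 ∧ s.2.1 < 54 ∧ s.2.2 < 54) && known.contains s.2.1 && known.contains s.2.2 &&
    decide (colours.getD s.2.1 0 % 3 ≠ colours.getD s.2.2 0 % 3) &&
    decide (colours.getD s.1 0 % 3 ≠ colours.getD s.2.1 0 % 3) &&
    decide (colours.getD s.1 0 % 3 ≠ colours.getD s.2.2 0 % 3) &&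
    decide ((pts9 (arcMasks.getD s.1 0) ∩ pts9 (arcMasks.getD s.2.1 0)).card = 3 ∧
      (pts9 (arcMasks.getD s.1 0) ∩ pts9 (arcMasks.getD s.2.2 0)).card = 3)

/-- Whether the certificate forces everything. -/
def certOk : List (ℕ × ℕ × ℕ) → List ℕ → Bool
  | [], known => (List.range 54).all fun v => known.contains v
  | s :: rest, known => stepOk known s && certOk rest (s.1 :: known)

theorem cert_ok : certOk cert [0, 1, 2] = true := by decide +kernel

theorem third_unique : ∀ a b c d : Fin 3, a ≠ b → c ≠ a → c ≠ b → d ≠ a → d ≠ b → c = d := by decide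

theorem forced_list (f : Fin 54 → Fin 3) (π : Fin 3 → Fin 3) (hπ : Function.Injective π)
    (hf : ∀ i j, (arc i ∩ arc j).card = 3 → f i ≠ f j) :
    ∀ (l : List (ℕ × ℕ × ℕ)) (known : List ℕ), certOk l known = true →
      (∀ i : Fin 54, i.val ∈ known → f i = π (col i)) → ∀ i, f i = π (col i) := by
  intro l
  induction l with
  | nil =>
    intro known h hk i
    rw [certOk, List.all_eq_true] at h
    exact hk i (by simpa using h i.val (List.mem_range.mpr i.2))
  | cons s rest ih =>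
    intro known h hk
    rw [certOk, Bool.and_eq_true] at h
    refine ih (s.1 :: known) h.2 fun i hi => ?_
    rcases List.mem_cons.mp hi with e | hi'
    · simp only [stepOk, Bool.and_eq_true, List.contains_iff_mem, decide_eq_true_eq] at h
      obtain ⟨⟨⟨⟨⟨⟨⟨⟨h1, h2, h3⟩, k2⟩, k3⟩, n23⟩, n12⟩, n13⟩, a2, a3⟩, -⟩ := h
      have e2 := hk ⟨s.2.1, h2⟩ k2
      have e3 := hk ⟨s.2.2, h3⟩ k3
      obtain rfl : i = ⟨s.1, h1⟩ := Fin.ext e
      refine third_unique (π (col ⟨s.2.1, h2⟩)) (π (col ⟨s.2.2, h3⟩)) _ _ ?_ ?_ ?_ ?_ ?_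
      · exact fun h => n23 (congrArg Fin.val (hπ h))
      · exact e2 ▸ hf _ _ a2
      · exact e3 ▸ hf _ _ a3
      · exact fun h => n12 (congrArg Fin.val (hπ h))
      · exact fun h => n13 (congrArg Fin.val (hπ h))
    · exact hk i hi'

/-- A colouring without equal neighbours is the standard one up to a permutation of colours. -/
theorem forced (f : Fin 54 → Fin 3) (π : Fin 3 → Fin 3) (hπ : Function.Injective π)
    (hf : ∀ i j, (arc i ∩ arc j).card = 3 → f i ≠ f j) (h0 : f 0 = π (col 0)) (h1 : f 1 = π (col 1))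
    (h2 : f 2 = π (col 2)) : ∀ i, f i = π (col i) :=
  forced_list f π hπ hf cert [0, 1, 2] cert_ok fun i hi => by
    simp only [List.mem_cons, List.not_mem_nil, or_false] at hi
    rcases hi with e | e | e
    · rw [show i = 0 from Fin.ext e]; exact h0
    · rw [show i = 1 from Fin.ext e]; exact h1
    · rw [show i = 2 from Fin.ext e]; exact h2

theorem base_col : col 0 = 0 ∧ col 1 = 1 ∧ col 2 = 2 := by decide +kernel

theorem map_facts : ∀ k : Fin 6, mapFun k 0 = 0 ∧ mapFun k 1 = 1 ∧ (∀ p q, mapFun k p = mapFun k q → p = q) ∧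
    (∀ l ∈ lines, l.image (mapFun k) ∈ lines) := by decide +kernel

theorem map_arc : ∀ (k : Fin 6) (i : Fin 54), ∃ j, (arc i).image (mapFun k) = arc j := by decide +kernel

theorem maps_realise : ∀ π : Equiv.Perm (Fin 3), ∃ k : Fin 6,
    ∀ i j : Fin 54, (arc i).image (mapFun k) = arc j → π (col j) = col i := by decide +kernel

theorem maps_cover : ∀ w : Fin 9, w ≠ 0 → w ≠ 1 → w ≠ 2 → ∃ k : Fin 6, mapFun k 3 = w := by decide +kernel

theorem map_colour : ∀ k : Fin 6, (∀ i j : Fin 54, (arc i).image (mapFun k) = arc j → col j = col i) → k = 0 := by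
  decide +kernel

theorem map_zero : ∀ p, mapFun 0 p = p := by decide +kernel

/-- Maps respecting lines are determined by three points. -/
theorem thr_facts : thr 0 1 = 2 ∧ thr 0 3 = 6 ∧ thr 1 3 = 8 ∧ thr 1 6 = 5 ∧ thr 2 3 = 7 ∧ thr 2 6 = 4 := by
  decide +kernel

end Cfsg.Agent.Spor.AG3
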