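import Cfsg.Agent.Lib.Invol.Transfer2
import Cfsg.Agent.Lib.Transfer.HallWielandt
import Cfsg.Agent.Lib.Fus.GenExtraspecial
import Cfsg.Agent.Lib.Grp.Frattini

/-!
A simple group with an involution whose centralizer is a Sylow `2`-subgroup with Frattini subgroup
generated by that involution has dihedral Sylow `2`-subgroups of order eight.
-/

set_option autoImplicit false
set_option linter.unusedSectionVars false

namespace Cfsg.Agent.Spor.CentD8

open scoped Pointwise

variable {L : Type*} [Group L]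

/-- The hypotheses, element wise. -/
structure Data (R : Subgroup L) (z : L) : Prop where
  ne_one : z ≠ 1
  sq_one : z * z = 1
  mem_iff : ∀ x, x ∈ R ↔ x * z = z * x
  sq : ∀ x ∈ R, x * x = 1 ∨ x * x = z
  comm : ∀ x ∈ R, ∀ y ∈ R, x * y = y * x ∨ x * y = z * (y * x)
  four : ∃ r ∈ R, r * r = z

theorem conj_eq_iff {R : Subgroup L} {z : L} (h : Data R z) (k : L) : k * z * k⁻¹ = z ↔ k ∈ R := by
  rw [h.mem_iff, mul_inv_eq_iff_eq_mul]

section

variable {R : Subgroup L} {z : L} (h : Data R z)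
include h

theorem z_mem : z ∈ R := (h.mem_iff z).mpr rfl

theorem z_comm {x : L} (hx : x ∈ R) : x * z = z * x := (h.mem_iff x).mp hx

theorem conj_ne_one (k : L) : k * z * k⁻¹ ≠ 1 := fun e => h.ne_one (conj_eq_one_iff.mp e)

/-- An element commuting with a second conjugate of `z` is an involution. -/
theorem sq_one_of_comm {k : L} (hne : k * z * k⁻¹ ≠ z) {x : L} (hx : x ∈ R)
    (hc : x * (k * z * k⁻¹) = k * z * k⁻¹ * x) : x * x = 1 := by
  have hy : k⁻¹ * x * k ∈ R := (h.mem_iff _).mpr (by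
    calc k⁻¹ * x * k * z = k⁻¹ * (x * (k * z * k⁻¹)) * k := by group
      _ = k⁻¹ * (k * z * k⁻¹ * x) * k := by rw [hc]
      _ = z * (k⁻¹ * x * k) := by group)
  rcases h.sq x hx with e | e
  · exact e
  exfalso
  have e2 : k⁻¹ * x * k * (k⁻¹ * x * k) = k⁻¹ * z * k := by rw [← e]; group
  rcases h.sq _ hy with e' | e' <;> rw [e2] at e'
  · refine h.ne_one ?_
    calc z = k * (k⁻¹ * z * k) * k⁻¹ := by group
      _ = 1 := by rw [e']; group
  · refine hne ?_
    conv_lhs => rw [← e']
    group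

/-- Two elements failing to commute with `a` have a product commuting with `a`. -/
theorem comm_mul {a : L} (ha : a ∈ R) {x y : L} (hx : x ∈ R) (hy : y ∈ R) (nx : x * a ≠ a * x)
    (ny : y * a ≠ a * y) : x * y * a = a * (x * y) := by
  have ex := (h.comm x hx a ha).resolve_left nx
  have ey := (h.comm y hy a ha).resolve_left ny
  calc x * y * a = x * (y * a) := by group
    _ = x * z * (a * y) := by rw [ey]; group
    _ = z * (x * a) * y := by rw [z_comm h hx]; group
    _ = z * z * (a * (x * y)) := by rw [ex]; group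
    _ = a * (x * y) := by rw [h.sq_one, one_mul]

/-- Every second conjugate of `z` in `R` is moved by some element of `R`. -/
theorem exists_moving {k : L} (hk : k * z * k⁻¹ ∈ R) (hne : k * z * k⁻¹ ≠ z) :
    ∃ s ∈ R, s * (k * z * k⁻¹) = z * (k * z * k⁻¹ * s) := by
  obtain ⟨r, hr, e⟩ := h.four
  refine ⟨r, hr, (h.comm r hr _ hk).resolve_left fun hc => h.ne_one ?_⟩
  rw [← e]; exact sq_one_of_comm h hne hr hc

theorem exp_two_comm {x y : L} (hx : x * x = 1) (hy : y * y = 1) (hxy : x * y * (x * y) = 1) : x * y = y * x := by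
  calc x * y = (x * y)⁻¹ := (inv_eq_of_mul_eq_one_left hxy).symm
    _ = y⁻¹ * x⁻¹ := mul_inv_rev _ _
    _ = y * x := by rw [inv_eq_of_mul_eq_one_left hx, inv_eq_of_mul_eq_one_left hy]

/-- The centralizer in `R` of a second conjugate is abelian. -/
theorem cent_comm {k : L} (hne : k * z * k⁻¹ ≠ z) {x y : L} (hx : x ∈ R) (hy : y ∈ R)
    (cx : x * (k * z * k⁻¹) = k * z * k⁻¹ * x) (cy : y * (k * z * k⁻¹) = k * z * k⁻¹ * y) : x * y = y * x :=
  exp_two_comm h (sq_one_of_comm h hne hx cx) (sq_one_of_comm h hne hy cy)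
    (sq_one_of_comm h hne (R.mul_mem hx hy) (by rw [mul_assoc, cy, ← mul_assoc, cx, mul_assoc]))

end

/-- `u` lies in the centre of `R`. -/
def Cent (R : Subgroup L) (u : L) : Prop := u ∈ R ∧ ∀ x ∈ R, x * u = u * x

section

variable {R : Subgroup L} {z : L} (h : Data R z)
include h

theorem cent_z : Cent R z := ⟨z_mem h, fun _ hx => z_comm h hx⟩

theorem not_cent {k : L} (hk : k * z * k⁻¹ ∈ R) (hne : k * z * k⁻¹ ≠ z) : ¬ Cent R (k * z * k⁻¹) := fun hc => by
  obtain ⟨s, hs, e⟩ := exists_moving h hk hne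
  rw [hc.2 s hs] at e
  exact h.ne_one (mul_eq_right.mp e.symm)

theorem not_cent_z_mul {k : L} (hk : k * z * k⁻¹ ∈ R) (hne : k * z * k⁻¹ ≠ z) :
    ¬ Cent R (z * (k * z * k⁻¹)) := fun hc => not_cent h hk hne ⟨hk, fun x hx => by
  have e := hc.2 x hx
  rw [← mul_assoc, z_comm h hx, mul_assoc, mul_assoc z] at e
  exact mul_left_cancel e⟩

theorem not_cent_of_conj {c : L} (hc : Cent R c) {k : L} (e : k * z * k⁻¹ = c) : c = z := by
  by_contra hne
  exact not_cent h (e ▸ hc.1) (e ▸ hne) (e ▸ hc)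

variable [Finite L] (S : Sylow 2 L) (hS : (S : Subgroup L) = R)
include hS

/-- Fusion of central elements is trivial. -/
theorem cent_eq_of_conj {u c m : L} (hu : Cent R u) (hc : Cent R c) (e : m * u * m⁻¹ = c) : c = u := by
  have : Fact (Nat.Prime 2) := ⟨Nat.prime_two⟩
  have hcen : ∀ v, Cent R v → v ∈ Subgroup.centralizer (S : Set L) := fun v hv =>
    Subgroup.mem_centralizer_iff.mpr fun g hg => hv.2 g (hS ▸ hg)
  obtain ⟨n, hn, en⟩ := S.conj_eq_normalizer_conj_of_mem_centralizer u m⁻¹ (hcen u hu) (by rw [inv_inv, e]; exact hcen c hc)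
  rw [inv_inv, e] at en
  obtain ⟨r, hr, er⟩ := h.four
  have hn' : n ∈ Subgroup.normalizer (R : Set L) := by rw [← hS]; exact hn
  have hmem : ∀ x ∈ R, n⁻¹ * x * n ∈ R := fun x hx => by
    have := (Subgroup.mem_normalizer_iff.mp (inv_mem hn') x).mp hx
    rwa [inv_inv] at this
  have hz : n⁻¹ * z * n = z := by
    have e2 : n⁻¹ * r * n * (n⁻¹ * r * n) = n⁻¹ * z * n := by rw [← er]; group
    rcases h.sq _ (hmem r hr) with e' | e' <;> rw [e2] at e'
    · exact absurd (show z = 1 by calc z = n * (n⁻¹ * z * n) * n⁻¹ := by group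
        _ = 1 := by rw [e']; group) h.ne_one
    · exact e'
  have hnR : n⁻¹ ∈ R := (conj_eq_iff h _).mp (by rw [inv_inv]; exact hz)
  rw [en, hu.2 _ hnR]
  group

/-- Inside a centralizer we may replace the conjugating element. -/
theorem exists_conj_cent {u x m : L} (hu : Cent R u) (e : m * u * m⁻¹ = x) :
    ∃ m', m' * u * m'⁻¹ = x ∧ ∀ y ∈ R, y * x = x * y → m'⁻¹ * y * m' ∈ R := by
  classical
  have : Fact (Nat.Prime 2) := ⟨Nat.prime_two⟩
  have hT : ((m • S : Sylow 2 L) : Subgroup L) ≤ Subgroup.centralizer {x} := by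
    intro t ht
    rw [Sylow.coe_subgroup_smul, Subgroup.mem_pointwise_smul_iff_inv_smul_mem, hS] at ht
    have hc := hu.2 _ ht
    rw [Subgroup.mem_centralizer_singleton_iff, ← e]
    simp only [MulAut.smul_def, MulAut.conj_inv_apply] at hc ht
    calc t * (m * u * m⁻¹) = m * (m⁻¹ * t * m * u) * m⁻¹ := by group
      _ = m * (u * (m⁻¹ * t * m)) * m⁻¹ := by rw [hc]
      _ = m * u * m⁻¹ * t := by group
  let P := (m • S : Sylow 2 L).subtype hT
  have hQ : IsPGroup 2 ↥((R ⊓ Subgroup.centralizer {x}).subgroupOf (Subgroup.centralizer {x})) :=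
    ((hS ▸ S.2).to_le inf_le_left).comap_subtype
  obtain ⟨P', hP'⟩ := hQ.exists_le_sylow
  obtain ⟨c, hc⟩ := MulAction.exists_smul_eq (Subgroup.centralizer {x}) P P'
  have hcx : (c : L) * x = x * c := Subgroup.mem_centralizer_singleton_iff.mp c.2
  refine ⟨c * m, ?_, fun y hy hyx => ?_⟩
  · calc (c : L) * m * u * ((c : L) * m)⁻¹ = c * (m * u * m⁻¹) * (c : L)⁻¹ := by group
      _ = x := by rw [e, hcx]; group
  · have h1 : (⟨y, Subgroup.mem_centralizer_singleton_iff.mpr hyx⟩ : Subgroup.centralizer {x}) ∈ (P' : Subgroup _) :=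
      hP' (Subgroup.mem_subgroupOf.mpr ⟨hy, Subgroup.mem_centralizer_singleton_iff.mpr hyx⟩)
    rw [← hc, Sylow.coe_subgroup_smul, Subgroup.mem_pointwise_smul_iff_inv_smul_mem] at h1
    simp only [P, Sylow.coe_subtype, Subgroup.mem_subgroupOf, Sylow.coe_subgroup_smul,
      Subgroup.mem_pointwise_smul_iff_inv_smul_mem, MulAut.smul_def, MulAut.conj_inv_apply, hS] at h1
    convert h1 using 1
    simp [mul_assoc]

/-- A noncentral conjugate `x` of a central `u` is `a z u` for a conjugate `a` of `z`. -/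
theorem key {u x m : L} (hu : Cent R u) (e : m * u * m⁻¹ = x) (hx : x ∈ R) (hne : x ≠ u) :
    ∃ k, k * z * k⁻¹ ∈ R ∧ x = k * z * k⁻¹ * z * u := by
  obtain ⟨m, e, hm⟩ := exists_conj_cent h S hS hu e
  have hxc : ¬ Cent R x := fun hc => hne (cent_eq_of_conj h S hS hu hc e)
  obtain ⟨y, hy, ny⟩ : ∃ y ∈ R, y * x ≠ x * y := by
    by_contra hcon
    push Not at hcon
    exact hxc ⟨hx, hcon⟩
  have hTx : ∀ s ∈ R, m * s * m⁻¹ * x = x * (m * s * m⁻¹) := fun s hs => by
    rw [← e]
    calc m * s * m⁻¹ * (m * u * m⁻¹) = m * (s * u) * m⁻¹ := by group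
      _ = m * (u * s) * m⁻¹ := by rw [hu.2 s hs]
      _ = _ := by group
  have hnem : m * z * m⁻¹ ≠ z := fun ez => hne <| by
    rw [← e, hu.2 m ((conj_eq_iff h m).mp ez), mul_inv_cancel_right]
  -- the centralizer of `x` in `R` is of index two, so meets the conjugate of `R` in index two
  let C : Subgroup R := (Subgroup.centralizer {x}).subgroupOf R
  have hC : ∀ w : R, w ∈ C ↔ (w : L) * x = x * w := fun w =>
    Subgroup.mem_subgroupOf.trans Subgroup.mem_centralizer_singleton_iff
  have hi : C.index = 2 := Subgroup.index_eq_two_iff.mpr ⟨⟨y, hy⟩, fun w => by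
    simp only [hC, Subgroup.coe_mul]
    by_cases hw : (w : L) * x = x * w
    · refine Or.inr ⟨hw, fun hwy => ny ?_⟩
      have : (w : L) * (y * x) = w * (x * y) := by rw [← mul_assoc, hwy, ← mul_assoc, ← mul_assoc, hw]
      exact mul_left_cancel this
    · exact Or.inl ⟨comm_mul h hx w.2 hy hw ny, hw⟩⟩
  let f : C →* R :=
    { toFun := fun w => ⟨m⁻¹ * (w : R) * m, hm _ w.1.2 ((hC _).mp w.2)⟩
      map_one' := Subtype.ext (by simp)
      map_mul' := fun v w => Subtype.ext (by simp [mul_assoc]) }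
  have hfi : Function.Injective f := fun v w hvw => by
    have : m⁻¹ * (v : R) * m = m⁻¹ * (w : R) * m := congrArg Subtype.val hvw
    exact Subtype.ext (Subtype.ext (mul_left_cancel (mul_right_cancel this)))
  have hfC : f.range.index = 2 := by
    have h1 := f.range.card_mul_index
    have h2 := C.card_mul_index
    rw [hi] at h2
    rw [← Nat.card_congr (MonoidHom.ofInjective hfi).toEquiv, ← h2] at h1
    exact Nat.eq_of_mul_eq_mul_left Nat.card_pos h1
  obtain ⟨r, hr, er⟩ := h.four
  obtain ⟨w, hw⟩ : (⟨z, z_mem h⟩ : R) ∈ f.range := by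
    have := Subgroup.mul_self_mem_of_index_two hfC ⟨r, hr⟩
    rwa [show (⟨r, hr⟩ : R) * ⟨r, hr⟩ = ⟨z, z_mem h⟩ from Subtype.ext er] at this
  have ew : ((w : R) : L) = m * z * m⁻¹ := by
    have : m⁻¹ * ((w : R) : L) * m = z := congrArg Subtype.val hw
    rw [← this]; group
  have ha : m * z * m⁻¹ ∈ R := ew ▸ (w : R).2
  have hax : m * z * m⁻¹ * x = x * (m * z * m⁻¹) := ew ▸ (hC _).mp w.2
  -- centralizing `x` is the same as centralizing `a`
  have hxa : ∀ s ∈ R, s * x = x * s → s * (m * z * m⁻¹) = m * z * m⁻¹ * s := fun s hs hsx => by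
    have := z_comm h (hm s hs hsx)
    calc s * (m * z * m⁻¹) = m * (m⁻¹ * s * m * z) * m⁻¹ := by group
      _ = m * (z * (m⁻¹ * s * m)) * m⁻¹ := by rw [this]
      _ = _ := by group
  obtain ⟨s, hs, es⟩ := exists_moving h ha hnem
  have nsx : s * x ≠ x * s := fun hsx => h.ne_one (mul_eq_right.mp (es.symm.trans (hxa s hs hsx)))
  have esx := (h.comm s hs x hx).resolve_left nsx
  -- `z` is moved by some element of the conjugate of `R`
  have hz' : m⁻¹ * z * m⁻¹⁻¹ ∈ R := by rw [inv_inv]; exact hm z (z_mem h) (z_comm h hx).symm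
  have hne' : m⁻¹ * z * m⁻¹⁻¹ ≠ z := fun ez => hnem ((conj_eq_iff h m).mpr (inv_inv m ▸ inv_mem ((conj_eq_iff h _).mp ez)))
  obtain ⟨q, hq, eq⟩ := exists_moving h hz' hne'
  have haa : m * z * m⁻¹ * (m * z * m⁻¹) = 1 := sq_one_of_comm h hnem ha rfl
  generalize hadef : m * z * m⁻¹ = a at *
  obtain ⟨t, htdef⟩ : ∃ t, t = m * q * m⁻¹ := ⟨_, rfl⟩
  have tz : t * z = a * (z * t) := by
    calc t * z = m * (q * (m⁻¹ * z * m⁻¹⁻¹)) * m⁻¹ := by rw [htdef]; group
      _ = m * (z * (m⁻¹ * z * m⁻¹⁻¹ * q)) * m⁻¹ := by rw [eq]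
      _ = a * (z * t) := by rw [htdef, ← hadef]; group
  have ta : t * a = a * t := by
    rw [htdef, ← hadef]
    calc m * q * m⁻¹ * (m * z * m⁻¹) = m * (q * z) * m⁻¹ := by group
      _ = m * (z * q) * m⁻¹ := by rw [z_comm h hq]
      _ = _ := by group
  have tx : t * x = x * t := htdef ▸ hTx q hq
  have haz : a * z = z * a := z_comm h ha
  -- `z a x` is central
  have hcen : Cent R (z * (a * x)) := by
    refine ⟨R.mul_mem (z_mem h) (R.mul_mem ha hx), fun v hv => ?_⟩
    have key' : v * (a * x) = a * x * v := by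
      by_cases hvx : v * x = x * v
      · rw [← mul_assoc, hxa v hv hvx, mul_assoc, hvx, mul_assoc]
      have evx := (h.comm v hv x hx).resolve_left hvx
      have eva : v * a = z * (a * v) := by
        refine (h.comm v hv a ha).resolve_left fun hva => ?_
        -- `s` and `v` both move `x`, so `v s` commutes with `x`, hence with `a`
        have h3 := hxa _ (R.mul_mem hv hs) (comm_mul h hx hv hs hvx nsx)
        have e4 : v * s * a = z * (a * (v * s)) := by
          calc v * s * a = v * (s * a) := by group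
            _ = v * z * (a * s) := by rw [es]; group
            _ = z * (v * a) * s := by rw [z_comm h hv]; group
            _ = z * (a * (v * s)) := by rw [hva]; group
        exact h.ne_one (mul_eq_right.mp (e4.symm.trans h3))
      calc v * (a * x) = v * a * x := by group
        _ = z * a * (v * x) := by rw [eva]; group
        _ = z * a * z * (x * v) := by rw [evx]; group
        _ = z * (a * z) * (x * v) := by group
        _ = z * (z * a) * (x * v) := by rw [haz]
        _ = a * x * v := by rw [← mul_assoc z z, h.sq_one, one_mul]; group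
    rw [← mul_assoc v, z_comm h hv, mul_assoc, key']
    group
  -- `z a x` is conjugate to `x`
  have e1 : s * x * s⁻¹ = z * x := by rw [esx]; group
  have e2 : t * (z * (a * x)) * t⁻¹ = z * x := by
    calc t * (z * (a * x)) * t⁻¹ = t * z * (a * x) * t⁻¹ := by group
      _ = a * z * (t * a) * x * t⁻¹ := by rw [tz]; group
      _ = a * z * a * (t * x) * t⁻¹ := by rw [ta]; group
      _ = a * z * a * x := by rw [tx]; group
      _ = z * (a * a) * x := by rw [haz]; group
      _ = z * x := by rw [haa, mul_one]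
  have e3 : t⁻¹ * s * m * u * (t⁻¹ * s * m)⁻¹ = z * (a * x) := by
    calc t⁻¹ * s * m * u * (t⁻¹ * s * m)⁻¹ = t⁻¹ * (s * (m * u * m⁻¹) * s⁻¹) * t := by group
      _ = z * (a * x) := by rw [e, e1, ← e2]; group
  have := cent_eq_of_conj h S hS hu hcen e3
  refine ⟨m, hadef ▸ ha, ?_⟩
  rw [hadef]
  calc x = a * a * x := by rw [haa, one_mul]
    _ = a * (z * z) * (a * x) := by rw [h.sq_one]; group
    _ = a * z * (z * (a * x)) := by group
    _ = a * z * u := by rw [this]

/-- The conjugates of `z` commuting with a given one. -/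
theorem conj_near {k j : L} (hk : k * z * k⁻¹ ∈ R) (hne : k * z * k⁻¹ ≠ z) (hj : j * z * j⁻¹ ∈ R)
    (hnej : j * z * j⁻¹ ≠ z) (hc : j * z * j⁻¹ * (k * z * k⁻¹) = k * z * k⁻¹ * (j * z * j⁻¹)) :
    j * z * j⁻¹ = k * z * k⁻¹ ∨ j * z * j⁻¹ = z * (k * z * k⁻¹) := by
  obtain ⟨p, hp, ep⟩ := exists_moving h hj hnej
  have haa : k * z * k⁻¹ * (k * z * k⁻¹) = 1 := sq_one_of_comm h hne hk rfl
  have hA : ∀ v ∈ R, ∀ w ∈ R, v * (k * z * k⁻¹) = k * z * k⁻¹ * v → w * (k * z * k⁻¹) = k * z * k⁻¹ * w → v * w = w * v :=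
    fun v hv w hw c1 c2 => cent_comm h hne hv hw c1 c2
  have hB : ∀ v ∈ R, ∀ w ∈ R, v * (j * z * j⁻¹) = j * z * j⁻¹ * v → w * (j * z * j⁻¹) = j * z * j⁻¹ * w → v * w = w * v :=
    fun v hv w hw c1 c2 => cent_comm h hnej hv hw c1 c2
  have hz' : k⁻¹ * z * k⁻¹⁻¹ ∈ R := by
    rw [inv_inv, h.mem_iff]
    calc k⁻¹ * z * k * z = k⁻¹ * (z * (k * z * k⁻¹)) * k := by group
      _ = k⁻¹ * (k * z * k⁻¹ * z) * k := by rw [z_comm h hk]
      _ = z * (k⁻¹ * z * k) := by group
  have hne' : k⁻¹ * z * k⁻¹⁻¹ ≠ z := fun ez => hne ((conj_eq_iff h k).mpr (inv_inv k ▸ inv_mem ((conj_eq_iff h _).mp ez)))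
  obtain ⟨q, hq, eq⟩ := exists_moving h hz' hne'
  have haz : k * z * k⁻¹ * z = z * (k * z * k⁻¹) := z_comm h hk
  generalize hadef : k * z * k⁻¹ = a at *
  generalize hbdef : j * z * j⁻¹ = b at *
  have hw : Cent R (a * b) := by
    refine ⟨R.mul_mem hk hj, fun v hv => ?_⟩
    by_cases hva : v * a = a * v
    · have := hA v hv b hj hva hc
      rw [← mul_assoc, hva, mul_assoc, this, mul_assoc]
    have eva := (h.comm v hv a hk).resolve_left hva
    by_cases hvb : v * b = b * v
    · exact absurd (hB v hv a hk hvb hc.symm) hva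
    have evb := (h.comm v hv b hj).resolve_left hvb
    calc v * (a * b) = v * a * b := by group
      _ = z * a * (v * b) := by rw [eva]; group
      _ = z * (a * z) * (b * v) := by rw [evb]; group
      _ = z * (z * a) * (b * v) := by rw [haz]
      _ = a * b * v := by rw [← mul_assoc z z, h.sq_one, one_mul]; group
  obtain ⟨t, htdef⟩ : ∃ t, t = k * q * k⁻¹ := ⟨_, rfl⟩
  have tz : t * z = a * (z * t) := by
    calc t * z = k * (q * (k⁻¹ * z * k⁻¹⁻¹)) * k⁻¹ := by rw [htdef]; group
      _ = k * (z * (k⁻¹ * z * k⁻¹⁻¹ * q)) * k⁻¹ := by rw [eq]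
      _ = a * (z * t) := by rw [htdef, ← hadef]; group
  have ta : t * a = a * t := by
    rw [htdef, ← hadef]
    calc k * q * k⁻¹ * (k * z * k⁻¹) = k * (q * z) * k⁻¹ := by group
      _ = k * (z * q) * k⁻¹ := by rw [z_comm h hq]
      _ = _ := by group
  have hwa : a * (a * b) = a * b * a := hw.2 a hk
  have hwR : k⁻¹ * (a * b) * k ∈ R := (h.mem_iff _).mpr (by
    calc k⁻¹ * (a * b) * k * z = k⁻¹ * (a * b * a) * k := by rw [← hadef]; group
      _ = k⁻¹ * (a * (a * b)) * k := by rw [hwa]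
      _ = z * (k⁻¹ * (a * b) * k) := by rw [← hadef]; group)
  rcases h.comm q hq _ hwR with ec | ec
  · left
    have tw : t * (a * b) = a * b * t := by
      calc t * (a * b) = k * (q * (k⁻¹ * (a * b) * k)) * k⁻¹ := by rw [htdef]; group
        _ = k * (k⁻¹ * (a * b) * k * q) * k⁻¹ := by rw [ec]
        _ = a * b * t := by rw [htdef]; group
    have e1 : t * (z * (a * b)) * t⁻¹ = z * b := by
      calc t * (z * (a * b)) * t⁻¹ = t * z * (a * b) * t⁻¹ := by group
        _ = a * z * (t * (a * b)) * t⁻¹ := by rw [tz]; group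
        _ = a * z * (a * b) := by rw [tw]; group
        _ = z * (a * a) * b := by rw [haz]; group
        _ = z * b := by rw [haa, mul_one]
    have hcz : Cent R (z * (a * b)) := ⟨R.mul_mem (z_mem h) hw.1, fun v hv => by
      rw [← mul_assoc, z_comm h hv, mul_assoc, hw.2 v hv]; group⟩
    have := not_cent_of_conj h hcz (k := t⁻¹ * p * j) (by
      calc t⁻¹ * p * j * z * (t⁻¹ * p * j)⁻¹ = t⁻¹ * (p * b * p⁻¹) * t := by rw [← hbdef]; group
        _ = t⁻¹ * (z * b) * t := by rw [ep]; group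
        _ = z * (a * b) := by rw [← e1]; group)
    have hab : a * b = 1 := mul_eq_left.mp this
    calc b = a * a * b := by rw [haa, one_mul]
      _ = a := by rw [mul_assoc, hab, mul_one]
  · right
    have tw : t * (a * b) = a * (a * b * t) := by
      calc t * (a * b) = k * (q * (k⁻¹ * (a * b) * k)) * k⁻¹ := by rw [htdef]; group
        _ = k * (z * (k⁻¹ * (a * b) * k * q)) * k⁻¹ := by rw [ec]
        _ = a * (a * b * t) := by rw [htdef, ← hadef]; group
    have := not_cent_of_conj h hw (k := t⁻¹ * j) (by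
      calc t⁻¹ * j * z * (t⁻¹ * j)⁻¹ = t⁻¹ * (a * a * b) * t := by rw [haa, ← hbdef]; group
        _ = t⁻¹ * (a * (a * b * t)) := by group
        _ = a * b := by rw [← tw]; group)
    calc b = a * a * b := by rw [haa, one_mul]
      _ = a * z := by rw [mul_assoc, this]
      _ = z * a := haz

omit hS in
/-- At most two pairs of second conjugates. -/
theorem conj_cover {k j : L} (hk : k * z * k⁻¹ ∈ R) (hne : k * z * k⁻¹ ≠ z) (hj : j * z * j⁻¹ ∈ R)
    (hnej : j * z * j⁻¹ ≠ z) (hjk : j * z * j⁻¹ * (k * z * k⁻¹) ≠ k * z * k⁻¹ * (j * z * j⁻¹))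
    {c : L} (hc : c ∈ R) (hcc : c * c = 1) :
    c * (k * z * k⁻¹) = k * z * k⁻¹ * c ∨ c * (j * z * j⁻¹) = j * z * j⁻¹ * c := by
  by_contra hcon
  rw [not_or] at hcon
  obtain ⟨na, nb⟩ := hcon
  set a := k * z * k⁻¹ with hadef
  set b := j * z * j⁻¹ with hbdef
  have haa : a * a = 1 := sq_one_of_comm h hne hk rfl
  have hbb : b * b = 1 := sq_one_of_comm h hnej hj rfl
  have q1 : a * b * c * a = a * (a * b * c) := by
    have := comm_mul h hk hj hc hjk na
    calc a * b * c * a = a * (b * c * a) := by group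
      _ = a * (a * (b * c)) := by rw [this]
      _ = _ := by group
  have q2 : a * b * c * b = b * (a * b * c) := by
    have h2 : a * c * b = b * (a * c) := comm_mul h hj hk hc (fun e => hjk e.symm) nb
    have h3 := (h.comm b hj a hk).resolve_left hjk
    calc a * b * c * b = a * b * (c * b) := by group
      _ = a * b * (z * (b * c)) := by rw [(h.comm c hc b hj).resolve_left nb]
      _ = a * (b * z) * b * c := by group
      _ = a * (z * b) * b * c := by rw [z_comm h hj]
      _ = a * z * (b * b) * c := by group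
      _ = z * a * c := by rw [hbb, mul_one, z_comm h hk]
      _ = z * (b * b) * (a * c) := by rw [hbb]; group
      _ = b * (z * (b * a)) * c := by rw [← mul_assoc z b, ← z_comm h hj]; group
      _ = b * (z * z * (a * b)) * c := by rw [h3]; group
      _ = b * (a * b * c) := by rw [h.sq_one, one_mul, mul_assoc b (a * b) c]
  have hq : a * b * c ∈ R := R.mul_mem (R.mul_mem hk hj) hc
  have hqq : a * b * c * (a * b * c) = 1 := sq_one_of_comm h hne hq q1
  -- `c` is `b a q`
  have ec : c = b * a * (a * b * c) := by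
    calc c = b * b * c := by rw [hbb, one_mul]
      _ = b * (a * a) * b * c := by rw [haa, mul_one]
      _ = _ := by group
  have hba : b * a * (b * a) = 1 := by
    calc b * a * (b * a) = b * a * (b * a) * (a * b * c * (a * b * c)) := by rw [hqq, mul_one]
      _ = b * a * b * (a * (a * b * c)) * (a * b * c) := by group
      _ = b * a * b * (a * b * c * a) * (a * b * c) := by rw [q1]
      _ = b * a * (b * (a * b * c)) * (a * (a * b * c)) := by group
      _ = b * a * (a * b * c * b) * (a * (a * b * c)) := by rw [q2]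
      _ = b * a * (a * b * c) * (b * a * (a * b * c)) := by group
      _ = 1 := by rw [← ec, hcc]
  exact hjk (exp_two_comm h hbb haa hba)

end

end Cfsg.Agent.Spor.CentD8
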