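import Cfsg.Agent.Lib.Spor.CentFrattiniD8

/-!
A simple group with an involution whose centralizer is a Sylow `2`-subgroup with Frattini subgroup
generated by that involution has dihedral Sylow `2`-subgroups of order eight: transfer arguments.
-/

set_option autoImplicit false
set_option linter.unusedSectionVars false

namespace Cfsg.Agent.Spor.CentD8

open scoped commutatorElement

variable {L : Type*} [Group L] [Finite L] [IsSimpleGroup L]

theorem hom_eq_one (hL : ¬ IsMulCommutative L) {A : Type*} [CommGroup A] (V : L →* A) (g : L) : V g = 1 := by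
  rcases (inferInstance : IsSimpleGroup L).eq_bot_or_eq_top_of_normal V.ker V.normal_ker with e | e
  · exact absurd ⟨⟨fun x y => (V.ker_eq_bot_iff.mp e) (by rw [map_mul, map_mul, mul_comm])⟩⟩ hL
  · exact V.mem_ker.mp (e ▸ Subgroup.mem_top g)

variable {R : Subgroup L} {z : L} (h : Data R z) (S : Sylow 2 L) (hS : (S : Subgroup L) = R)
  (hL : ¬ IsMulCommutative L)
include h hS hL

/-- `z` has a second conjugate in `R`. -/
theorem exists_conj : ∃ k, k * z * k⁻¹ ∈ R ∧ k * z * k⁻¹ ≠ z := by
  classical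
  by_contra hcon
  push Not at hcon
  haveI : Fact (Nat.Prime 2) := ⟨Nat.prime_two⟩
  have hR : IsPGroup 2 R := hS ▸ S.2
  letI : Fintype (L ⧸ R) := Fintype.ofFinite _
  obtain ⟨r, hr, er⟩ := h.four
  have hcommle : commutator R ≤ Subgroup.zpowers (⟨z, z_mem h⟩ : R) :=
    Subgroup.commutator_le.2 fun a _ b _ => by
      rcases h.comm a a.2 b b.2 with e | e
      · rw [commutatorElement_eq_one_iff_mul_comm.mpr (Subtype.ext e)]; exact Subgroup.one_mem _
      · have : ⁅a, b⁆ = ⟨z, z_mem h⟩ := Subtype.ext (by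
          simp only [commutatorElement_def, Subgroup.coe_mul, Subgroup.coe_inv]
          rw [e]; group)
        rw [this]; exact Subgroup.mem_zpowers _
  haveI : (Subgroup.zpowers (⟨z, z_mem h⟩ : R)).Normal := Subgroup.Normal.of_conjugate_fixed fun g => by
    refine Subgroup.ext fun w => ?_
    have hg : ∀ n : ℤ, MulAut.conj g ((⟨z, z_mem h⟩ : R) ^ n) = (⟨z, z_mem h⟩ : R) ^ n := fun n => by
      have : Commute g (⟨z, z_mem h⟩ : R) := Subtype.ext (z_comm h g.2)
      rw [MulAut.conj_apply, (this.zpow_right n).eq, mul_inv_cancel_right]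
    constructor
    · rintro ⟨v, hv, rfl⟩
      obtain ⟨n, rfl⟩ := Subgroup.mem_zpowers_iff.mp hv
      exact (hg n).symm ▸ Subgroup.zpow_mem _ (Subgroup.mem_zpowers _) n
    · intro hw
      obtain ⟨n, rfl⟩ := Subgroup.mem_zpowers_iff.mp hw
      exact ⟨_, hw, hg n⟩
  let N : Subgroup R := Subgroup.zpowers (⟨z, z_mem h⟩ : R)
  have hc := Subgroup.Normal.quotient_commutative_iff_commutator_le.mpr hcommle
  letI : CommGroup (R ⧸ N) := { (inferInstance : Group (R ⧸ N)) with mul_comm := hc.is_comm.comm }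
  let φ : R →* R ⧸ N := QuotientGroup.mk' N
  have hz1 : φ ⟨z, z_mem h⟩ = 1 := (QuotientGroup.eq_one_iff _).mpr (Subgroup.mem_zpowers _)
  have hord : orderOf r ∣ 4 := orderOf_dvd_of_pow_eq_one (by
    rw [show (4 : ℕ) = 2 * 2 from rfl, pow_mul, pow_two r, er, pow_two, h.sq_one])
  have hloc : ∀ x : L, x⁻¹ * r * x ∈ R → x ∈ R := fun x hx => by
    have h2 : x⁻¹ * z * x ∈ R := by
      have : x⁻¹ * z * x = x⁻¹ * r * x * (x⁻¹ * r * x) := by rw [← er]; group
      rw [this]; exact R.mul_mem hx hx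
    have := hcon x⁻¹ (by rwa [inv_inv])
    have hh := (conj_eq_iff h x⁻¹).mp this
    exact inv_inv x ▸ R.inv_mem hh
  have hkill : ∀ (x : L) (l : ℕ), 1 < l → l ∣ orderOf r → ∀ hm : x⁻¹ * r ^ l * x ∈ R, φ ⟨_, hm⟩ = 1 := by
    intro x l hl hd hm
    have : l = 2 ∨ l = 4 := by
      have := hd.trans hord
      have := Nat.le_of_dvd (by norm_num) this
      interval_cases l <;> simp_all
    rcases this with rfl | rfl
    · have e : x⁻¹ * r ^ 2 * x = z := by
        rw [pow_two, er] at hm ⊢
        have := hcon x⁻¹ (by rwa [inv_inv])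
        rwa [inv_inv] at this
      convert hz1 using 3
    · have e : x⁻¹ * r ^ 4 * x = 1 := by
        rw [show (4 : ℕ) = 2 * 2 from rfl, pow_mul, pow_two r, er, pow_two, h.sq_one]; group
      exact (congrArg φ (Subtype.ext e)).trans (map_one φ)
  have ht := Transfer.HallWielandt.transfer_eq_prod_fixed φ r hkill
  rw [hom_eq_one hL] at ht
  rw [Fintype.prod_eq_single ((1 : L) : L ⧸ R) (fun q hq => by
    induction q using QuotientGroup.induction_on with | _ x =>
    exact Transfer.HallWielandt.fixVal_mk_of_notMem φ fun hx =>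
      hq (QuotientGroup.eq.mpr (by simpa using hloc x hx)))] at ht
  rw [Transfer.HallWielandt.fixVal_mk φ (x := (1 : L)) (by simpa using hr)] at ht
  obtain ⟨n, hn⟩ := Subgroup.mem_zpowers_iff.mp ((QuotientGroup.eq_one_iff _).mp ht.symm)
  have hn' : z ^ n = r := by simpa using congrArg Subtype.val hn
  refine h.ne_one ?_
  rw [← er, ← hn', ← (Commute.refl z).mul_zpow, h.sq_one, one_zpow]

/-- The centre of `R` is generated by `z`. -/
theorem cent_eq {u : L} (hu : Cent R u) : u = 1 ∨ u = z := by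
  classical
  by_contra hcon
  rw [not_or] at hcon
  obtain ⟨hu1, huz⟩ := hcon
  obtain ⟨k, hk, hne⟩ := exists_conj h S hS hL
  haveI : Fact (Nat.Prime 2) := ⟨Nat.prime_two⟩
  have huu : u * u = 1 := sq_one_of_comm h hne hu.1 (hu.2 _ hk).symm
  have hzc : ∀ {v}, Cent R (z * v) → v ∈ R → Cent R v := fun {v} hc hv => ⟨hv, fun w hw => by
    have e := hc.2 w hw
    rw [← mul_assoc, z_comm h hw, mul_assoc, mul_assoc z] at e
    exact mul_left_cancel e⟩
  set a := k * z * k⁻¹ with hadef
  obtain ⟨j, hj, hnej, hab, hcov⟩ : ∃ j, j * z * j⁻¹ ∈ R ∧ j * z * j⁻¹ ≠ z ∧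
      (¬ Cent R (a * (j * z * j⁻¹)) ∨ a * (j * z * j⁻¹) = 1) ∧
      ∀ c, c * z * c⁻¹ ∈ R → c * z * c⁻¹ = z ∨ c * z * c⁻¹ = a ∨ c * z * c⁻¹ = z * a ∨
        c * z * c⁻¹ = j * z * j⁻¹ ∨ c * z * c⁻¹ = z * (j * z * j⁻¹) := by
    by_cases hall : ∀ c, c * z * c⁻¹ ∈ R → c * z * c⁻¹ ≠ z → c * z * c⁻¹ * a = a * (c * z * c⁻¹)
    · refine ⟨k, hk, hne, Or.inr (sq_one_of_comm h hne hk rfl), fun c hc => ?_⟩
      by_cases hcz : c * z * c⁻¹ = z
      · exact Or.inl hcz
      rcases conj_near h S hS hk hne hc hcz (hall c hc hcz) with e | e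
      · exact Or.inr (Or.inl e)
      · exact Or.inr (Or.inr (Or.inl e))
    · push Not at hall
      obtain ⟨j, hj, hnej, hjk⟩ := hall
      refine ⟨j, hj, hnej, Or.inl fun hc => hjk ?_, fun c hc => ?_⟩
      · have := hc.2 a hk
        rw [mul_assoc a (j * z * j⁻¹) a] at this
        exact (mul_left_cancel this).symm
      by_cases hcz : c * z * c⁻¹ = z
      · exact Or.inl hcz
      rcases conj_cover h hk hne hj hnej hjk hc (sq_one_of_comm h hcz hc rfl) with e | e
      · rcases conj_near h S hS hk hne hc hcz e with e | e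
        · exact Or.inr (Or.inl e)
        · exact Or.inr (Or.inr (Or.inl e))
      · rcases conj_near h S hS hj hnej hc hcz e with e | e
        · exact Or.inr (Or.inr (Or.inr (Or.inl e)))
        · exact Or.inr (Or.inr (Or.inr (Or.inr e)))
  set b := j * z * j⁻¹ with hbdef
  have haa : a * a = 1 := sq_one_of_comm h hne hk rfl
  have hbb : b * b = 1 := sq_one_of_comm h hnej hj rfl
  let zR : R := ⟨z, z_mem h⟩
  let aR : R := ⟨a, hk⟩
  let bR : R := ⟨b, hj⟩
  let W : Subgroup R := Subgroup.closure {zR, aR, bR}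
  have hzW : zR ∈ W := Subgroup.subset_closure (by simp)
  have haW : aR ∈ W := Subgroup.subset_closure (by simp)
  have hbW : bR ∈ W := Subgroup.subset_closure (by simp)
  haveI : W.Normal := ⟨fun n hn g => by
    rcases h.comm g g.2 n n.2 with e | e
    · rw [show g * n * g⁻¹ = n from Subtype.ext (by simp only [Subgroup.coe_mul, Subgroup.coe_inv]; rw [e]; group)]
      exact hn
    · rw [show g * n * g⁻¹ = zR * n from Subtype.ext (by
        simp only [Subgroup.coe_mul, Subgroup.coe_inv, zR]; rw [e]; group)]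
      exact W.mul_mem hzW hn⟩
  have hcommle : commutator R ≤ W := Subgroup.commutator_le.2 fun v _ w _ => by
    rcases h.comm v v.2 w w.2 with e | e
    · rw [commutatorElement_eq_one_iff_mul_comm.mpr (Subtype.ext e)]; exact W.one_mem
    · rw [show ⁅v, w⁆ = zR from Subtype.ext (by
        simp only [commutatorElement_def, Subgroup.coe_mul, Subgroup.coe_inv, zR]; rw [e]; group)]
      exact hzW
  have hc := Subgroup.Normal.quotient_commutative_iff_commutator_le.mpr hcommle
  letI : CommGroup (R ⧸ W) := { (inferInstance : Group (R ⧸ W)) with mul_comm := hc.is_comm.comm }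
  let φ : R →* R ⧸ W := QuotientGroup.mk' W
  let P : L → Prop := fun d => ∃ e, (e = 1 ∨ e = a ∨ e = b ∨ e = a * b) ∧ (d = e ∨ d = z * e)
  have Pz : ∀ d, P d → P (z * d) := by
    rintro d ⟨e, he, hd | hd⟩ <;> rw [hd]
    · exact ⟨e, he, Or.inr rfl⟩
    · exact ⟨e, he, Or.inl (by rw [← mul_assoc, h.sq_one, one_mul])⟩
  have haz : a * z = z * a := z_comm h hk
  have hbz : b * z = z * b := z_comm h hj
  have Pg : ∀ g, g = a ∨ g = b → ∀ d, P d → P (g * d) := by
    intro g hg d hd
    have hgR : g ∈ R := by rcases hg with rfl | rfl <;> assumption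
    have key : ∀ e, (e = 1 ∨ e = a ∨ e = b ∨ e = a * b) → P (g * e) := by
      intro e he
      rcases h.comm b hj a hk with eba | eba <;>
      rcases hg with rfl | rfl <;> rcases he with rfl | rfl | rfl | rfl
      all_goals first
        | exact ⟨_, Or.inr (Or.inl rfl), Or.inl (mul_one _)⟩
        | exact ⟨_, Or.inr (Or.inr (Or.inl rfl)), Or.inl (mul_one _)⟩
        | exact ⟨1, Or.inl rfl, Or.inl haa⟩
        | exact ⟨1, Or.inl rfl, Or.inl hbb⟩
        | exact ⟨_, Or.inr (Or.inr (Or.inr rfl)), Or.inl rfl⟩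
        | exact ⟨b, Or.inr (Or.inr (Or.inl rfl)), Or.inl (by rw [← mul_assoc, haa, one_mul])⟩
        | exact ⟨_, Or.inr (Or.inr (Or.inr rfl)), Or.inl eba⟩
        | exact ⟨_, Or.inr (Or.inr (Or.inr rfl)), Or.inr eba⟩
        | exact ⟨a, Or.inr (Or.inl rfl), Or.inl (by rw [← mul_assoc, eba, mul_assoc, hbb, mul_one])⟩
        | exact ⟨a, Or.inr (Or.inl rfl), Or.inr (by
            rw [← mul_assoc, eba, mul_assoc, mul_assoc, hbb, mul_one])⟩
    obtain ⟨e, he, hd' | hd'⟩ := hd <;> rw [hd']
    · exact key _ he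
    · rw [← mul_assoc, z_comm h hgR, mul_assoc]; exact Pz _ (key _ he)
  have hgen : ∀ v ∈ W, P v := by
    intro v hv
    induction hv using Subgroup.closure_induction_left with
    | one => exact ⟨1, Or.inl rfl, Or.inl rfl⟩
    | mul_left g hg w _ hw =>
      simp only [Set.mem_insert_iff, Set.mem_singleton_iff] at hg
      rcases hg with rfl | rfl | rfl
      exacts [Pz _ hw, Pg a (Or.inl rfl) _ hw, Pg b (Or.inr rfl) _ hw]
    | inv_mul_cancel g hg w _ hw =>
      simp only [Set.mem_insert_iff, Set.mem_singleton_iff] at hg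
      rw [Subgroup.coe_mul, Subgroup.coe_inv]
      rcases hg with rfl | rfl | rfl
      · rw [inv_eq_of_mul_eq_one_left h.sq_one]; exact Pz _ hw
      · rw [inv_eq_of_mul_eq_one_left haa]; exact Pg a (Or.inl rfl) _ hw
      · rw [inv_eq_of_mul_eq_one_left hbb]; exact Pg b (Or.inr rfl) _ hw
  have huW : (⟨u, hu.1⟩ : R) ∉ W := fun hm => by
    obtain ⟨e, he, e' | e'⟩ := hgen _ hm
    · simp only at e'
      subst e'
      rcases he with rfl | rfl | rfl | rfl
      · exact hu1 rfl
      · exact not_cent h hk hne hu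
      · exact not_cent h hj hnej hu
      · rcases hab with h' | h'
        · exact h' hu
        · exact hu1 h'
    · simp only at e'
      subst e'
      rcases he with rfl | rfl | rfl | rfl
      · exact huz (mul_one z)
      · exact not_cent_z_mul h hk hne hu
      · exact not_cent_z_mul h hj hnej hu
      · rcases hab with h' | h'
        · exact h' (hzc hu (R.mul_mem hk hj))
        · exact huz (by rw [h', mul_one])
  set ι := φ ⟨u, hu.1⟩ with hι
  have hι1 : ι ≠ 1 := fun e => huW ((QuotientGroup.eq_one_iff _).mp e)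
  have hιι : ι * ι = 1 := by
    rw [hι, ← map_mul, show (⟨u, hu.1⟩ : R) * ⟨u, hu.1⟩ = 1 from Subtype.ext huu, map_one]
  have hval : ∀ x : L, ∀ hm : x⁻¹ * u * x ∈ R, φ ⟨_, hm⟩ = ι := by
    intro x hm
    by_cases hxu : x⁻¹ * u * x = u
    · exact congrArg φ (Subtype.ext hxu)
    obtain ⟨c, hc, ec⟩ := key h S hS hu (m := x⁻¹) (by rw [inv_inv]) hm hxu
    have hcW : (⟨c * z * c⁻¹, hc⟩ : R) ∈ W := by
      rcases hcov c hc with e | e | e | e | e
      · rw [show (⟨c * z * c⁻¹, hc⟩ : R) = zR from Subtype.ext e]; exact hzW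
      · rw [show (⟨c * z * c⁻¹, hc⟩ : R) = aR from Subtype.ext e]; exact haW
      · rw [show (⟨c * z * c⁻¹, hc⟩ : R) = zR * aR from Subtype.ext e]; exact W.mul_mem hzW haW
      · rw [show (⟨c * z * c⁻¹, hc⟩ : R) = bR from Subtype.ext e]; exact hbW
      · rw [show (⟨c * z * c⁻¹, hc⟩ : R) = zR * bR from Subtype.ext e]; exact W.mul_mem hzW hbW
    have : (⟨_, hm⟩ : R) = ⟨c * z * c⁻¹, hc⟩ * zR * ⟨u, hu.1⟩ := Subtype.ext ec
    rw [this, map_mul, show φ (⟨c * z * c⁻¹, hc⟩ * zR) = 1 from (QuotientGroup.eq_one_iff _).mpr (W.mul_mem hcW hzW), one_mul]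
  letI : Fintype (L ⧸ R) := Fintype.ofFinite _
  have ht := Invol.transfer_involution φ huu
  rw [hom_eq_one hL, Finset.prod_congr rfl (g := fun q : L ⧸ R => if q.out⁻¹ * u * q.out ∈ R then ι else 1)
    (fun q _ => by
      by_cases hq : q.out⁻¹ * u * q.out ∈ R
      · rw [dif_pos hq, if_pos hq]; exact hval _ hq
      · rw [dif_neg hq, if_neg hq]), Finset.prod_ite, Finset.prod_const, Finset.prod_const_one, mul_one] at ht
  -- the fixed cosets are odd in number
  have hodd : ((Finset.univ.filter fun q : L ⧸ R => q.out⁻¹ * u * q.out ∈ R).card : ZMod 2) = 1 := by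
    have h0 : (∑ q : L ⧸ R, if q.out⁻¹ * u * q.out ∈ R then (0 : ZMod 2) else 1) = 0 := by
      refine Finset.sum_involution (fun q _ => u • q) ?_ ?_ (fun q _ => Finset.mem_univ _)
        (fun q _ => by rw [smul_smul, huu, one_smul])
      · intro q _
        have : (u • q).out⁻¹ * u * (u • q).out ∈ R ↔ q.out⁻¹ * u * q.out ∈ R := by
          rw [← Transfer.HallWielandt.smul_eq_iff, ← Transfer.HallWielandt.smul_eq_iff]
          exact ⟨fun e => MulAction.injective u e, fun e => congrArg (u • ·) e⟩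
        by_cases hq : q.out⁻¹ * u * q.out ∈ R
        · simp [hq, this.mpr hq]
        · simp only [if_neg hq, if_neg (mt this.mp hq)]; rfl
      · intro q _ hq e
        rw [if_pos ((Transfer.HallWielandt.smul_eq_iff q).mp e)] at hq
        exact hq rfl
    have h1 : (Fintype.card (L ⧸ R) : ZMod 2) = 1 := by
      have := S.not_dvd_index
      rw [hS, Subgroup.index, Nat.card_eq_fintype_card] at this
      rw [← Nat.cast_one, ZMod.natCast_eq_natCast_iff']
      omega
    have h2 := Finset.sum_ite (s := (Finset.univ : Finset (L ⧸ R))) (p := fun q => q.out⁻¹ * u * q.out ∈ R)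
      (f := fun _ => (0 : ZMod 2)) (g := fun _ => 1)
    rw [h0, Finset.sum_const_zero, zero_add, Finset.sum_const, nsmul_one] at h2
    have h3 := Finset.card_filter_add_card_filter_not (s := (Finset.univ : Finset (L ⧸ R)))
      (fun q => q.out⁻¹ * u * q.out ∈ R)
    rw [← Finset.card_univ, ← h3, Nat.cast_add, ← h2, add_zero] at h1
    exact h1
  rw [← Nat.cast_one, ZMod.natCast_eq_natCast_iff'] at hodd
  rw [← Nat.div_add_mod (Finset.card _) 2, hodd, pow_add, pow_mul, pow_two, hιι, one_pow, one_mul, pow_one] at ht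
  exact hι1 ht.symm

/-- The main result for `Data`. -/
theorem dihedral : Nonempty (R ≃* DihedralGroup 4) := by
  obtain ⟨k, hk, hne⟩ := exists_conj h S hS hL
  obtain ⟨s, hs, es⟩ := exists_moving h hk hne
  haveI : Fact (Nat.Prime 2) := ⟨Nat.prime_two⟩
  have haa : k * z * k⁻¹ * (k * z * k⁻¹) = 1 := sq_one_of_comm h hne hk rfl
  generalize hadef : k * z * k⁻¹ = a at *
  have hA : ∀ r ∈ R, r * a = a * r → ∃ j i : ℕ, r = a ^ j * z ^ i := by
    intro r hr hra
    by_cases hc : Cent R r
    · rcases cent_eq h S hS hL hc with rfl | rfl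
      · exact ⟨0, 0, by simp⟩
      · exact ⟨0, 1, by simp⟩
    have hmov : ∀ y ∈ R, y * a ≠ a * y → y * r = z * (r * y) := by
      intro y hy nya
      refine (h.comm y hy r hr).resolve_left fun hyr => hc ⟨hr, fun w hw => ?_⟩
      by_cases hwa : w * a = a * w
      · subst hadef; exact cent_comm h hne hw hr hwa hra
      have h3 : w * y * r = r * (w * y) := by
        subst hadef; exact cent_comm h hne (R.mul_mem hw hy) hr (comm_mul h hk hw hy hwa nya) hra
      refine mul_right_cancel (b := y) ?_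
      calc w * r * y = w * (r * y) := mul_assoc _ _ _
        _ = w * (y * r) := by rw [hyr]
        _ = r * w * y := by rw [← mul_assoc, h3, ← mul_assoc]
    have hca : Cent R (r * a) := ⟨R.mul_mem hr hk, fun y hy => by
      by_cases hya : y * a = a * y
      · have hyr : y * r = r * y := by subst hadef; exact cent_comm h hne hy hr hya hra
        rw [← mul_assoc, hyr, mul_assoc, hya, ← mul_assoc]
      · calc y * (r * a) = y * r * a := by group
          _ = z * r * (y * a) := by rw [hmov y hy hya]; group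
          _ = z * (r * z) * (a * y) := by rw [(h.comm y hy a hk).resolve_left hya]; group
          _ = z * z * (r * a * y) := by rw [z_comm h hr]; group
          _ = r * a * y := by rw [h.sq_one, one_mul]⟩
    rcases cent_eq h S hS hL hca with e | e
    · exact ⟨1, 0, by rw [pow_one, pow_zero, mul_one]; exact (eq_inv_of_mul_eq_one_left e).trans (inv_eq_of_mul_eq_one_left haa)⟩
    · exact ⟨1, 1, by rw [pow_one, pow_one, z_comm h hk, ← e, mul_assoc, haa, mul_one]⟩
  refine Fus.HeisData.dihedral (p := 2) (z := (⟨z, z_mem h⟩ : R)) (g := ⟨s, hs⟩) (v := ⟨a, hk⟩)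
    ⟨fun e => h.ne_one (congrArg Subtype.val e), Subtype.ext (by simp [pow_two, h.sq_one]),
      fun w => Subtype.ext (z_comm h w.2).symm, Subtype.ext ?_, Subtype.ext (by simp [pow_two, haa]), ?_, ?_⟩ rfl
  · simp only [Subgroup.coe_mul, Subgroup.coe_inv]; rw [es]; group
  · rw [Subgroup.mem_zpowers_iff]
    rcases h.sq s hs with e | e
    · exact ⟨0, Subtype.ext (by simp [pow_two, e])⟩
    · exact ⟨1, Subtype.ext (by simp [pow_two, e])⟩
  · rintro ⟨r, hr⟩
    by_cases hra : r * a = a * r
    · obtain ⟨j, i, e⟩ := hA r hr hra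
      exact ⟨0, j, i, Subtype.ext (by simp [e])⟩
    have hsa : s * a ≠ a * s := fun e => h.ne_one (mul_eq_right.mp (es.symm.trans e))
    have hsr := comm_mul h hk hs hr hsa hra
    have hcs : s * s * a = a * (s * s) := comm_mul h hk hs hs hsa hsa
    obtain ⟨j, i, e⟩ := hA (s * s * (s * r)) (R.mul_mem (R.mul_mem hs hs) (R.mul_mem hs hr))
      (by rw [mul_assoc, hsr, ← mul_assoc, hcs, mul_assoc])
    refine ⟨1, j, i, Subtype.ext ?_⟩
    simp only [Subgroup.coe_mul, SubgroupClass.coe_pow, pow_one]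
    rw [mul_assoc s, ← e]
    rcases h.sq s hs with e' | e'
    · rw [e', one_mul, ← mul_assoc, e', one_mul]
    · rw [e', ← mul_assoc, z_comm h hs, mul_assoc, ← mul_assoc s s, e', ← mul_assoc, h.sq_one, one_mul]

end Cfsg.Agent.Spor.CentD8
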