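import Mathlib

/-! Central products of two quaternion groups of order eight: finite facts in `Q₈ × Q₈`. -/

set_option autoImplicit false
set_option maxRecDepth 100000

namespace Cfsg.Agent.Spor.CentralQuatPlane

open QuaternionGroup

/-- the model -/
abbrev M : Type := QuaternionGroup 2 × QuaternionGroup 2

/-- the identified centre -/
def zz : M := (a 2, a 2)

/-- the diagonal central element -/
def z1 : M := (a 2, 1)

/-- equality modulo the kernel -/
def Eqv (x y : M) : Prop := x = y ∨ x = y * zz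

instance (x y : M) : Decidable (Eqv x y) := inferInstanceAs (Decidable (_ ∨ _))

/-- commuting modulo the kernel -/
def Com (x y : M) : Prop := Eqv (x * y) (y * x)

instance (x y : M) : Decidable (Com x y) := inferInstanceAs (Decidable (Eqv _ _))

/-- generators -/
def gI : M := (a 1, 1)

/-- generators -/
def gJ : M := (xa 0, 1)

/-- the two planes -/
def planeP : Fin 2 → M
  | 0 => (a 1, a 1)
  | 1 => (a 1, xa 0)

/-- the two planes -/
def planeR : Fin 2 → M
  | 0 => (xa 0, xa 0)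
  | 1 => (xa 0, a 1 * xa 0)

/-- elements of a plane -/
def reps (k : Fin 2) : Finset M :=
  (Finset.univ : Finset M).filter fun x =>
    Com x (planeP k) ∧ Com x (planeR k) ∧ x.1 ∈ ([a 0, a 1, xa 0, xa 1] : List (QuaternionGroup 2))

theorem reps_card : ∀ k, (reps k).card = 8 := by decide +kernel

theorem reps_cover : ∀ k, ∀ x : M, Com x (planeP k) → Com x (planeR k) →
    ∃ y ∈ reps k, Eqv x y := by decide +kernel

theorem reps_inj : ∀ k, ∀ x ∈ reps k, ∀ y ∈ reps k, Eqv x y → x = y := by decide +kernel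

theorem reps_comm : ∀ k, ∀ x ∈ reps k, ∀ y ∈ reps k, Com x y ∧ Eqv (x * x) 1 := by decide +kernel

theorem plane_mem : ∀ k, Com (planeP k) (planeP k) ∧ Com (planeP k) (planeR k) ∧
    Com (planeR k) (planeR k) := by decide +kernel

/-- the image of a generator pair under a map fixing the plane -/
def Image (k : Fin 2) (x y : M) : Prop :=
  Com x (planeP k) ∧ Com y (planeR k) ∧
    Eqv (x * planeR k) (planeR k * x * z1) ∧ Eqv (y * planeP k) (planeP k * y * z1) ∧
    Eqv (x * x) z1 ∧ Eqv (y * y) z1 ∧ Eqv (x * y) (y * x * z1)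

instance (k : Fin 2) (x y : M) : Decidable (Image k x y) := inferInstanceAs (Decidable (_ ∧ _))

theorem inner_or_swap_zero : ∀ x y : M, Image 0 x y →
    (∃ q : M, Eqv x (q * gI * q⁻¹) ∧ Eqv y (q * gJ * q⁻¹) ∧
      Com q (planeP 0) ∧ Com q (planeR 0)) ∨
    ((Eqv x (1, a 1) ∨ Eqv x (1, a 3)) ∧ (Eqv y (1, xa 0) ∨ Eqv y (1, xa 2))) := by
  decide +kernel

theorem inner_or_swap_one : ∀ x y : M, Image 1 x y →
    (∃ q : M, Eqv x (q * gI * q⁻¹) ∧ Eqv y (q * gJ * q⁻¹) ∧
      Com q (planeP 1) ∧ Com q (planeR 1)) ∨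
    ((Eqv x (1, xa 0) ∨ Eqv x (1, xa 2)) ∧
      (Eqv y (1, a 1 * xa 0) ∨ Eqv y (1, a 1 * xa 2))) := by
  decide +kernel

theorem image_gen : ∀ k, Image k gI gJ := by decide +kernel

theorem decompose : gI * gI = z1 ∧ z1 * z1 = (1 : M) := by decide +kernel

theorem generate : ∀ k, ∀ x : M, ∃ i j l m : Fin 4,
    x = gI ^ (i : ℕ) * gJ ^ (j : ℕ) * planeP k ^ (l : ℕ) * planeR k ^ (m : ℕ) := by decide +kernel

/-- the three cyclic subgroups of order four of the first factor -/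
def cyc : Fin 3 → M
  | 0 => gI
  | 1 => (a 1 * xa 0, 1)
  | 2 => gJ

/-- equality up to the centre -/
def Eqz (x y : M) : Prop := Eqv x y ∨ Eqv x (y * z1)

instance (x y : M) : Decidable (Eqz x y) := inferInstanceAs (Decidable (_ ∨ _))

theorem cyc_ne : ¬ Eqz (cyc 1) gI ∧ ¬ Eqz (cyc 2) gI := by decide +kernel

theorem cyc_mul : Eqz (cyc 0 * cyc 2) (cyc 1) ∧ Eqz (cyc 1 * cyc 0) (cyc 2) := by decide +kernel

theorem swap_gen : Eqv ((1, a 1) : M) (gI⁻¹ * planeP 0) ∧ Eqv ((1, xa 0) : M) (gJ⁻¹ * planeR 0) ∧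
    Eqz ((1, a 3) : M) (1, a 1) ∧ Eqz ((1, xa 2) : M) (1, xa 0) ∧
    Eqz ((1, a 1 * xa 2) : M) (1, a 1 * xa 0) := by decide +kernel

theorem second_gen : Eqv ((1, xa 0) : M) (gI⁻¹ * planeP 1) ∧
    Eqz ((1, a 1) : M) ((gJ⁻¹ * planeR 1) * (gI⁻¹ * planeP 1)) := by decide +kernel

theorem compose : Eqz (((1, xa 0) : M)⁻¹ * planeP 1) gI ∧
    Eqz ((((1, a 1 * xa 0) : M)⁻¹ * planeR 1) * (((1, xa 0) : M)⁻¹ * planeP 1)) (cyc 1) := by
  decide +kernel

theorem plane_conj : ∀ k, ∀ x : M, ∀ y ∈ reps k,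
    Com (x * y * x⁻¹) (planeP k) ∧ Com (x * y * x⁻¹) (planeR k) := by decide +kernel

end Cfsg.Agent.Spor.CentralQuatPlane
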