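import Mathlib

/-!
For permutations x and y generating a transitive group, the orbit numbers of x, y and their product add up to at
most two more than the number of points.  The proof counts dimensions in the permutation module.
-/

set_option autoImplicit false

namespace Cfsg.Agent.Spor.CycleSum

set_option linter.unusedSectionVars false

variable {α : Type*} [Fintype α]

/-- The permutation of coordinates. -/
noncomputable def permMap (g : Equiv.Perm α) : (α → ℚ) →ₗ[ℚ] (α → ℚ) := LinearMap.funLeft ℚ ℚ g.symm

theorem permMap_apply (g : Equiv.Perm α) (f : α → ℚ) (a : α) : permMap g f a = f (g.symm a) := rfl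

theorem permMap_mul (g h : Equiv.Perm α) (f : α → ℚ) : permMap (g * h) f = permMap g (permMap h f) := rfl

/-- The part moved by a permutation. -/
noncomputable def moved (g : Equiv.Perm α) : Submodule ℚ (α → ℚ) := LinearMap.range (LinearMap.id - permMap g)

/-- The part fixed by a permutation. -/
noncomputable def fixedPart (g : Equiv.Perm α) : Submodule ℚ (α → ℚ) := LinearMap.ker (LinearMap.id - permMap g)

theorem mem_fixedPart {g : Equiv.Perm α} {f : α → ℚ} : f ∈ fixedPart g ↔ permMap g f = f := by
  rw [fixedPart, LinearMap.mem_ker, LinearMap.sub_apply, LinearMap.id_apply, sub_eq_zero]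
  exact eq_comm

theorem finrank_moved (g : Equiv.Perm α) :
    Module.finrank ℚ (moved g) + Module.finrank ℚ (fixedPart g) = Fintype.card α := by
  rw [moved, fixedPart, LinearMap.finrank_range_add_finrank_ker, Module.finrank_pi]

/-- Permutations that move within a submodule. -/
def stable (W : Submodule ℚ (α → ℚ)) : Subgroup (Equiv.Perm α) where
  carrier := {g | ∀ f, permMap g f - f ∈ W}
  one_mem' f := by
    have : permMap (1 : Equiv.Perm α) f = f := rfl
    rw [this, sub_self]
    exact W.zero_mem
  mul_mem' {a b} ha hb f := by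
    rw [permMap_mul, ← sub_add_sub_cancel (permMap a (permMap b f)) (permMap b f) f]
    exact W.add_mem (ha _) (hb f)
  inv_mem' {a} ha f := by
    have h := ha (permMap a⁻¹ f)
    have e : permMap a (permMap a⁻¹ f) = f := by
      rw [← permMap_mul, mul_inv_cancel]
      rfl
    rw [e] at h
    have := W.neg_mem h
    rwa [neg_sub] at this

theorem finrank_sup_moved {x y : Equiv.Perm α}
    (htr : MulAction.IsPretransitive (Subgroup.closure ({x, y} : Set (Equiv.Perm α))) α) :
    Fintype.card α ≤ Module.finrank ℚ ↥(moved x ⊔ moved y) + 1 := by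
  classical
  rcases isEmpty_or_nonempty α with hα | ⟨⟨a⟩⟩
  · simp
  set W := moved x ⊔ moved y
  have hS : Subgroup.closure ({x, y} : Set (Equiv.Perm α)) ≤ stable W := by
    refine (Subgroup.closure_le _).2 ?_
    intro g hg f
    have h : (LinearMap.id - permMap g : (α → ℚ) →ₗ[ℚ] (α → ℚ)) f ∈ moved g := LinearMap.mem_range_self _ f
    have : f - permMap g f ∈ W := by
      rcases hg with rfl | hg
      · exact Submodule.mem_sup_left h
      · rw [Set.mem_singleton_iff] at hg
        subst hg
        exact Submodule.mem_sup_right h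
    have := W.neg_mem this
    rwa [neg_sub] at this
  set e : α → ℚ := Pi.single a 1
  have htop : W ⊔ Submodule.span ℚ {e} = ⊤ := by
    refine top_le_iff.1 ?_
    rw [← (Pi.basisFun ℚ α).span_eq, Submodule.span_le]
    rintro _ ⟨b, rfl⟩
    obtain ⟨g, hg⟩ := htr.exists_smul_eq a b
    have h := hS g.2 e
    have e2 : permMap (g : Equiv.Perm α) e = Pi.single b 1 := by
      funext c
      rw [permMap_apply, ← hg]
      simp only [e, Pi.single_apply, Equiv.symm_apply_eq]
      rfl
    rw [e2] at h
    rw [Pi.basisFun_apply, ← sub_add_cancel (Pi.single b (1 : ℚ) : α → ℚ) e]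
    exact Submodule.add_mem_sup h (Submodule.subset_span rfl)
  have h := Submodule.finrank_add_le_finrank_add_finrank W (Submodule.span ℚ {e})
  rw [htop, finrank_top, Module.finrank_pi] at h
  have h1 : Module.finrank ℚ (Submodule.span ℚ {e}) ≤ 1 := by
    refine le_trans (finrank_span_le_card _) ?_
    simp
  omega

theorem finrank_fixed_both {x y : Equiv.Perm α}
    (htr : MulAction.IsPretransitive (Subgroup.closure ({x, y} : Set (Equiv.Perm α))) α) :
    Module.finrank ℚ ↥(fixedPart x ⊓ fixedPart y) ≤ 1 := by
  classical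
  rcases isEmpty_or_nonempty α with hα | ⟨⟨a⟩⟩
  · refine le_trans (Submodule.finrank_le _) ?_
    rw [Module.finrank_pi]
    simp
  let f : ↥(fixedPart x ⊓ fixedPart y) →ₗ[ℚ] ℚ := (LinearMap.proj a).comp (Submodule.subtype _)
  have hf : Function.Injective f := by
    rw [← LinearMap.ker_eq_bot, LinearMap.ker_eq_bot']
    rintro ⟨v, hx, hy⟩ hv
    rw [SetLike.mem_coe, mem_fixedPart] at hx hy
    refine Subtype.ext (funext fun b => ?_)
    obtain ⟨g, hg⟩ := htr.exists_smul_eq a b
    have key : ∀ g ∈ Subgroup.closure ({x, y} : Set (Equiv.Perm α)), permMap g v = v := by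
      intro g hg
      induction hg using Subgroup.closure_induction with
      | mem g hg =>
        rcases hg with rfl | rfl
        · exact hx
        · exact hy
      | one => rfl
      | mul p q _ _ hp hq => rw [permMap_mul, hq, hp]
      | inv p _ hp =>
        conv_lhs => rw [← hp]
        rw [← permMap_mul, inv_mul_cancel]
        rfl
    have := congrFun (key g.1 g.2) b
    rw [permMap_apply, ← hg] at this
    have e : g.1.symm (g • a) = a := g.1.symm_apply_apply a
    rw [e] at this
    show v b = 0
    rw [← hg, ← this]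
    exact hv
  have := LinearMap.finrank_le_finrank_of_injective hf
  rwa [Module.finrank_self] at this

/-- The inequality. -/
theorem main {x y : Equiv.Perm α}
    (htr : MulAction.IsPretransitive (Subgroup.closure ({x, y} : Set (Equiv.Perm α))) α) :
    Module.finrank ℚ (fixedPart x) + Module.finrank ℚ (fixedPart y) + Module.finrank ℚ (fixedPart (x * y)) ≤
      Fintype.card α + 2 := by
  let ψ : moved x × moved y →ₗ[ℚ] (α → ℚ) :=
    (moved x).subtype.coprod ((permMap x).comp (moved y).subtype)
  have hsub : moved x ⊔ moved y ≤ LinearMap.range ψ := by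
    refine sup_le (fun u hu => ⟨(⟨u, hu⟩, 0), by simp [ψ]⟩) fun u hu => ?_
    refine ⟨(⟨(LinearMap.id - permMap x : (α → ℚ) →ₗ[ℚ] (α → ℚ)) u, LinearMap.mem_range_self _ u⟩, ⟨u, hu⟩), ?_⟩
    simp [ψ]
  let φ : fixedPart (x * y) →ₗ[ℚ] moved x × moved y :=
    (((LinearMap.id - permMap x : (α → ℚ) →ₗ[ℚ] (α → ℚ)).rangeRestrict.comp (fixedPart (x * y)).subtype)).prod
      (((LinearMap.id - permMap y : (α → ℚ) →ₗ[ℚ] (α → ℚ)).rangeRestrict.comp (fixedPart (x * y)).subtype))
  have hker : LinearMap.range φ ≤ LinearMap.ker ψ := by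
    rintro _ ⟨v, rfl⟩
    have hv := mem_fixedPart.1 v.2
    rw [permMap_mul] at hv
    rw [LinearMap.mem_ker]
    show ((v : α → ℚ) - permMap x v) + permMap x ((v : α → ℚ) - permMap y v) = 0
    rw [map_sub, hv]
    abel
  have hK : (LinearMap.ker φ).map (fixedPart (x * y)).subtype ≤ fixedPart x ⊓ fixedPart y := by
    rintro _ ⟨v, hv, rfl⟩
    rw [SetLike.mem_coe, LinearMap.mem_ker] at hv
    have h1 := congrArg (fun p : moved x × moved y => (p.1 : α → ℚ)) hv
    have h2 := congrArg (fun p : moved x × moved y => (p.2 : α → ℚ)) hv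
    exact ⟨(LinearMap.mem_ker).2 h1, (LinearMap.mem_ker).2 h2⟩
  have a1 := finrank_moved x
  have a2 := finrank_moved y
  have a3 := LinearMap.finrank_range_add_finrank_ker ψ
  have a4 := LinearMap.finrank_range_add_finrank_ker φ
  have a5 := Submodule.finrank_mono hsub
  have a6 := Submodule.finrank_mono hker
  have a7 := Submodule.finrank_mono hK
  have a8 : Module.finrank ℚ ↥((LinearMap.ker φ).map (fixedPart (x * y)).subtype) =
      Module.finrank ℚ ↥(LinearMap.ker φ) :=
    ((Submodule.equivMapOfInjective _ (Submodule.subtype_injective _) _).finrank_eq).symm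
  have a9 := finrank_sup_moved htr
  have a10 := finrank_fixed_both htr
  rw [Module.finrank_prod] at a3
  omega

/-- An element of prime order has an orbit for each fixed point and one for every p of the others. -/
theorem fixedPart_ge [DecidableEq α] [Nonempty α] {g : Equiv.Perm α} {p : ℕ} (hp : p.Prime) (hg : orderOf g = p) :
    Fintype.card α + (p - 1) * (Finset.univ.filter fun a => g a = a).card ≤
      p * Module.finrank ℚ (fixedPart g) := by
  classical
  let Z := Subgroup.zpowers g
  let Q := MulAction.orbitRel.Quotient Z α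
  let f : (Q → ℚ) →ₗ[ℚ] (fixedPart g) :=
    LinearMap.codRestrict (fixedPart g) (LinearMap.funLeft ℚ ℚ (Quotient.mk'' : α → Q)) fun u => by
      rw [mem_fixedPart]
      funext a
      rw [permMap_apply, LinearMap.funLeft_apply, LinearMap.funLeft_apply]
      congr 1
      exact Quotient.sound ⟨⟨g⁻¹, inv_mem (Subgroup.mem_zpowers g)⟩, rfl⟩
  have hf : Function.Injective f := fun u v h =>
    LinearMap.funLeft_injective_of_surjective ℚ ℚ _ (Quotient.mk''_surjective) (congrArg Subtype.val h)
  have h1 := LinearMap.finrank_le_finrank_of_injective hf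
  rw [Module.finrank_pi] at h1
  have hb := MulAction.sum_card_fixedBy_eq_card_orbits_mul_card_group Z α
  have hZ : Fintype.card Z = p := by rw [← Nat.card_eq_fintype_card, Nat.card_zpowers, hg]
  have hfix : ∀ z : Z, (Finset.univ.filter fun a => g a = a).card ≤ Fintype.card (MulAction.fixedBy α z) := by
    intro z
    rw [← Set.toFinset_card]
    refine Finset.card_le_card fun a ha => ?_
    rw [Finset.mem_filter] at ha
    rw [Set.mem_toFinset, MulAction.mem_fixedBy]
    obtain ⟨k, hk⟩ := Subgroup.mem_zpowers_iff.1 z.2
    show (z : Equiv.Perm α) a = a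
    rw [← hk]
    exact Equiv.Perm.zpow_apply_eq_self_of_apply_eq_self ha.2 k
  have h3 : Fintype.card α + (p - 1) * (Finset.univ.filter fun a => g a = a).card ≤
      ∑ z : Z, Fintype.card (MulAction.fixedBy α z) := by
    rw [← Finset.add_sum_erase _ _ (Finset.mem_univ (1 : Z))]
    refine add_le_add (le_of_eq ?_) ?_
    · rw [← Set.toFinset_card]
      exact (congrArg Finset.card (Finset.eq_univ_iff_forall.2 fun a => by simp)).symm
    · refine le_trans ?_ (Finset.card_nsmul_le_sum _ _ _ fun z _ => hfix z)
      rw [Finset.card_erase_of_mem (Finset.mem_univ _), Finset.card_univ, hZ, smul_eq_mul]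
  rw [hb, hZ] at h3
  refine h3.trans ?_
  rw [mul_comm]
  exact Nat.mul_le_mul_left p h1

end Cfsg.Agent.Spor.CycleSum
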