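import Cfsg.Agent.Lib.Spor.ExtraPairX
import Cfsg.Agent.Lib.Transfer.Cores

/-!
The group generated by two extraspecial groups whose centres lie in each other induces the symmetric group of
degree three on the four group of the centres.
-/

set_option autoImplicit false
set_option linter.unusedSectionVars false

open scoped commutatorElement

namespace Cfsg.Agent.Spor.ExtraPair.Duo

variable {G : Type*} [Group G] [Finite G] {z b : G} {Q P : Subgroup G}
variable (d : Duo z b Q P)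
include d

theorem R_le_X : d.R ≤ d.X :=
  sup_le (inf_le_left.trans le_sup_right) (inf_le_left.trans le_sup_left)

theorem isPGroup_R (hQ : IsPGroup 2 Q) (hP : IsPGroup 2 P) : IsPGroup 2 d.R := by
  rw [R, sup_comm]
  refine (hQ.to_le inf_le_left).to_sup_of_normal_left' (hP.to_le inf_le_left) fun p hp => ?_
  exact Subgroup.mem_normalizer_iff.2 fun y => ⟨fun hy => d.C_norm_A (d.mem_C.2 (d.B_fix hp)) hy, fun hy => by
    have := d.C_norm_A (inv_mem (d.mem_C.2 (d.B_fix hp))) hy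
    simpa [A, Subgroup.mem_inf, mul_assoc] using this⟩

/-- The facts needed about a moving element `q` of `Q` and a moving element `p` of `P`. -/
structure Moving (d : Duo z b Q P) (q p : G) : Prop where
  qQ : q ∈ Q
  pP : p ∈ P
  qb : q * b * q⁻¹ = b * z
  pz : p * z * p⁻¹ = b * z

theorem exists_moving : ∃ q p, Moving d q p := by
  obtain ⟨q, hq, hqb⟩ : ∃ q ∈ Q, q * b ≠ b * q := by
    by_contra hcon
    simp only [not_exists, not_and, not_not] at hcon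
    rcases d.left.cen b d.memQ hcon with e | e
    exacts [d.right.ne e, d.ne e]
  obtain ⟨p, hp, hpz⟩ : ∃ p ∈ P, p * z ≠ z * p := by
    by_contra hcon
    simp only [not_exists, not_and, not_not] at hcon
    rcases d.right.cen z d.memP hcon with e | e
    exacts [d.left.ne e, d.ne e.symm]
  exact ⟨q, p, hq, hp, ((d.left.conj_cases d.memQ hq).resolve_left hqb).2,
    ((d.right.conj_cases d.memP hp).resolve_left hpz).2.trans d.zb⟩

variable {q p : G} (m : Moving d q p)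
include m

theorem qz : q * z * q⁻¹ = z := by rw [d.left.central q m.qQ, mul_inv_cancel_right]

theorem pb : p * b * p⁻¹ = b := by rw [d.right.central p m.pP, mul_inv_cancel_right]

theorem qbz : q * (b * z) * q⁻¹ = b := by
  rw [← conj_mul, m.qb, d.qz m, mul_assoc, d.left.zz, mul_one]

theorem pbz : p * (b * z) * p⁻¹ = z := by
  rw [← conj_mul, d.pb m, m.pz, ← mul_assoc, d.right.zz, one_mul]

theorem q_norm_A {a : G} (ha : a ∈ d.A) : q * a * q⁻¹ ∈ d.A := by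
  obtain ⟨haQ, hab⟩ := d.mem_A.1 ha
  rcases d.left.conj_eq haQ m.qQ with e | e <;> rw [e]
  · exact ha
  · exact mul_mem ha (d.mem_A.2 ⟨d.left.mem, d.zb⟩)

theorem p_norm_B {a : G} (ha : a ∈ d.B) : p * a * p⁻¹ ∈ d.B := by
  obtain ⟨haP, haz⟩ := d.mem_B.1 ha
  rcases d.right.conj_eq haP m.pP with e | e <;> rw [e]
  · exact ha
  · exact mul_mem ha (d.mem_B.2 ⟨d.right.mem, d.zb.symm⟩)

theorem q_norm_C {c : G} (hc : c ∈ d.C) : q * c * q⁻¹ ∈ d.C := by
  obtain ⟨cz, cb⟩ := d.mem_C.1 hc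
  have k : ∀ y, c * y = y * c → q * c * q⁻¹ * (q * y * q⁻¹) = q * y * q⁻¹ * (q * c * q⁻¹) := fun y e => by
    rw [conj_mul, conj_mul, e]
  refine d.mem_C.2 ⟨?_, ?_⟩
  · have := k z cz; rwa [d.qz m] at this
  · have := k (b * z) (by rw [← mul_assoc, cb, mul_assoc, cz, mul_assoc]); rwa [d.qbz m] at this

theorem p_norm_C {c : G} (hc : c ∈ d.C) : p * c * p⁻¹ ∈ d.C := by
  obtain ⟨cz, cb⟩ := d.mem_C.1 hc
  have k : ∀ y, c * y = y * c → p * c * p⁻¹ * (p * y * p⁻¹) = p * y * p⁻¹ * (p * c * p⁻¹) := fun y e => by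
    rw [conj_mul, conj_mul, e]
  refine d.mem_C.2 ⟨?_, ?_⟩
  · have := k (b * z) (by rw [← mul_assoc, cb, mul_assoc, cz, mul_assoc]); rwa [d.pbz m] at this
  · have := k b cb; rwa [d.pb m] at this

theorem q_norm_R {r : G} (hr : r ∈ d.R) : q * r * q⁻¹ ∈ d.R := by
  obtain ⟨s, hs, a, ha, rfl⟩ := d.mem_R.1 hr
  rw [← conj_mul]
  refine mul_mem ?_ (Subgroup.mem_sup_right (d.q_norm_A m ha))
  have hA : q * s * q⁻¹ * s⁻¹ ∈ d.A := by
    have h1 : q * (s * q⁻¹ * s⁻¹) ∈ Q := mul_mem m.qQ (d.left.norm s (d.B_fix hs).1 _ (inv_mem m.qQ))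
    refine d.mem_A.2 ⟨by simpa [mul_assoc] using h1, ?_⟩
    exact (d.mem_C.1 (mul_mem (d.q_norm_C m (d.mem_C.2 (d.B_fix hs))) (inv_mem (d.mem_C.2 (d.B_fix hs))))).2
  have e : q * s * q⁻¹ = q * s * q⁻¹ * s⁻¹ * s := by group
  rw [e]; exact mul_mem (Subgroup.mem_sup_right hA) (Subgroup.mem_sup_left hs)

theorem p_norm_R {r : G} (hr : r ∈ d.R) : p * r * p⁻¹ ∈ d.R := by
  obtain ⟨s, hs, a, ha, rfl⟩ := d.mem_R.1 hr
  rw [← conj_mul]
  refine mul_mem (Subgroup.mem_sup_left (d.p_norm_B m hs)) ?_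
  have hB : p * a * p⁻¹ * a⁻¹ ∈ d.B := by
    have h1 : p * (a * p⁻¹ * a⁻¹) ∈ P := mul_mem m.pP (d.right.norm a (d.A_fix ha).2 _ (inv_mem m.pP))
    refine d.mem_B.2 ⟨by simpa [mul_assoc] using h1, ?_⟩
    exact (d.mem_C.1 (mul_mem (d.p_norm_C m (d.mem_C.2 (d.A_fix ha))) (inv_mem (d.mem_C.2 (d.A_fix ha))))).1
  have e : p * a * p⁻¹ = p * a * p⁻¹ * a⁻¹ * a := by group
  rw [e]; exact mul_mem (Subgroup.mem_sup_left hB) (Subgroup.mem_sup_right ha)

theorem qq : q * q ∈ d.R := by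
  rcases d.left.sq q m.qQ with e | e <;> rw [e]
  · exact one_mem _
  · exact Subgroup.mem_sup_right (d.mem_A.2 ⟨d.left.mem, d.zb⟩)

theorem pp : p * p ∈ d.R := by
  rcases d.right.sq p m.pP with e | e <;> rw [e]
  · exact one_mem _
  · exact Subgroup.mem_sup_left (d.mem_B.2 ⟨d.right.mem, d.zb.symm⟩)

variable {g : G} (hg : g * z * g⁻¹ = b) (hgP : P = Q.map (MulAut.conj g).toMonoidHom)
include hg hgP

/-- The braid relation modulo `R`. -/
theorem braid : (p * q * p)⁻¹ * (q * p * q) ∈ d.R := by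
  obtain ⟨w, hw⟩ : ∃ w, w = q⁻¹ * (p * q * p⁻¹) * q := ⟨_, rfl⟩
  have hwP : w ∈ P := by
    have e : p * z * p⁻¹ = (q * g) * z * (q * g)⁻¹ := by
      rw [m.pz, show q * g * z * (q * g)⁻¹ = q * (g * z * g⁻¹) * q⁻¹ by group, hg, m.qb]
    have h1 := d.conjQ p (q * g) e q m.qQ
    rw [hgP]
    refine ⟨_, h1, ?_⟩
    show g * ((q * g)⁻¹ * (p * q * p⁻¹) * (q * g)) * g⁻¹ = w
    rw [hw]; group
  have hpB : p⁻¹ * w ∈ d.B := by
    refine d.mem_B.2 ⟨mul_mem (inv_mem m.pP) hwP, ?_⟩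
    have e1 : p⁻¹ * z * p = b * z := by
      calc p⁻¹ * z * p = p⁻¹ * (p * (b * z) * p⁻¹) * p := by rw [d.pbz m]
        _ = b * z := by group
    have e2 : q⁻¹ * b * q = b * z := by
      calc q⁻¹ * b * q = q⁻¹ * (q * (b * z) * q⁻¹) * q := by rw [d.qbz m]
        _ = b * z := by group
    have ew : w * z * w⁻¹ = b * z := by
      calc w * z * w⁻¹ = q⁻¹ * (p * (q * (p⁻¹ * (q * z * q⁻¹) * p) * q⁻¹) * p⁻¹) * q := by rw [hw]; group
        _ = b * z := by rw [d.qz m, e1, d.qbz m, d.pb m, e2]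
    calc p⁻¹ * w * z = p⁻¹ * (w * z * w⁻¹) * p * (p⁻¹ * w) := by group
      _ = p⁻¹ * (p * z * p⁻¹) * p * (p⁻¹ * w) := by rw [ew, m.pz]
      _ = z * (p⁻¹ * w) := by group
  -- rewrite `p q p⁻¹ q ∈ q p R` modulo squares
  have h1 : p⁻¹ * w ∈ d.R := Subgroup.mem_sup_left hpB
  rw [hw] at h1
  have n1 : (q⁻¹ * (p⁻¹ * p⁻¹) * q) ∈ d.R := by
    have hp2 : p⁻¹ * p⁻¹ ∈ d.R := by simpa [mul_inv_rev] using inv_mem (d.pp m)
    have := d.q_norm_R m hp2
    have hq2 := d.qq m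
    have e : q⁻¹ * (p⁻¹ * p⁻¹) * q = (q * q)⁻¹ * (q * (p⁻¹ * p⁻¹) * q⁻¹) * (q * q) := by group
    rw [e]; exact mul_mem (mul_mem (inv_mem hq2) this) hq2
  have key : (p * q * p)⁻¹ * (q * p * q) = (p⁻¹ * (q⁻¹ * (p⁻¹ * p⁻¹) * q) * p) *
      (p⁻¹ * (q⁻¹ * p * q * p⁻¹ * q) * ((q⁻¹ * (p * p) * q))) := by simp [mul_assoc]
  rw [key]
  have n2 : ∀ r ∈ d.R, p⁻¹ * r * p ∈ d.R := fun r hr => by
    have := d.p_norm_R m hr
    have e : p⁻¹ * r * p = (p * p)⁻¹ * (p * r * p⁻¹) * (p * p) := by group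
    rw [e]; exact mul_mem (mul_mem (inv_mem (d.pp m)) this) (d.pp m)
  refine mul_mem (n2 _ n1) (mul_mem ?_ ?_)
  · simpa [mul_assoc] using h1
  · have e : q⁻¹ * (p * p) * q = (q⁻¹ * (p⁻¹ * p⁻¹) * q)⁻¹ := by simp [mul_assoc]
    rw [e]; exact inv_mem n1

/-- Every element of `X` lies in one of six cosets. -/
theorem cosets {x : G} (hx : x ∈ d.X) :
    ∃ w, (w = 1 ∨ w = q ∨ w = p ∨ w = q * p ∨ w = p * q ∨ w = q * p * q) ∧ w⁻¹ * x ∈ d.R := by
  have hgen : d.X ≤ Subgroup.closure (insert q (insert p (d.R : Set G))) := by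
    have hq : q ∈ Subgroup.closure (insert q (insert p (d.R : Set G))) := Subgroup.subset_closure (by simp)
    have hp : p ∈ Subgroup.closure (insert q (insert p (d.R : Set G))) := Subgroup.subset_closure (by simp)
    have hr : ∀ r ∈ d.R, r ∈ Subgroup.closure (insert q (insert p (d.R : Set G))) := fun r hr =>
      Subgroup.subset_closure (Set.mem_insert_of_mem _ (Set.mem_insert_of_mem _ hr))
    refine sup_le (fun y hy => ?_) (fun y hy => ?_)
    · rcases d.left.conj_cases d.memQ hy with e | ⟨-, e⟩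
      · exact hr _ (Subgroup.mem_sup_right (d.mem_A.2 ⟨hy, e⟩))
      · have : q⁻¹ * y ∈ d.A := d.mem_A.2 ⟨mul_mem (inv_mem m.qQ) hy, by
          calc q⁻¹ * y * b = q⁻¹ * (y * b * y⁻¹) * y := by group
            _ = q⁻¹ * (q * b * q⁻¹) * y := by rw [e, m.qb]
            _ = b * (q⁻¹ * y) := by group⟩
        simpa using mul_mem hq (hr _ (Subgroup.mem_sup_right this))
    · rcases d.right.conj_cases d.memP hy with e | ⟨-, e⟩
      · exact hr _ (Subgroup.mem_sup_left (d.mem_B.2 ⟨hy, e⟩))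
      · have : p⁻¹ * y ∈ d.B := d.mem_B.2 ⟨mul_mem (inv_mem m.pP) hy, by
          calc p⁻¹ * y * z = p⁻¹ * (y * z * y⁻¹) * y := by group
            _ = p⁻¹ * (p * z * p⁻¹) * y := by rw [e, m.pz, d.zb]
            _ = z * (p⁻¹ * y) := by group⟩
        simpa using mul_mem hp (hr _ (Subgroup.mem_sup_left this))
  let W : G → Prop := fun w => w = 1 ∨ w = q ∨ w = p ∨ w = q * p ∨ w = p * q ∨ w = q * p * q
  let S : G → Prop := fun x => ∃ w, W w ∧ w⁻¹ * x ∈ d.R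
  have qinv : ∀ r ∈ d.R, q⁻¹ * r * q ∈ d.R := fun r hr => by
    have := d.q_norm_R m hr
    have e : q⁻¹ * r * q = (q * q)⁻¹ * (q * r * q⁻¹) * (q * q) := by group
    rw [e]; exact mul_mem (mul_mem (inv_mem (d.qq m)) this) (d.qq m)
  have pinv : ∀ r ∈ d.R, p⁻¹ * r * p ∈ d.R := fun r hr => by
    have := d.p_norm_R m hr
    have e : p⁻¹ * r * p = (p * p)⁻¹ * (p * r * p⁻¹) * (p * p) := by group
    rw [e]; exact mul_mem (mul_mem (inv_mem (d.pp m)) this) (d.pp m)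
  have hb := d.braid m hg hgP
  have hb' : (q * p * q)⁻¹ * (p * q * p) ∈ d.R := by
    have := inv_mem hb; rwa [mul_inv_rev, inv_inv] at this
  -- a new representative
  have upd : ∀ w w' r, W w' → w'⁻¹ * w ∈ d.R → r ∈ d.R → S (w * r) := fun w w' r hw' h hr =>
    ⟨w', hw', by rw [← mul_assoc]; exact mul_mem h hr⟩
  have Sq : ∀ x, S x → S (q * x) := by
    rintro x ⟨w, hw, hr⟩
    rw [show q * x = q * w * (w⁻¹ * x) by group]
    rcases hw with hw | hw | hw | hw | hw | hw <;> rw [hw] at hr ⊢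
    · exact upd _ q _ (by simp [W]) (by group; exact one_mem _) hr
    · exact upd _ 1 _ (by simp [W]) (by simpa using d.qq m) hr
    · exact upd _ (q * p) _ (by simp [W]) (by group; exact one_mem _) hr
    · refine upd _ p _ (by simp [W]) ?_ hr
      rw [show p⁻¹ * (q * (q * p)) = p⁻¹ * (q * q) * p by group]; exact pinv _ (d.qq m)
    · exact upd _ (q * p * q) _ (by simp [W]) (by group; exact one_mem _) hr
    · refine upd _ (p * q) _ (by simp [W]) ?_ hr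
      rw [show (p * q)⁻¹ * (q * (q * p * q)) = q⁻¹ * (p⁻¹ * (q * q) * p) * q by group]
      exact qinv _ (pinv _ (d.qq m))
  have Sp : ∀ x, S x → S (p * x) := by
    rintro x ⟨w, hw, hr⟩
    rw [show p * x = p * w * (w⁻¹ * x) by group]
    rcases hw with hw | hw | hw | hw | hw | hw <;> rw [hw] at hr ⊢
    · exact upd _ p _ (by simp [W]) (by group; exact one_mem _) hr
    · exact upd _ (p * q) _ (by simp [W]) (by group; exact one_mem _) hr
    · exact upd _ 1 _ (by simp [W]) (by simpa using d.pp m) hr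
    · refine upd _ (q * p * q) _ (by simp [W]) ?_ hr
      rw [show p * (q * p) = p * q * p by group]; exact hb'
    · refine upd _ q _ (by simp [W]) ?_ hr
      rw [show q⁻¹ * (p * (p * q)) = q⁻¹ * (p * p) * q by group]; exact qinv _ (d.pp m)
    · refine upd _ (q * p) _ (by simp [W]) ?_ hr
      rw [show (q * p)⁻¹ * (p * (q * p * q)) =
        p⁻¹ * (q⁻¹ * (p * p) * q) * p * ((p * q * p)⁻¹ * (q * p * q)) by group]
      exact mul_mem (pinv _ (qinv _ (d.pp m))) hb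
  have SR : ∀ r ∈ d.R, ∀ x, S x → S (r * x) := by
    rintro r hr x ⟨w, hw, hr'⟩
    refine ⟨w, hw, ?_⟩
    rw [show w⁻¹ * (r * x) = w⁻¹ * r * w * (w⁻¹ * x) by group]
    refine mul_mem ?_ hr'
    rcases hw with hw | hw | hw | hw | hw | hw <;> subst hw
    · simpa using hr
    · exact qinv r hr
    · exact pinv r hr
    · rw [show (q * p)⁻¹ * r * (q * p) = p⁻¹ * (q⁻¹ * r * q) * p by group]; exact pinv _ (qinv r hr)
    · rw [show (p * q)⁻¹ * r * (p * q) = q⁻¹ * (p⁻¹ * r * p) * q by group]; exact qinv _ (pinv r hr)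
    · rw [show (q * p * q)⁻¹ * r * (q * p * q) = q⁻¹ * (p⁻¹ * (q⁻¹ * r * q) * p) * q by group]
      exact qinv _ (pinv _ (qinv r hr))
  have hS : S x := by
    have hx' := hgen hx
    clear hx
    induction hx' using Subgroup.closure_induction_left with
    | one => exact ⟨1, Or.inl rfl, by simp [one_mem]⟩
    | mul_left s hs w _ hw =>
      rcases hs with rfl | rfl | hs
      exacts [Sq _ hw, Sp _ hw, SR s hs _ hw]
    | inv_mul_cancel s hs w _ hw =>
      rcases hs with rfl | rfl | hs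
      · rw [show s⁻¹ * w = (s * s)⁻¹ * (s * w) by group]; exact SR _ (inv_mem (d.qq m)) _ (Sq _ hw)
      · rw [show s⁻¹ * w = (s * s)⁻¹ * (s * w) by group]; exact SR _ (inv_mem (d.pp m)) _ (Sp _ hw)
      · exact SR _ (inv_mem hs) _ hw
  exact hS

theorem R_eq : d.R = d.X ⊓ d.C := by
  refine le_antisymm (le_inf d.R_le_X d.R_le_C) ?_
  rintro x ⟨hx, hxC⟩
  obtain ⟨w, hw, hr⟩ := d.cosets m hg hgP hx
  have hwC : w ∈ d.C := by
    rw [show w = x * (w⁻¹ * x)⁻¹ by group]; exact mul_mem hxC (inv_mem (d.R_le_C hr))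
  obtain ⟨wz, wb⟩ := d.mem_C.1 hwC
  have fz : w * z * w⁻¹ = z := by rw [wz, mul_inv_cancel_right]
  have fb : w * b * w⁻¹ = b := by rw [wb, mul_inv_cancel_right]
  have n1 : b * z ≠ b := fun e => d.left.ne (mul_eq_left.1 e)
  have n2 : b * z ≠ z := fun e => d.right.ne (mul_eq_right.1 e)
  have comp : ∀ u v y : G, (u * v) * y * (u * v)⁻¹ = u * (v * y * v⁻¹) * u⁻¹ := fun u v y => by group
  rcases hw with hw | hw | hw | hw | hw | hw <;> subst hw
  · simpa using hr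
  · rw [m.qb] at fb; exact absurd fb n1
  · rw [m.pz] at fz; exact absurd fz n2
  · rw [comp, m.pz, d.qbz m] at fz; exact absurd fz d.ne
  · rw [comp, d.qz m, m.pz] at fz; exact absurd fz n2
  · rw [comp, comp, d.qz m, m.pz, d.qbz m] at fz; exact absurd fz d.ne

theorem R_normal_X {x r : G} (hx : x ∈ d.X) (hr : r ∈ d.R) : x * r * x⁻¹ ∈ d.R := by
  obtain ⟨w, hw, hxr⟩ := d.cosets m hg hgP hx
  rw [show x * r * x⁻¹ = w * ((w⁻¹ * x) * r * (w⁻¹ * x)⁻¹) * w⁻¹ by group]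
  have h0 : (w⁻¹ * x) * r * (w⁻¹ * x)⁻¹ ∈ d.R := mul_mem (mul_mem hxr hr) (inv_mem hxr)
  rcases hw with hw | hw | hw | hw | hw | hw <;> subst hw
  · simpa using h0
  · exact d.q_norm_R m h0
  · exact d.p_norm_R m h0
  · rw [show ∀ y, q * p * y * (q * p)⁻¹ = q * (p * y * p⁻¹) * q⁻¹ from fun y => by group]
    exact d.q_norm_R m (d.p_norm_R m h0)
  · rw [show ∀ y, p * q * y * (p * q)⁻¹ = p * (q * y * q⁻¹) * p⁻¹ from fun y => by group]
    exact d.p_norm_R m (d.q_norm_R m h0)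
  · rw [show ∀ y, q * p * q * y * (q * p * q)⁻¹ = q * (p * (q * y * q⁻¹) * p⁻¹) * q⁻¹ from fun y => by group]
    exact d.q_norm_R m (d.p_norm_R m (d.q_norm_R m h0))

omit m hg hgP in
/-- The action on the three involutions of the four group. -/
theorem exists_action : Function.Injective ![z, b, b * z] ∧ ∃ π : Subgroup.normalizer (d.V : Set G) →* Equiv.Perm (Fin 3),
    ∀ (x : Subgroup.normalizer (d.V : Set G)) (i : Fin 3), (x : G) * ![z, b, b * z] i * (x : G)⁻¹ = ![z, b, b * z] (π x i) := by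
  have n1 : b * z ≠ b := fun e => d.left.ne (mul_eq_left.1 e)
  have n2 : b * z ≠ z := fun e => d.right.ne (mul_eq_right.1 e)
  have n3 : b * z ≠ 1 := fun e => d.ne (by
    rw [← inv_eq_of_mul_eq_one_right d.left.zz]; exact eq_inv_of_mul_eq_one_left e)
  have vinj : Function.Injective ![z, b, b * z] := by
    intro i j e
    fin_cases i <;> fin_cases j <;> simp at e ⊢
    all_goals first
      | exact absurd e d.ne
      | exact absurd e.symm d.ne
      | exact absurd e n1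
      | exact absurd e.symm n1
      | exact absurd e n2
      | exact absurd e.symm n2
      | exact absurd e d.left.ne
      | exact absurd e d.right.ne
      | exact absurd e.symm d.left.ne
      | exact absurd e.symm d.right.ne
  refine ⟨vinj, ?_⟩
  have hmem : ∀ (x : Subgroup.normalizer (d.V : Set G)) (i : Fin 3),
      ∃ j, (x : G) * ![z, b, b * z] i * (x : G)⁻¹ = ![z, b, b * z] j := by
    intro x i
    have hv : ![z, b, b * z] i ∈ d.V ∧ ![z, b, b * z] i ≠ 1 := by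
      fin_cases i
      exacts [⟨d.mem_V.2 (by simp), d.left.ne⟩, ⟨d.mem_V.2 (by simp), d.right.ne⟩, ⟨d.mem_V.2 (by simp), n3⟩]
    rcases d.mem_V.1 ((Subgroup.mem_normalizer_iff.1 x.2 _).1 hv.1) with e | e | e | e
    · exact absurd (conj_eq_one_iff.1 e) hv.2
    · exact ⟨0, e⟩
    · exact ⟨1, e⟩
    · exact ⟨2, e⟩
  choose f hf using hmem
  have finj : ∀ x, Function.Injective (f x) := fun x i j e => vinj (by
    have := (hf x i).trans ((congrArg ![z, b, b * z] e).trans (hf x j).symm)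
    exact mul_left_cancel (mul_right_cancel this))
  refine ⟨{ toFun := fun x => Equiv.ofBijective (f x) (Finite.injective_iff_bijective.1 (finj x))
            map_one' := ?_
            map_mul' := ?_ }, hf⟩
  · ext i : 1
    refine vinj ?_
    show ![z, b, b * z] (f 1 i) = ![z, b, b * z] i
    rw [← hf]; simp
  · intro x y
    ext i : 1
    refine vinj ?_
    show ![z, b, b * z] (f (x * y) i) = ![z, b, b * z] (f x (f y i))
    rw [← hf, ← hf, ← hf]
    simp [mul_assoc]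

/-- The main structure statements. -/
theorem structure_X (hQ : IsPGroup 2 Q) (hP : IsPGroup 2 P) :
    d.R = (Cfsg.pCore 2 ↥d.X).map d.X.subtype ∧
      (∃ h : (d.R.subgroupOf d.X).Normal, Nonempty (↥d.X ⧸ d.R.subgroupOf d.X ≃* Equiv.Perm (Fin 3))) ∧
      Subgroup.normalizer (d.V : Set G) = d.X ⊔ d.C ∧
      (∀ y ∈ Subgroup.normalizer (d.V : Set G), ∀ x ∈ d.X, y * x * y⁻¹ ∈ d.X) ∧
      (∀ x ∈ d.X, ∀ c ∈ d.C, x * c * x⁻¹ * c⁻¹ ∈ d.R) := by
  have hN : ∀ x, x * z * x⁻¹ ∈ d.V → x * b * x⁻¹ ∈ d.V → x ∈ Subgroup.normalizer (d.V : Set G) := by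
    intro x hxz hxb
    have hle : d.V.map (MulAut.conj x).toMonoidHom ≤ d.V := by
      rw [V, MonoidHom.map_closure, Subgroup.closure_le]
      rintro _ ⟨y, rfl | rfl, rfl⟩
      exacts [hxz, hxb]
    have he := Subgroup.eq_of_le_of_card_ge hle (le_of_eq (Subgroup.card_map_of_injective (MulAut.conj x).injective).symm)
    exact Subgroup.mem_normalizer_iff.2 fun y => ⟨fun hy => hle ⟨y, hy, rfl⟩, fun hy => by
      rw [← he] at hy
      obtain ⟨w, hw, e⟩ := hy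
      have : x * w * x⁻¹ = x * y * x⁻¹ := e
      rw [← mul_left_cancel (mul_right_cancel this)]; exact hw⟩
  have hCN : d.C ≤ Subgroup.normalizer (d.V : Set G) := fun c hc => by
    obtain ⟨cz, cb⟩ := d.mem_C.1 hc
    refine hN c (d.mem_V.2 (Or.inr (Or.inl ?_))) (d.mem_V.2 (Or.inr (Or.inr (Or.inl ?_))))
    · rw [cz, mul_inv_cancel_right]
    · rw [cb, mul_inv_cancel_right]
  have hqN : q ∈ Subgroup.normalizer (d.V : Set G) :=
    hN q (d.mem_V.2 (by simp [d.qz m])) (d.mem_V.2 (by simp [m.qb]))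
  have hpN : p ∈ Subgroup.normalizer (d.V : Set G) :=
    hN p (d.mem_V.2 (by simp [m.pz])) (d.mem_V.2 (by simp [d.pb m]))
  have hXN : d.X ≤ Subgroup.normalizer (d.V : Set G) := fun x hx => by
    obtain ⟨w, hw, hr⟩ := d.cosets m hg hgP hx
    rw [show x = w * (w⁻¹ * x) by group]
    refine mul_mem ?_ (hCN (d.R_le_C hr))
    rcases hw with hw | hw | hw | hw | hw | hw <;> subst hw
    exacts [one_mem _, hqN, hpN, mul_mem hqN hpN, mul_mem hpN hqN, mul_mem (mul_mem hqN hpN) hqN]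
  obtain ⟨vinj, π, hπ⟩ := d.exists_action
  have n1 : b * z ≠ b := fun e => d.left.ne (mul_eq_left.1 e)
  have n2 : b * z ≠ z := fun e => d.right.ne (mul_eq_right.1 e)
  have hker : ∀ x, π x = 1 ↔ (x : G) ∈ d.C := by
    intro x
    constructor
    · intro h
      have h0 := hπ x 0
      have h1 := hπ x 1
      rw [h] at h0 h1
      simp at h0 h1
      exact d.mem_C.2 ⟨mul_inv_eq_iff_eq_mul.1 h0, mul_inv_eq_iff_eq_mul.1 h1⟩
    · intro h
      obtain ⟨cz, cb⟩ := d.mem_C.1 h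
      ext i : 1
      refine vinj ((hπ x i).symm.trans ?_)
      rw [Equiv.Perm.one_apply]
      have hbz' : (x : G) * (b * z) * (x : G)⁻¹ = b * z := by
        rw [← conj_mul, cb, mul_inv_cancel_right, cz, mul_inv_cancel_right]
      fin_cases i <;> simp [cz, cb, hbz']
  let π' : d.X →* Equiv.Perm (Fin 3) := π.comp (Subgroup.inclusion hXN)
  have hkerX : ∀ x : d.X, π' x = 1 ↔ (x : G) ∈ d.R := fun x => by
    rw [d.R_eq m hg hgP, Subgroup.mem_inf, MonoidHom.comp_apply, hker]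
    exact ⟨fun h => ⟨x.2, h⟩, fun h => h.2⟩
  have hsurj : Function.Surjective π' := by
    have eq1 : π' ⟨q, Subgroup.mem_sup_left m.qQ⟩ = Equiv.swap 1 2 := by
      ext i : 1
      refine vinj ((hπ ⟨q, hqN⟩ i).symm.trans ?_)
      have e0 : Equiv.swap (1 : Fin 3) 2 0 = 0 := by decide
      fin_cases i <;> simp [d.qz m, m.qb, d.qbz m, e0]
    have eq2 : π' ⟨p, Subgroup.mem_sup_right m.pP⟩ = Equiv.swap 0 2 := by
      ext i : 1
      refine vinj ((hπ ⟨p, hpN⟩ i).symm.trans ?_)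
      have e1 : Equiv.swap (0 : Fin 3) 2 1 = 1 := by decide
      fin_cases i <;> simp [d.pb m, m.pz, d.pbz m, e1]
    intro σ
    have all6 : ∀ σ : Equiv.Perm (Fin 3), σ = 1 ∨ σ = Equiv.swap 1 2 ∨ σ = Equiv.swap 0 2 ∨
        σ = Equiv.swap 1 2 * Equiv.swap 0 2 ∨ σ = Equiv.swap 0 2 * Equiv.swap 1 2 ∨
        σ = Equiv.swap 1 2 * Equiv.swap 0 2 * Equiv.swap 1 2 := by decide
    rcases all6 σ with e | e | e | e | e | e <;> subst e
    · exact ⟨1, map_one _⟩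
    · exact ⟨_, eq1⟩
    · exact ⟨_, eq2⟩
    · exact ⟨⟨q, _⟩ * ⟨p, _⟩, (map_mul π' _ _).trans (congrArg₂ (· * ·) eq1 eq2)⟩
    · exact ⟨⟨p, _⟩ * ⟨q, _⟩, (map_mul π' _ _).trans (congrArg₂ (· * ·) eq2 eq1)⟩
    · exact ⟨⟨q, _⟩ * ⟨p, _⟩ * ⟨q, _⟩, (map_mul π' _ _).trans (congrArg₂ (· * ·)
        ((map_mul π' _ _).trans (congrArg₂ (· * ·) eq1 eq2)) eq1)⟩
  have hK : π'.ker = d.R.subgroupOf d.X := by
    ext x
    rw [MonoidHom.mem_ker, hkerX, Subgroup.mem_subgroupOf]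
  haveI hnorm : (d.R.subgroupOf d.X).Normal := hK ▸ π'.normal_ker
  have hXC : ∀ c ∈ d.C, ∀ x ∈ d.X, c * x * c⁻¹ ∈ d.X := by
    intro c hc x hx
    obtain ⟨cz, cb⟩ := d.mem_C.1 hc
    have hle : d.X.map (MulAut.conj c).toMonoidHom ≤ d.X := by
      rw [X, Subgroup.map_sup]
      exact sup_le_sup (by rintro _ ⟨y, hy, rfl⟩; exact d.left.norm c cz y hy)
        (by rintro _ ⟨y, hy, rfl⟩; exact d.right.norm c cb y hy)
    exact hle ⟨x, hx, rfl⟩
  have hsplit : ∀ y ∈ Subgroup.normalizer (d.V : Set G), ∃ x ∈ d.X, x⁻¹ * y ∈ d.C := by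
    intro y hy
    obtain ⟨x, hx⟩ := hsurj (π ⟨y, hy⟩)
    have h1 : π ((Subgroup.inclusion hXN x)⁻¹ * ⟨y, hy⟩) = 1 := by
      rw [map_mul, map_inv, ← hx]; exact inv_mul_cancel _
    exact ⟨x, x.2, (hker _).1 h1⟩
  refine ⟨?_, ⟨hnorm, ⟨(QuotientGroup.quotientMulEquivOfEq hK.symm).trans
    (QuotientGroup.quotientKerEquivOfSurjective π' hsurj)⟩⟩, ?_, ?_, ?_⟩
  · refine le_antisymm (fun r hr => ?_) ?_
    · exact ⟨⟨r, d.R_le_X hr⟩, Cfsg.Agent.Transfer.le_pCore (N := d.R.subgroupOf d.X) hnorm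
        ((d.isPGroup_R hQ hP).comap_subtype) (Subgroup.mem_subgroupOf.2 hr), rfl⟩
    · rintro _ ⟨x, hx, rfl⟩
      refine (hkerX x).1 ?_
      have hcore : IsPGroup 2 ((Cfsg.pCore 2 ↥d.X).map π') := (Cfsg.Agent.Transfer.pCore_isPGroup 2 _).map π'
      have hnor : ((Cfsg.pCore 2 ↥d.X).map π').Normal := Subgroup.Normal.map (Cfsg.Agent.Transfer.pCore_normal' 2 _) π' hsurj
      have small : ∀ σ : Equiv.Perm (Fin 3), σ ≠ 1 → (σ * σ * σ = 1) ∨ ∃ τ,
          σ * (τ * σ * τ⁻¹) ≠ 1 ∧ σ * (τ * σ * τ⁻¹) * (σ * (τ * σ * τ⁻¹)) * (σ * (τ * σ * τ⁻¹)) = 1 := by decide +kernel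
      have h3 : ∀ σ ∈ (Cfsg.pCore 2 ↥d.X).map π', σ * σ * σ = 1 → σ = 1 := by
        intro σ hσ e
        obtain ⟨k, hk⟩ := hcore ⟨σ, hσ⟩
        have hk' : σ ^ 2 ^ k = 1 := congrArg Subtype.val hk
        have h1 : orderOf σ ∣ 3 := orderOf_dvd_of_pow_eq_one (by rw [pow_succ, pow_two]; exact e)
        have h2 : orderOf σ ∣ 2 ^ k := orderOf_dvd_of_pow_eq_one hk'
        exact orderOf_eq_one_iff.1 (Nat.eq_one_of_dvd_coprimes (Nat.Coprime.pow_right k (by norm_num)) h1 h2)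
      by_contra hne
      have hmem : π' x ∈ (Cfsg.pCore 2 ↥d.X).map π' := Subgroup.mem_map_of_mem _ hx
      rcases small _ hne with e | ⟨τ, hτ, e⟩
      · exact hne (h3 _ hmem e)
      · exact hτ (h3 _ (mul_mem hmem (hnor.conj_mem _ hmem τ)) e)
  · refine le_antisymm (fun y hy => ?_) (sup_le hXN hCN)
    obtain ⟨x, hx, hxy⟩ := hsplit y hy
    rw [show y = x * (x⁻¹ * y) by group]
    exact mul_mem (Subgroup.mem_sup_left hx) (Subgroup.mem_sup_right hxy)
  · intro y hy x hx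
    obtain ⟨w, hw, hwy⟩ := hsplit y hy
    rw [show y * x * y⁻¹ = w * ((w⁻¹ * y) * x * (w⁻¹ * y)⁻¹) * w⁻¹ by group]
    exact mul_mem (mul_mem hw (hXC _ hwy x hx)) (inv_mem hw)
  · intro x hx c hc
    rw [d.R_eq m hg hgP]
    refine ⟨?_, ?_⟩
    · rw [show x * c * x⁻¹ * c⁻¹ = x * (c * x⁻¹ * c⁻¹) by group]
      exact mul_mem hx (hXC c hc _ (inv_mem hx))
    · have h1 : π (⟨x, hXN hx⟩ * ⟨c, hCN hc⟩ * ⟨x, hXN hx⟩⁻¹ * ⟨c, hCN hc⟩⁻¹) = 1 := by
        rw [map_mul, map_mul, map_mul, map_inv, map_inv, (hker ⟨c, hCN hc⟩).2 hc]; group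
      exact (hker _).1 h1

/-- The statements about `R` and `E`. -/
theorem structure_R : (Subgroup.center ↥d.R).map d.R.subtype = d.V ∧
    Q ⊓ P ≤ (Subgroup.upperCentralSeries ↥d.R 2).map d.R.subtype ∧ Subgroup.upperCentralSeries ↥d.R 3 = ⊤ ∧
    (∀ x ∈ d.R, ∀ y ∈ d.R, x * y * x⁻¹ * y⁻¹ ∈ Q ⊓ P ∧ x ^ 2 ∈ Q ⊓ P) := by
  have hER : Q ⊓ P ≤ d.R := fun e he =>
    Subgroup.mem_sup_right (d.mem_A.2 ⟨he.1, d.right.central e he.2⟩)
  have hVR : d.V ≤ d.R := d.V_le.trans hER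
  have hcen : (Subgroup.center ↥d.R).map d.R.subtype = d.V := by
    refine le_antisymm ?_ fun v hv => ?_
    · rintro _ ⟨c, hc, rfl⟩
      refine d.mem_V_of_centralizes (d.mem_C.1 (d.R_le_C c.2)).1 fun a ha => ?_
      exact congrArg Subtype.val (Subgroup.mem_center_iff.1 hc ⟨a, Subgroup.mem_sup_right ha⟩)
    · refine ⟨⟨v, hVR hv⟩, Subgroup.mem_center_iff.2 fun r => Subtype.ext ?_, rfl⟩
      have := d.centralizer_V ▸ d.R_le_C r.2
      exact (Subgroup.mem_centralizer_iff.1 this v hv).symm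
  have hnormE : ∀ x ∈ d.X, ∀ e ∈ Q ⊓ P, x * e * x⁻¹ ∈ Q ⊓ P := fun x hx e he => by
    have := mul_mem (d.V_le (d.comm_X_inter (Subgroup.commutator_mem_commutator hx he))) he
    simpa [commutatorElement_def] using this
  have hBA : ∀ s ∈ d.B, ∀ a ∈ d.A, s * a * s⁻¹ * a⁻¹ ∈ Q ⊓ P := fun s hs a ha => by
    rw [← d.inf_eq]
    refine ⟨?_, d.A.mul_mem (d.C_norm_A (d.mem_C.2 (d.B_fix hs)) ha) (d.A.inv_mem ha)⟩
    show _ ∈ d.B
    rw [show s * a * s⁻¹ * a⁻¹ = s * (a * s⁻¹ * a⁻¹) by group]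
    exact mul_mem hs (d.C_norm_B (d.mem_C.2 (d.A_fix ha)) (inv_mem hs))
  have hsqA : ∀ a ∈ d.A, a * a ∈ Q ⊓ P := fun a ha => by
    rcases d.left.sq a (d.mem_A.1 ha).1 with e | e <;> rw [e]
    exacts [one_mem _, d.zE]
  have hsqB : ∀ s ∈ d.B, s * s ∈ Q ⊓ P := fun s hs => by
    rcases d.right.sq s (d.mem_B.1 hs).1 with e | e <;> rw [e]
    exacts [one_mem _, d.bE]
  haveI : ((Q ⊓ P).subgroupOf d.R).Normal := ⟨fun e he r => Subgroup.mem_subgroupOf.2
    (hnormE r (d.R_le_X r.2) e (Subgroup.mem_subgroupOf.1 he))⟩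
  have hsq : ∀ x ∈ d.R, x * x ∈ Q ⊓ P := by
    intro x hx
    obtain ⟨s, hs, a, ha, rfl⟩ := d.mem_R.1 hx
    have h1 : a * s * a⁻¹ * s⁻¹ ∈ Q ⊓ P := by
      have := inv_mem (hBA s hs a ha); simpa [mul_inv_rev, mul_assoc] using this
    have h2 : s * (a * s * a⁻¹ * s⁻¹) * s⁻¹ ∈ Q ⊓ P := hnormE s (Subgroup.mem_sup_right (d.mem_B.1 hs).1) _ h1
    rw [show s * a * (s * a) = s * (a * s * a⁻¹ * s⁻¹) * s⁻¹ * ((s * s) * (a * a)) by group]
    exact mul_mem h2 (mul_mem (hsqB s hs) (hsqA a ha))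
  have hall : ∀ x ∈ d.R, ∀ y ∈ d.R, x * y * x⁻¹ * y⁻¹ ∈ Q ⊓ P ∧ x ^ 2 ∈ Q ⊓ P := by
    intro x hx y hy
    refine ⟨?_, by rw [pow_two]; exact hsq x hx⟩
    rw [show x * y * x⁻¹ * y⁻¹ = x * y * (x * y) * (y⁻¹ * (x * x)⁻¹ * y) * (y * y)⁻¹ by simp [mul_inv_rev, mul_assoc]]
    refine mul_mem (mul_mem (hsq _ (mul_mem hx hy)) ?_) (inv_mem (hsq y hy))
    have := hnormE y⁻¹ (inv_mem (d.R_le_X hy)) _ (inv_mem (hsq x hx))
    rwa [inv_inv] at this
  have h2 : ∀ e : d.R, (e : G) ∈ Q ⊓ P → e ∈ Subgroup.upperCentralSeries ↥d.R 2 := fun e he => by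
    rw [Subgroup.mem_upperCentralSeries_succ_iff]
    intro y
    rw [Subgroup.upperCentralSeries_one]
    have hv := d.comm_X_inter (Subgroup.commutator_mem_commutator (d.R_le_X y.2) he)
    rw [← hcen] at hv
    obtain ⟨c, hc, ec⟩ := hv
    have : ⁅e, y⁆ = c⁻¹ := by
      rw [← commutatorElement_inv]; exact congrArg Inv.inv (Subtype.ext ec.symm)
    rw [this]; exact inv_mem hc
  refine ⟨hcen, fun e he => ⟨⟨e, hER he⟩, h2 _ he, rfl⟩, ?_, hall⟩
  rw [eq_top_iff]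
  rintro x -
  rw [Subgroup.mem_upperCentralSeries_succ_iff]
  intro y
  exact h2 _ (by simpa [commutatorElement_def] using (hall x x.2 y y.2).1)

end Cfsg.Agent.Spor.ExtraPair.Duo

namespace Cfsg.Agent.Spor.ExtraPair.Duo

variable {G : Type*} [Group G] [Finite G]

/-- The pair attached to a large extraspecial group and a second conjugate of its centre inside it. -/
theorem of_large {Q : Subgroup G} (hQ : Cfsg.IsLargeExtraspecial Q) {z : G}
    (hz : ((Subgroup.center ↥Q).map Q.subtype) = Subgroup.zpowers z) {w : ℕ} (hw : 2 ≤ w)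
    (hcard : Nat.card ↥Q = 2 ^ (2 * w + 1)) {g : G} (hgH : g ∉ Subgroup.centralizer ({z} : Set G))
    (hgQ : g * z * g⁻¹ ∈ Q) (hz2 : orderOf z = 2) : Duo z (g * z * g⁻¹) Q (Q.map (MulAut.conj g).toMonoidHom) := by
  have h : Ext z Q := by
    refine Ext.of_extraspecial hQ.1 (hz.ge (Subgroup.mem_zpowers z)) (fun e => by rw [e, orderOf_one] at hz2; norm_num at hz2)
      (hQ.2.1.le.trans (Subgroup.map_subtype_le _)) fun c hc => hQ.2.2.1 ?_
    rw [hz]
    refine Subgroup.mem_centralizer_iff.2 fun y hy => ?_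
    obtain ⟨n, rfl⟩ := Subgroup.mem_zpowers_iff.1 hy
    exact ((Commute.symm hc).zpow_left n).eq
  have hne : g * z * g⁻¹ ≠ z := fun e => hgH (Subgroup.mem_centralizer_singleton_iff.2 (mul_inv_eq_iff_eq_mul.1 e))
  refine ⟨h, h.map_conj g, hgQ, h.mem_pair hgQ (h.exists_noncommuting hgQ ?_), hne, fun c e he x hx => h.conj_congr he hx⟩
  rw [hcard]
  calc 8 < 2 ^ 5 := by norm_num
    _ ≤ _ := Nat.pow_le_pow_right (by norm_num) (by omega)

end Cfsg.Agent.Spor.ExtraPair.Duo
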