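import Mathlib
import Cfsg.Agent.Lib.Spor.ExtraPairCore

/-!
Elementary abelian groups of pairwise related conjugates of an extraspecial centre.
-/

set_option autoImplicit false
set_option linter.style.haveILetI false

namespace Cfsg.Agent.Spor.ExtraPair

variable {G : Type*} [Group G] [Finite G] {Q : G → Subgroup G}

/-- The setting. -/
structure Rel (Q : G → Subgroup G) (U : Subgroup G) : Prop where
  ext : ∀ u ∈ U, u ≠ 1 → Ext u (Q u)
  other : ∀ u ∈ U, ∀ v ∈ U, u ≠ 1 → v ∈ Q u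
  sq : ∀ u ∈ U, u * u = 1

theorem rel_of (hQ : ∀ x : G, Q x = (Cfsg.pCore 2 ↥(Subgroup.centralizer ({x} : Set G))).map
    (Subgroup.centralizer ({x} : Set G)).subtype) {z : G} (hz : orderOf z = 2) (hE : IsExtraspecial 2 ↥(Q z))
    (hC : Subgroup.centralizer ((Q z : Subgroup G) : Set G) ≤ Q z) {U : Subgroup G} (hU2 : ∀ u ∈ U, u * u = 1)
    (hS : ∀ u ∈ U, u ≠ 1 → ∃ g : G, g * z * g⁻¹ = u) (hO : ∀ u ∈ U, ∀ v ∈ U, u ≠ 1 → v ≠ 1 → v ∈ Q u) :
    Rel Q U := by
  refine ⟨fun u hu hu1 => ?_, fun u hu v hv hu1 => ?_, hU2⟩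
  · obtain ⟨g, rfl⟩ := hS u hu hu1
    rw [core_conj hQ]
    exact (ext_core hQ hz hE hC).map_conj g
  · by_cases hv1 : v = 1
    · rw [hv1]; exact one_mem _
    · exact hO u hu v hv hu1 hv1

namespace Rel

variable {U : Subgroup G}

omit [Finite G] in
theorem comm (H : Rel Q U) {u v : G} (hu : u ∈ U) (hv : v ∈ U) : u * v = v * u := by
  have h1 := H.sq _ (mul_mem hu hv)
  calc u * v = (u * v)⁻¹ := (inv_eq_of_mul_eq_one_right h1).symm
    _ = v⁻¹ * u⁻¹ := mul_inv_rev u v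
    _ = v * u := by rw [inv_eq_of_mul_eq_one_right (H.sq v hv), inv_eq_of_mul_eq_one_right (H.sq u hu)]

omit [Finite G] in
theorem conj_mem (H : Rel Q U) {u g v : G} (hu : u ∈ U) (hu1 : u ≠ 1) (hg : g ∈ Q u) (hv : v ∈ U) :
    g * v * g⁻¹ ∈ U := by
  rcases (H.ext u hu hu1).conj_eq (H.other u hu v hv hu1) hg with e | e <;> rw [e]
  exacts [hv, mul_mem hv hu]

/-- An element of `Q u` fixing a subgroup containing `u` and moving `v`. -/
theorem exists_moving (H : Rel Q U) {u v : G} (hu : u ∈ U) (hu1 : u ≠ 1) {K : Subgroup G} (huK : u ∈ K)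
    {x : G} (hx : x ∈ Q u) (hK : ∀ k ∈ K, k ∈ Q u) (hxK : x ∉ K) (hv : v = x) :
    ∃ g ∈ Q u, (∀ k ∈ K, g * k * g⁻¹ = k) ∧ g * x * g⁻¹ = x * u := by
  classical
  subst hv
  have h := H.ext u hu hu1
  by_contra hcon
  simp only [not_exists, not_and] at hcon
  refine hxK ?_
  have hmem := h.double_centralizer (Set.toFinite (K : Set G)).toFinset
    (fun s hs => hK s (by simpa using hs)) v hx fun y hy hys => by
      rcases h.conj_cases hx hy with e | ⟨-, e⟩
      · exact e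
      · refine absurd e (hcon y hy fun k hk => ?_)
        rw [hys k (by simpa using hk), mul_inv_cancel_right]
  refine (Subgroup.closure_le K).2 ?_ hmem
  rw [Set.insert_subset_iff]
  exact ⟨huK, fun s hs => by simpa using hs⟩

end Rel

end Cfsg.Agent.Spor.ExtraPair
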