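import Cfsg.Agent.Lib.Spor.ExtraPairCore

/-!
The subgroup generated by two extraspecial groups whose centres lie in each other.
-/

set_option autoImplicit false
set_option linter.unusedSectionVars false

open scoped commutatorElement

namespace Cfsg.Agent.Spor.ExtraPair

variable {G : Type*} [Group G]

/-- Two extraspecial groups whose distinct centres lie in each other. -/
structure Duo (z b : G) (Q P : Subgroup G) : Prop where
  left : Ext z Q
  right : Ext b P
  memQ : b ∈ Q
  memP : z ∈ P
  ne : b ≠ z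
  conjQ : ∀ c d, c * z * c⁻¹ = d * z * d⁻¹ → ∀ x ∈ Q, d⁻¹ * (c * x * c⁻¹) * d ∈ Q

namespace Duo

variable {z b : G} {Q P : Subgroup G}

/-- The part of `Q` centralising `b`. -/
def A (_ : Duo z b Q P) : Subgroup G := Q ⊓ Subgroup.centralizer ({b} : Set G)

/-- The part of `P` centralising `z`. -/
def B (_ : Duo z b Q P) : Subgroup G := P ⊓ Subgroup.centralizer ({z} : Set G)

variable (d : Duo z b Q P)
include d

/-- The base of the action. -/
def R : Subgroup G := d.B ⊔ d.A

theorem zb : z * b = b * z := (d.left.central b d.memQ).symm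

theorem mem_A {x : G} : x ∈ d.A ↔ x ∈ Q ∧ x * b = b * x := by
  rw [A, Subgroup.mem_inf, Subgroup.mem_centralizer_singleton_iff]

theorem mem_B {x : G} : x ∈ d.B ↔ x ∈ P ∧ x * z = z * x := by
  rw [B, Subgroup.mem_inf, Subgroup.mem_centralizer_singleton_iff]

theorem A_fix {x : G} (hx : x ∈ d.A) : x * z = z * x ∧ x * b = b * x :=
  ⟨d.left.central x (d.mem_A.1 hx).1, (d.mem_A.1 hx).2⟩

theorem B_fix {x : G} (hx : x ∈ d.B) : x * z = z * x ∧ x * b = b * x :=
  ⟨(d.mem_B.1 hx).2, d.right.central x (d.mem_B.1 hx).1⟩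

/-- The elements fixing `z` and `b`. -/
def C (_ : Duo z b Q P) : Subgroup G := Subgroup.centralizer ({z} : Set G) ⊓ Subgroup.centralizer ({b} : Set G)

theorem mem_C {x : G} : x ∈ d.C ↔ x * z = z * x ∧ x * b = b * x := by
  rw [C, Subgroup.mem_inf, Subgroup.mem_centralizer_singleton_iff, Subgroup.mem_centralizer_singleton_iff]

theorem R_le_C : d.R ≤ d.C := sup_le (fun _ hx => d.mem_C.2 (d.B_fix hx)) fun _ hx => d.mem_C.2 (d.A_fix hx)

theorem C_norm_A {c : G} (hc : c ∈ d.C) {x : G} (hx : x ∈ d.A) : c * x * c⁻¹ ∈ d.A := by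
  obtain ⟨cz, cb⟩ := d.mem_C.1 hc
  obtain ⟨xQ, xb⟩ := d.mem_A.1 hx
  have hcb : c⁻¹ * b = b * c⁻¹ := (Commute.inv_left cb).eq
  refine d.mem_A.2 ⟨d.left.norm c cz x xQ, ?_⟩
  calc c * x * c⁻¹ * b = c * x * (c⁻¹ * b) := by group
    _ = c * (x * b) * c⁻¹ := by rw [hcb]; group
    _ = (c * b) * x * c⁻¹ := by rw [xb]; group
    _ = _ := by rw [cb]; group

theorem C_norm_B {c : G} (hc : c ∈ d.C) {x : G} (hx : x ∈ d.B) : c * x * c⁻¹ ∈ d.B := by
  obtain ⟨cz, cb⟩ := d.mem_C.1 hc
  obtain ⟨xP, xz⟩ := d.mem_B.1 hx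
  have hcz : c⁻¹ * z = z * c⁻¹ := (Commute.inv_left cz).eq
  refine d.mem_B.2 ⟨d.right.norm c cb x xP, ?_⟩
  calc c * x * c⁻¹ * z = c * x * (c⁻¹ * z) := by group
    _ = c * (x * z) * c⁻¹ := by rw [hcz]; group
    _ = (c * z) * x * c⁻¹ := by rw [xz]; group
    _ = _ := by rw [cz]; group

theorem inf_eq : d.B ⊓ d.A = Q ⊓ P := by
  ext x
  simp only [Subgroup.mem_inf, d.mem_A, d.mem_B]
  exact ⟨fun h => ⟨h.2.1, h.1.1⟩, fun h => ⟨⟨h.2, d.left.central x h.1⟩, h.1, d.right.central x h.2⟩⟩

theorem mem_R {x : G} : x ∈ d.R ↔ ∃ p ∈ d.B, ∃ a ∈ d.A, p * a = x := by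
  rw [R]
  refine ⟨fun h => ?_, fun ⟨p, hp, a, ha, e⟩ => e ▸ mul_mem (Subgroup.mem_sup_left hp) (Subgroup.mem_sup_right ha)⟩
  have hle : d.B ≤ Subgroup.normalizer (d.A : Set G) := fun p hp =>
    Subgroup.mem_normalizer_iff.2 fun y => ⟨fun hy => d.C_norm_A (d.mem_C.2 (d.B_fix hp)) hy, fun hy => by
      have := d.C_norm_A (inv_mem (d.mem_C.2 (d.B_fix hp))) hy
      simpa [mul_assoc] using this⟩
  rw [← SetLike.mem_coe, Subgroup.coe_mul_of_left_le_normalizer_right _ _ hle] at h
  exact h

theorem zE : z ∈ Q ⊓ P := ⟨d.left.mem, d.memP⟩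

theorem bE : b ∈ Q ⊓ P := ⟨d.memQ, d.right.mem⟩

theorem inter_sq {x : G} (hQ : x ∈ Q) (hP : x ∈ P) : x * x = 1 := by
  rcases d.left.sq x hQ with e | e
  · exact e
  rcases d.right.sq x hP with e' | e'
  · exact e'
  · exact absurd (e'.symm.trans e) d.ne

theorem inter_comm {x y : G} (hx : x ∈ Q ⊓ P) (hy : y ∈ Q ⊓ P) : x * y = y * x := by
  rcases d.left.comm x hx.1 y hy.1 with e | e
  · exact commutatorElement_eq_one_iff_mul_comm.1 e
  rcases d.right.comm x hx.2 y hy.2 with e' | e'
  · exact commutatorElement_eq_one_iff_mul_comm.1 e'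
  · exact absurd (e'.symm.trans e) d.ne

/-- The four group. -/
def V (_ : Duo z b Q P) : Subgroup G := Subgroup.closure {z, b}

theorem V_le : d.V ≤ Q ⊓ P := (Subgroup.closure_le _).2 (Set.pair_subset d.zE d.bE)

theorem mem_V {x : G} : x ∈ d.V ↔ x = 1 ∨ x = z ∨ x = b ∨ x = b * z := by
  constructor
  · intro hx
    have hzz := d.left.zz
    have hbb := d.right.zz
    have hzb := d.zb
    have e1 : z * (b * z) = b := by rw [← mul_assoc, hzb, mul_assoc, hzz, mul_one]
    have e2 : b * (b * z) = z := by rw [← mul_assoc, hbb, one_mul]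
    induction hx using Subgroup.closure_induction_left with
    | one => exact Or.inl rfl
    | mul_left g hg w _ hw =>
      rcases hg with rfl | rfl <;> rcases hw with rfl | rfl | rfl | rfl <;> simp [hzz, hbb, e1, e2, hzb]
    | inv_mul_cancel g hg w _ hw =>
      rcases hg with rfl | rfl <;>
        simp only [inv_eq_of_mul_eq_one_right hzz, inv_eq_of_mul_eq_one_right hbb] <;>
        rcases hw with rfl | rfl | rfl | rfl <;> simp [hzz, hbb, e1, e2, hzb]
  · have hz : z ∈ d.V := Subgroup.subset_closure (by simp)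
    have hb : b ∈ d.V := Subgroup.subset_closure (by simp)
    rintro (rfl | rfl | rfl | rfl)
    exacts [one_mem _, hz, hb, mul_mem hb hz]

theorem centralizer_V : Subgroup.centralizer (d.V : Set G) = d.C := by
  ext x
  rw [V, Subgroup.centralizer_closure, d.mem_C, Subgroup.mem_centralizer_iff]
  exact ⟨fun h => ⟨(h z (by simp)).symm, (h b (by simp)).symm⟩, fun h y hy => by
    rcases hy with rfl | rfl
    exacts [h.1.symm, h.2.symm]⟩

/-- An element fixing `z` and centralising `A` lies in `V`. -/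
theorem mem_V_of_centralizes [Finite G] {c : G} (hc : c * z = z * c) (hA : ∀ a ∈ d.A, a * c = c * a) : c ∈ d.V := by
  have h := d.left
  obtain ⟨q, hq, hqb⟩ : ∃ q ∈ Q, q * b ≠ b * q := by
    by_contra hcon
    simp only [not_exists, not_and, not_not] at hcon
    rcases h.cen b d.memQ hcon with e | e
    exacts [d.right.ne e, d.ne e]
  have hfix : ∀ a ∈ d.A, c * a * c⁻¹ = a := fun a ha => by rw [← hA a ha, mul_inv_cancel_right]
  have hdec : ∀ y ∈ Q, y ∈ d.A ∨ q⁻¹ * y ∈ d.A := by
    intro y hy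
    rcases h.conj_cases d.memQ hy with e | ⟨-, e⟩
    · exact Or.inl (d.mem_A.2 ⟨hy, e⟩)
    · refine Or.inr (d.mem_A.2 ⟨mul_mem (inv_mem hq) hy, ?_⟩)
      have e0 := ((h.conj_cases d.memQ hq).resolve_left hqb).2
      calc q⁻¹ * y * b = q⁻¹ * (y * b * y⁻¹) * y := by group
        _ = q⁻¹ * (q * b * q⁻¹) * y := by rw [e, e0]
        _ = b * (q⁻¹ * y) := by group
  obtain ⟨t, ht⟩ : ∃ t, t = q⁻¹ * (c * q * c⁻¹) := ⟨_, rfl⟩
  have htQ : t ∈ Q := ht ▸ mul_mem (inv_mem hq) (h.norm c hc q hq)
  have htA : ∀ a ∈ d.A, a * t = t * a := by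
    intro a ha
    have haQ := (d.mem_A.1 ha).1
    have hk : ∀ w, (w = 1 ∨ w = z) → q * a * q⁻¹ = a * w →
        (c * q * c⁻¹) * a * (c * q * c⁻¹)⁻¹ = a * w := by
      intro w hw e
      have hcw : c * w * c⁻¹ = w := by
        rcases hw with rfl | rfl
        · group
        · rw [hc, mul_inv_cancel_right]
      calc (c * q * c⁻¹) * a * (c * q * c⁻¹)⁻¹ = c * (q * (c⁻¹ * a * c) * q⁻¹) * c⁻¹ := by group
        _ = c * (q * a * q⁻¹) * c⁻¹ := by
          rw [show c⁻¹ * a * c = a by rw [mul_assoc, hA a ha, inv_mul_cancel_left]]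
        _ = (c * a * c⁻¹) * (c * w * c⁻¹) := by rw [e]; group
        _ = a * w := by rw [hfix a ha, hcw]
    obtain ⟨w, hw, e⟩ : ∃ w, (w = 1 ∨ w = z) ∧ q * a * q⁻¹ = a * w := by
      rcases h.conj_eq haQ hq with e | e
      · exact ⟨1, Or.inl rfl, by rw [mul_one, e]⟩
      · exact ⟨z, Or.inr rfl, e⟩
    have e' : q * (t * a * t⁻¹) * q⁻¹ = q * a * q⁻¹ := by
      rw [e, ← hk w hw e, ht]; group
    have e'' := mul_left_cancel (mul_right_cancel e')
    calc a * t = t * a * t⁻¹ * t := by rw [e'']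
      _ = t * a := by group
  rcases h.centralized_by_hyperplane d.memQ htQ fun y hy hyb => htA y (d.mem_A.2 ⟨hy, hyb⟩) with e | e | e | e
  · have hcQ : c ∈ Q := h.mem_of_trivial fun y hy => by
      rcases hdec y hy with hy' | hy'
      · exact Or.inl (hfix y hy')
      · left
        have eq : c * q * c⁻¹ = q := by
          have : q⁻¹ * (c * q * c⁻¹) = 1 := ht.symm.trans e
          rw [inv_mul_eq_one] at this; exact this.symm
        calc c * y * c⁻¹ = (c * q * c⁻¹) * (c * (q⁻¹ * y) * c⁻¹) := by group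
          _ = y := by rw [eq, hfix _ hy']; group
    exact d.mem_V.2 (h.centralized_by_hyperplane d.memQ hcQ fun y hy hyb => hA y (d.mem_A.2 ⟨hy, hyb⟩))
  · have hcQ : c ∈ Q := h.mem_of_trivial fun y hy => by
      rcases hdec y hy with hy' | hy'
      · exact Or.inl (hfix y hy')
      · right
        have eq : c * q * c⁻¹ = q * z := by rw [← e, ht]; group
        calc c * y * c⁻¹ = (c * q * c⁻¹) * (c * (q⁻¹ * y) * c⁻¹) := by group
          _ = q * (z * (q⁻¹ * y)) := by rw [eq, hfix _ hy']; group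
          _ = q * ((q⁻¹ * y) * z) := by rw [h.central _ (d.mem_A.1 hy').1]
          _ = y * z := by group
    exact d.mem_V.2 (h.centralized_by_hyperplane d.memQ hcQ fun y hy hyb => hA y (d.mem_A.2 ⟨hy, hyb⟩))
  all_goals
    -- conjugation keeps squares, so `q` cannot be moved to `q b` modulo the centre
    exfalso
    have hsq : (c * q * c⁻¹) * (c * q * c⁻¹) = q * q := by
      rw [conj_mul]
      rcases h.sq q hq with e1 | e1 <;> rw [e1]
      · group
      · rw [hc, mul_inv_cancel_right]
    rw [show c * q * c⁻¹ = q * t by rw [ht]; group, e] at hsq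
    have e0 := ((h.conj_cases d.memQ hq).resolve_left hqb).2
    have e1 : b * q = q * b * z := by
      calc b * q = b * z * (z * q) := by rw [← mul_assoc, mul_assoc b, h.zz, mul_one]
        _ = (q * b * q⁻¹) * (z * q) := by rw [e0]
        _ = (q * b * q⁻¹) * (q * z) := by rw [h.central q hq]
        _ = _ := by group
  · have e2 : q * b * (q * b) = q * q * z := by
      calc q * b * (q * b) = q * (b * q) * b := by group
        _ = q * q * (b * (z * b)) := by rw [e1]; group
        _ = q * q * z := by rw [d.zb, ← mul_assoc b b, d.right.zz, one_mul]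
    rw [e2] at hsq
    exact h.ne (mul_eq_left.1 hsq)
  · have e2 : q * (b * z) * (q * (b * z)) = q * q * z := by
      calc q * (b * z) * (q * (b * z)) = q * b * ((z * q) * b) * z := by group
        _ = q * b * (q * z * b) * z := by rw [← h.central q hq]
        _ = q * (b * q) * (z * b) * z := by group
        _ = q * q * b * (z * (b * z)) * z := by rw [e1, d.zb]; group
        _ = q * q * b * b * z := by
          rw [show z * (b * z) = b by rw [← mul_assoc, d.zb, mul_assoc, h.zz, mul_one]]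
        _ = q * q * z := by rw [mul_assoc (q * q), d.right.zz, mul_one]
    rw [e2] at hsq
    exact h.ne (mul_eq_left.1 hsq)

theorem inter_conj {x e : G} (hx : x ∈ Q ∨ x ∈ P) (he : e ∈ Q ⊓ P) : x * e * x⁻¹ * e⁻¹ ∈ d.V := by
  rcases hx with hx | hx
  · rcases d.left.comm x hx e he.1 with h | h <;> rw [commutatorElement_def] at h <;> rw [h]
    · exact one_mem _
    · exact Subgroup.subset_closure (by simp)
  · rcases d.right.comm x hx e he.2 with h | h <;> rw [commutatorElement_def] at h <;> rw [h]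
    · exact one_mem _
    · exact Subgroup.subset_closure (by simp)

/-- The group generated. -/
def X (_ : Duo z b Q P) : Subgroup G := Q ⊔ P

theorem comm_X_inter [Finite G] : ⁅d.X, Q ⊓ P⁆ ≤ d.V := by
  rw [Subgroup.commutator_le]
  intro x hx e he
  have hx' : x ∈ Subgroup.closure ((Q : Set G) ∪ (P : Set G)) := by
    rw [Subgroup.closure_union, Subgroup.closure_eq, Subgroup.closure_eq]; exact hx
  have key : ∀ e ∈ Q ⊓ P, x * e * x⁻¹ * e⁻¹ ∈ d.V := by
    clear he hx
    induction hx' using Subgroup.closure_induction with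
    | mem x hx => exact fun e he => d.inter_conj hx he
    | one => intro e _; simp [one_mem]
    | mul x y _ _ ihx ihy =>
      intro e he
      have hv := ihy e he
      have hye : y * e * y⁻¹ ∈ Q ⊓ P := by
        have := mul_mem (d.V_le hv) he
        simpa using this
      have := mul_mem (ihx _ hye) hv
      convert this using 1
      group
    | inv x _ ih =>
      intro e he
      have hle : ∀ w ∈ Q ⊓ P, x * w * x⁻¹ ∈ Q ⊓ P := fun w hw => by
        have := mul_mem (d.V_le (ih w hw)) hw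
        simpa using this
      obtain ⟨f, hf, hfe⟩ : ∃ f ∈ Q ⊓ P, x⁻¹ * e * x⁻¹⁻¹ = f ∧ x * f * x⁻¹ = e := by
        have hmap : (Q ⊓ P).map (MulAut.conj x).toMonoidHom = Q ⊓ P := by
          refine le_antisymm ?_ ?_
          · rintro _ ⟨w, hw, rfl⟩; exact hle w hw
          · intro w hw
            have hfin : ∀ n : ℕ, x ^ n * w * (x ^ n)⁻¹ ∈ Q ⊓ P := by
              intro n
              induction n with
              | zero => simpa using hw
              | succ n ihn => convert hle _ ihn using 1; rw [pow_succ']; group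
            refine ⟨x⁻¹ * w * x, ?_, by simp [mul_assoc]⟩
            by_cases hord : IsOfFinOrder x
            · obtain ⟨n, hn⟩ : ∃ n : ℕ, x ^ n = x⁻¹ := by
                have := hord.mem_powers_iff_mem_zpowers.2 (inv_mem (Subgroup.mem_zpowers x))
                exact this
              have := hfin n
              rw [hn, inv_inv] at this
              exact this
            · exact absurd ((ih z d.zE)) (fun _ => hord (by exact isOfFinOrder_of_finite x))
        rw [← hmap] at he
        obtain ⟨f, hf, rfl⟩ := he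
        exact ⟨f, hf, by simp [mul_assoc], by simp [mul_assoc]⟩
      have := inv_mem (ih f hf)
      convert this using 1
      rw [← hfe.2]; group
  simpa [commutatorElement_def] using key e he

end Duo

end Cfsg.Agent.Spor.ExtraPair
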