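import Mathlib
import Cfsg.Agent.Lib.Grp.Frattini

/-!
Two central extensions of an elementary abelian group by a group of order two with the same squaring map are
isomorphic over that group.
-/

set_option autoImplicit false

open scoped commutatorElement

namespace Cfsg.Agent.Spor.ExtraLift

variable {E E' A : Type*} [Group E] [Group E'] [Group A] [Finite E] [Finite E']

/-- Lifting of the identity of the common quotient. -/
theorem lift (hE : IsPGroup 2 E) (hE' : IsPGroup 2 E') {z : E} {z' : E'} (hz : z ≠ 1) (hzz : z * z = 1)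
    (hz' : z' ≠ 1) (hzz' : z' * z' = 1) (hc : ∀ x, x * z = z * x) (hc' : ∀ x, x * z' = z' * x)
    (π : E →* A) (π' : E' →* A) (hs : Function.Surjective π) (hs' : Function.Surjective π')
    (hk : ∀ x, π x = 1 ↔ x = 1 ∨ x = z) (hk' : ∀ x, π' x = 1 ↔ x = 1 ∨ x = z')
    (hsq : ∀ x x', π x = π' x' → (x * x = 1 ∧ x' * x' = 1) ∨ (x * x = z ∧ x' * x' = z')) :
    ∃ ψ : E ≃* E', ∀ x, π' (ψ x) = π x := by
  haveI : Fact (Nat.Prime 2) := ⟨Nat.prime_two⟩
  let P : Subgroup (E × E') := MonoidHom.eqLocus (π.comp (MonoidHom.fst E E')) (π'.comp (MonoidHom.snd E E'))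
  have hP : ∀ p : E × E', p ∈ P ↔ π p.1 = π' p.2 := fun p => Iff.rfl
  have hP2 : IsPGroup 2 P := by
    refine IsPGroup.to_subgroup ?_ P
    intro x
    obtain ⟨a, ha⟩ := hE x.1
    obtain ⟨b, hb⟩ := hE' x.2
    refine ⟨a + b, Prod.ext ?_ ?_⟩
    · rw [Prod.pow_fst, pow_add, pow_mul, ha, one_pow]; rfl
    · rw [Prod.pow_snd, add_comm, pow_add, pow_mul, hb, one_pow]; rfl
  have hd : (z, z') ∈ P := (hP _).2 (((hk z).2 (Or.inr rfl)).trans ((hk' z').2 (Or.inr rfl)).symm)
  have h1 : (z, (1 : E')) ∈ P := (hP _).2 (((hk z).2 (Or.inr rfl)).trans (map_one π').symm)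
  let d : P := ⟨(z, z'), hd⟩
  let D : Subgroup P :=
    { carrier := {1, d}
      one_mem' := Or.inl rfl
      mul_mem' := by
        rintro x y (rfl | rfl) (rfl | rfl)
        · exact Or.inl (one_mul _)
        · exact Or.inr (one_mul _)
        · exact Or.inr (mul_one _)
        · exact Or.inl (Subtype.ext (Prod.ext hzz hzz'))
      inv_mem' := by
        rintro x (rfl | rfl)
        · exact Or.inl inv_one
        · exact Or.inr (Subtype.ext (Prod.ext (inv_eq_of_mul_eq_one_left hzz) (inv_eq_of_mul_eq_one_left hzz'))) }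
  haveI hDn : D.Normal := ⟨fun n hn g => by
    have hg : g * n = n * g := by
      rcases hn with rfl | rfl
      · rw [mul_one, one_mul]
      · exact Subtype.ext (Prod.ext (hc _) (hc' _))
    rwa [hg, mul_inv_cancel_right]⟩
  have hsq' : ∀ p : P, p * p ∈ D := fun p => by
    rcases hsq _ _ ((hP _).1 p.2) with ⟨a, b⟩ | ⟨a, b⟩
    · exact Or.inl (Subtype.ext (Prod.ext a b))
    · exact Or.inr (Subtype.ext (Prod.ext a b))
  have hcomm : commutator P ≤ D := Subgroup.commutator_le.2 fun x _ y _ => by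
    rw [show ⁅x, y⁆ = x * y * (x * y) * (y⁻¹ * (x * x)⁻¹ * y) * (y * y)⁻¹ by
      simp [commutatorElement_def, mul_inv_rev, mul_assoc]]
    refine D.mul_mem (D.mul_mem (hsq' _) ?_) (D.inv_mem (hsq' y))
    have := hDn.conj_mem _ (D.inv_mem (hsq' x)) y⁻¹
    rwa [inv_inv] at this
  have hΦ : frattini (P ⧸ D) ≤ ⊥ := by
    refine Grp.frattini_le_of_elementary Nat.prime_two (Subgroup.commutator_le.2 fun a _ b _ => ?_) fun a => ?_
    · induction a using QuotientGroup.induction_on with | _ x =>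
      induction b using QuotientGroup.induction_on with | _ y =>
      rw [Subgroup.mem_bot, ← QuotientGroup.mk'_apply, ← QuotientGroup.mk'_apply (N := D) y, ← map_commutatorElement]
      exact (QuotientGroup.eq_one_iff _).2 (hcomm (Subgroup.commutator_mem_commutator (Subgroup.mem_top x) (Subgroup.mem_top y)))
    · induction a using QuotientGroup.induction_on with | _ x =>
      rw [Subgroup.mem_bot, ← QuotientGroup.mk_pow, QuotientGroup.eq_one_iff, pow_two]
      exact hsq' x
  have hne : (QuotientGroup.mk (⟨(z, 1), h1⟩ : P) : P ⧸ D) ∉ frattini (P ⧸ D) := fun h => by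
    have h0 := (QuotientGroup.eq_one_iff _).1 (Subgroup.mem_bot.1 (hΦ h))
    rcases h0 with e | e
    · exact hz (congrArg (fun p : P => (p : E × E').1) e)
    · exact hz' (congrArg (fun p : P => (p : E × E').2) e).symm
  obtain ⟨N, hN, hNz⟩ : ∃ N : Subgroup (P ⧸ D), IsCoatom N ∧ (QuotientGroup.mk (⟨(z, 1), h1⟩ : P) : P ⧸ D) ∉ N := by
    by_contra hcon
    push Not at hcon
    refine hne ?_
    rw [frattini, Order.radical, Subgroup.mem_iInf]
    intro N
    rw [Subgroup.mem_iInf]
    exact hcon N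
  obtain ⟨-, hidx⟩ := Grp.coatom_index_eq_of_pGroup (hP2.to_quotient D) hN
  let M : Subgroup P := N.comap (QuotientGroup.mk' D)
  have hMi : M.index = 2 := by
    rw [Subgroup.index_comap_of_surjective _ (QuotientGroup.mk'_surjective D)]; exact hidx
  have hMd : d ∈ M := by
    show (QuotientGroup.mk d : P ⧸ D) ∈ N
    rw [(QuotientGroup.eq_one_iff d).2 (Or.inr rfl)]
    exact N.one_mem
  have hM1 : (⟨(z, 1), h1⟩ : P) ∉ M := hNz
  have h2 : ((1 : E), z') ∈ P := (hP _).2 ((map_one π).trans ((hk' z').2 (Or.inr rfl)).symm)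
  have hM2 : (⟨(1, z'), h2⟩ : P) ∉ M := fun h => hM1 (by
    have := M.mul_mem hMd h
    rwa [show d * ⟨(1, z'), h2⟩ = (⟨(z, 1), h1⟩ : P) from Subtype.ext (Prod.ext (mul_one z) hzz')] at this)
  let f : M →* E := (MonoidHom.fst E E').comp (P.subtype.comp M.subtype)
  let f' : M →* E' := (MonoidHom.snd E E').comp (P.subtype.comp M.subtype)
  have hf : Function.Bijective f := by
    refine ⟨(injective_iff_map_eq_one f).2 fun m hm => ?_, fun x => ?_⟩
    · have e1 : ((m : P) : E × E').1 = 1 := hm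
      have e2 := (hP _).1 (m : P).2
      rw [e1, map_one] at e2
      rcases (hk' _).1 e2.symm with e | e
      · exact Subtype.ext (Subtype.ext (Prod.ext e1 e))
      · exact absurd ((show (m : P) = ⟨(1, z'), h2⟩ from Subtype.ext (Prod.ext e1 e)) ▸ m.2) hM2
    · obtain ⟨y, hy⟩ := hs' (π x)
      by_cases hm : (⟨(x, y), (hP _).2 hy.symm⟩ : P) ∈ M
      · exact ⟨⟨_, hm⟩, rfl⟩
      · exact ⟨⟨_, (Subgroup.mul_mem_iff_of_index_two hMi).2 (iff_of_false hm hM2)⟩, mul_one x⟩
  have hf' : Function.Bijective f' := by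
    refine ⟨(injective_iff_map_eq_one f').2 fun m hm => ?_, fun y => ?_⟩
    · have e1 : ((m : P) : E × E').2 = 1 := hm
      have e2 := (hP _).1 (m : P).2
      rw [e1, map_one] at e2
      rcases (hk _).1 e2 with e | e
      · exact Subtype.ext (Subtype.ext (Prod.ext e e1))
      · exact absurd ((show (m : P) = ⟨(z, 1), h1⟩ from Subtype.ext (Prod.ext e e1)) ▸ m.2) hM1
    · obtain ⟨x, hx⟩ := hs (π' y)
      by_cases hm : (⟨(x, y), (hP _).2 hx⟩ : P) ∈ M
      · exact ⟨⟨_, hm⟩, rfl⟩
      · exact ⟨⟨_, (Subgroup.mul_mem_iff_of_index_two hMi).2 (iff_of_false hm hM1)⟩, mul_one y⟩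
  refine ⟨(MulEquiv.ofBijective f hf).symm.trans (MulEquiv.ofBijective f' hf'), fun x => ?_⟩
  obtain ⟨m, rfl⟩ := hf.2 x
  have : (MulEquiv.ofBijective f hf).symm (f m) = m := (MulEquiv.ofBijective f hf).symm_apply_apply m
  rw [MulEquiv.trans_apply, this]
  exact ((hP _).1 (m : P).2).symm

end Cfsg.Agent.Spor.ExtraLift
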