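import Mathlib
import Cfsg.Prelude.Def_FischerSpaces

/-! Fischer spaces: the two planes, the automorphisms attached to points, and planes inside the
line system of a set of 3-transpositions. -/

set_option autoImplicit false
set_option linter.style.haveILetI false

namespace Cfsg.Agent.Spor.FischerPlanes

open Cfsg

section Space

variable {X : Type*} {L : Set (Set X)}

/-- The line through two collinear points. -/
theorem exists_third (h3 : ∀ l ∈ L, l.ncard = 3) {l : Set X} (hl : l ∈ L) {x y : X} (hx : x ∈ l) (hy : y ∈ l)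
    (hne : x ≠ y) : ∃ z, z ≠ x ∧ z ≠ y ∧ l = {x, y, z} := by
  have hfin : l.Finite := Set.finite_of_ncard_ne_zero (by rw [h3 l hl]; norm_num)
  have hsub : ({x, y} : Set X) ⊆ l := Set.insert_subset hx (Set.singleton_subset_iff.mpr hy)
  have hc : (l \ {x, y}).ncard = 1 := by
    rw [Set.ncard_diff hsub (Set.toFinite _), h3 l hl, Set.ncard_pair hne]
  obtain ⟨z, hz⟩ := Set.ncard_eq_one.mp hc
  have hz' : z ∈ l \ {x, y} := by rw [hz]; rfl
  refine ⟨z, fun e => hz'.2 (Or.inl e), fun e => hz'.2 (Or.inr e), ?_⟩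
  rw [← Set.union_sdiff_cancel hsub, hz]
  ext w
  simp only [Set.mem_union, Set.mem_insert_iff, Set.mem_singleton_iff]
  tauto

theorem lineMap_of_line (hpl : LineSystem.IsPartialLinear L) (h3 : ∀ l ∈ L, l.ncard = 3) {x y z : X}
    (hxy : x ≠ y) (hzx : z ≠ x) (hzy : z ≠ y) (hl : ({x, y, z} : Set X) ∈ L) :
    LineSystem.lineMap L x y = z := by
  have hex : ∃ w, w ≠ x ∧ w ≠ y ∧ x ≠ y ∧ ({x, y, w} : Set X) ∈ L := ⟨z, hzx, hzy, hxy, hl⟩
  unfold LineSystem.lineMap
  simp only [dif_pos hex]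
  obtain ⟨a, b, -, d⟩ := hex.choose_spec
  have e := hpl _ d _ hl x y hxy (Or.inl rfl) (Or.inr (Or.inl rfl)) (Or.inl rfl) (Or.inr (Or.inl rfl))
  have : hex.choose ∈ ({x, y, z} : Set X) := by rw [← e]; exact Or.inr (Or.inr rfl)
  rcases this with h | h | h
  · exact absurd h a
  · exact absurd h b
  · exact h

theorem lineMap_of_not {x y : X} (h : x = y ∨ ∀ l ∈ L, x ∈ l → y ∉ l) : LineSystem.lineMap L x y = y := by
  unfold LineSystem.lineMap
  rw [dif_neg]
  rintro ⟨z, -, -, hxy, hl⟩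
  rcases h with h | h
  · exact hxy h
  · exact h _ hl (Or.inl rfl) (Or.inr (Or.inl rfl))

theorem lineMap_cases (hpl : LineSystem.IsPartialLinear L) (h3 : ∀ l ∈ L, l.ncard = 3) (x y : X) :
    (∃ z, x ≠ y ∧ z ≠ x ∧ z ≠ y ∧ ({x, y, z} : Set X) ∈ L ∧ LineSystem.lineMap L x y = z) ∨
      ((x = y ∨ ∀ l ∈ L, x ∈ l → y ∉ l) ∧ LineSystem.lineMap L x y = y) := by
  by_cases h : x = y ∨ ∀ l ∈ L, x ∈ l → y ∉ l
  · exact Or.inr ⟨h, lineMap_of_not h⟩
  · simp only [not_or, not_forall, not_not, exists_prop] at h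
    obtain ⟨hne, l, hl, hx, hy⟩ := h
    obtain ⟨z, hzx, hzy, rfl⟩ := exists_third h3 hl hx hy hne
    exact Or.inl ⟨z, hne, hzx, hzy, hl, lineMap_of_line hpl h3 hne hzx hzy hl⟩

theorem lineMap_involutive (hpl : LineSystem.IsPartialLinear L) (h3 : ∀ l ∈ L, l.ncard = 3) (x : X) :
    Function.Involutive (LineSystem.lineMap L x) := by
  intro y
  rcases lineMap_cases hpl h3 x y with ⟨z, hxy, hzx, hzy, hl, e⟩ | ⟨-, e⟩
  · rw [e]
    refine lineMap_of_line hpl h3 hzx.symm hxy.symm hzy.symm ?_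
    rwa [show ({x, z, y} : Set X) = {x, y, z} by rw [Set.pair_comm z y]]
  · rw [e, e]

/-- A plane with a point reflection. -/
structure Model {M : Type*} (Λ : Set (Set M)) (r : M → M → M) : Prop where
  line : ∀ x u, x ≠ u → (∃ l ∈ Λ, x ∈ l ∧ u ∈ l) → r x u ≠ x ∧ r x u ≠ u ∧ ({x, u, r x u} : Set M) ∈ Λ
  off : ∀ x u, x = u ∨ (∀ l ∈ Λ, x ∈ l → u ∉ l) → r x u = u
  img : ∀ x, ∀ l ∈ Λ, r x '' l ∈ Λ

theorem span_subspace (S : Set X) : LineSystem.IsSubspace L (LineSystem.span L S) := by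
  intro l hl x hx y hy hne hxl hyl z hz T hT
  exact hT.2 l hl x (hx T hT) y (hy T hT) hne hxl hyl hz

theorem subset_span (S : Set X) : S ⊆ LineSystem.span L S := fun x hx T hT => hT.1 hx

theorem image_line_of_model (hpl : LineSystem.IsPartialLinear L) (h3 : ∀ l ∈ L, l.ncard = 3) {S : Set X}
    (hS : LineSystem.IsSubspace L S) {M : Type*} {Λ : Set (Set M)} {r : M → M → M} (hM : Model Λ r)
    (e : S ≃ M) (he : LineSystem.IsIso (LineSystem.restrict L S) Λ e) {x : X} (hx : x ∈ S) {l : Set X}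
    (hl : l ∈ L) (hlS : l ⊆ S) : LineSystem.lineMap L x '' l ∈ L := by
  set x' := e ⟨x, hx⟩ with hx'
  have back : ∀ l' ∈ Λ, ∃ k ∈ L, k ⊆ S ∧ e '' {w : S | (w : X) ∈ k} = l' := by
    intro l' hl'
    obtain ⟨k, hk, hkS, ek⟩ := (he (e ⁻¹' l')).mpr (by rwa [Equiv.image_preimage])
    exact ⟨k, hk, hkS, by rw [← ek, Equiv.image_preimage]⟩
  have key : ∀ (u : X) (hu : u ∈ S), ∃ hv : LineSystem.lineMap L x u ∈ S, e ⟨_, hv⟩ = r x' (e ⟨u, hu⟩) := by
    intro u hu
    rcases lineMap_cases hpl h3 x u with ⟨z, hxu, hzx, hzu, hline, ez⟩ | ⟨hoff, eu⟩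
    · have hsub : ({x, u, z} : Set X) ⊆ S :=
        hS _ hline x hx u hu hxu (Or.inl rfl) (Or.inr (Or.inl rfl))
      have hz : z ∈ S := hsub (Or.inr (Or.inr rfl))
      have hΛ : e '' {w : S | (w : X) ∈ ({x, u, z} : Set X)} ∈ Λ := (he _).mp ⟨_, hline, hsub, rfl⟩
      have hne : x' ≠ e ⟨u, hu⟩ := fun h => hxu (congrArg Subtype.val (e.injective h))
      obtain ⟨hr1, hr2, hr⟩ := hM.line x' _ hne ⟨_, hΛ, ⟨⟨x, hx⟩, Or.inl rfl, rfl⟩, ⟨⟨u, hu⟩, Or.inr (Or.inl rfl), rfl⟩⟩
      obtain ⟨k, hk, hkS, ek⟩ := back _ hr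
      have hxk : x ∈ k := by
        obtain ⟨w, hw, ew⟩ : x' ∈ e '' {w : S | (w : X) ∈ k} := by rw [ek]; exact Or.inl rfl
        rw [show w = ⟨x, hx⟩ from e.injective ew] at hw
        exact hw
      have huk : u ∈ k := by
        obtain ⟨w, hw, ew⟩ : e ⟨u, hu⟩ ∈ e '' {w : S | (w : X) ∈ k} := by rw [ek]; exact Or.inr (Or.inl rfl)
        rw [show w = ⟨u, hu⟩ from e.injective ew] at hw
        exact hw
      have hkeq := hpl k hk _ hline x u hxu hxk huk (Or.inl rfl) (Or.inr (Or.inl rfl))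
      obtain ⟨w, hw, ew⟩ : r x' (e ⟨u, hu⟩) ∈ e '' {w : S | (w : X) ∈ k} := by rw [ek]; exact Or.inr (Or.inr rfl)
      have hw' : (w : X) ∈ ({x, u, z} : Set X) := hkeq ▸ hw
      rcases hw' with h | h | h
      · exact absurd (ew.symm.trans (congrArg e (Subtype.ext h : w = ⟨x, hx⟩))) hr1
      · exact absurd (ew.symm.trans (congrArg e (Subtype.ext h : w = ⟨u, hu⟩))) hr2
      · refine ⟨ez ▸ hz, ?_⟩
        rw [← ew]
        exact congrArg e (Subtype.ext (ez.trans (show z = (w : X) from h.symm)))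
    · have hu' : LineSystem.lineMap L x u ∈ S := by rw [eu]; exact hu
      refine ⟨hu', ?_⟩
      rw [show (⟨LineSystem.lineMap L x u, hu'⟩ : S) = ⟨u, hu⟩ from Subtype.ext eu]
      refine (hM.off x' _ ?_).symm
      rcases hoff with rfl | hoff
      · exact Or.inl rfl
      · refine Or.inr fun l' hl' h1 h2 => ?_
        obtain ⟨k, hk, -, ek⟩ := back l' hl'
        rw [← ek] at h1 h2
        obtain ⟨w, hw, ew⟩ := h1
        obtain ⟨v, hv, ev⟩ := h2
        rw [show w = ⟨x, hx⟩ from e.injective ew] at hw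
        rw [show v = ⟨u, hu⟩ from e.injective ev] at hv
        exact hoff k hk hw hv
  have himg := hM.img x' _ ((he _).mp ⟨l, hl, hlS, rfl⟩)
  obtain ⟨k, hk, hkS, ek⟩ := back _ himg
  have : LineSystem.lineMap L x '' l = k := by
    ext v
    constructor
    · rintro ⟨u, hu, rfl⟩
      obtain ⟨hv, ev⟩ := key u (hlS hu)
      obtain ⟨w, hw, ew⟩ : e ⟨_, hv⟩ ∈ e '' {w : S | (w : X) ∈ k} := by
        rw [ek, ev]
        exact ⟨_, ⟨⟨u, hlS hu⟩, hu, rfl⟩, rfl⟩
      rw [show w = ⟨_, hv⟩ from e.injective ew] at hw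
      exact hw
    · intro hv
      obtain ⟨_, ⟨⟨u, hu⟩, hul, rfl⟩, ep⟩ : e ⟨v, hkS hv⟩ ∈ r x' '' (e '' {w : S | (w : X) ∈ l}) := by
        rw [← ek]; exact ⟨_, hv, rfl⟩
      obtain ⟨hv', ev⟩ := key u hu
      exact ⟨u, hul, congrArg Subtype.val (e.injective (ev.trans ep))⟩
  rw [this]
  exact hk

/-- The reflection of the affine plane of order three. -/
def affRefl (x u : Fin 2 → ZMod 3) : Fin 2 → ZMod 3 := -x - u

theorem affine_model : Model affinePlaneThree affRefl where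
  line x u hne _ := by
    have h1 : ∀ x u : Fin 2 → ZMod 3, x ≠ u → affRefl x u ≠ x ∧ affRefl x u ≠ u ∧
        ∀ p, (p = x ∨ p = u ∨ p = affRefl x u) ↔ ∃ c : ZMod 3, p = x + c • (u - x) := by decide +kernel
    obtain ⟨a, b, c⟩ := h1 x u hne
    exact ⟨a, b, x, u - x, sub_ne_zero.mpr (Ne.symm hne), Set.ext fun p => c p⟩
  off x u h := by
    have h1 : ∀ x : Fin 2 → ZMod 3, affRefl x x = x := by decide +kernel
    rcases h with rfl | h
    · exact h1 x
    · by_cases hne : x = u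
      · rw [hne]; exact h1 u
      · exact absurd ⟨1, by simp⟩ (h {p | ∃ c : ZMod 3, p = x + c • (u - x)}
          ⟨x, u - x, sub_ne_zero.mpr (Ne.symm hne), rfl⟩ ⟨0, by simp⟩)
  img x l hl := by
    obtain ⟨v, w, hw, rfl⟩ := hl
    refine ⟨affRefl x v, -w, neg_ne_zero.mpr hw, ?_⟩
    ext p
    simp only [Set.mem_image, affRefl]
    constructor
    · rintro ⟨q, ⟨c, rfl⟩, rfl⟩
      exact ⟨c, by simp only [smul_neg]; abel⟩
    · rintro ⟨c, rfl⟩
      exact ⟨v + c • w, ⟨c, rfl⟩, by simp only [smul_neg]; abel⟩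

/-- The map of four symbols attached to a point of the dual plane. -/
def dualFun (x : DualAffinePoint) (i : Fin 4) : Fin 4 := if i ∈ x.val then ∑ j ∈ x.val.erase i, j else i

theorem dualFun_involutive : ∀ x : DualAffinePoint, ∀ i : Fin 4, dualFun x (dualFun x i) = i := by decide +kernel

/-- The permutation of four symbols attached to a point of the dual plane. -/
def dualSwap (x : DualAffinePoint) : Equiv.Perm (Fin 4) := Function.Involutive.toPerm _ (dualFun_involutive x)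

/-- The reflection of the dual affine plane of order two. -/
def dualRefl (x u : DualAffinePoint) : DualAffinePoint :=
  ⟨u.val.map (dualSwap x).toEmbedding, by rw [Finset.card_map]; exact u.2⟩

theorem dual_model : Model dualAffinePlaneTwo dualRefl where
  line x u hne h := by
    obtain ⟨l, ⟨i, rfl⟩, hx, hu⟩ := h
    have h1 : ∀ x u : DualAffinePoint, ∀ i : Fin 4, x ≠ u → i ∉ x.val → i ∉ u.val →
        dualRefl x u ≠ x ∧ dualRefl x u ≠ u ∧
          ∀ p : DualAffinePoint, (p = x ∨ p = u ∨ p = dualRefl x u) ↔ i ∉ p.val := by decide +kernel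
    obtain ⟨a, b, c⟩ := h1 x u i hne hx hu
    exact ⟨a, b, i, Set.ext fun p => c p⟩
  off x u h := by
    have h1 : ∀ x u : DualAffinePoint, x = u ∨ (∀ i : Fin 4, i ∉ x.val → i ∈ u.val) → dualRefl x u = u := by
      decide +kernel
    refine h1 x u (h.imp_right fun h i hi => ?_)
    exact not_not.mp fun hn => h _ ⟨i, rfl⟩ hi hn
  img x l hl := by
    obtain ⟨i, rfl⟩ := hl
    have h1 : ∀ x q : DualAffinePoint, ∀ i : Fin 4, dualRefl x (dualRefl x q) = q ∧
        (i ∉ q.val ↔ dualSwap x i ∉ (dualRefl x q).val) := by decide +kernel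
    refine ⟨dualSwap x i, Set.ext fun p => ⟨?_, fun hp => ⟨dualRefl x p, ?_, (h1 x p i).1⟩⟩⟩
    · rintro ⟨q, hq, rfl⟩
      exact (h1 x q i).2.mp hq
    · show i ∉ (dualRefl x p).val
      rw [(h1 x _ i).2, (h1 x p i).1]
      exact hp

/-- The map of a point sends lines to lines. -/
theorem image_line (hL : IsFischerSpace L) (x : X) {l : Set X} (hl : l ∈ L) :
    LineSystem.lineMap L x '' l ∈ L := by
  obtain ⟨hpl, h3, hplane⟩ := hL
  by_cases hxl : x ∈ l
  · suffices LineSystem.lineMap L x '' l = l by rw [this]; exact hl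
    have hmem : ∀ u ∈ l, LineSystem.lineMap L x u ∈ l := by
      intro u hu
      rcases lineMap_cases hpl h3 x u with ⟨z, hxu, -, -, hline, ez⟩ | ⟨-, eu⟩
      · rw [ez, hpl l hl _ hline x u hxu hxl hu (Or.inl rfl) (Or.inr (Or.inl rfl))]
        exact Or.inr (Or.inr rfl)
      · rw [eu]; exact hu
    exact Set.Subset.antisymm (Set.image_subset_iff.mpr hmem)
      fun u hu => ⟨_, hmem u hu, lineMap_involutive hpl h3 x u⟩
  by_cases hy : ∃ y ∈ l, ∃ m ∈ L, x ∈ m ∧ y ∈ m
  · obtain ⟨y, hyl, m, hm, hxm, hym⟩ := hy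
    have hne : l ≠ m := fun e => hxl (e ▸ hxm)
    have hS := span_subspace (L := L) (l ∪ m)
    have hsub := subset_span (L := L) (l ∪ m)
    rcases hplane l hl m hm hne ⟨y, hyl, hym⟩ with ⟨e, he⟩ | ⟨e, he⟩
    · exact image_line_of_model hpl h3 hS dual_model e he (hsub (Or.inr hxm)) hl
        (Set.subset_union_left.trans hsub)
    · exact image_line_of_model hpl h3 hS affine_model e he (hsub (Or.inr hxm)) hl
        (Set.subset_union_left.trans hsub)
  · suffices LineSystem.lineMap L x '' l = l by rw [this]; exact hl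
    refine (Set.image_congr (g := id) fun u hu => lineMap_of_not (Or.inr fun m hm hxm hum => ?_)).trans (Set.image_id l)
    exact hy ⟨u, hu, m, hm, hxm, hum⟩

/-- The permutation of a point. -/
noncomputable def pointPerm (hL : IsFischerSpace L) (x : X) : Equiv.Perm X :=
  (lineMap_involutive hL.1 hL.2.1 x).toPerm _

theorem pointPerm_iso (hL : IsFischerSpace L) (x : X) : LineSystem.IsIso L L (pointPerm hL x) := by
  intro l
  refine ⟨fun h => image_line hL x h, fun h => ?_⟩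
  have := image_line hL x h
  rwa [show (pointPerm hL x : X → X) = LineSystem.lineMap L x from rfl, Set.image_image,
    show (fun u => LineSystem.lineMap L x (LineSystem.lineMap L x u)) = id from
      funext (lineMap_involutive hL.1 hL.2.1 x), Set.image_id] at this

theorem pointPerm_conj (hL : IsFischerSpace L) (x y : X) :
    pointPerm hL x * pointPerm hL y * pointPerm hL x = pointPerm hL (LineSystem.lineMap L x y) := by
  obtain ⟨hpl, h3, -⟩ := id hL
  refine Equiv.ext fun u => ?_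
  set s := LineSystem.lineMap L x with hs
  have hinv := lineMap_involutive hpl h3 x
  show s (LineSystem.lineMap L y (s u)) = LineSystem.lineMap L (s y) u
  obtain ⟨v, rfl⟩ : ∃ v, s v = u := ⟨s u, hinv u⟩
  rw [show s (s v) = v from hinv v]
  have hinj : Function.Injective s := hinv.injective
  rcases lineMap_cases hpl h3 y v with ⟨z, hyv, hzy, hzv, hline, ez⟩ | ⟨hoff, ev⟩
  · rw [ez]
    refine (lineMap_of_line hpl h3 (hinj.ne hyv) (hinj.ne hzy) (hinj.ne hzv) ?_).symm
    have := image_line hL x hline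
    rwa [Set.image_insert_eq, Set.image_insert_eq, Set.image_singleton] at this
  · rw [ev]
    refine (lineMap_of_not (hoff.imp (congrArg s) fun h m hm h1 h2 => ?_)).symm
    refine h _ (image_line hL x hm) ?_ ?_
    · exact ⟨_, h1, hinv y⟩
    · exact ⟨_, h2, hinv v⟩

end Space

end Cfsg.Agent.Spor.FischerPlanes
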