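import Mathlib
import Cfsg.Prelude.Def_Local
import Cfsg.Agent.Lib.Grp.Coprime
import Cfsg.Agent.Lib.Grp.Cores
import Cfsg.Agent.S0205

/-!
The intersection of the invariant Sylow subgroups and the largest normal `p`-subgroup of a subgroup.
-/

set_option autoImplicit false
set_option linter.unusedSectionVars false

namespace Cfsg.Agent.Spor.Flavell

open Cfsg.Agent
open scoped Pointwise

variable {G : Type*} [Group G] [Finite G] {p : ℕ} [Fact p.Prime]

theorem solv {A R : Subgroup G} (h : (Nat.card A).Coprime (Nat.card R)) :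
    Group.IsSolvable A ∨ Group.IsSolvable R := by
  rcases Nat.even_or_odd (Nat.card A) with h1 | h1
  · refine Or.inr (S0205.result ?_)
    rw [← Nat.not_even_iff_odd]
    exact fun h2 => Nat.prime_two.not_dvd_one (h ▸ Nat.dvd_gcd h1.two_dvd h2.two_dvd)
  · exact Or.inl (S0205.result h1)

/-- The largest normal `p`-subgroup of a subgroup. -/
def opc (p : ℕ) (R : Subgroup G) : Subgroup G := (Cfsg.pCore p R).map R.subtype

theorem opc_le (R : Subgroup G) : opc p R ≤ R := Subgroup.map_subtype_le _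

theorem opc_isPGroup (R : Subgroup G) : IsPGroup p (opc p R) := Grp.pCore_isPGroup.map _

theorem normalizer_le_opc (R : Subgroup G) :
    Subgroup.normalizer (R : Set G) ≤ Subgroup.normalizer (opc p R : Set G) := by
  have key : ∀ g ∈ Subgroup.normalizer (R : Set G), ∀ y ∈ opc p R, g * y * g⁻¹ ∈ opc p R := by
    rintro g hg _ ⟨x, hx, rfl⟩
    exact ⟨R.normalizerMonoidHom ⟨g, hg⟩ x,
      Subgroup.characteristic_iff_map_le.1 Grp.instCharPCore _ (Subgroup.mem_map_of_mem _ hx), rfl⟩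
  intro g hg
  refine Subgroup.mem_normalizer_iff.2 fun y => ⟨key g hg y, fun hy => ?_⟩
  have := key g⁻¹ (inv_mem hg) _ hy
  rwa [inv_inv, show g⁻¹ * (g * y * g⁻¹) * g = y by group] at this

theorem le_opc {N R : Subgroup G} (hN : N ≤ R) (hp : IsPGroup p N) (hn : R ≤ Subgroup.normalizer (N : Set G)) :
    N ≤ opc p R := by
  have h1 : N.subgroupOf R ≤ Cfsg.pCore p R :=
    Grp.le_pCore (Subgroup.normal_subgroupOf_iff_le_normalizer hN |>.2 hn) hp.comap_subtype
  calc N = (N.subgroupOf R).map R.subtype := (Subgroup.map_subgroupOf_eq_of_le hN).symm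
    _ ≤ _ := Subgroup.map_mono h1

/-- `x` lies in every invariant Sylow subgroup. -/
def InP (p : ℕ) (L A : Subgroup G) (x : G) : Prop :=
  x ∈ L ∧ ∀ S, Grp.IsSylowIn p S L → A ≤ Subgroup.normalizer (S : Set G) → x ∈ S

variable {L A : Subgroup G} (hnorm : A ≤ Subgroup.normalizer (L : Set G))
  (hcop : (Nat.card A).Coprime (Nat.card L))

include hnorm hcop

theorem InP.restrict {R : Subgroup G} (hR : R ≤ L) (hRn : A ≤ Subgroup.normalizer (R : Set G)) {x : G}
    (hx : InP p L A x) (hxR : x ∈ R) : InP p R A x := by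
  refine ⟨hxR, fun T hT hTA => ?_⟩
  obtain ⟨S, hS, hSA, hTS⟩ := Grp.exists_invariant_sylow_ge A L hnorm hcop (solv hcop) (hT.1.trans hR) hT.2.1 hTA
  have e := hT.eq_of_le (le_inf hTS hT.1) inf_le_right (hS.2.1.to_le inf_le_left)
  exact e ▸ ⟨hx.2 S hS hSA, hxR⟩

theorem InP.conj {x c : G} (hx : InP p L A x) (hc : c ∈ L ⊓ Subgroup.centralizer (A : Set G)) :
    InP p L A (c * x * c⁻¹) := by
  refine ⟨L.mul_mem (L.mul_mem hc.1 hx.1) (L.inv_mem hc.1), fun S hS hSA => ?_⟩
  have hS' : Grp.IsSylowIn p (MulAut.conj c⁻¹ • S) L :=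
    hS.smul (Grp.conj_smul_eq_self_of_mem (L.inv_mem hc.1))
  have hA' : A ≤ Subgroup.normalizer ((MulAut.conj c⁻¹ • S : Subgroup G) : Set G) := by
    intro a ha
    have e := Subgroup.mem_centralizer_iff.1 hc.2 a ha
    rw [Grp.mem_normalizer_iff_smul, ← mul_smul, ← map_mul, show a * c⁻¹ = c⁻¹ * a by
      rw [eq_inv_mul_iff_mul_eq, ← mul_assoc, ← e, mul_inv_cancel_right], map_mul, mul_smul,
      Grp.mem_normalizer_iff_smul.1 (hSA ha)]
  have := hx.2 _ hS' hA'
  rw [Grp.mem_smul_conj, inv_inv] at this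
  exact this

theorem InP.conj_operator {x a : G} (hx : InP p L A x) (ha : a ∈ A) : InP p L A (a * x * a⁻¹) :=
  ⟨(Subgroup.mem_normalizer_iff.1 (hnorm ha) x).1 hx.1,
    fun S hS hSA => (Subgroup.mem_normalizer_iff.1 (hSA ha) x).1 (hx.2 S hS hSA)⟩

omit hnorm hcop in
/-- The intersection of the invariant Sylow subgroups. -/
theorem exists_meet : ∃ P : Subgroup G, ∀ x, x ∈ P ↔ InP p L A x :=
  ⟨{ carrier := {x | InP p L A x}
     mul_mem' := fun ha hb => ⟨L.mul_mem ha.1 hb.1, fun S h1 h2 => S.mul_mem (ha.2 S h1 h2) (hb.2 S h1 h2)⟩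
     one_mem' := ⟨L.one_mem, fun S _ _ => S.one_mem⟩
     inv_mem' := fun ha => ⟨L.inv_mem ha.1, fun S h1 h2 => S.inv_mem (ha.2 S h1 h2)⟩ }, fun _ => Iff.rfl⟩

theorem meet_isPGroup {P : Subgroup G} (hP : ∀ x, x ∈ P ↔ InP p L A x) : IsPGroup p P := by
  obtain ⟨S, hS, hSA⟩ := Grp.exists_invariant_sylow A L hnorm hcop (solv hcop) p
  exact hS.2.1.to_le fun x hx => ((hP x).1 hx).2 S hS hSA

omit hnorm hcop in
/-- A Sylow subgroup meets a normal subgroup in a Sylow subgroup. -/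
theorem sylow_inf_normal {S K : Subgroup G} (hS : Grp.IsSylowIn p S L) (hK : K ≤ L)
    (hn : L ≤ Subgroup.normalizer (K : Set G)) : Grp.IsSylowIn p (S ⊓ K) K := by
  obtain ⟨T, hT⟩ := Grp.exists_isSylowIn p K
  obtain ⟨S1, hS1, -, hTS⟩ := Grp.exists_invariant_sylow_ge (⊥ : Subgroup G) L bot_le
    (by rw [Subgroup.card_bot]; exact Nat.coprime_one_left _)
    (solv (by rw [Subgroup.card_bot]; exact Nat.coprime_one_left _)) (hT.1.trans hK) hT.2.1 bot_le
  obtain ⟨c, hc, rfl⟩ := hS1.conj hS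
  have hT' : Grp.IsSylowIn p (MulAut.conj c • T) K := hT.smul (Grp.mem_normalizer_iff_smul.1 (hn hc))
  have hle : MulAut.conj c • T ≤ MulAut.conj c • S1 ⊓ K :=
    le_inf (Subgroup.pointwise_smul_le_pointwise_smul_iff.2 hTS) hT'.1
  exact hT'.eq_of_le hle inf_le_right (hS.2.1.to_le inf_le_left) ▸ hT'

omit hnorm hcop in
/-- Pairwise normalising `p`-subgroups generate a `p`-group. -/
theorem isPGroup_iSup {ι : Type*} [Finite ι] (f : ι → Subgroup G) (hf : ∀ i, IsPGroup p (f i))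
    (hn : ∀ i j, f i ≤ Subgroup.normalizer (f j : Set G)) : IsPGroup p ↥(⨆ i, f i) := by
  classical
  letI := Fintype.ofFinite ι
  suffices h : ∀ s : Finset ι, IsPGroup p ↥(s.sup f) by
    rw [← Finset.sup_univ_eq_iSup]; exact h _
  intro s
  induction s using Finset.induction_on with
  | empty => exact (Finset.sup_empty (f := f)).symm ▸ IsPGroup.of_bot
  | insert i s _ ih =>
    rw [Finset.sup_insert]
    exact (hf i).to_sup_of_normal_left' ih (Finset.sup_le fun j _ => hn j i)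

omit hnorm hcop in
theorem le_normalizer_closure {H : Subgroup G} {s : Set G}
    (h : ∀ g ∈ H, ∀ y ∈ s, g * y * g⁻¹ ∈ Subgroup.closure s) :
    H ≤ Subgroup.normalizer (Subgroup.closure s : Set G) := by
  have key : ∀ g ∈ H, ∀ y ∈ Subgroup.closure s, g * y * g⁻¹ ∈ Subgroup.closure s := fun g hg y hy =>
    (Subgroup.closure_le ((Subgroup.closure s).comap (MulAut.conj g).toMonoidHom)).2
      (fun z hz => h g hg z hz) hy
  intro g hg
  refine Subgroup.mem_normalizer_iff.2 fun y => ⟨key g hg y, fun hy => ?_⟩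
  have := key g⁻¹ (inv_mem hg) _ hy
  rwa [inv_inv, show g⁻¹ * (g * y * g⁻¹) * g = y by group] at this

omit hnorm hcop in
theorem le_normalizer_inf_centralizer {H L R : Subgroup G} (hL : H ≤ Subgroup.normalizer (L : Set G))
    (hR : H ≤ Subgroup.normalizer (R : Set G)) :
    H ≤ Subgroup.normalizer ((L ⊓ Subgroup.centralizer (R : Set G) : Subgroup G) : Set G) := by
  have key : ∀ g ∈ H, ∀ y ∈ L ⊓ Subgroup.centralizer (R : Set G),
      g * y * g⁻¹ ∈ L ⊓ Subgroup.centralizer (R : Set G) := by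
    intro g hg y hy
    refine ⟨(Subgroup.mem_normalizer_iff.1 (hL hg) y).1 hy.1, Subgroup.mem_centralizer_iff.2 fun r hr => ?_⟩
    have e := Subgroup.mem_centralizer_iff.1 hy.2 _ ((Subgroup.mem_normalizer_iff.1 (hR (inv_mem hg)) r).1 hr)
    rw [inv_inv] at e
    calc r * (g * y * g⁻¹) = g * (g⁻¹ * r * g * y) * g⁻¹ := by group
      _ = g * (y * (g⁻¹ * r * g)) * g⁻¹ := by rw [e]
      _ = g * y * g⁻¹ * r := by group
  intro g hg
  refine Subgroup.mem_normalizer_iff.2 fun y => ⟨key g hg y, fun hy => ?_⟩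
  have := key g⁻¹ (inv_mem hg) _ hy
  rwa [inv_inv, show g⁻¹ * (g * y * g⁻¹) * g = y by group] at this

end Cfsg.Agent.Spor.Flavell
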