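import Cfsg.Agent.Lib.Spor.FlavellMain

/-!
The theorem on quadratic elements for a group acting on an elementary abelian group, and on an
elementary abelian section.
-/

set_option autoImplicit false
set_option linter.unusedSectionVars false

namespace Cfsg.Agent.Spor.Flavell

open Cfsg.Agent
open scoped commutatorElement

/-- The normal subgroup containing all quadratic elements of all invariant Sylow subgroups. -/
theorem exists_normal_of_quadratic_aux {K M : Type*} [Group K] [Finite K] [AddCommGroup M] [Finite M]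
    [DistribMulAction K M] {p : ℕ} [Fact p.Prime] (hp : 5 ≤ p) [Module (ZMod p) M] (L A : Subgroup K)
    (hnorm : A ≤ Subgroup.normalizer (L : Set K)) (hcop : (Nat.card A).Coprime (Nat.card L)) :
    ∃ N ≤ L, Subgroup.normalizer (L : Set K) ≤ Subgroup.normalizer (N : Set K) ∧
      (∀ g ∈ N, ∃ k : ℕ, ∀ m : M, g ^ p ^ k • m = m) ∧
      (∀ D ≤ L, IsPGroup p D → L ≤ Subgroup.normalizer (D : Set K) → D ≤ N) ∧
      (∀ g ∈ L, (∀ m : M, g • m = m) → g ∈ N) ∧
      ∀ x, InP p L A x → (∀ m : M, x • (x • m - m) = x • m - m) → x ∈ N := by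
  obtain ⟨n, ⟨e⟩⟩ : ∃ n : ℕ, Nonempty (M ≃ₗ[ZMod p] (Fin n → ZMod p)) :=
    ⟨_, ⟨(Module.finBasis (ZMod p) M).equivFun⟩⟩
  let F : K →* LinearMap.GeneralLinearGroup (ZMod p) (Fin n → ZMod p) := MonoidHom.toHomUnits
    { toFun := fun g => ((e : M ≃ₗ[ZMod p] (Fin n → ZMod p)).toAddMonoidHom.comp
        ((DistribSMul.toAddMonoidHom M g).comp e.symm.toAddMonoidHom)).toZModLinearMap p
      map_one' := LinearMap.ext fun v => by
        show e ((1 : K) • e.symm v) = v
        rw [one_smul, e.apply_symm_apply]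
      map_mul' := fun a b => LinearMap.ext fun v => by
        show e ((a * b) • e.symm v) = e (a • e.symm (e (b • e.symm v)))
        rw [e.symm_apply_apply, mul_smul] }
  have hF : ∀ g v, ((F g : LinearMap.GeneralLinearGroup (ZMod p) (Fin n → ZMod p)) :
      Module.End (ZMod p) (Fin n → ZMod p)) v = e (g • e.symm v) := fun _ _ => rfl
  refine ⟨L ⊓ (opc p (L.map F)).comap F, inf_le_left, fun g hg => ?_, fun g hg => ?_,
    fun D hD hDp hDn => le_inf hD (Subgroup.map_le_iff_le_comap.1 ?_), fun g hgL hg => ⟨hgL, ?_⟩,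
    fun x hx hq => ⟨hx.1, ?_⟩⟩
  · have h1 : F g ∈ Subgroup.normalizer (L.map F : Set _) :=
      Subgroup.le_normalizer_map (f := F) (H := L) ⟨g, hg, rfl⟩
    have h2 := normalizer_le_opc (p := p) _ h1
    refine Subgroup.mem_normalizer_iff.2 fun y => ?_
    rw [Subgroup.mem_inf, Subgroup.mem_inf, Subgroup.mem_comap, Subgroup.mem_comap, map_mul, map_mul, map_inv]
    exact and_congr (Subgroup.mem_normalizer_iff.1 hg y) (Subgroup.mem_normalizer_iff.1 h2 (F y))
  · obtain ⟨k, hk⟩ := opc_isPGroup (L.map F) ⟨F g, hg.2⟩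
    refine ⟨k, fun m => ?_⟩
    have h := congrArg (fun u : LinearMap.GeneralLinearGroup (ZMod p) (Fin n → ZMod p) =>
      (u : Module.End (ZMod p) (Fin n → ZMod p)) (e m)) ((congrArg Subtype.val hk).trans rfl : F g ^ p ^ k = 1)
    change ((F g ^ p ^ k : LinearMap.GeneralLinearGroup (ZMod p) (Fin n → ZMod p)) :
      Module.End (ZMod p) (Fin n → ZMod p)) (e m) = e m at h
    rw [← map_pow, hF, e.symm_apply_apply] at h
    exact e.injective h
  · exact le_opc (Subgroup.map_mono hD) (hDp.map F) ((Subgroup.map_mono hDn).trans (Subgroup.le_normalizer_map F))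
  · show F g ∈ opc p (L.map F)
    rw [show F g = 1 from Units.ext (LinearMap.ext fun v => by
      rw [hF, hg, e.apply_symm_apply, Units.val_one, Module.End.one_apply])]
    exact one_mem _
  · refine mem_opc hp _ (Fin n → ZMod p) (L.map F) (A.map F) rfl
      ((Subgroup.map_mono hnorm).trans (Subgroup.le_normalizer_map F))
      ((hcop.coprime_dvd_left (Subgroup.card_map_dvd _ _)).coprime_dvd_right (Subgroup.card_map_dvd _ _))
      (F x) ?_ (hx.map F hnorm hcop)
    refine LinearMap.ext fun v => ?_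
    simp only [Module.End.mul_apply, LinearMap.sub_apply, Module.End.one_apply, LinearMap.zero_apply, hF]
    rw [map_sub e.symm, e.symm_apply_apply, hq, map_sub e, e.apply_symm_apply, sub_self]

theorem coe_subgroupOf_mem_normalizer {X : Type*} [Group X] {K H : Subgroup X} (g : K)
    (hg : (g : X) ∈ Subgroup.normalizer (H : Set X)) :
    g ∈ Subgroup.normalizer ((H.subgroupOf K : Subgroup K) : Set K) :=
  Subgroup.mem_normalizer_iff.2 fun y => Subgroup.mem_normalizer_iff.1 hg (y : X)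

/-- The same for an elementary abelian section `V/W` of a finite group. -/
theorem exists_normal_of_section {X : Type*} [Group X] [Finite X] {p : ℕ} [Fact p.Prime] (hp : 5 ≤ p)
    {H A V W : Subgroup X} (hA : A ≤ Subgroup.normalizer (H : Set X))
    (hcop : (Nat.card A).Coprime (Nat.card H))
    (hHV : H ≤ Subgroup.normalizer (V : Set X)) (hHW : H ≤ Subgroup.normalizer (W : Set X))
    (hAV : A ≤ Subgroup.normalizer (V : Set X)) (hAW : A ≤ Subgroup.normalizer (W : Set X))
    (hcomm : ∀ v ∈ V, ∀ w ∈ V, ⁅v, w⁆ ∈ W) (hVW : V ≤ Subgroup.normalizer (W : Set X))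
    (hpow : ∀ v ∈ V, v ^ p ∈ W) :
    ∃ N ≤ H, Subgroup.normalizer (H : Set X) ⊓ Subgroup.normalizer (V : Set X) ⊓ Subgroup.normalizer (W : Set X) ≤
        Subgroup.normalizer (N : Set X) ∧
      (∀ g ∈ N, ∃ k : ℕ, ∀ v ∈ V, ⁅g ^ p ^ k, v⁆ ∈ W) ∧
      (∀ D ≤ H, IsPGroup p D → H ≤ Subgroup.normalizer (D : Set X) → D ≤ N) ∧
      (∀ g ∈ H, (∀ v ∈ V, ⁅g, v⁆ ∈ W) → g ∈ N) ∧
      ∀ x, InP p H A x → (∀ v ∈ V, ⁅x, ⁅x, v⁆⁆ ∈ W) → x ∈ N := by
  obtain ⟨K, hK⟩ : ∃ K, K = Subgroup.normalizer (H : Set X) ⊓ Subgroup.normalizer (V : Set X) ⊓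
      Subgroup.normalizer (W : Set X) := ⟨_, rfl⟩
  have hHK : H ≤ K := hK ▸ le_inf (le_inf Subgroup.le_normalizer hHV) hHW
  have hAK : A ≤ K := hK ▸ le_inf (le_inf hA hAV) hAW
  have hKV : ∀ g : K, (g : X) ∈ Subgroup.normalizer (V : Set X) := fun g => (hK.le g.2).1.2
  have hKW : ∀ g : K, (g : X) ∈ Subgroup.normalizer (W : Set X) := fun g => (hK.le g.2).2
  haveI hn : (W.subgroupOf V).Normal := ⟨fun a ha g => (Subgroup.mem_normalizer_iff.1 (hVW g.2) a).1 ha⟩
  letI : CommGroup (↥V ⧸ W.subgroupOf V) :=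
    { (inferInstance : Group (↥V ⧸ W.subgroupOf V)) with
      mul_comm := by
        intro a b
        induction a using QuotientGroup.induction_on with | _ a => ?_
        induction b using QuotientGroup.induction_on with | _ b => ?_
        refine (QuotientGroup.eq.2 ?_)
        have := hcomm (b : X)⁻¹ (inv_mem b.2) (a : X)⁻¹ (inv_mem a.2)
        rw [commutatorElement_def, inv_inv, inv_inv] at this
        show ((a * b : V)⁻¹ * (b * a) : X) ∈ W
        convert this using 1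
        simp [mul_assoc] }
  let c : K → (↥V →* ↥V) := fun g =>
    { toFun := fun v => ⟨(g : X) * v * (g : X)⁻¹, (Subgroup.mem_normalizer_iff.1 (hKV g) v).1 v.2⟩
      map_one' := Subtype.ext (by simp)
      map_mul' := fun a b => Subtype.ext (by simp [mul_assoc]) }
  let cq : K → ((↥V ⧸ W.subgroupOf V) →* (↥V ⧸ W.subgroupOf V)) := fun g =>
    QuotientGroup.map _ _ (c g) fun v hv => (Subgroup.mem_normalizer_iff.1 (hKW g) v).1 hv
  have hcq : ∀ (g : K) (v : V), cq g (v : ↥V ⧸ W.subgroupOf V) = ((c g v : V) : ↥V ⧸ W.subgroupOf V) :=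
    fun g v => rfl
  let M := Additive (↥V ⧸ W.subgroupOf V)
  letI : DistribMulAction K M :=
    { smul := fun g m => Additive.ofMul (cq g (Additive.toMul m))
      one_smul := fun m => by
        show Additive.ofMul (cq 1 (Additive.toMul m)) = m
        obtain ⟨v, hv⟩ := QuotientGroup.mk_surjective (Additive.toMul m)
        rw [← hv, hcq, show c 1 v = v from Subtype.ext (by simp [c]), hv]
        rfl
      mul_smul := fun g h m => by
        show Additive.ofMul (cq (g * h) (Additive.toMul m)) = Additive.ofMul (cq g (cq h (Additive.toMul m)))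
        obtain ⟨v, hv⟩ := QuotientGroup.mk_surjective (Additive.toMul m)
        rw [← hv, hcq, hcq, hcq, show c (g * h) v = c g (c h v) from Subtype.ext (by simp [c, mul_assoc])]
      smul_zero := fun g => congrArg Additive.ofMul (map_one (cq g))
      smul_add := fun g m n => congrArg Additive.ofMul (map_mul (cq g) (Additive.toMul m) (Additive.toMul n)) }
  have hpM : ∀ m : M, p • m = 0 := fun m => by
    obtain ⟨v, hv⟩ := QuotientGroup.mk_surjective (Additive.toMul m)
    show Additive.ofMul (Additive.toMul m ^ p) = 0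
    rw [← hv, ← QuotientGroup.mk_pow, (QuotientGroup.eq_one_iff (v ^ p)).2 (hpow v v.2)]
    rfl
  haveI : Finite M := inferInstanceAs (Finite (↥V ⧸ W.subgroupOf V))
  have hcardA : Nat.card (A.subgroupOf K) = Nat.card A := Nat.card_congr (Subgroup.subgroupOfEquivOfLe hAK).toEquiv
  have hcardH : Nat.card (H.subgroupOf K) = Nat.card H := Nat.card_congr (Subgroup.subgroupOfEquivOfLe hHK).toEquiv
  obtain ⟨N, hNH, hNn, hNe, hND, hNk, hNx⟩ := @exists_normal_of_quadratic_aux K M _ _ _ _ _ p _ hp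
    (AddCommGroup.zmodModule hpM) (H.subgroupOf K) (A.subgroupOf K)
    (fun a ha => coe_subgroupOf_mem_normalizer a (hA ha)) (hcardA ▸ hcardH ▸ hcop)
  refine ⟨N.map K.subtype, (Subgroup.map_mono hNH).trans (Subgroup.map_subgroupOf_eq_of_le hHK).le, fun g hg => ?_,
    ?_, fun D hD hDp hDn => ?_, fun g hgH hg => ?_, fun x hx hq => ?_⟩
  · have hgK : g ∈ K := hK ▸ hg
    exact Subgroup.le_normalizer_map (f := K.subtype) (H := N)
      ⟨⟨g, hgK⟩, hNn (coe_subgroupOf_mem_normalizer _ hg.1.1), rfl⟩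
  · rintro _ ⟨g, hg, rfl⟩
    obtain ⟨k, hk⟩ := hNe g hg
    refine ⟨k, fun v hv => ?_⟩
    have h : cq (g ^ p ^ k) ((⟨v, hv⟩ : V) : ↥V ⧸ W.subgroupOf V) = ((⟨v, hv⟩ : V) : ↥V ⧸ W.subgroupOf V) :=
      congrArg Additive.toMul (hk (Additive.ofMul ((⟨v, hv⟩ : V) : ↥V ⧸ W.subgroupOf V)))
    rw [hcq] at h
    have h' := QuotientGroup.eq.1 h.symm
    change v⁻¹ * (((g ^ p ^ k : K) : X) * v * ((g ^ p ^ k : K) : X)⁻¹) ∈ W at h'
    have h'' := (Subgroup.mem_normalizer_iff.1 (hVW hv) _).1 h'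
    rw [← mul_assoc, ← mul_assoc, ← mul_assoc, mul_inv_cancel, one_mul, Subgroup.coe_pow] at h''
    rw [commutatorElement_def]
    exact h''
  · have h1 : D.subgroupOf K ≤ N := hND _ (fun a ha => hD ha) hDp.comap_subtype
      fun a ha => coe_subgroupOf_mem_normalizer a (hDn ha)
    exact (Subgroup.map_subgroupOf_eq_of_le (hD.trans hHK)).ge.trans (Subgroup.map_mono h1)
  · refine ⟨⟨g, hHK hgH⟩, hNk _ hgH fun m => ?_, rfl⟩
    obtain ⟨v, hv⟩ := QuotientGroup.mk_surjective (Additive.toMul m)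
    rw [show m = Additive.ofMul (v : ↥V ⧸ W.subgroupOf V) from hv ▸ rfl]
    show Additive.ofMul (cq _ (v : ↥V ⧸ W.subgroupOf V)) = Additive.ofMul (v : ↥V ⧸ W.subgroupOf V)
    refine congrArg Additive.ofMul ?_
    rw [hcq]
    refine (QuotientGroup.eq.2 ?_).symm
    have h := (Subgroup.mem_normalizer_iff.1 (hVW (inv_mem v.2)) _).1 (hg v v.2)
    show (v : X)⁻¹ * (g * (v : X) * g⁻¹) ∈ W
    rw [commutatorElement_def] at h
    convert h using 1
    group
  · refine ⟨⟨x, hHK hx.1⟩, hNx _ (InP.subgroupOf hHK hAK (x := ⟨x, hHK hx.1⟩) hx) fun m => ?_, rfl⟩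
    obtain ⟨v, hv⟩ := QuotientGroup.mk_surjective (Additive.toMul m)
    rw [show m = Additive.ofMul (v : ↥V ⧸ W.subgroupOf V) from hv ▸ rfl]
    show Additive.ofMul (cq _ (cq _ (v : ↥V ⧸ W.subgroupOf V) / (v : ↥V ⧸ W.subgroupOf V))) =
      Additive.ofMul (cq _ (v : ↥V ⧸ W.subgroupOf V) / (v : ↥V ⧸ W.subgroupOf V))
    refine congrArg Additive.ofMul ?_
    rw [hcq, ← QuotientGroup.mk_div, hcq, QuotientGroup.eq]
    have h := hq (v : X) v.2
    obtain ⟨a, ha⟩ : ∃ a, a = ⁅x, (v : X)⁆ := ⟨_, rfl⟩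
    have haV : a ∈ V := ha ▸ mul_mem ((Subgroup.mem_normalizer_iff.1 (hKV ⟨x, hHK hx.1⟩) v).1 v.2) (inv_mem v.2)
    have h' := inv_mem ((Subgroup.mem_normalizer_iff.1 (hVW (inv_mem haV)) _).1 h)
    rw [← ha] at h'
    have hdiv : ((c ⟨x, hHK hx.1⟩ v / v : V) : X) = a := by
      rw [ha, commutatorElement_def]; simp [c, div_eq_mul_inv]
    show ((c ⟨x, hHK hx.1⟩ (c ⟨x, hHK hx.1⟩ v / v) : V) : X)⁻¹ * ((c ⟨x, hHK hx.1⟩ v / v : V) : X) ∈ W
    rw [hdiv, show ((c ⟨x, hHK hx.1⟩ (c ⟨x, hHK hx.1⟩ v / v) : V) : X) = x * a * x⁻¹ by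
      show x * ((c ⟨x, hHK hx.1⟩ v / v : V) : X) * x⁻¹ = _; rw [hdiv]]
    convert h' using 1
    rw [commutatorElement_def]
    group

end Cfsg.Agent.Spor.Flavell
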