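import Mathlib
import Cfsg.Agent.Lib.Fus.QuadFixedRing

/-!
Two pairs with a common first member are conjugate by an element acting trivially on the three layers of
that member.
-/

set_option autoImplicit false
set_option linter.unusedSectionVars false

namespace Cfsg.Agent.Spor.Flavell

open Cfsg.Agent.Fus.QFix

variable {p : ℕ} [Fact p.Prime] {R : Type*} [Ring R] [Algebra (ZMod p) R]

/-- `y` is trivial on the layers of the square zero element `s`. -/
def Thin (s y : R) : Prop := y * s = 0 ∧ s * y = 0 ∧ ∃ z z', y = s * z + z' * s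

theorem Thin.mul {s a b : R} (ha : Thin s (a - 1)) (hb : Thin s (b - 1)) : Thin s (a * b - 1) := by
  obtain ⟨a1, a2, z, z', ea⟩ := ha
  obtain ⟨b1, b2, x, x', eb⟩ := hb
  have e : a * b - 1 = (a - 1) + (b - 1) + (a - 1) * (b - 1) := by
    simp only [sub_mul, mul_sub, one_mul, mul_one]; abel
  rw [e]
  refine ⟨by simp only [add_mul, mul_assoc, a1, b1, mul_zero, add_zero],
    by simp only [mul_add, ← mul_assoc, a2, b2, zero_mul, add_zero], z + x, z' + x' + (a - 1) * x', ?_⟩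
  conv_lhs => rw [eb, mul_add (a - 1), ← mul_assoc, a1, zero_mul, zero_add, ← mul_assoc]
  conv_lhs => arg 1; arg 1; rw [ea]
  simp only [mul_add, add_mul]
  abel

theorem Thin.pow {s a : R} (ha : Thin s (a - 1)) (n : ℕ) : Thin s (a ^ n - 1) := by
  induction n with
  | zero => rw [pow_zero, sub_self]; exact ⟨zero_mul _, mul_zero _, 0, 0, by simp⟩
  | succ n ih => rw [pow_succ]; exact ih.mul ha

theorem Thin.cube {s y : R} (h : Thin s y) : y * (y * y) = 0 := by
  obtain ⟨a1, a2, z, z', e⟩ := h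
  have e2 : y * y = y * z' * s := by
    conv_lhs => arg 2; rw [e]
    rw [mul_add, ← mul_assoc, a1, zero_mul, zero_add, ← mul_assoc]
  rw [← mul_assoc, e2, mul_assoc, a2, mul_zero]

section Transitive

variable (hp : 5 ≤ p) {M : Submonoid R}

include hp

/-- Two pairs on a first member with the same projection differ by an element of `M`. -/
theorem exists_shift (hinv : ∀ x ∈ M, ∀ y, x * y = 1 → y * x = 1 → y ∈ M) {s t t1 : R} (h : NPair s t)
    (h1 : NPair s t1) (hP : proj s t1 = proj s t) (hs : ∀ c : ZMod p, 1 + c • s ∈ M)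
    (ht : ∀ c : ZMod p, 1 + c • t ∈ M) (ht1 : ∀ c : ZMod p, 1 + c • t1 ∈ M) :
    ∃ v ∈ M, ∃ w ∈ M, v * w = 1 ∧ w * v = 1 ∧ Thin s (v - 1) ∧ v * t * w = t1 := by
  obtain ⟨ω, hω⟩ : ∃ ω, ω = s * t - s * t1 := ⟨_, rfl⟩
  have hω' : ω = t1 * s - t * s := by
    have e : s * t + t * s = s * t1 + t1 * s := hP.symm
    rw [hω, sub_eq_sub_iff_add_eq_add, e, add_comm]
  have hωω : ω * ω = 0 := by
    have e1 : s * t * (s * t) = s * t := by rw [← mul_assoc, h.sts]
    have e2 : s * t * (s * t1) = s * t1 := by rw [← mul_assoc, h.sts]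
    have e3 : s * t1 * (s * t) = s * t := by rw [← mul_assoc, h1.sts]
    have e4 : s * t1 * (s * t1) = s * t1 := by rw [← mul_assoc, h1.sts]
    rw [hω, mul_sub, sub_mul, sub_mul, e1, e2, e3, e4]
    abel
  have hωt : ω * t = t1 * s * t - t := by rw [hω', sub_mul, h.tst]
  have htω : t * ω = t - t * s * t1 := by rw [hω, mul_sub, ← mul_assoc, ← mul_assoc, h.tst]
  have hconj : (1 + ω) * t * (1 - ω) = t1 := by
    have e : ω * t * ω = t1 * s * t - t1 - (t - t * s * t1) := by
      rw [hωt, sub_mul, htω]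
      congr 1
      rw [hω, mul_sub, show t1 * s * t * (s * t) = t1 * s * (t * s * t) by simp only [mul_assoc], h.tst,
        show t1 * s * t * (s * t1) = t1 * (s * t * s) * t1 by simp only [mul_assoc], h.sts, h1.tst]
    rw [add_mul, one_mul, mul_sub, mul_one, add_mul, e, hωt, htω]
    abel
  have hU : (1 + ω) * (1 - ω) = 1 ∧ (1 - ω) * (1 + ω) = 1 := by
    constructor <;> simp [add_mul, mul_add, sub_mul, mul_sub, hωω]
  obtain ⟨lam, hlam⟩ : ∃ lam, lam = t * ω * t := ⟨_, rfl⟩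
  have hlam2 : lam * lam = 0 := by
    rw [hlam, show t * ω * t * (t * ω * t) = t * ω * (t * t) * (ω * t) by simp only [mul_assoc], h.tt, mul_zero,
      zero_mul]
  have ht1t : t1 * t = -(lam + ω * lam) := by
    have e : ∀ u : R, u * t * t = 0 := fun u => by rw [mul_assoc, h.tt, mul_zero]
    rw [← hconj, hlam, add_mul, one_mul, mul_sub, mul_one, sub_mul, add_mul, h.tt, e, add_mul, add_mul, zero_add]
    simp only [mul_assoc]
    abel
  have hg : ∀ c : ZMod p, c ≠ 0 → (1 + ω) * (1 + (c⁻¹ * c⁻¹) • lam) ∈ M := by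
    intro c hc
    have key : wel c s t1 * wel (-c) s t = (1 + ω) * (1 + (c⁻¹ * c⁻¹) • lam) := by
      obtain ⟨b1, b2⟩ := h.proj_left
      obtain ⟨b3, b4⟩ := h.proj_right
      have b5 : t1 * proj s t = t1 := by rw [← hP, h1.proj_right.2]
      have e : (1 + ω) * (1 + (c⁻¹ * c⁻¹) • lam) = 1 + ω - (c⁻¹ * c⁻¹) • (t1 * t) := by
        rw [ht1t]
        simp only [add_mul, mul_add, one_mul, mul_one, mul_smul_comm, smul_neg, smul_add]
        abel
      rw [e, hω', wel, wel, hP]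
      simp only [mul_add, add_mul, mul_sub, sub_mul, one_mul, mul_one, smul_mul_assoc, mul_smul_comm, smul_smul,
        b1, b2, b3, b4, b5, h.proj_idem, h.ss, smul_zero, inv_neg, mul_neg, neg_mul, mul_inv_cancel₀ hc,
        inv_mul_cancel₀ hc, neg_smul, one_smul, neg_neg, neg_zero]
      simp only [smul_neg, neg_smul, smul_sub, smul_add, smul_smul, mul_inv_cancel₀ hc, inv_mul_cancel₀ hc, one_smul, neg_neg, smul_zero, neg_zero, proj]
      abel
    rw [← key, ← h1.wel_eq hc, ← h.wel_eq (neg_ne_zero.2 hc)]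
    refine M.mul_mem (M.mul_mem (M.mul_mem (hs c) ?_) (hs c)) (M.mul_mem (M.mul_mem (hs _) ?_) (hs _))
    · rw [sub_eq_add_neg, ← neg_smul]; exact ht1 _
    · rw [sub_eq_add_neg, ← neg_smul]; exact ht _
  obtain ⟨h20, h30⟩ := two_ne hp
  have g1 := hg 1 one_ne_zero
  rw [inv_one, one_mul, one_smul] at g1
  have hl : ∀ a b : ZMod p, (1 + a • lam) * (1 + b • lam) = 1 + (a + b) • lam := fun a b => by
    simp only [add_mul, mul_add, one_mul, mul_one, smul_mul_assoc, mul_smul_comm, hlam2, smul_zero, add_smul]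
    abel
  have hl' : (1 - lam) * (1 + lam) = 1 ∧ (1 + lam) * (1 - lam) = 1 := by
    constructor <;> simp [add_mul, mul_add, sub_mul, mul_sub, hlam2]
  have g1' : (1 - lam) * (1 - ω) ∈ M := by
    refine hinv _ g1 _ ?_ ?_
    · rw [mul_assoc, ← mul_assoc (1 + lam), hl'.2, one_mul, hU.1]
    · rw [mul_assoc, ← mul_assoc (1 - ω), hU.2, one_mul, hl'.1]
  obtain ⟨e, he⟩ : ∃ e, e = (2 : ZMod p)⁻¹ * 2⁻¹ - 1 := ⟨_, rfl⟩
  have he0 : e ≠ 0 := by
    intro h0
    apply h30
    have h4 : (2 : ZMod p)⁻¹ * 2⁻¹ = 1 := by rw [← sub_eq_zero, ← he, h0]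
    have : (4 : ZMod p) = 1 := by
      rw [show (4 : ZMod p) = 2 * 2 by norm_num]
      calc (2 : ZMod p) * 2 = 2 * 2 * (2⁻¹ * 2⁻¹) := by rw [h4, mul_one]
        _ = 1 := by field_simp
    linear_combination this
  have g2 : 1 + e • lam ∈ M := by
    have g3 := M.mul_mem g1' (hg 2 h20)
    rwa [mul_assoc, ← mul_assoc (1 - ω), hU.2, one_mul, show (1 : R) - lam = 1 + (-1 : ZMod p) • lam by
      rw [neg_one_smul, sub_eq_add_neg], hl, show -1 + (2 : ZMod p)⁻¹ * 2⁻¹ = e by rw [he]; ring] at g3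
  have g4 : ∀ c : ZMod p, 1 + c • lam ∈ M := fun c => by
    have := M.pow_mem g2 (c * e⁻¹).val
    rwa [one_add_pow_of_sq (p := p) (by rw [smul_mul_smul_comm, hlam2, smul_zero]), smul_smul,
      ZMod.natCast_zmod_val, inv_mul_cancel_right₀ he0] at this
  have hUM : 1 + ω ∈ M := by
    have := M.mul_mem g1 (g4 (-1))
    rwa [mul_assoc, neg_one_smul, ← sub_eq_add_neg, hl'.2, mul_one] at this
  refine ⟨1 + ω, hUM, 1 - ω, hinv _ hUM _ hU.1 hU.2, hU.1, hU.2, ?_, hconj⟩
  have e1 : ω * s = 0 := by rw [hω', sub_mul, mul_assoc, mul_assoc, h.ss, mul_zero, mul_zero, sub_zero]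
  have e2 : s * ω = 0 := by rw [hω, mul_sub, ← mul_assoc, ← mul_assoc, h.ss, zero_mul, zero_mul, sub_zero]
  rw [add_sub_cancel_left]
  exact ⟨e1, e2, t - t1, 0, by rw [zero_mul, add_zero, hω, mul_sub]⟩

/-- Two pairs with the same first member are conjugate in the centralizer of that member. -/
theorem exists_conj (hinv : ∀ x ∈ M, ∀ y, x * y = 1 → y * x = 1 → y ∈ M) {s t t' : R} (h : NPair s t)
    (h' : NPair s t') (hs : ∀ c : ZMod p, 1 + c • s ∈ M) (ht : ∀ c : ZMod p, 1 + c • t ∈ M)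
    (ht' : ∀ c : ZMod p, 1 + c • t' ∈ M) :
    ∃ v ∈ M, ∃ w ∈ M, v * w = 1 ∧ w * v = 1 ∧ Thin s (v - 1) ∧ v * t * w = t' := by
  obtain ⟨h20, -⟩ := two_ne hp
  have hw : ∀ {a b : R}, NPair a b → (∀ c : ZMod p, 1 + c • a ∈ M) → (∀ c : ZMod p, 1 + c • b ∈ M) →
      1 - (2 : ZMod p) • proj a b ∈ M := fun {a b} hab ha hb => by
    have : wel (1 : ZMod p) a b ∈ M := by
      rw [← hab.wel_eq one_ne_zero]
      refine M.mul_mem (M.mul_mem (ha _) ?_) (ha _)
      rw [sub_eq_add_neg, ← neg_smul]; exact hb _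
    rw [← hab.wel_sq]; exact M.mul_mem this this
  have hinvol : ∀ {a b : R}, NPair a b →
      (1 - (2 : ZMod p) • proj a b) * (1 - (2 : ZMod p) • proj a b) = 1 ∧
      (1 - (2 : ZMod p) • proj a b) * a = -a ∧ a * (1 - (2 : ZMod p) • proj a b) = -a := fun {a b} hab => by
    refine ⟨?_, ?_, ?_⟩
    · simp only [sub_mul, mul_sub, one_mul, mul_one, smul_mul_assoc, mul_smul_comm, hab.proj_idem]
      module
    · rw [sub_mul, one_mul, smul_mul_assoc, hab.proj_left.1, two_smul]; abel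
    · rw [mul_sub, mul_one, mul_smul_comm, hab.proj_left.2, two_smul]; abel
  obtain ⟨i, hi⟩ : ∃ i, i = 1 - (2 : ZMod p) • proj s t := ⟨_, rfl⟩
  obtain ⟨i', hi'⟩ : ∃ i', i' = 1 - (2 : ZMod p) • proj s t' := ⟨_, rfl⟩
  obtain ⟨hii, his, hsi⟩ := hinvol h
  obtain ⟨hii', his', hsi'⟩ := hinvol h'
  rw [← hi] at hii his hsi
  rw [← hi'] at hii' his' hsi'
  have hiM : i ∈ M := hi ▸ hw h hs ht
  have hi'M : i' ∈ M := hi' ▸ hw h' hs ht'
  obtain ⟨u, hu⟩ : ∃ u, u = i * i' := ⟨_, rfl⟩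
  have huM : u ∈ M := hu ▸ M.mul_mem hiM hi'M
  have hus : u * s = s := by rw [hu, mul_assoc, his', mul_neg, his, neg_neg]
  have hsu : s * u = s := by rw [hu, ← mul_assoc, hsi, neg_mul, hsi', neg_neg]
  obtain ⟨y, hy⟩ : ∃ y, y = u - 1 := ⟨_, rfl⟩
  have hys : y * s = 0 := by rw [hy, sub_mul, hus, one_mul, sub_self]
  have hsy : s * y = 0 := by rw [hy, mul_sub, hsu, mul_one, sub_self]
  obtain ⟨d, hd⟩ : ∃ d, d = t' - t := ⟨_, rfl⟩
  have hye : y = s * ((2 : ZMod p) • d) + -((2 : ZMod p) • (i * d)) * s := by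
      calc y = i * (i' - i) := by rw [hy, hu, mul_sub, hii]
        _ = -((2 : ZMod p) • (i * (proj s t' - proj s t))) := by
          rw [show i' - i = -((2 : ZMod p) • (proj s t' - proj s t)) by rw [hi, hi', smul_sub]; abel, mul_neg,
            mul_smul_comm]
        _ = -((2 : ZMod p) • (i * (s * d) + i * d * s)) := by
          rw [hd]; congr 2; simp only [proj, mul_add, mul_sub, sub_mul, mul_assoc]; abel
        _ = _ := by
          rw [← mul_assoc, his, neg_mul, smul_add, smul_neg, neg_add, neg_neg, mul_smul_comm, neg_mul,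
            smul_mul_assoc]
  have hy3 : y * (y * y) = 0 := by
    have e2 : y * y = s * ((2 : ZMod p) • d) * y := by
      conv_lhs => arg 1; rw [hye]
      rw [add_mul, mul_assoc (-_) s y, hsy, mul_zero, add_zero]
    rw [e2, ← mul_assoc, ← mul_assoc, hys, zero_mul, zero_mul]
  have hup : u ^ p = 1 := by
    have hp2 : p ∣ p.choose 2 := (Fact.out : p.Prime).dvd_choose_self (by norm_num) (by omega)
    rw [show u = 1 + y by rw [hy, add_sub_cancel], one_add_pow_of_cube (p := p) hy3, ZMod.natCast_self, zero_smul,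
      (ZMod.natCast_eq_zero_iff _ p).2 hp2, zero_smul, add_zero, add_zero]
  obtain ⟨m, hm⟩ : ∃ m, 2 * m = p + 1 := by
    obtain ⟨r, hr⟩ := (Fact.out : p.Prime).odd_of_ne_two (by omega)
    exact ⟨r + 1, by omega⟩
  obtain ⟨v, hv⟩ : ∃ v, v = u ^ m := ⟨_, rfl⟩
  obtain ⟨w, hwd⟩ : ∃ w, w = u ^ (p - m) := ⟨_, rfl⟩
  have hvw : v * w = 1 := by rw [hv, hwd, ← pow_add, Nat.add_sub_cancel' (by omega), hup]
  have hwv : w * v = 1 := by rw [hv, hwd, ← pow_add, Nat.sub_add_cancel (by omega), hup]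
  have hwwu : w * u * w = 1 := by
    rw [hwd, ← pow_succ, ← pow_add, show p - m + 1 + (p - m) = p by omega, hup]
  have hcs : Commute u s := (hus.trans hsu.symm :)
  have hvs : v * s = s * v := hv ▸ (hcs.pow_left m).eq
  have hws : w * s = s * w := hwd ▸ (hcs.pow_left (p - m)).eq
  have hiv : v * i = i * w := by
    have hk : ∀ n : ℕ, i * u ^ n * i = (i' * i) ^ n := by
      intro n
      induction n with
      | zero => rw [pow_zero, pow_zero, mul_one, hii]
      | succ n ih =>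
        rw [pow_succ u, pow_succ, ← ih]
        have : i * (u ^ n * u) * i = i * u ^ n * (i * i) * (u * i) := by rw [hii]; simp only [mul_assoc, one_mul]
        rw [this, hu]
        simp only [mul_assoc]
        rw [← mul_assoc i i (i * (i' * i)), hii, one_mul]
    have hr : (i' * i) * u = 1 ∧ Commute (i' * i) u := by
      have e1 : (i' * i) * u = 1 := by rw [hu, mul_assoc, ← mul_assoc i, hii, one_mul, hii']
      have e2 : u * (i' * i) = 1 := by rw [hu, mul_assoc, ← mul_assoc i', hii', one_mul, hii]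
      exact ⟨e1, e1.trans e2.symm⟩
    have e : i * v * i = w := by
      rw [hv, hk]
      calc (i' * i) ^ m = (i' * i) ^ m * (v * w) := by rw [hvw, mul_one]
        _ = w := by rw [← mul_assoc, hv, ← hr.2.mul_pow, hr.1, one_pow, one_mul]
    rw [← e]
    simp only [← mul_assoc, hii, one_mul]
  obtain ⟨t1, ht1⟩ : ∃ t1, t1 = v * t' * w := ⟨_, rfl⟩
  have hsvw : v * s * w = s := by rw [hvs, mul_assoc, hvw, mul_one]
  have h1 : NPair s t1 := by
    have := h'.conj hvw hwv
    rwa [hsvw, ← ht1] at this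
  have hP : proj s t1 = proj s t := by
    have e := conj_proj (s := s) (t := t') hwv
    rw [hsvw, ← ht1] at e
    have key : v * i' * w = i := by
      rw [show i' = i * u by rw [hu, ← mul_assoc, hii, one_mul], ← mul_assoc, hiv, mul_assoc, mul_assoc,
        ← mul_assoc w, hwwu, mul_one]
    rw [hi, hi'] at key
    simp only [mul_sub, sub_mul, mul_one, hvw, mul_smul_comm, smul_mul_assoc, sub_right_inj] at key
    rw [← e] at key
    exact smul_right_injective R h20 key
  have hvM : v ∈ M := hv ▸ M.pow_mem huM m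
  have hwM : w ∈ M := hwd ▸ M.pow_mem huM _
  have ht1M : ∀ c : ZMod p, 1 + c • t1 ∈ M := fun c => by
    have := M.mul_mem (M.mul_mem hvM (ht' c)) hwM
    rwa [mul_add, add_mul, mul_one, hvw, mul_smul_comm, smul_mul_assoc, ← ht1] at this
  obtain ⟨a, ha, b, hb, hab, hba, has, hat⟩ := exists_shift hp hinv h h1 hP hs ht ht1M
  refine ⟨w * a, M.mul_mem hwM ha, b * v, M.mul_mem hb hvM, ?_, ?_, ?_, ?_⟩
  · rw [mul_assoc, ← mul_assoc a, hab, one_mul, hwv]
  · rw [mul_assoc, ← mul_assoc v, hvw, one_mul, hba]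
  · refine Thin.mul ?_ has
    rw [hwd]
    exact Thin.pow (a := u) (hy ▸ (⟨hys, hsy, _, _, hye⟩ : Thin s y)) _
  · calc w * a * t * (b * v) = w * (a * t * b) * v := by simp only [mul_assoc]
      _ = w * v * t' * (w * v) := by rw [hat, ht1]; simp only [mul_assoc]
      _ = t' := by rw [hwv, one_mul, mul_one]

end Transitive

end Cfsg.Agent.Spor.Flavell
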