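import Mathlib
import Cfsg.Prelude.Def_RootSubgroups
import Cfsg.Agent.Lib.Fus.QuadFixedClasses
import Cfsg.Agent.Lib.Fus.QuadPairSplitting
import Cfsg.Agent.Lib.Grp.DerivedLengthLinear

/-!
A root element and a quadratic element over `ZMod p` with nilpotent anticommutator: the local forms of
the sandwich and commutator statements.
-/

set_option autoImplicit false
set_option linter.unusedSectionVars false

namespace Cfsg.Agent.Spor.Flavell

open Cfsg.Agent.Fus Cfsg.Agent.Fus.QPair Cfsg.Agent.Fus.QFix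

variable {p : ℕ} [Fact p.Prime] {V : Type} [AddCommGroup V] [Module (ZMod p) V] [Finite V]
  {G : Subgroup (LinearMap.GeneralLinearGroup (ZMod p) V)} {σ ρ : LinearMap.GeneralLinearGroup (ZMod p) V}

local notation "GLM" => LinearMap.GeneralLinearGroup (ZMod p) V
local notation "End'" => Module.End (ZMod p) V

/-- A `p`-group of linear maps in characteristic `p` is unipotent. -/
theorem isUnipotentOn_of_pgroup {Q : Subgroup GLM} (hQ : IsPGroup p Q) : Cfsg.IsUnipotentOn Q := by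
  obtain ⟨ρ, hρ⟩ : ∃ ρ : Q →* End', ∀ g, ρ g = ((g : GLM) : End') :=
    ⟨(Units.coeHom End').comp Q.subtype, fun _ => rfl⟩
  suffices h : ∀ m ≤ Module.finrank (ZMod p) V, ∃ W : Submodule (ZMod p) V,
      m ≤ Module.finrank (ZMod p) W ∧ (∀ g : Q, ∀ v ∈ W, ρ g v ∈ W) ∧
      ∀ l : List GLM, (∀ g ∈ l, g ∈ Q) → l.length = m → ∀ v ∈ W, (l.map fun g : GLM => (g : End') - 1).prod v = 0 by
    obtain ⟨W, hW, -, hl⟩ := h _ le_rfl
    have hT : W = ⊤ := Submodule.eq_top_of_finrank_eq (le_antisymm W.finrank_le hW)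
    refine ⟨Module.finrank (ZMod p) V, fun l h1 h2 => ?_⟩
    rw [UnipJoin.unipotent_prod_eq]
    exact LinearMap.ext fun v => hl l h1 h2 v (hT ▸ Submodule.mem_top)
  intro m hm
  induction m with
  | zero =>
    refine ⟨⊥, Nat.zero_le _, fun g v hv => ?_, fun l _ hl v hv => ?_⟩
    · rw [(Submodule.mem_bot _).1 hv, map_zero]; exact zero_mem _
    · rw [(Submodule.mem_bot _).1 hv, map_zero]
  | succ m ih =>
    obtain ⟨W, hW, hinv, hl⟩ := ih (by omega)
    obtain ⟨W', hW'⟩ : ∃ W' : Submodule (ZMod p) V, ∀ v, v ∈ W' ↔ ∀ g : Q, ρ g v - v ∈ W :=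
      ⟨⨅ g : Q, W.comap (ρ g - 1), fun v => by simp [Submodule.mem_iInf]⟩
    have hle : W ≤ W' := fun v hv => (hW' v).2 fun g => sub_mem (hinv g v hv) hv
    refine ⟨W', ?_, fun g v hv => ?_, ?_⟩
    · rcases eq_or_ne W ⊤ with rfl | hne
      · rw [top_le_iff.1 hle, finrank_top]; omega
      · obtain ⟨v, hv, hfix⟩ := Grp.DerivedLength.exists_fixed_mod hQ ρ W hinv hne
        have hlt : W < W' := lt_of_le_of_ne hle fun e => hv (e ▸ (hW' v).2 hfix)
        have := Submodule.finrank_lt_finrank_of_lt hlt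
        omega
    · refine (hW' _).2 fun f => ?_
      rw [show ρ f (ρ g v) - ρ g v = (ρ (f * g) v - v) - (ρ g v - v) by
        rw [map_mul, Module.End.mul_apply]; abel]
      exact sub_mem ((hW' v).1 hv (f * g)) ((hW' v).1 hv g)
    · intro l hlQ hlen v hv
      rcases List.eq_nil_or_concat l with rfl | ⟨l', g, rfl⟩
      · simp at hlen
      rw [List.concat_eq_append] at hlQ hlen ⊢
      rw [List.map_append, List.map_singleton, List.prod_append, List.prod_singleton, Module.End.mul_apply]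
      refine hl l' (fun f hf => hlQ f (by simp [hf])) (by simpa using hlen) _ ?_
      have := (hW' v).1 hv ⟨g, hlQ g (by simp)⟩
      rwa [hρ] at this

theorem zz_nilpotent_of_pgroup {Q : Subgroup GLM} (hQ : IsPGroup p Q) {x y : GLM} (hx : x ∈ Q) (hy : y ∈ Q) :
    IsNilpotent (zz ((x : End') - 1) ((y : End') - 1)) := by
  obtain ⟨n, hn⟩ := UnipJoin.exists_pow_of_isUnipotentOn (isUnipotentOn_of_pgroup hQ)
  have hz : zz ((x : End') - 1) ((y : End') - 1) ∈ UnipJoin.nSpan (Q : Set GLM) ^ 2 := by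
    rw [pow_two]
    exact add_mem (Submodule.mul_mem_mul (UnipJoin.sub_one_mem hx) (UnipJoin.sub_one_mem hy))
      (Submodule.mul_mem_mul (UnipJoin.sub_one_mem hy) (UnipJoin.sub_one_mem hx))
  refine ⟨n, ?_⟩
  have := Submodule.pow_mem_pow _ hz n
  rwa [← pow_mul, mul_comm, pow_mul, hn, pow_two, Submodule.bot_mul, Submodule.mem_bot] at this

theorem mul_nilpotent_of_pgroup {Q : Subgroup GLM} (hQ : IsPGroup p Q) {x y : GLM} (hx : x ∈ Q) (hy : y ∈ Q) :
    IsNilpotent (((x : End') - 1) * ((y : End') - 1)) := by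
  obtain ⟨n, hn⟩ := UnipJoin.exists_pow_of_isUnipotentOn (isUnipotentOn_of_pgroup hQ)
  have hz : ((x : End') - 1) * ((y : End') - 1) ∈ UnipJoin.nSpan (Q : Set GLM) ^ 2 := by
    rw [pow_two]
    exact Submodule.mul_mem_mul (UnipJoin.sub_one_mem hx) (UnipJoin.sub_one_mem hy)
  refine ⟨n, ?_⟩
  have := Submodule.pow_mem_pow _ hz n
  rwa [← pow_mul, mul_comm, pow_mul, hn, pow_two, Submodule.bot_mul, Submodule.mem_bot] at this

/-- Powers of a quadratic element are its scalar multiples. -/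
theorem pow_val_eq {x : GLM} (h : ((x : End') - 1) * ((x : End') - 1) = 0) (c : ZMod p) :
    ((x ^ c.val : GLM) : End') = 1 + c • ((x : End') - 1) := by
  rw [Units.val_pow_eq_pow_val]
  conv_lhs => rw [show (x : End') = 1 + ((x : End') - 1) from (add_sub_cancel _ _).symm]
  rw [one_add_pow_of_sq (p := p) h, ZMod.natCast_zmod_val]

variable (hp : 5 ≤ p) (hG : UnipFree G)

include hp hG

/-- The sandwich `sρs` vanishes. -/
theorem sandwich_zero (hσ : σ ∈ Cfsg.minimalQuadraticElements G) (hρ : ρ ∈ Cfsg.quadraticElements G)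
    (hz : IsNilpotent (zz ((σ : End') - 1) ((ρ : End') - 1))) :
    ((σ : End') - 1) * ((ρ : End') - 1) * ((σ : End') - 1) = 0 := by
  obtain ⟨hk2, hk3⟩ := char_ne hp
  obtain ⟨a, ha⟩ : ∃ a, a = (σ : End') - 1 := ⟨_, rfl⟩
  obtain ⟨b, hb⟩ : ∃ b, b = (ρ : End') - 1 := ⟨_, rfl⟩
  rw [← ha, ← hb] at hz ⊢
  by_contra hT
  have hbb : b * b = 0 := hb ▸ hρ.2.1.1
  have haa : a * a = 0 := ha ▸ hσ.1.2.1.1
  have ham : a ∈ rootSpace G σ := ha ▸ UnipJoin.sub_one_mem (self_mem_class hσ)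
  obtain ⟨H, hH⟩ : ∃ H, H = famGroup ((σ : End') - 1) b := ⟨_, rfl⟩
  obtain ⟨n, hn⟩ := UnipJoin.exists_pow_of_isUnipotentOn
    (show Cfsg.IsUnipotentOn H from hH ▸ isUnipotentOn_famGroup hσ.1.2.1.1 hbb (ha ▸ hz))
  -- the conjugates
  have hconj : ∀ e : ZMod p, ∃ a', a' = a + e • (b * a - a * b) - (e * e) • (b * a * b) ∧
      a * a' * a = 0 ∧ ∀ c : ZMod p, ∃ g ∈ G, (g : End') = 1 + c • (a * a' - a' * a) := by
    intro e
    obtain ⟨f, hfG, hf⟩ := family_elem hρ e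
    rw [← hb] at hf
    have hfi : ((f⁻¹ : GLM) : End') = 1 + -(e • b) := by
      refine Units.inv_eq_of_mul_eq_one_right ?_
      rw [hf]
      simp only [add_mul, mul_add, one_mul, mul_one, mul_neg, smul_mul_assoc, mul_smul_comm, hbb, smul_zero,
        add_zero]
      abel
    obtain ⟨hσ', -, -⟩ := conj_minimal hfG hσ
    have hnop : ¬ Opposite σ (f * σ * f⁻¹) := by
      intro hop
      refine not_isNilpotent_of_opposite hσ.1.2.1.1 hσ'.1.2.1.1 hσ.1.2.1.2 hop ⟨n, ?_⟩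
      have h1 : σ ∈ H := hH ▸ Subgroup.subset_closure ⟨1, Or.inl (by rw [one_smul, add_sub_cancel])⟩
      have hfH : f ∈ H := hH ▸ Subgroup.subset_closure ⟨e, Or.inr hf⟩
      have h2 : f * σ * f⁻¹ ∈ H := mul_mem (mul_mem hfH h1) (inv_mem hfH)
      have hz : zz ((σ : End') - 1) (((f * σ * f⁻¹ : GLM) : End') - 1) ∈ UnipJoin.nSpan (H : Set GLM) ^ 2 := by
        rw [pow_two]
        exact add_mem (Submodule.mul_mem_mul (UnipJoin.sub_one_mem h1) (UnipJoin.sub_one_mem h2))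
          (Submodule.mul_mem_mul (UnipJoin.sub_one_mem h2) (UnipJoin.sub_one_mem h1))
      have := Submodule.pow_mem_pow _ hz n
      rw [← pow_mul, mul_comm, pow_mul, hn, pow_two, Submodule.bot_mul, Submodule.mem_bot] at this
      exact this
    obtain ⟨a', ha'⟩ : ∃ a', a' = (f : End') * a * ((f⁻¹ : GLM) : End') := ⟨_, rfl⟩
    have hm : a' ∈ rootSpace G (f * σ * f⁻¹) := ha' ▸ conj_rootSpace hk2 hk3 hG hfG ham
    refine ⟨a', ?_, (cube_zero hk2 hk3 hG hσ hσ' hnop ham hm).1, fun c => ?_⟩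
    · rw [ha', hf, hfi]
      simp only [add_mul, mul_add, one_mul, mul_one, mul_neg, smul_mul_assoc, mul_smul_comm, smul_smul,
        smul_sub, smul_add]
      abel
    · obtain ⟨x, hx, ex⟩ := exists_elem hk2 hk3 hG hσ (Submodule.smul_mem _ c ham)
      obtain ⟨y, hy, ey⟩ := exists_elem hk2 hk3 hG hσ' hm
      refine ⟨x * y * x⁻¹ * y⁻¹, mul_mem (mul_mem (mul_mem (subgroup_le hx) (subgroup_le hy))
        (inv_mem (subgroup_le hx))) (inv_mem (subgroup_le hy)), ?_⟩
      rw [comm_elem hk2 hk3 hG hσ hσ' hnop hx hy, ex, ey, add_sub_cancel_left, add_sub_cancel_left,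
        smul_mul_assoc, mul_smul_comm, ← smul_sub]
  obtain ⟨a₁, ea₁, haaa, hg₁⟩ := hconj 1
  obtain ⟨a₂, ea₂, -, hg₂⟩ := hconj (-1)
  have z1 : ∀ p, a (a p) = 0 := fun p => LinearMap.congr_fun haa p
  have z2 : ∀ p, b (b p) = 0 := fun p => LinearMap.congr_fun hbb p
  have z5 : ∀ p, a (b (a (b (a p)))) = 0 := by
    intro p
    have := LinearMap.congr_fun haaa p
    simp [ea₁, Module.End.mul_apply, z1] at this
    exact this
  have hmem : ∀ (c : ZMod p) (g : GLM), (g : End') = 1 + c • (a * b * a) → g ∈ G := by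
    intro c g hg
    have h2 : (2 : ZMod p) ≠ 0 := (two_ne hp).1
    have h4 : (4 : ZMod p) ≠ 0 := by
      rw [show (4 : ZMod p) = 2 * 2 by norm_num]; exact mul_ne_zero h2 h2
    obtain ⟨g1, hg1, e1⟩ := hg₁ (c / 4)
    obtain ⟨g2, hg2, e2⟩ := hg₂ (-(c / 4))
    refine (Units.ext (?_ : ((g1 * g2 : GLM) : End') = (g : End'))) ▸ mul_mem hg1 hg2
    rw [Units.val_mul, e1, e2, hg, ea₁, ea₂]
    conv_rhs => rw [← div_mul_cancel₀ c h4, show (c / 4 * 4 : ZMod p) = c / 4 + c / 4 + c / 4 + c / 4 by ring]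
    refine LinearMap.ext fun p => ?_
    simp [Module.End.mul_apply, z1, z2, z5, add_smul, smul_sub]
    abel
  have hTT : a * b * a * (a * b * a) = 0 := LinearMap.ext fun p => by simp [Module.End.mul_apply, z1]
  have hle : Module.finrank (ZMod p) (LinearMap.range (a * b * a)) ≤ Cfsg.commutatorRank σ := by
    refine le_trans (Submodule.finrank_mono ?_) (finrank_range ham)
    rintro _ ⟨p, rfl⟩
    exact ⟨b (a p), rfl⟩
  obtain ⟨_, -, -, hrk⟩ := minimal_of_rank hTT hT hmem hσ hle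
  have hsub : LinearMap.range (a * b * a) = rf σ := by
    refine Submodule.eq_of_le_of_finrank_eq ?_ hrk.symm
    rintro _ ⟨p, rfl⟩
    rw [Module.End.mul_apply, Module.End.mul_apply, ha]
    exact ⟨_, rfl⟩
  obtain ⟨m, hm⟩ := hz
  have hpow : ∀ j : ℕ, rf σ ≤ LinearMap.range ((a * b) ^ j) := by
    intro j
    induction j with
    | zero => rw [pow_zero, Module.End.one_eq_id, LinearMap.range_id]; exact le_top
    | succ j ih =>
      intro v hv
      obtain ⟨p, rfl⟩ := hsub.ge hv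
      obtain ⟨w, hw⟩ := ih (ha ▸ ⟨p, rfl⟩ : a p ∈ rf σ)
      exact ⟨w, by rw [pow_succ', Module.End.mul_apply, hw]; rfl⟩
  refine hσ.1.2.1.2 (LinearMap.range_eq_bot.1 (le_bot_iff.1 ((hpow (m + 1)).trans ?_)))
  rw [pow_st haa, hm, zero_mul, LinearMap.range_zero]

/-- The commutators of `σ` and `ρ` generate the families of `ρσρ` and of `σρ - ρσ`. -/
theorem families (hσ : σ ∈ Cfsg.minimalQuadraticElements G) (hρ : ρ ∈ Cfsg.quadraticElements G)
    (h0 : ((σ : End') - 1) * ((ρ : End') - 1) * ((σ : End') - 1) = 0) (K : Subgroup GLM)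
    (hK : ∀ i j : ℕ, σ ^ i * ρ ^ j * (σ ^ i)⁻¹ * (ρ ^ j)⁻¹ ∈ K) {w u : End'}
    (hw : w = ((ρ : End') - 1) * ((σ : End') - 1) * ((ρ : End') - 1))
    (hu : u = ((σ : End') - 1) * ((ρ : End') - 1) - ((ρ : End') - 1) * ((σ : End') - 1)) :
    (∀ (c : ZMod p) (g : GLM), (g : End') = 1 + c • w → g ∈ K) ∧
      (∀ (c : ZMod p) (g : GLM), (g : End') = 1 + c • u → g ∈ K) ∧ w * w = 0 ∧ u * u = 0 := by
  have h2 : (2 : ZMod p) ≠ 0 := (two_ne hp).1
  have ea := hσ.1.2.1.1
  have eb := hρ.2.1.1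
  obtain ⟨a, ha⟩ : ∃ a, a = (σ : End') - 1 := ⟨_, rfl⟩
  obtain ⟨b, hb⟩ : ∃ b, b = (ρ : End') - 1 := ⟨_, rfl⟩
  rw [← ha] at ea h0 hw hu
  rw [← hb] at eb h0 hw hu
  have z1 : ∀ p, a (a p) = 0 := fun p => LinearMap.congr_fun ea p
  have z2 : ∀ p, b (b p) = 0 := fun p => LinearMap.congr_fun eb p
  have z3 : ∀ p, a (b (a p)) = 0 := fun p => LinearMap.congr_fun h0 p
  have hcomm : ∀ c : ZMod p, (∃ g ∈ K, (g : End') = 1 + c • u + c • w) ∧
      ∃ g ∈ K, (g : End') = 1 + -(c • u) + c • w := by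
    intro c
    have e0 : ((σ ^ c.val : GLM) : End') = 1 + c • a := by rw [pow_val_eq hσ.1.2.1.1, ← ha]
    have e1 : ((ρ ^ (1 : ZMod p).val : GLM) : End') = 1 + b := by rw [pow_val_eq hρ.2.1.1, ← hb, one_smul]
    have e2 : ((ρ ^ (-1 : ZMod p).val : GLM) : End') = 1 + -b := by
      rw [pow_val_eq hρ.2.1.1, ← hb, neg_one_smul]
    refine ⟨⟨_, hK c.val (1 : ZMod p).val, ?_⟩, _, hK c.val (-1 : ZMod p).val, ?_⟩
    · rw [comm_formula ea h0 c _ _ e0 e1 eb, hu, hw]
    · rw [comm_formula ea (by rw [mul_neg, neg_mul, h0, neg_zero]) c _ _ e0 e2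
        (by rw [neg_mul_neg, eb]), hu, hw]
      simp only [neg_mul, mul_neg, neg_neg, smul_sub, smul_add, smul_neg, sub_neg_eq_add]
      abel
  have hww : w * w = 0 := LinearMap.ext fun p => by simp [hw, Module.End.mul_apply, z2]
  have huw : u * w = 0 := LinearMap.ext fun p => by simp [hu, hw, Module.End.mul_apply, z2, z3]
  have hwu : w * u = 0 := LinearMap.ext fun p => by simp [hu, hw, Module.End.mul_apply, z2, z3]
  have huu : u * u = 0 := LinearMap.ext fun p => by simp [hu, Module.End.mul_apply, z1, z2, z3]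
  have hwG : ∀ (c : ZMod p) (g : GLM), (g : End') = 1 + c • w → g ∈ K := by
    intro c g hg
    obtain ⟨⟨g1, hg1, e1⟩, g2, hg2, e2⟩ := hcomm (c / 2)
    refine (Units.ext (?_ : ((g1 * g2 : GLM) : End') = (g : End'))) ▸ mul_mem hg1 hg2
    rw [Units.val_mul, e1, e2, hg]
    conv_rhs => rw [← div_mul_cancel₀ c h2, mul_two]
    simp only [add_mul, mul_add, mul_one, one_mul, mul_neg, smul_mul_assoc, mul_smul_comm, huu, huw, hwu, hww,
      smul_zero, add_zero, add_smul]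
    abel
  refine ⟨hwG, ?_, hww, huu⟩
  intro c g hg
  obtain ⟨⟨g1, hg1, e1⟩, -⟩ := hcomm c
  obtain ⟨g2, e2⟩ := exists_unit hww (-c)
  refine (Units.ext (?_ : ((g1 * g2 : GLM) : End') = (g : End'))) ▸ mul_mem hg1 (hwG _ g2 e2)
  rw [Units.val_mul, e1, e2, hg]
  simp only [add_mul, mul_add, mul_one, one_mul, smul_mul_assoc, mul_smul_comm, mul_neg, huw, hww,
    smul_zero, add_zero, neg_smul]
  abel

/-- The element `1 + ρσρ`, or else `1 + (σρ - ρσ)`, is again minimal. -/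
theorem exists_root (hσ : σ ∈ Cfsg.minimalQuadraticElements G) (hρ : ρ ∈ Cfsg.quadraticElements G)
    (h0 : ((σ : End') - 1) * ((ρ : End') - 1) * ((σ : End') - 1) = 0) {w u : End'}
    (hw : w = ((ρ : End') - 1) * ((σ : End') - 1) * ((ρ : End') - 1))
    (hu : u = ((σ : End') - 1) * ((ρ : End') - 1) - ((ρ : End') - 1) * ((σ : End') - 1)) :
    (w ≠ 0 → ∃ δ ∈ Cfsg.minimalQuadraticElements G, (δ : End') = 1 + w) ∧
      (w = 0 → u ≠ 0 → ∃ δ ∈ Cfsg.minimalQuadraticElements G, (δ : End') = 1 + u) := by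
  obtain ⟨hwG, huG, hww, huu⟩ := families hp hG hσ hρ h0 G
    (fun i j => mul_mem (mul_mem (mul_mem (pow_mem hσ.1.1 i) (pow_mem hρ.1 j)) (inv_mem (pow_mem hσ.1.1 i)))
      (inv_mem (pow_mem hρ.1 j))) hw hu
  obtain ⟨a, ha⟩ : ∃ a, a = (σ : End') - 1 := ⟨_, rfl⟩
  obtain ⟨b, hb⟩ : ∃ b, b = (ρ : End') - 1 := ⟨_, rfl⟩
  rw [← ha, ← hb] at hw hu
  constructor
  · intro hne
    obtain ⟨δ, hδe, hδ, -⟩ := minimal_of_rank hww hne hwG hσ (by
      refine le_trans (Submodule.finrank_mono (t := (LinearMap.range a).map b) ?_)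
        ((Submodule.finrank_map_le b _).trans (le_of_eq (by rw [ha]; rfl)))
      rintro _ ⟨p, rfl⟩
      exact ⟨a (b p), ⟨_, rfl⟩, by rw [hw]; rfl⟩)
    exact ⟨δ, hδ, hδe⟩
  · intro hw0 hne
    have z4 : ∀ p, b (a (b p)) = 0 := fun p => LinearMap.congr_fun (hw ▸ hw0 : b * a * b = 0) p
    obtain ⟨δ, hδe, hδ, -⟩ := minimal_of_rank huu hne huG hσ (by
      have hru : LinearMap.range u ≤ (LinearMap.range a ⊓ LinearMap.ker b) ⊔ (LinearMap.range a).map b := by
        rintro _ ⟨p, rfl⟩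
        rw [hu, LinearMap.sub_apply]
        exact sub_mem (Submodule.mem_sup_left ⟨⟨b p, rfl⟩, z4 p⟩) (Submodule.mem_sup_right ⟨a p, ⟨p, rfl⟩, rfl⟩)
      have h := LinearMap.finrank_range_add_finrank_ker (b.domRestrict (LinearMap.range a))
      have e1 : LinearMap.range (b.domRestrict (LinearMap.range a)) = (LinearMap.range a).map b := by
        ext x
        constructor
        · rintro ⟨v, rfl⟩; exact ⟨v, v.2, rfl⟩
        · rintro ⟨v, hv, rfl⟩; exact ⟨⟨v, hv⟩, rfl⟩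
      have e2 : Module.finrank (ZMod p) (LinearMap.ker (b.domRestrict (LinearMap.range a))) =
          Module.finrank (ZMod p) (LinearMap.range a ⊓ LinearMap.ker b : Submodule (ZMod p) V) := by
        rw [← Submodule.finrank_map_subtype_eq]
        refine congrArg (fun W : Submodule (ZMod p) V => Module.finrank (ZMod p) W) ?_
        ext x
        constructor
        · rintro ⟨v, hv, rfl⟩; exact ⟨v.2, hv⟩
        · rintro ⟨h1, h2⟩; exact ⟨⟨x, h1⟩, h2, rfl⟩
      rw [e1, e2] at h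
      have l1 := Submodule.finrank_mono hru
      have l2 := Submodule.finrank_add_le_finrank_add_finrank (LinearMap.range a ⊓ LinearMap.ker b)
        ((LinearMap.range a).map b)
      have l3 : Module.finrank (ZMod p) (LinearMap.range a) = Cfsg.commutatorRank σ := by rw [ha]; rfl
      omega)
    exact ⟨δ, hδ, hδe⟩

end Cfsg.Agent.Spor.Flavell
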