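import Mathlib
import Cfsg.Agent.Lib.Spor.FlavellLocal
import Cfsg.Agent.Lib.Spor.FlavellConj
import Cfsg.Agent.Lib.Fus.QuadFixedCore

/-!
The torus of a pair, its weights, and partners of weight elements fixed up to scalars.
-/

set_option autoImplicit false
set_option linter.unusedSectionVars false

namespace Cfsg.Agent.Spor.Flavell

open Cfsg.Agent.Fus Cfsg.Agent.Fus.QFix Cfsg.Agent.Fus.QPair

section Ring

variable {p : ℕ} [Fact p.Prime] {R : Type*} [Ring R] [Algebra (ZMod p) R]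

/-- The torus element of a pair. -/
def torus (γ : ZMod p) (s t : R) : R := 1 - proj s t + γ • (s * t) + γ⁻¹ • (t * s)

/-- `g` has weight `μ` under `h`. -/
def Wt (h : R) (μ : ZMod p) (g : R) : Prop := h * g = μ • (g * h)

theorem torus_symm (γ : ZMod p) (s t : R) : torus γ⁻¹ t s = torus γ s t := by
  unfold torus proj
  rw [inv_inv]; abel

theorem wt_of_comm {h g : R} (e : Commute h g) : Wt h (1 : ZMod p) g := by
  unfold Wt; rw [one_smul, e.eq]

theorem Wt.mul {h a b : R} {μ ν : ZMod p} (ha : Wt h μ a) (hb : Wt h ν b) : Wt h (μ * ν) (a * b) := by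
  unfold Wt at *
  rw [← mul_assoc, ha, smul_mul_assoc, mul_assoc, hb, mul_smul_comm, smul_smul, mul_assoc]

theorem Wt.sub {h a b : R} {μ : ZMod p} (ha : Wt h μ a) (hb : Wt h μ b) : Wt h μ (a - b) := by
  unfold Wt at *
  rw [mul_sub, ha, hb, sub_mul, smul_sub]

theorem Wt.add {h a b : R} {μ : ZMod p} (ha : Wt h μ a) (hb : Wt h μ b) : Wt h μ (a + b) := by
  unfold Wt at *
  rw [mul_add, ha, hb, add_mul, smul_add]

theorem Wt.smul {h a : R} {μ : ZMod p} (c : ZMod p) (ha : Wt h μ a) : Wt h μ (c • a) := by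
  unfold Wt at *
  rw [mul_smul_comm, ha, smul_mul_assoc, smul_comm]

variable {s t : R} (h : NPair s t)

include h

theorem torus_mul_s (γ : ZMod p) :
    torus γ s t * s = γ • s ∧ s * torus γ s t = γ⁻¹ • s := by
  constructor <;>
    simp only [torus, proj, sub_mul, add_mul, one_mul, mul_sub, mul_add, mul_one, smul_mul_assoc, mul_smul_comm,
      mul_assoc, h.ss, mul_zero, smul_zero, h.assoc_rules.1, h.assoc_rules.2.2.1, add_zero] <;> abel

theorem torus_st (γ : ZMod p) :
    (s * t) * torus γ s t = γ • (s * t) ∧ (t * s) * torus γ s t = γ⁻¹ • (t * s) ∧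
      (1 - proj s t) * torus γ s t = 1 - proj s t ∧
    torus γ s t * (s * t) = γ • (s * t) ∧ torus γ s t * (t * s) = γ⁻¹ • (t * s) ∧
      torus γ s t * (1 - proj s t) = 1 - proj s t := by
  obtain ⟨r1, r2, r3, r4, r5, r6⟩ := h.assoc_rules
  refine ⟨?_, ?_, ?_, ?_, ?_, ?_⟩ <;>
    simp only [torus, proj, sub_mul, add_mul, one_mul, mul_sub, mul_add, mul_one, smul_mul_assoc, mul_smul_comm,
      mul_assoc, h.ss, h.tt, r1, r2, r3, r4, r5, r6, mul_zero, smul_zero, add_zero, zero_add, sub_zero, sub_self, zero_sub] <;> abel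

theorem torus_mul (γ δ : ZMod p) : torus γ s t * torus δ s t = torus (γ * δ) s t := by
  obtain ⟨-, -, -, e1, e2, e3⟩ := torus_st h γ
  conv_lhs => arg 2; rw [torus]
  rw [mul_add, mul_add, e3, mul_smul_comm, mul_smul_comm, e1, e2, smul_smul, smul_smul, mul_comm δ,
    mul_comm δ⁻¹, ← mul_inv]
  rfl

theorem eq_zero_of_left {γ l : ZMod p} {X : R} (hX : torus γ s t * X = l • X) (h1 : l ≠ 1) (h2 : l ≠ γ)
    (h3 : l ≠ γ⁻¹) : X = 0 := by
  obtain ⟨e1, e2, e3, -⟩ := torus_st h γ
  have key : ∀ {P : R} {c : ZMod p}, P * torus γ s t = c • P → l ≠ c → P * X = 0 := by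
    intro P c hP hc
    have e : l • (P * X) = c • (P * X) := by rw [← mul_smul_comm, ← hX, ← mul_assoc, hP, smul_mul_assoc]
    exact (smul_eq_zero.1 (by rw [sub_smul, e, sub_self] : (l - c) • (P * X) = 0)).resolve_left (sub_ne_zero.2 hc)
  have z1 := key e1 h2
  have z2 := key e2 h3
  have z3 := key (c := 1) (by rw [one_smul, e3]) h1
  calc X = (1 - proj s t) * X + (s * t) * X + (t * s) * X := by
        rw [proj, sub_mul, add_mul, one_mul]; abel
    _ = 0 := by rw [z1, z2, z3, add_zero, add_zero]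

theorem eq_zero_of_right {γ l : ZMod p} {X : R} (hX : X * torus γ s t = l • X) (h1 : l ≠ 1) (h2 : l ≠ γ)
    (h3 : l ≠ γ⁻¹) : X = 0 := by
  obtain ⟨-, -, -, e1, e2, e3⟩ := torus_st h γ
  have key : ∀ {P : R} {c : ZMod p}, torus γ s t * P = c • P → l ≠ c → X * P = 0 := by
    intro P c hP hc
    have e : l • (X * P) = c • (X * P) := by rw [← smul_mul_assoc, ← hX, mul_assoc, hP, mul_smul_comm]
    exact (smul_eq_zero.1 (by rw [sub_smul, e, sub_self] : (l - c) • (X * P) = 0)).resolve_left (sub_ne_zero.2 hc)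
  have z1 := key e1 h2
  have z2 := key e2 h3
  have z3 := key (c := 1) (by rw [one_smul, e3]) h1
  calc X = X * (1 - proj s t) + X * (s * t) + X * (t * s) := by
        rw [proj, mul_sub, mul_add, mul_one]; abel
    _ = 0 := by rw [z1, z2, z3, add_zero, add_zero]

/-- Elements of weight `γ` are killed by `s` on both sides. -/
theorem kill {γ : ZMod p} (g2 : γ ^ 2 ≠ 1) (g3 : γ ^ 3 ≠ 1) (g0 : γ ≠ 0) {g : R}
    (hg : Wt (torus γ s t) γ g) : g * s = 0 ∧ s * g = 0 := by
  obtain ⟨e1, e2⟩ := torus_mul_s h γ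
  have n1 : γ * γ ≠ 1 := by rwa [← pow_two]
  have n2 : γ * γ ≠ γ := fun e => g2 (by rw [(mul_eq_left₀ g0).1 e, one_pow])
  have n3 : γ * γ ≠ γ⁻¹ := fun e => g3 (by rw [pow_succ, pow_two, e, inv_mul_cancel₀ g0])
  constructor
  · refine eq_zero_of_left h (γ := γ) (l := γ * γ) ?_ n1 n2 n3
    rw [← mul_assoc, hg, smul_mul_assoc, mul_assoc, e1, mul_smul_comm, smul_smul]
  · refine eq_zero_of_right h (γ := γ) (l := (γ * γ)⁻¹) ?_ (fun e => n1 (inv_eq_one.1 e))
      (fun e => n3 (by rw [← inv_inv (γ * γ), e])) (fun e => n2 (inv_injective e))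
    rw [mul_assoc, show g * torus γ s t = γ⁻¹ • (torus γ s t * g) by rw [hg, smul_smul, inv_mul_cancel₀ g0, one_smul],
      mul_smul_comm, ← mul_assoc, e2, smul_mul_assoc, smul_smul, ← mul_inv]

end Ring

variable {p : ℕ} [Fact p.Prime] {V : Type} [AddCommGroup V] [Module (ZMod p) V] [Finite V]
  {L : Subgroup (LinearMap.GeneralLinearGroup (ZMod p) V)}

local notation "GLM" => LinearMap.GeneralLinearGroup (ZMod p) V
local notation "End'" => Module.End (ZMod p) V

/-- A point of the conjugation action on subgroups. -/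
@[ext] structure SPt (G : Type*) [Group G] where
  val : Subgroup G

instance sptAction {G : Type*} [Group G] : MulAction G (SPt G) where
  smul g x := ⟨x.val.map (MulAut.conj g).toMonoidHom⟩
  one_smul x := SPt.ext (show x.val.map (MulAut.conj (1 : G)).toMonoidHom = x.val by
    rw [map_one]; exact Subgroup.map_id _)
  mul_smul g h x := SPt.ext (show x.val.map (MulAut.conj (g * h)).toMonoidHom =
      (x.val.map (MulAut.conj h).toMonoidHom).map (MulAut.conj g).toMonoidHom by
    rw [Subgroup.map_map, map_mul]; rfl)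

variable (hp : 5 ≤ p) (hG : UnipFree L)

include hp

theorem minimal_scalar {σ : GLM} (hσ : σ ∈ Cfsg.minimalQuadraticElements L) {c : ZMod p} (hc : c ≠ 0) :
    σ ^ c.val ∈ Cfsg.minimalQuadraticElements L ∧
      ((σ ^ c.val : GLM) : End') - 1 = c • ((σ : End') - 1) := by
  have e := pow_val_eq hσ.1.2.1.1 c
  have hu : c • ((σ : End') - 1) * (c • ((σ : End') - 1)) = 0 := by
    rw [smul_mul_smul_comm, hσ.1.2.1.1, smul_zero]
  obtain ⟨g, hge, hg, -⟩ := minimal_of_rank hu (smul_ne_zero hc hσ.1.2.1.2) (fun d g hg => by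
    obtain ⟨f, hf, hfe⟩ := scalar_mem hσ (d * c)
    have : f = g := Units.ext (hfe.trans (by rw [hg, smul_smul]))
    exact this ▸ hf) hσ (le_of_eq (by rw [LinearMap.range_smul _ _ hc]; rfl))
  have : g = σ ^ c.val := Units.ext (hge.trans e.symm)
  exact ⟨this ▸ hg, by rw [e, add_sub_cancel_left]⟩

include hG

/-- A weight element has a partner of the inverse weight. -/
theorem exists_partner_wt {g hu : GLM} (hg : g ∈ Cfsg.minimalQuadraticElements L) (huL : hu ∈ L)
    (hord : hu ^ (p - 1) = 1) {μ : ZMod p} (hμ : μ ≠ 0) (hwt : Wt (hu : End') μ ((g : End') - 1)) :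
    ∃ b ∈ Cfsg.minimalQuadraticElements L, NPair ((g : End') - 1) ((b : End') - 1) ∧
      Wt (hu : End') μ⁻¹ ((b : End') - 1) := by
  obtain ⟨s, hs⟩ : ∃ s, s = (g : End') - 1 := ⟨_, rfl⟩
  rw [← hs] at hwt ⊢
  have hs0 : s ≠ 0 := hs ▸ hg.1.2.1.2
  have hih : ((hu⁻¹ : GLM) : End') * (hu : End') = 1 := by rw [← Units.val_mul, inv_mul_cancel]; rfl
  have hhi : (hu : End') * ((hu⁻¹ : GLM) : End') = 1 := by rw [← Units.val_mul, mul_inv_cancel]; rfl
  have hconj : (hu : End') * s * ((hu⁻¹ : GLM) : End') = μ • s := by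
    rw [hwt, smul_mul_assoc, mul_assoc, hhi, mul_one]
  have hinvc : ((hu⁻¹ : GLM) : End') * s * (hu : End') = μ⁻¹ • s := by
    have e : μ⁻¹ • ((hu : End') * s) = s * (hu : End') := by rw [hwt, smul_smul, inv_mul_cancel₀ hμ, one_smul]
    rw [mul_assoc, ← e, mul_smul_comm, ← mul_assoc, hih, one_mul]
  have hpow : ∀ {v : GLM}, Thin s ((v : End') - 1) → v ^ p = 1 := by
    intro v hv
    have hp2 : p ∣ p.choose 2 := (Fact.out : p.Prime).dvd_choose_self (by norm_num) (by omega)
    refine Units.ext ?_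
    rw [Units.val_pow_eq_pow_val, show (v : End') = 1 + ((v : End') - 1) from (add_sub_cancel _ _).symm,
      one_add_pow_of_cube (p := p) hv.cube, ZMod.natCast_self, zero_smul,
      (ZMod.natCast_eq_zero_iff _ p).2 hp2, zero_smul, add_zero, add_zero, Units.val_one]
  obtain ⟨U, hU⟩ : ∃ U : Subgroup GLM, ∀ v, v ∈ U ↔ v ∈ L ∧ Thin s ((v : End') - 1) := by
    refine ⟨{ carrier := {v | v ∈ L ∧ Thin s ((v : End') - 1)}
              mul_mem' := fun {a b} ha hb => ⟨L.mul_mem ha.1 hb.1, by rw [Units.val_mul]; exact ha.2.mul hb.2⟩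
              one_mem' := ⟨L.one_mem, by rw [Units.val_one, sub_self]; exact ⟨zero_mul _, mul_zero _, 0, 0, by simp⟩⟩
              inv_mem' := ?_ }, fun v => Iff.rfl⟩
    rintro v ⟨hv, hv'⟩
    refine ⟨L.inv_mem hv, ?_⟩
    have e : v⁻¹ = v ^ (p - 1) := by
      refine inv_eq_of_mul_eq_one_right ?_
      rw [← pow_succ', Nat.sub_add_cancel (by omega), hpow hv']
    rw [e, Units.val_pow_eq_pow_val]
    exact hv'.pow _
  have hUp : IsPGroup p U := fun v => ⟨1, Subtype.ext (by rw [pow_one]; exact hpow ((hU v).1 v.2).2)⟩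
  have hcop : (Nat.card (Subgroup.zpowers hu)).Coprime (Nat.card U) := by
    obtain ⟨k, hk⟩ := IsPGroup.iff_card.1 hUp
    rw [hk, Nat.card_zpowers]
    refine (Nat.Coprime.coprime_dvd_left (orderOf_dvd_of_pow_eq_one hord) ?_).pow_right k
    refine Nat.Coprime.symm (((Fact.out : p.Prime).coprime_iff_not_dvd).2 fun hd => ?_)
    have := Nat.le_of_dvd (by omega) hd
    omega
  have hnorm : Subgroup.zpowers hu ≤ Subgroup.normalizer (U : Set GLM) := by
    have key : ∀ (x : GLM) (ν : ZMod p), ν ≠ 0 → x ∈ L → (x : End') * s * ((x⁻¹ : GLM) : End') = ν • s →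
        ∀ v ∈ U, x * v * x⁻¹ ∈ U := by
      intro x ν hν hx hxs v hv
      obtain ⟨hvL, a1, a2, z, z', e⟩ := (hU v).1 hv
      refine (hU _).2 ⟨L.mul_mem (L.mul_mem hx hvL) (L.inv_mem hx), ?_⟩
      rw [UnipJoin.conj_sub_one]
      have xix : ((x⁻¹ : GLM) : End') * (x : End') = 1 := by rw [← Units.val_mul, inv_mul_cancel]; rfl
      have cm : ∀ A B : End', (x : End') * A * ((x⁻¹ : GLM) : End') * ((x : End') * B * ((x⁻¹ : GLM) : End')) =
          (x : End') * (A * B) * ((x⁻¹ : GLM) : End') := fun A B => by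
        simp only [mul_assoc]; rw [← mul_assoc ((x⁻¹ : GLM) : End') (x : End'), xix, one_mul]
      have hs' : s = ν⁻¹ • ((x : End') * s * ((x⁻¹ : GLM) : End')) := by
        rw [hxs, smul_smul, inv_mul_cancel₀ hν, one_smul]
      refine ⟨?_, ?_, ν • ((x : End') * z * ((x⁻¹ : GLM) : End')),
        ν • ((x : End') * z' * ((x⁻¹ : GLM) : End')), ?_⟩
      · conv_lhs => arg 2; rw [hs']
        rw [mul_smul_comm, cm, a1, mul_zero, zero_mul, smul_zero]
      · conv_lhs => arg 1; rw [hs']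
        rw [smul_mul_assoc, cm, a2, mul_zero, zero_mul, smul_zero]
      · conv_lhs => rw [e]
        rw [mul_add, add_mul, ← cm, ← cm, hxs, smul_mul_assoc, mul_smul_comm, mul_smul_comm ν s,
          smul_mul_assoc]
    rw [Subgroup.zpowers_le]
    refine Subgroup.mem_normalizer_iff.2 fun v => ⟨key hu μ hμ huL hconj v, fun hv => ?_⟩
    have := key hu⁻¹ μ⁻¹ (inv_ne_zero hμ) (L.inv_mem huL) (by rw [inv_inv]; exact hinvc) _ hv
    rwa [inv_inv, show hu⁻¹ * (hu * v * hu⁻¹) * hu = v by group] at this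
  obtain ⟨P, hP⟩ : ∃ P : Set (SPt GLM), P = {Q | ∃ b ∈ Cfsg.minimalQuadraticElements L,
      NPair s ((b : End') - 1) ∧ Q.val = Subgroup.zpowers b} := ⟨_, rfl⟩
  have hhu : ∀ Q ∈ P, hu • Q ∈ P := by
    rw [hP]
    rintro Q ⟨b, hb, hpair, hQ⟩
    have hx := (conj_minimal huL hb).1
    obtain ⟨hb', he⟩ := minimal_scalar hp hx hμ
    refine ⟨_, hb', ?_, ?_⟩
    · have := hpair.conj (v := (hu : End')) (w := ((hu⁻¹ : GLM) : End')) hhi hih
      rw [he, UnipJoin.conj_sub_one]
      rw [hconj] at this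
      refine ⟨hpair.ss, ?_, ?_, ?_⟩
      · rw [smul_mul_smul_comm, this.tt, smul_zero]
      · have e := this.sts
        rw [smul_mul_assoc, smul_mul_assoc, mul_smul_comm, smul_smul, mul_comm, ← smul_smul] at e
        rw [mul_smul_comm, smul_mul_assoc]
        exact smul_right_injective End' hμ e
      · have e := this.tst
        rw [mul_smul_comm, smul_mul_assoc] at e
        rw [smul_mul_assoc, smul_mul_assoc, mul_smul_comm, smul_smul, ← smul_smul, e]
    · show Q.val.map (MulAut.conj hu).toMonoidHom = _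
      rw [hQ, MonoidHom.map_zpowers]
      show Subgroup.zpowers (hu * b * hu⁻¹) = _
      refine le_antisymm (Subgroup.zpowers_le.2 ?_) (Subgroup.zpowers_le.2 (Subgroup.pow_mem _ (Subgroup.mem_zpowers _) _))
      have e : hu * b * hu⁻¹ = ((hu * b * hu⁻¹) ^ μ.val) ^ (μ⁻¹ : ZMod p).val := by
        refine Units.ext ?_
        rw [pow_val_eq hb'.1.2.1.1, he, smul_smul, inv_mul_cancel₀ hμ, one_smul, add_sub_cancel]
      have h' := Subgroup.pow_mem (Subgroup.zpowers ((hu * b * hu⁻¹) ^ μ.val)) (Subgroup.mem_zpowers _) (μ⁻¹ : ZMod p).val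
      rwa [← e] at h'
  obtain ⟨Q, hQ, hfix⟩ := Grp.exists_fixed_point (Subgroup.zpowers hu) U P hnorm hcop
    (solvable_or_solvable (G₁ := Subgroup.zpowers hu) (G₂ := U) hcop)
    (by
      obtain ⟨b, hb, h⟩ := exists_partner_any hp hG hg
      exact ⟨⟨Subgroup.zpowers b⟩, hP ▸ ⟨b, hb, hs ▸ h, rfl⟩⟩)
    (fun a ha Q hQ => by
      obtain ⟨n, rfl⟩ := (isOfFinOrder_of_finite hu).mem_powers_iff_mem_zpowers.2 ha
      induction n with
      | zero => simpa using hQ
      | succ n ih =>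
        rw [show (fun k => hu ^ k) (n + 1) = hu * hu ^ n from pow_succ' hu n, mul_smul]
        exact hhu _ (ih (Subgroup.pow_mem _ (Subgroup.mem_zpowers _) _)))
    (fun v hv Q hQ => by
      obtain ⟨hvL, a1, a2, -⟩ := (hU v).1 hv
      rw [hP] at hQ ⊢
      obtain ⟨b, hb, hpair, hQb⟩ := hQ
      refine ⟨v * b * v⁻¹, (conj_minimal hvL hb).1, ?_, ?_⟩
      · have := hpair.conj (v := (v : End')) (w := ((v⁻¹ : GLM) : End'))
          (by rw [← Units.val_mul, mul_inv_cancel]; rfl) (by rw [← Units.val_mul, inv_mul_cancel]; rfl)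
        rw [sub_mul, one_mul, sub_eq_zero] at a1
        rw [UnipJoin.conj_sub_one]
        have e : (v : End') * s * ((v⁻¹ : GLM) : End') = s := by
          rw [a1]
          rw [mul_sub, mul_one, sub_eq_zero] at a2
          conv_lhs => arg 1; rw [← a2]
          rw [mul_assoc, ← Units.val_mul, mul_inv_cancel, Units.val_one, mul_one]
        rwa [e] at this
      · show Q.val.map (MulAut.conj v).toMonoidHom = _
        rw [hQb, MonoidHom.map_zpowers]; rfl)
    (fun X hX Y hY => by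
      rw [hP] at hX hY
      obtain ⟨b, hb, hbp, hXb⟩ := hX
      obtain ⟨c, hc, hcp, hYc⟩ := hY
      obtain ⟨v, hv, w, -, hvw, hwv, hthin, hvt⟩ := Flavell.exists_conj (M := mset L) hp mset_inv hbp hcp
        (hs ▸ scalar_mem hg) (scalar_mem hb) (scalar_mem hc)
      obtain ⟨x, hx, hxe⟩ := hv
      have hxe' : (x : End') = v := hxe
      have hxi : ((x⁻¹ : GLM) : End') = w := Units.inv_eq_of_mul_eq_one_right (by rw [hxe', hvw])
      refine ⟨x, (hU x).2 ⟨hx, hxe' ▸ hthin⟩, SPt.ext ?_⟩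
      show X.val.map (MulAut.conj x).toMonoidHom = Y.val
      rw [hXb, hYc, MonoidHom.map_zpowers]
      show Subgroup.zpowers (x * b * x⁻¹) = _
      congr 1
      refine Units.ext (sub_left_inj (a := (1 : End')) |>.1 ?_)
      rw [UnipJoin.conj_sub_one, hxe', hxi, hvt])
  rw [hP] at hQ
  obtain ⟨b, hb, hpair, hQb⟩ := hQ
  refine ⟨b, hb, hpair, ?_⟩
  obtain ⟨t, ht⟩ : ∃ t, t = (b : End') - 1 := ⟨_, rfl⟩
  rw [← ht] at hpair ⊢
  have hmem : hu * b * hu⁻¹ ∈ Subgroup.zpowers b := by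
    have e := congrArg SPt.val (hfix hu (Subgroup.mem_zpowers _))
    change Q.val.map (MulAut.conj hu).toMonoidHom = Q.val at e
    rw [hQb] at e
    exact e ▸ Subgroup.mem_map_of_mem (MulAut.conj hu).toMonoidHom (Subgroup.mem_zpowers b)
  obtain ⟨n, hn⟩ := (isOfFinOrder_of_finite b).mem_powers_iff_mem_zpowers.2 hmem
  have hn' : (hu : End') * t * ((hu⁻¹ : GLM) : End') = (n : ZMod p) • t := by
    have e : ((hu * b * hu⁻¹ : GLM) : End') - 1 = (n : ZMod p) • t := by
      rw [← hn]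
      show ((b ^ n : GLM) : End') - 1 = _
      rw [Units.val_pow_eq_pow_val, show (b : End') = 1 + t from (ht ▸ (add_sub_cancel _ _).symm),
        one_add_pow_of_sq (p := p) (ht ▸ hb.1.2.1.1), add_sub_cancel_left]
    rwa [UnipJoin.conj_sub_one, ← ht] at e
  have hnμ : (n : ZMod p) = μ⁻¹ := by
    have e := (hpair.conj (v := (hu : End')) (w := ((hu⁻¹ : GLM) : End')) hhi hih).sts
    rw [hconj, hn', smul_mul_smul_comm, smul_mul_smul_comm, hpair.sts] at e
    have := smul_left_injective (ZMod p) hs0 e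
    field_simp at this ⊢
    linear_combination this
  unfold Wt
  rw [← hnμ, ← smul_mul_assoc, ← hn', mul_assoc, hih, mul_one]

end Cfsg.Agent.Spor.Flavell
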