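import Mathlib
import Cfsg.Agent.Lib.Spor.FlavellTorus

/-!
A quadratic element centralizing a torus commutes with the weight root elements, provided the local
nilpotency statements hold.
-/

set_option autoImplicit false
set_option linter.unusedSectionVars false

namespace Cfsg.Agent.Spor.Flavell

open Cfsg.Agent.Fus Cfsg.Agent.Fus.QFix Cfsg.Agent.Fus.QPair

variable {p : ℕ} [Fact p.Prime] {V : Type} [AddCommGroup V] [Module (ZMod p) V] [Finite V]
  {L : Subgroup (LinearMap.GeneralLinearGroup (ZMod p) V)}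

local notation "GLM" => LinearMap.GeneralLinearGroup (ZMod p) V
local notation "End'" => Module.End (ZMod p) V

/-- A map injective on a finite invariant subspace is onto it, and no power of it kills the subspace. -/
theorem eq_zero_of_injective_nilpotent {B D : End'} (hinj : ∀ v, B (D v) = 0 → D v = 0)
    (hinv : ∀ v, ∃ v', B (D v) = D v') {n : ℕ} (h : B ^ n * D = 0) : D = 0 := by
  induction n with
  | zero => simpa using h
  | succ n ih =>
    refine ih (LinearMap.ext fun v => ?_)
    have hk : ∀ m : ℕ, ∃ v', (B ^ m) (D v) = D v' := by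
      intro m
      induction m with
      | zero => exact ⟨v, rfl⟩
      | succ m ihm =>
        obtain ⟨v1, h1⟩ := ihm
        obtain ⟨v2, h2⟩ := hinv v1
        exact ⟨v2, by rw [pow_succ', Module.End.mul_apply, h1, h2]⟩
    obtain ⟨v', hv'⟩ := hk n
    have e := LinearMap.congr_fun h v
    rw [pow_succ', mul_assoc, Module.End.mul_apply, Module.End.mul_apply, hv'] at e
    rw [Module.End.mul_apply, hv']
    exact hinj v' e

variable (hp : 5 ≤ p) (hG : UnipFree L)

include hp hG

/-- The main local step: weight root elements commute with the quadratic element. -/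
theorem comm_of_weight {x hu : GLM} {γ : ZMod p} (hγ : γ ≠ 0) (hx : x ∈ Cfsg.quadraticElements L) (huL : hu ∈ L)
    (hord : hu ^ (p - 1) = 1) (hxh : Commute (hu : End') (x : End')) (Good : GLM → Prop)
    (Hroot : ∀ b ∈ Cfsg.minimalQuadraticElements L, Good b →
      ((b : End') - 1) * ((x : End') - 1) * ((b : End') - 1) = 0 → ∀ δ ∈ Cfsg.minimalQuadraticElements L,
      ((δ : End') = 1 + ((x : End') - 1) * ((b : End') - 1) * ((x : End') - 1) ∨
        (δ : End') = 1 + (((b : End') - 1) * ((x : End') - 1) - ((x : End') - 1) * ((b : End') - 1))) → Good δ)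
    (Hpair : ∀ g ∈ Cfsg.minimalQuadraticElements L, Good g → ∀ b ∈ Cfsg.minimalQuadraticElements L,
      NPair ((g : End') - 1) ((b : End') - 1) → Good b)
    (HN : ∀ b ∈ Cfsg.minimalQuadraticElements L, Good b → ∀ ν : ZMod p, ν = 1 ∨ ν = γ ∨ ν = γ⁻¹ →
      Wt (hu : End') ν ((b : End') - 1) → IsNilpotent (zz ((b : End') - 1) ((x : End') - 1)))
    (HI : ∀ b ∈ Cfsg.minimalQuadraticElements L, ∀ d ∈ Cfsg.minimalQuadraticElements L, Good b → Good d →
      ∀ i ∈ L, (i : End') = 1 - (2 : ZMod p) • proj ((d : End') - 1) ((b : End') - 1) →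
        Commute (hu : End') (i : End') →
        IsNilpotent (((x : End') - 1) * ((i : End') * ((x : End') - 1) * ((i⁻¹ : GLM) : End'))))
    {b : GLM} (hb : b ∈ Cfsg.minimalQuadraticElements L) (hgood : Good b) {ν : ZMod p}
    (hν : ν = 1 ∨ ν = γ ∨ ν = γ⁻¹) (hwt : Wt (hu : End') ν ((b : End') - 1)) :
    ((b : End') - 1) * ((x : End') - 1) = ((x : End') - 1) * ((b : End') - 1) := by
  obtain ⟨hk2, hk3⟩ := char_ne hp
  have hν0 : ν ≠ 0 := by
    rcases hν with rfl | rfl | rfl
    exacts [one_ne_zero, hγ, inv_ne_zero hγ]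
  have hν' : ν⁻¹ = 1 ∨ ν⁻¹ = γ ∨ ν⁻¹ = γ⁻¹ := by
    rcases hν with rfl | rfl | rfl
    exacts [Or.inl inv_one, Or.inr (Or.inr rfl), Or.inr (Or.inl (inv_inv γ))]
  have hsq := sandwich_zero hp hG hb hx (HN b hb hgood ν hν hwt)
  obtain ⟨a, ha⟩ : ∃ a, a = (x : End') - 1 := ⟨_, rfl⟩
  obtain ⟨t, ht⟩ : ∃ t, t = (b : End') - 1 := ⟨_, rfl⟩
  obtain ⟨w, hw⟩ : ∃ w, w = a * t * a := ⟨_, rfl⟩
  obtain ⟨u, hu'⟩ : ∃ u, u = t * a - a * t := ⟨_, rfl⟩
  obtain ⟨hr1, hr2⟩ := exists_root hp hG hb hx hsq (w := w) (u := u) (by rw [hw, ha, ht]) (by rw [hu', ha, ht])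
  have haa : a * a = 0 := ha ▸ hx.2.1.1
  rw [← ha, ← ht] at hsq ⊢
  by_contra hne
  have hu0 : u ≠ 0 := fun e => hne (sub_eq_zero.1 (hu' ▸ e))
  have hwa : Wt (hu : End') (1 : ZMod p) a :=
    wt_of_comm (ha ▸ hxh.sub_right (Commute.one_right _))
  rw [← ht] at hwt
  have hww : Wt (hu : End') ν w := by
    have := (hwa.mul hwt).mul hwa
    rwa [one_mul, mul_one, ← hw] at this
  have hwu : Wt (hu : End') ν u := by
    have h1 := hwt.mul hwa
    have h2 := hwa.mul hwt
    rw [mul_one] at h1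
    rw [one_mul] at h2
    exact hu' ▸ h1.sub h2
  -- the root element
  obtain ⟨δ, e, hδ, hδe, hδw, hcase, hae, hea⟩ : ∃ (δ : GLM) (e : End'), δ ∈ Cfsg.minimalQuadraticElements L ∧
      (δ : End') = 1 + e ∧ Wt (hu : End') ν e ∧ ((w ≠ 0 ∧ e = w) ∨ (w = 0 ∧ e = u)) ∧ a * e = 0 ∧ e * a = 0 := by
    by_cases h0 : w = 0
    · obtain ⟨δ, hδ, e⟩ := hr2 h0 hu0
      refine ⟨δ, u, hδ, e, hwu, Or.inr ⟨h0, rfl⟩, ?_, ?_⟩
      · rw [hu', mul_sub, ← mul_assoc, ← mul_assoc, haa, zero_mul, sub_zero, ← hw, h0]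
      · rw [hu', sub_mul, mul_assoc, haa, mul_zero, zero_sub, ← hw, h0, neg_zero]
    · obtain ⟨δ, hδ, e⟩ := hr1 h0
      refine ⟨δ, w, hδ, e, hww, Or.inl ⟨h0, rfl⟩, ?_, ?_⟩
      · rw [hw, ← mul_assoc, ← mul_assoc, haa, zero_mul, zero_mul]
      · rw [hw, mul_assoc, haa, mul_zero]
  have hgδ : Good δ := Hroot b hb hgood (by rw [← ha, ← ht]; exact hsq) δ hδ (by
    rcases hcase with ⟨-, h⟩ | ⟨-, h⟩
    · exact Or.inl (by rw [hδe, h, hw, ha, ht])
    · exact Or.inr (by rw [hδe, h, hu', ha, ht]))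
  have hδs : (δ : End') - 1 = e := by rw [hδe, add_sub_cancel_left]
  obtain ⟨d, hd, hdp, hdw⟩ := exists_partner_wt hp hG hδ huL hord hν0 (by rw [hδs]; exact hδw)
  obtain ⟨D, hD⟩ : ∃ D, D = (d : End') - 1 := ⟨_, rfl⟩
  rw [hδs, ← hD] at hdp
  rw [← hD] at hdw
  -- a conjugate of the partner that does not commute with `b`
  obtain ⟨c, hc⟩ : ∃ c : ZMod p, D * t * D + c • (D * u * D) - (c * c) • (D * w * D) ≠ 0 := by
    by_contra hcon
    push Not at hcon
    obtain ⟨h2, -⟩ := two_ne hp
    have e0 := hcon 0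
    rw [mul_zero, zero_smul, zero_smul, add_zero, sub_zero] at e0
    have e1 := hcon 1
    have e2 := hcon (-1)
    rw [e0, one_mul, one_smul, one_smul, zero_add] at e1
    rw [e0, neg_mul_neg, one_mul, neg_one_smul, one_smul, zero_add] at e2
    have hDu : D * u * D = D * w * D := sub_eq_zero.1 e1
    rw [hDu] at e2
    have hDw : D * w * D = 0 := by
      have : (2 : ZMod p) • (D * w * D) = 0 := by
        rw [two_smul]
        rw [← neg_eq_zero, neg_add, ← sub_eq_add_neg]
        exact e2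
      exact (smul_eq_zero.1 this).resolve_left h2
    have hDe : D * e * D = 0 := by
      rcases hcase with ⟨-, h⟩ | ⟨-, h⟩ <;> rw [h]
      · exact hDw
      · rw [hDu, hDw]
    exact hd.1.2.1.2 (by rw [← hD, ← hdp.tst, hDe])
  have hf := pow_val_eq hx.2.1.1 c
  obtain ⟨f, hfe⟩ : ∃ f : GLM, f = x ^ c.val := ⟨_, rfl⟩
  rw [← hfe, ← ha] at hf
  have hfL : f ∈ L := hfe ▸ L.pow_mem hx.1 _
  have hfi : ((f⁻¹ : GLM) : End') = 1 + -(c • a) := by
    refine Units.inv_eq_of_mul_eq_one_right ?_
    rw [hf]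
    simp only [add_mul, mul_add, one_mul, mul_one, mul_neg, smul_mul_assoc, mul_smul_comm, haa, smul_zero,
      add_zero]
    abel
  obtain ⟨d', hd'e⟩ : ∃ d', d' = f * d * f⁻¹ := ⟨_, rfl⟩
  have hd' : d' ∈ Cfsg.minimalQuadraticElements L := hd'e ▸ (conj_minimal hfL hd).1
  obtain ⟨D', hD'⟩ : ∃ D', D' = (d' : End') - 1 := ⟨_, rfl⟩
  have hD'e : D' = (1 + c • a) * D * (1 + -(c • a)) := by rw [hD', hd'e, UnipJoin.conj_sub_one, hf, hfi, ← hD]
  have hfw : Wt (hu : End') (1 : ZMod p) (1 + c • a) :=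
    (wt_of_comm (Commute.one_right _)).add (hwa.smul c)
  have hfw' : Wt (hu : End') (1 : ZMod p) (1 + -(c • a)) := by
    rw [← neg_smul]; exact (wt_of_comm (Commute.one_right _)).add (hwa.smul _)
  have hD'w : Wt (hu : End') ν⁻¹ D' := by
    have := (hfw.mul hdw).mul hfw'
    rwa [one_mul, mul_one, ← hD'e] at this
  have hnz : D' * t * D' ≠ 0 := by
    intro h0
    refine hc ?_
    have key : (1 + -(c • a)) * (D' * t * D') * (1 + c • a) =
        D * t * D + c • (D * u * D) - (c * c) • (D * w * D) := by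
      have za : ∀ z : End', a * (a * z) = 0 := fun z => by rw [← mul_assoc, haa, zero_mul]
      rw [hD'e, hu', hw]
      simp only [add_mul, mul_add, one_mul, mul_one, mul_neg, neg_mul, smul_mul_assoc, mul_smul_comm, mul_assoc,
        za, haa, mul_zero, smul_zero, neg_zero, add_zero, zero_add, mul_sub, sub_mul, smul_sub, smul_add, smul_neg,
        smul_smul, neg_neg]
      abel
    rw [← key, h0, mul_zero, zero_mul]
  have hfe' : (1 + c • a) * e * (1 + -(c • a)) = e := by
    simp only [add_mul, mul_add, one_mul, mul_one, mul_neg, smul_mul_assoc, mul_smul_comm, hae, hea, smul_zero,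
      zero_mul, neg_zero, add_zero]
  have hpair' : NPair ((δ : End') - 1) ((d' : End') - 1) := by
    have := hdp.conj (v := (f : End')) (w := ((f⁻¹ : GLM) : End'))
      (by rw [← Units.val_mul, mul_inv_cancel]; rfl) (by rw [← Units.val_mul, inv_mul_cancel]; rfl)
    rwa [hf, hfi, hfe', ← hD'e, hD', ← hδs] at this
  have hgd' : Good d' := Hpair δ hδ hgδ d' hd' hpair'
  have hopp : Opposite b d' := by
    by_contra hno
    refine hnz ?_
    have h := (cube_zero hk2 hk3 hG hb hd' hno (UnipJoin.sub_one_mem (self_mem_class hb) :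
      (b : End') - 1 ∈ rootSpace L b) (UnipJoin.sub_one_mem (self_mem_class hd') :
      (d' : End') - 1 ∈ rootSpace L d')).2
    rwa [hD', ht]
  obtain ⟨d1, hd1c, hd1p⟩ := exists_pair hp hG hb hd' hopp
  have hgd1 : Good d1 := Hpair b hb hgood d1 hd1c.1 hd1p
  obtain ⟨E, hE⟩ : ∃ E, E = (d1 : End') - 1 := ⟨_, rfl⟩
  rw [← ht, ← hE] at hd1p
  have hEk : LinearMap.ker E = LinearMap.ker D' := by rw [hE, hD']; exact hd1c.2.1
  have hEr : LinearMap.range E = LinearMap.range D' := by rw [hE, hD']; exact hd1c.2.2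
  have hih : ((hu⁻¹ : GLM) : End') * (hu : End') = 1 := by rw [← Units.val_mul, inv_mul_cancel]; rfl
  have hhi : (hu : End') * ((hu⁻¹ : GLM) : End') = 1 := by rw [← Units.val_mul, mul_inv_cancel]; rfl
  have hEw : Wt (hu : End') ν⁻¹ E := by
    obtain ⟨E', hE'⟩ : ∃ E', E' = ν • ((hu : End') * E * ((hu⁻¹ : GLM) : End')) := ⟨_, rfl⟩
    have hr : ∀ v, ∃ m, E' v = E m := by
      intro v
      obtain ⟨m, hm⟩ : ∃ m, E (((hu⁻¹ : GLM) : End') v) = D' m := by
        obtain ⟨m, hm⟩ := hEr.le ⟨((hu⁻¹ : GLM) : End') v, rfl⟩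
        exact ⟨m, hm.symm⟩
      have hmem : E' v ∈ LinearMap.range E := by
        rw [hEr, hE', LinearMap.smul_apply, Module.End.mul_apply, Module.End.mul_apply, hm, ← Module.End.mul_apply,
          hD'w, LinearMap.smul_apply, Module.End.mul_apply]
        exact Submodule.smul_mem _ _ (Submodule.smul_mem _ _ ⟨_, rfl⟩)
      obtain ⟨m', hm'⟩ := hmem
      exact ⟨m', hm'.symm⟩
    have hk : ∀ v, E v = 0 → E' v = 0 := by
      intro v hv
      have h1 : D' v = 0 := (hEk.le (LinearMap.mem_ker.2 hv) :)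
      have h2 : D' (((hu⁻¹ : GLM) : End') v) = 0 := by
        have := LinearMap.congr_fun hD'w (((hu⁻¹ : GLM) : End') v)
        rw [Module.End.mul_apply, LinearMap.smul_apply, Module.End.mul_apply, ← Module.End.mul_apply (hu : End') _ v,
          hhi, Module.End.one_apply, h1, smul_zero] at this
        have e2 := congrArg ((hu⁻¹ : GLM) : End') this
        rwa [map_zero, ← Module.End.mul_apply, hih, Module.End.one_apply] at e2
      have h3 : E (((hu⁻¹ : GLM) : End') v) = 0 := (hEk.ge (LinearMap.mem_ker.2 h2) :)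
      rw [hE', LinearMap.smul_apply, Module.End.mul_apply, Module.End.mul_apply, h3, map_zero, smul_zero]
    have e1 : E * t * E' = E' := LinearMap.ext fun v => by
      obtain ⟨m, hm⟩ := hr v
      rw [Module.End.mul_apply, Module.End.mul_apply, hm]
      exact LinearMap.congr_fun hd1p.tst m
    have e2 : E' * t * E = E' := LinearMap.ext fun v => by
      have h := hk (v - t (E v)) (by
        rw [map_sub, sub_eq_zero]
        exact (LinearMap.congr_fun hd1p.tst v).symm)
      rw [map_sub, sub_eq_zero] at h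
      exact h.symm
    have e3 : t * E' * t = t := by
      have e := (hd1p.conj (v := (hu : End')) (w := ((hu⁻¹ : GLM) : End')) hhi hih).sts
      have htc : (hu : End') * t * ((hu⁻¹ : GLM) : End') = ν • t := by
        rw [hwt, smul_mul_assoc, mul_assoc, hhi, mul_one]
      rw [htc, smul_mul_assoc, smul_mul_assoc, mul_smul_comm] at e
      rw [hE', mul_smul_comm, smul_mul_assoc]
      exact smul_right_injective End' hν0 e
    have hEE : E' = E := by
      calc E' = E * t * (E' * t * E) := by rw [e2, e1]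
        _ = E * (t * E' * t) * E := by simp only [mul_assoc]
        _ = E := by rw [e3, hd1p.tst]
    have e4 : (hu : End') * E * ((hu⁻¹ : GLM) : End') = ν⁻¹ • E := by
      conv_rhs => rw [← hEE, hE', smul_smul, inv_mul_cancel₀ hν0, one_smul]
    unfold Wt
    rw [← smul_mul_assoc, ← e4, mul_assoc, hih, mul_one]
  have hEaE : E * a * E = 0 := by
    have h := sandwich_zero hp hG hd1c.1 hx (HN d1 hd1c.1 hgd1 _ hν' (hE ▸ hEw))
    rwa [← hE, ← ha] at h
  -- the involution
  obtain ⟨i, hiL, hie⟩ : ∃ i ∈ L, (i : End') = 1 - (2 : ZMod p) • proj E t := by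
    have hm : wel (1 : ZMod p) E t * wel (1 : ZMod p) E t ∈ mset L := by
      have h1 : wel (1 : ZMod p) E t ∈ mset L := by
        rw [← hd1p.symm.wel_eq one_ne_zero, hE, ht]
        refine Submonoid.mul_mem _ (Submonoid.mul_mem _ (scalar_mem hd1c.1 _) ?_) (scalar_mem hd1c.1 _)
        rw [sub_eq_add_neg, ← neg_smul]; exact scalar_mem hb _
      exact Submonoid.mul_mem _ h1 h1
    rw [hd1p.symm.wel_sq] at hm
    obtain ⟨i, hi, e⟩ := hm
    exact ⟨i, hi, e⟩
  have hPw : Wt (hu : End') (1 : ZMod p) (proj E t) := by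
    have h1 := hEw.mul hwt
    have h2 := hwt.mul hEw
    rw [inv_mul_cancel₀ hν0] at h1
    rw [mul_inv_cancel₀ hν0] at h2
    exact h1.add h2
  have hic : Commute (hu : End') (i : End') := by
    rw [hie]
    refine (Commute.one_right _).sub_right (Commute.smul_right ?_ _)
    unfold Wt at hPw
    rw [one_smul] at hPw
    exact hPw
  obtain ⟨n, hn⟩ := HI b hb d1 hd1c.1 hgood hgd1 i hiL (by rw [hie, hE, ht]) hic
  obtain ⟨P, hP⟩ : ∃ P, P = proj E t := ⟨_, rfl⟩
  rw [← hP] at hie
  have hii : ((i⁻¹ : GLM) : End') = (i : End') := by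
    refine Units.inv_eq_of_mul_eq_one_right ?_
    rw [hie, hP]
    simp only [sub_mul, mul_sub, one_mul, mul_one, smul_mul_assoc, mul_smul_comm, hd1p.symm.proj_idem]
    module
  rw [← ha, hii] at hn
  have hai : (a * (i : End')) ^ (2 * n) = 0 := by
    rw [pow_mul, pow_two]
    simpa only [mul_assoc] using hn
  have haia : ∀ m : ℕ, (a * (i : End')) ^ m * a = (-2 : ZMod p) ^ m • ((a * P) ^ m * a) := by
    intro m
    induction m with
    | zero => rw [pow_zero, pow_zero, pow_zero, one_smul]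
    | succ m ih =>
      have e : a * (i : End') * a = (-2 : ZMod p) • (a * P * a) := by
        rw [hie, mul_sub, mul_one, mul_smul_comm, sub_mul, haa, smul_mul_assoc, zero_sub, neg_smul]
      have e2 : ∀ k : ℕ, (a * P) ^ k * a * (P * a) = (a * P) ^ (k + 1) * a := fun k => by
        rw [pow_succ]; simp only [mul_assoc]
      rw [pow_succ, mul_assoc, e, mul_smul_comm, show (a * (i : End')) ^ m * (a * P * a) =
        (a * (i : End')) ^ m * a * (P * a) by simp only [mul_assoc], ih, smul_mul_assoc, e2, smul_smul,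
        mul_comm, ← pow_succ]
  have haP : (a * P) ^ (2 * n) * a = 0 := by
    have := haia (2 * n)
    rw [hai, zero_mul] at this
    refine (smul_eq_zero.1 this.symm).resolve_left (pow_ne_zero _ (neg_ne_zero.2 (two_ne hp).1))
  have hsplit : ∀ m : ℕ, (a * P) ^ (m + 1) * a = (a * E * t) ^ (m + 1) * a + (a * t * E) ^ (m + 1) * a := by
    intro m
    induction m with
    | zero =>
      rw [zero_add, pow_one, pow_one, pow_one, hP, proj, mul_add, add_mul]
      simp only [mul_assoc]
    | succ m ih =>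
      have e0 : (a * P) ^ (m + 1 + 1) * a = (a * P) ^ (m + 1) * a * (P * a) := by
        rw [pow_succ _ (m + 1)]; simp only [mul_assoc]
      rw [e0, ih, add_mul, hP, proj, add_mul, mul_add, mul_add]
      have z1 : (a * E * t) ^ (m + 1) * a * (t * E * a) = 0 := by
        rw [pow_succ, show (a * E * t) ^ m * (a * E * t) * a * (t * E * a) =
          (a * E * t) ^ m * (a * E) * (t * a * t) * (E * a) by simp only [mul_assoc], hsq]
        simp
      have z2 : (a * t * E) ^ (m + 1) * a * (E * t * a) = 0 := by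
        rw [pow_succ, show (a * t * E) ^ m * (a * t * E) * a * (E * t * a) =
          (a * t * E) ^ m * (a * t) * (E * a * E) * (t * a) by simp only [mul_assoc], hEaE]
        simp
      rw [z1, z2, add_zero, zero_add, pow_succ _ (m + 1), pow_succ (a * t * E) (m + 1)]
      simp only [mul_assoc]
  obtain ⟨N, hN⟩ : ∃ N, 2 * n = N + 1 := by
    rcases n with _ | n
    · rw [mul_zero, pow_zero, one_mul] at haP
      exact absurd (by rw [haP, zero_mul, mul_zero]) hne
    · exact ⟨2 * n + 1, by omega⟩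
  rw [hN, hsplit] at haP
  obtain ⟨A, hA⟩ : ∃ A, A = E * a * t := ⟨_, rfl⟩
  obtain ⟨B, hB⟩ : ∃ B, B = E * t * a := ⟨_, rfl⟩
  have sh : ∀ (P Q : End') (k : ℕ), P * (Q * P) ^ k = (P * Q) ^ k * P := by
    intro P Q k
    induction k with
    | zero => rw [pow_zero, pow_zero, mul_one, one_mul]
    | succ k ih => rw [pow_succ, pow_succ, ← mul_assoc, ih]; simp only [mul_assoc]
  have hAn : A ^ (N + 1 + 1) * E = 0 := by
    have h := congrArg (fun z => E * z * (t * E)) haP
    simp only [mul_add, add_mul, mul_zero, zero_mul] at h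
    have z1 : E * ((a * E * t) ^ (N + 1) * a) * (t * E) = 0 := by
      rw [pow_succ', show E * (a * E * t * (a * E * t) ^ N * a) * (t * E) =
        (E * a * E) * (t * (a * E * t) ^ N * a * (t * E)) by simp only [mul_assoc], hEaE, zero_mul]
    rw [z1, zero_add] at h
    rw [hA, pow_succ _ (N + 1), ← h, show a * t * E = (a * t) * E from rfl, ← mul_assoc E, sh E (a * t)]
    simp only [mul_assoc]
  have hBn : B ^ (N + 1 + 1) * E = 0 := by
    have h := congrArg (fun z => E * t * z * E) haP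
    simp only [mul_add, add_mul, mul_zero, zero_mul] at h
    have z1 : E * t * ((a * t * E) ^ (N + 1) * a) * E = 0 := by
      rw [pow_succ, show E * t * ((a * t * E) ^ N * (a * t * E) * a) * E =
        E * t * (a * t * E) ^ N * (a * t) * (E * a * E) by simp only [mul_assoc], hEaE, mul_zero]
    rw [z1, add_zero] at h
    rw [hB, pow_succ _ (N + 1), ← h, show a * E * t = a * (E * t) by rw [mul_assoc], ← mul_assoc (E * t),
      sh (E * t) a]
    simp only [mul_assoc]
  have hAB : A * B * E = E * w * E := by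
    rw [hA, hB, hw, show E * a * t * (E * t * a) * E = E * a * (t * E * t) * a * E by simp only [mul_assoc],
      hd1p.sts]
    simp only [mul_assoc]
  have hBA : (B - A) * E = E * u * E := by
    rw [hA, hB, hu']
    simp only [mul_sub, sub_mul, mul_assoc]
  have hinj : ∀ v, (E * e * E) v = 0 → E v = 0 := by
    intro v hv
    obtain ⟨o1, o2⟩ := opposite_of_npair hpair'
    have hv1 : e (E v) ∈ rf δ ⊓ kf d' := by
      refine ⟨⟨E v, by rw [hδs]⟩, ?_⟩
      show ((d' : End') - 1) _ = 0
      rw [← hD']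
      exact (hEk.le (LinearMap.mem_ker.2 hv) :)
    rw [o1, Submodule.mem_bot] at hv1
    have hv2 : E v ∈ rf d' ⊓ kf δ := by
      refine ⟨?_, ?_⟩
      · show E v ∈ LinearMap.range ((d' : End') - 1)
        rw [← hD', ← hEr]; exact ⟨v, rfl⟩
      · show ((δ : End') - 1) (E v) = 0
        rw [hδs, hv1]
    rwa [o2, Submodule.mem_bot] at hv2
  have hE0 : E ≠ 0 := hE ▸ hd1c.1.1.2.1.2
  have hBinv : ∀ v, ∃ v', B (E v) = E v' := fun v => ⟨t (a (E v)), by rw [hB]; rfl⟩
  rcases hcase with ⟨-, he⟩ | ⟨hw0, he⟩ <;> rw [he] at hinj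
  · refine hE0 (eq_zero_of_injective_nilpotent (fun v hv => hinj v ?_) hBinv hBn)
    rw [← hAB, Module.End.mul_apply, Module.End.mul_apply, hv, map_zero]
  · rw [← hBA] at hinj
    have hsurj : ∀ v, ∃ v', E v = (B - A) (E v') := by
      obtain ⟨W, hW⟩ : ∃ W, W = LinearMap.range E := ⟨_, rfl⟩
      have hmap : ∀ z ∈ W, (B - A) z ∈ W := by
        rw [hW]
        rintro _ ⟨v, rfl⟩
        exact ⟨t (a (E v)) - a (t (E v)), by rw [hA, hB, map_sub]; rfl⟩
      have hi : Function.Injective ((B - A).restrict hmap) := by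
        refine (injective_iff_map_eq_zero _).2 fun z hz => Subtype.ext ?_
        obtain ⟨v, hv⟩ : ∃ v, E v = z := hW.le z.2
        have hz' : (B - A) z = 0 := congrArg Subtype.val hz
        rw [← hv] at hz' ⊢
        exact hinj v hz'
      intro v
      obtain ⟨z, hz⟩ := (LinearMap.injective_iff_surjective.1 hi) ⟨E v, hW ▸ ⟨v, rfl⟩⟩
      obtain ⟨v', hv'⟩ : ∃ v', E v' = z := hW.le z.2
      exact ⟨v', by rw [hv']; exact (congrArg Subtype.val hz).symm⟩
    have hABz : A * B * E = 0 := by rw [hAB, hw0, mul_zero, zero_mul]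
    have hdesc : ∀ m : ℕ, A ^ (m + 1 + 1) * E = 0 → A ^ (m + 1) * E = 0 := by
      intro m hm
      refine LinearMap.ext fun v => ?_
      obtain ⟨v', hv'⟩ := hsurj v
      have e : A ^ (m + 1) * (B - A) * E = 0 := by
        rw [mul_sub, sub_mul, pow_succ A m, mul_assoc (A ^ m), mul_assoc (A ^ m), hABz, mul_zero, zero_sub,
          ← pow_succ, ← pow_succ, hm, neg_zero]
      rw [Module.End.mul_apply, hv']
      exact LinearMap.congr_fun e v'
    have hA1 : ∀ m : ℕ, A ^ (m + 1) * E = 0 → A * E = 0 := by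
      intro m
      induction m with
      | zero => intro h; rwa [zero_add, pow_one] at h
      | succ m ih => exact fun h => ih (hdesc m h)
    refine hE0 (eq_zero_of_injective_nilpotent (fun v hv => hinj v ?_) hBinv hBn)
    rw [sub_mul, hA1 _ hAn, sub_zero, Module.End.mul_apply, hv]

end Cfsg.Agent.Spor.Flavell
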