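import Mathlib
import Cfsg.Agent.Lib.Spor.FlavellWeights

/-!
A quadratic element centralizing a pair has no root element pinned under it.
-/

set_option autoImplicit false
set_option linter.unusedSectionVars false

namespace Cfsg.Agent.Spor.Flavell

open Cfsg.Agent.Fus Cfsg.Agent.Fus.QFix Cfsg.Agent.Fus.QPair

variable {p : ℕ} [Fact p.Prime] {V : Type} [AddCommGroup V] [Module (ZMod p) V] [Finite V]
  {L K : Subgroup (LinearMap.GeneralLinearGroup (ZMod p) V)}

local notation "GLM" => LinearMap.GeneralLinearGroup (ZMod p) V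
local notation "End'" => Module.End (ZMod p) V

/-- The anticommutator of a partner pair is in the normal closure of either member. -/
theorem partner_mem (hn : ∀ g ∈ L, ∀ n ∈ K, g * n * g⁻¹ ∈ K) {g b : GLM}
    (hg : g ∈ Cfsg.minimalQuadraticElements L) (hgK : g ∈ K) (hb : b ∈ Cfsg.minimalQuadraticElements L)
    (h : NPair ((g : End') - 1) ((b : End') - 1)) : b ∈ K := by
  obtain ⟨s, hs⟩ : ∃ s, s = (g : End') - 1 := ⟨_, rfl⟩
  obtain ⟨t, ht⟩ : ∃ t, t = (b : End') - 1 := ⟨_, rfl⟩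
  rw [← hs, ← ht] at h
  obtain ⟨m, hm, hme⟩ : ∃ m ∈ L, (m : End') = wel (1 : ZMod p) s t := by
    have : wel (1 : ZMod p) s t ∈ mset L := by
      rw [← h.wel_eq one_ne_zero]
      refine Submonoid.mul_mem _ (Submonoid.mul_mem _ (hs ▸ scalar_mem hg _) ?_) (hs ▸ scalar_mem hg _)
      rw [sub_eq_add_neg, ← neg_smul, ht]
      exact scalar_mem hb _
    obtain ⟨m, hm, e⟩ := this
    exact ⟨m, hm, e⟩
  have hmi : ((m⁻¹ : GLM) : End') = wel (-1 : ZMod p) s t :=
    Units.inv_eq_of_mul_eq_one_right (by rw [hme, h.wel_mul_neg one_ne_zero])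
  have e : ((m * b * m⁻¹ : GLM) : End') - 1 = -s := by
    rw [UnipJoin.conj_sub_one, hme, hmi, ← ht, h.wel_conj h.proj_right.1 h.proj_right.2 h.tt h.tt, h.sts]
  have e2 : m * b * m⁻¹ = g ^ (-1 : ZMod p).val := by
    refine Units.ext ?_
    rw [pow_val_eq hg.1.2.1.1, ← hs, neg_one_smul, ← e, add_sub_cancel]
  have := hn m⁻¹ (L.inv_mem hm) _ (e2 ▸ K.pow_mem hgK _ : m * b * m⁻¹ ∈ K)
  rwa [show m⁻¹ * (m * b * m⁻¹) * m⁻¹⁻¹ = b by group] at this

variable (hp : 5 ≤ p) (hG : UnipFree L)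

include hp hG

/-- The roots of the commutators stay in a normal subgroup. -/
theorem root_mem (hn : ∀ g ∈ L, ∀ n ∈ K, g * n * g⁻¹ ∈ K) {b y δ : GLM}
    (hb : b ∈ Cfsg.minimalQuadraticElements L) (hbK : b ∈ K) (hy : y ∈ Cfsg.quadraticElements L)
    (h0 : ((b : End') - 1) * ((y : End') - 1) * ((b : End') - 1) = 0)
    (hδ : (δ : End') = 1 + ((y : End') - 1) * ((b : End') - 1) * ((y : End') - 1) ∨
      (δ : End') = 1 + (((b : End') - 1) * ((y : End') - 1) - ((y : End') - 1) * ((b : End') - 1))) : δ ∈ K := by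
  obtain ⟨hw, hu, -, -⟩ := families hp hG hb hy h0 K (fun i j => by
    rw [show b ^ i * y ^ j * (b ^ i)⁻¹ * (y ^ j)⁻¹ = b ^ i * (y ^ j * (b ^ i)⁻¹ * (y ^ j)⁻¹) by group]
    exact K.mul_mem (K.pow_mem hbK i) (hn _ (L.pow_mem hy.1 j) _ (K.inv_mem (K.pow_mem hbK i)))) rfl rfl
  rcases hδ with e | e
  · exact hw 1 δ (by rw [one_smul]; exact e)
  · exact hu 1 δ (by rw [one_smul]; exact e)

/-- A step of the chain of pinned root elements. -/
theorem pinned_step (hn : ∀ g ∈ L, ∀ n ∈ K, g * n * g⁻¹ ∈ K) {g r : GLM} {a : End'}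
    (hg : g ∈ Cfsg.minimalQuadraticElements L) (hgK : g ∈ K) (hr : r ∈ Cfsg.minimalQuadraticElements L)
    (haa : a * a = 0) (har : a * ((r : End') - 1) = ((r : End') - 1) * a) {c c' : End'}
    (hc : (g : End') - 1 = c * a) (hc' : (g : End') - 1 = a * c') :
    ((g : End') - 1) * ((r : End') - 1) * ((g : End') - 1) = 0 ∧
    ((r : End') - 1) * ((g : End') - 1) * ((r : End') - 1) = 0 ∧
      (((g : End') - 1) * ((r : End') - 1) = ((r : End') - 1) * ((g : End') - 1) ∨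
        ∃ g' ∈ Cfsg.minimalQuadraticElements L, g' ∈ K ∧
          (g' : End') - 1 = ((g : End') - 1) * ((r : End') - 1) - ((r : End') - 1) * ((g : End') - 1) ∧
          ∃ d d', (g' : End') - 1 = d * a ∧ (g' : End') - 1 = a * d') := by
  obtain ⟨hk2, hk3⟩ := char_ne hp
  have h1 : ((g : End') - 1) * ((r : End') - 1) * ((g : End') - 1) = 0 := by
    conv_lhs => arg 2; rw [hc']
    rw [hc, show c * a * ((r : End') - 1) * (a * c') = c * (a * ((r : End') - 1)) * a * c' by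
      simp only [mul_assoc], har, show c * (((r : End') - 1) * a) * a * c' = c * ((r : End') - 1) * (a * a) * c' by
      simp only [mul_assoc], haa, mul_zero, zero_mul]
  have hno : ¬ Opposite r g := fun hop => opp_mul_ne hop hg.1.2.1.2 h1
  have h2 : ((r : End') - 1) * ((g : End') - 1) * ((r : End') - 1) = 0 :=
    (cube_zero hk2 hk3 hG hr hg hno (UnipJoin.sub_one_mem (self_mem_class hr) :
      (r : End') - 1 ∈ rootSpace L r) (UnipJoin.sub_one_mem (self_mem_class hg) :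
      (g : End') - 1 ∈ rootSpace L g)).1
  refine ⟨h1, h2, ?_⟩
  by_cases hcm : ((g : End') - 1) * ((r : End') - 1) = ((r : End') - 1) * ((g : End') - 1)
  · exact Or.inl hcm
  obtain ⟨-, hu⟩ := exists_root hp hG hg hr.1 h1 (w := ((r : End') - 1) * ((g : End') - 1) * ((r : End') - 1))
    (u := ((g : End') - 1) * ((r : End') - 1) - ((r : End') - 1) * ((g : End') - 1)) rfl rfl
  obtain ⟨g', hg', he⟩ := hu h2 (sub_ne_zero.2 hcm)
  obtain ⟨G, hGe⟩ : ∃ G, G = (g : End') - 1 := ⟨_, rfl⟩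
  obtain ⟨R, hRe⟩ : ∃ R, R = (r : End') - 1 := ⟨_, rfl⟩
  have he' : (g' : End') - 1 = G * R - R * G := by rw [he, add_sub_cancel_left, hGe, hRe]
  rw [← hRe] at har
  rw [← hGe] at hc hc'
  refine Or.inr ⟨g', hg', root_mem hp hG hn hg hgK hr.1 h1 (Or.inr he), by rw [he, add_sub_cancel_left],
    c * R - R * c, c' * R - R * c', ?_, ?_⟩
  · rw [he', hc, sub_mul, mul_assoc c a, har, ← mul_assoc c, ← mul_assoc R]
  · rw [he', hc', mul_sub, ← mul_assoc a R, har, mul_assoc a c', mul_assoc R a]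

/-- No root element of `K` is pinned under `x`. -/
theorem no_pinned (hn : ∀ g ∈ L, ∀ n ∈ K, g * n * g⁻¹ ∈ K) {σ τ x hu : GLM} {γ : ZMod p} (hγ : γ ≠ 0)
    (hσ : σ ∈ Cfsg.minimalQuadraticElements L) (hτ : τ ∈ Cfsg.minimalQuadraticElements L)
    (hpair : NPair ((σ : End') - 1) ((τ : End') - 1))
    (hx : x ∈ Cfsg.quadraticElements L) (huL : hu ∈ L) (hord : hu ^ (p - 1) = 1)
    (htor : (hu : End') = torus γ ((σ : End') - 1) ((τ : End') - 1))
    (hxσ : ((x : End') - 1) * ((σ : End') - 1) = ((σ : End') - 1) * ((x : End') - 1))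
    (hxτ : ((x : End') - 1) * ((τ : End') - 1) = ((τ : End') - 1) * ((x : End') - 1))
    (HN : ∀ b ∈ Cfsg.minimalQuadraticElements L, b ∈ K → ∀ ν : ZMod p, ν = 1 ∨ ν = γ ∨ ν = γ⁻¹ →
      Wt (hu : End') ν ((b : End') - 1) → IsNilpotent (zz ((b : End') - 1) ((x : End') - 1)))
    (HI : ∀ b ∈ Cfsg.minimalQuadraticElements L, ∀ d ∈ Cfsg.minimalQuadraticElements L, b ∈ K → d ∈ K →
      ∀ i ∈ L, (i : End') = 1 - (2 : ZMod p) • proj ((d : End') - 1) ((b : End') - 1) →
        Commute (hu : End') (i : End') →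
        IsNilpotent (((x : End') - 1) * ((i : End') * ((x : End') - 1) * ((i⁻¹ : GLM) : End'))))
    {g : GLM} (hg : g ∈ Cfsg.minimalQuadraticElements L) (hgK : g ∈ K) {c c' : End'}
    (hc : (g : End') - 1 = c * ((x : End') - 1)) (hc' : (g : End') - 1 = ((x : End') - 1) * c') : False := by
  obtain ⟨a, ha⟩ : ∃ a, a = (x : End') - 1 := ⟨_, rfl⟩
  obtain ⟨s, hs⟩ : ∃ s, s = (σ : End') - 1 := ⟨_, rfl⟩
  obtain ⟨t, ht⟩ : ∃ t, t = (τ : End') - 1 := ⟨_, rfl⟩
  rw [← hs, ← ht] at hpair htor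
  rw [← ha, ← hs] at hxσ
  rw [← ha, ← ht] at hxτ
  rw [← ha] at hc hc'
  have haa : a * a = 0 := ha ▸ hx.2.1.1
  have hxh : Commute (hu : End') (x : End') := by
    have c1 : Commute a s := hxσ
    have c2 : Commute a t := hxτ
    have : Commute a (hu : End') := by
      rw [htor]
      exact (((Commute.one_right a).sub_right ((c1.mul_right c2).add_right (c2.mul_right c1))).add_right
        ((c1.mul_right c2).smul_right _)).add_right ((c2.mul_right c1).smul_right _)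
    have := (this.symm).add_right (Commute.one_right (hu : End'))
    rwa [ha, sub_add_cancel] at this
  have finish' : ∀ {g2 : GLM}, g2 ∈ Cfsg.minimalQuadraticElements L → g2 ∈ K → ∀ {d d' : End'},
      (g2 : End') - 1 = d * a → (g2 : End') - 1 = a * d' → ∀ μ : ZMod p, μ = 1 ∨ μ = γ →
      Wt (hu : End') μ ((g2 : End') - 1) → False := by
    intro g2 hg2 hg2K d d' hd hd' μ hμ hw
    have hμ0 : μ ≠ 0 := by rcases hμ with rfl | rfl <;> [exact one_ne_zero; exact hγ]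
    obtain ⟨b, hb, hbp, hbw⟩ := exists_partner_wt hp hG hg2 huL hord hμ0 hw
    have hbK := partner_mem hn hg2 hg2K hb hbp
    have hν : μ⁻¹ = 1 ∨ μ⁻¹ = γ ∨ μ⁻¹ = γ⁻¹ := by
      rcases hμ with rfl | rfl
      exacts [Or.inl inv_one, Or.inr (Or.inr rfl)]
    have hcomm := comm_of_weight hp hG hγ hx huL hord hxh (· ∈ K)
      (fun b hb hbK h0 δ _ hδ => root_mem hp hG hn hb hbK hx h0 hδ)
      (fun g hg hgK b hb h => partner_mem hn hg hgK hb h) HN HI hb hbK hν hbw
    rw [← ha] at hcomm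
    refine hg2.1.2.1.2 ?_
    rw [← hbp.sts]
    conv_lhs => arg 1; arg 1; rw [hd]
    conv_lhs => arg 2; rw [hd']
    rw [show d * a * ((b : End') - 1) * (a * d') = d * a * (((b : End') - 1) * a) * d' by simp only [mul_assoc],
      hcomm, show d * a * (a * ((b : End') - 1)) * d' = d * (a * a) * ((b : End') - 1) * d' by
      simp only [mul_assoc], haa, mul_zero, zero_mul, zero_mul]
  have step1 : ∃ g1 ∈ Cfsg.minimalQuadraticElements L, g1 ∈ K ∧ (∃ d d', (g1 : End') - 1 = d * a ∧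
      (g1 : End') - 1 = a * d') ∧ ((g1 : End') - 1) * t = t * ((g1 : End') - 1) := by
    obtain ⟨-, h2, h | ⟨g', hg', hgK', he, d, d', hd, hd'⟩⟩ :=
      pinned_step hp hG hn hg hgK hτ haa (ht ▸ hxτ) hc hc'
    · exact ⟨g, hg, hgK, ⟨c, c', hc, hc'⟩, ht ▸ h⟩
    · refine ⟨g', hg', hgK', ⟨d, d', hd, hd'⟩, ?_⟩
      rw [← ht] at he h2
      obtain ⟨G, hGe⟩ : ∃ G, G = (g : End') - 1 := ⟨_, rfl⟩
      rw [← hGe] at he h2
      rw [he, sub_mul, mul_sub, mul_assoc G, hpair.tt, mul_zero, h2, ← mul_assoc, h2,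
        ← mul_assoc, hpair.tt, zero_mul, sub_zero]
  obtain ⟨g1, hg1, hg1K, ⟨d, d', hd, hd'⟩, hg1t⟩ := step1
  obtain ⟨-, h2, h | ⟨g2, hg2, hg2K, he, e, e', hee, hee'⟩⟩ :=
    pinned_step hp hG hn hg1 hg1K hσ haa (hs ▸ hxσ) hd hd'
  · refine finish' hg1 hg1K hd hd' 1 (Or.inl rfl) (wt_of_comm ?_)
    rw [← hs] at h
    have c1 : Commute ((g1 : End') - 1) s := h
    have c2 : Commute ((g1 : End') - 1) t := hg1t
    rw [htor]
    exact ((((Commute.one_right _).sub_right ((c1.mul_right c2).add_right (c2.mul_right c1))).add_right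
        ((c1.mul_right c2).smul_right _)).add_right ((c2.mul_right c1).smul_right _)).symm
  · refine finish' hg2 hg2K hee hee' γ (Or.inr rfl) ?_
    rw [← hs] at he h2
    obtain ⟨G, hG'⟩ : ∃ G, G = (g1 : End') - 1 := ⟨_, rfl⟩
    rw [← hG'] at he h2 hg1t
    obtain ⟨r1, r2, r3, r4, r5, r6⟩ := hpair.assoc_rules
    obtain ⟨e1, e2⟩ := torus_mul_s hpair γ
    have tg : ∀ X : End', t * (G * X) = G * (t * X) := fun X => by rw [← mul_assoc, ← hg1t, mul_assoc]
    have sgs : ∀ X : End', s * (G * (s * X)) = 0 := fun X => by rw [← mul_assoc, ← mul_assoc, h2, zero_mul]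
    have sgs' : s * (G * s) = 0 := by rw [← mul_assoc, h2]
    rw [he, htor]
    unfold Wt
    rw [mul_sub, sub_mul, smul_sub, ← mul_assoc (torus γ s t) s, e1, smul_mul_assoc, mul_assoc G s, e2,
      mul_smul_comm, smul_smul, mul_inv_cancel₀ hγ, one_smul]
    simp only [torus, proj, sub_mul, add_mul, one_mul, mul_sub, mul_add, mul_one, smul_mul_assoc, mul_smul_comm,
      mul_assoc, tg, ← hg1t, sgs, sgs', hpair.tt, hpair.ss, r1, r2, r3, r4, r5, r6, mul_zero, smul_zero, smul_add,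
      smul_sub, smul_smul, add_zero, sub_zero, mul_inv_cancel₀ hγ, one_smul]
    abel

end Cfsg.Agent.Spor.Flavell
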