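import Mathlib

/-!
An alternating equivariant form on a module which is simple for a group `U` of isometries together
with a `p`-group `P` normalising it: an element of `P` which is quadratic on the vectors singular for
`P` fixes all values of the form. The reason is that the commutant of `U` is a finite commutative
reduced ring, on whose self-adjoint part a quadratic automorphism is trivial.
-/

set_option autoImplicit false
set_option linter.unusedSectionVars false

namespace Cfsg.Agent.Spor.Flavell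

universe u

theorem ideal_span_twoSided {F : Type u} [Ring F] {e : F} (he : ∀ x, e * x = x * e) :
    (Ideal.span {e}).IsTwoSided := by
  refine ⟨fun {a} r ha => ?_⟩
  obtain ⟨c, rfl⟩ := Ideal.mem_span_singleton'.1 ha
  exact Ideal.mem_span_singleton'.2 ⟨c * r, by rw [mul_assoc, ← he, ← mul_assoc]⟩

/-- A finite ring without nilpotent elements is commutative. -/
theorem comm_of_reduced : ∀ (n : ℕ) (F : Type u) [Ring F] [Finite F], Nat.card F = n →
    (∀ a : F, a * a = 0 → a = 0) → ∀ a c : F, a * c = c * a := by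
  intro n
  induction n using Nat.strong_induction_on with
  | _ n ih =>
  intro F _ _ hn hred
  rcases subsingleton_or_nontrivial F with hs | hnt
  · exact fun a c => Subsingleton.elim _ _
  by_cases hz : ∀ a b : F, a * b = 0 → a = 0 ∨ b = 0
  · haveI : NoZeroDivisors F := ⟨fun {a b} h => hz a b h⟩
    haveI : IsDomain F := NoZeroDivisors.to_isDomain F
    exact (Finite.isDomain_to_isField F).mul_comm
  push Not at hz
  obtain ⟨a, b, hab, ha, hb⟩ := hz
  haveI : IsReduced F := (isReduced_iff_pow_one_lt 2 one_lt_two).2 fun x hx => hred x (pow_two x ▸ hx)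
  -- an idempotent power of `a`
  obtain ⟨e, hee, he0, heb⟩ : ∃ e : F, e * e = e ∧ e ≠ 0 ∧ e * b = 0 := by
    obtain ⟨i, j, hne, hij⟩ := Finite.exists_ne_map_eq_of_infinite (fun k : ℕ => a ^ k)
    wlog hlt : i < j generalizing i j
    · exact this j i hne.symm hij.symm (by omega)
    obtain ⟨d, hd, rfl⟩ : ∃ d, 0 < d ∧ j = i + d := ⟨j - i, by omega, by omega⟩
    have hper : ∀ t m, i ≤ m → a ^ (m + t * d) = a ^ m := by
      intro t
      induction t with
      | zero => intros; simp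
      | succ t iht =>
        intro m hm
        obtain ⟨s, rfl⟩ := Nat.exists_eq_add_of_le hm
        rw [show i + s + (t + 1) * d = i + d + (s + t * d) by ring, pow_add, ← hij, ← pow_add,
          show i + (s + t * d) = i + s + t * d by ring, iht _ hm]
    have hle : i + 1 ≤ (i + 1) * d := Nat.le_mul_of_pos_right _ hd
    refine ⟨a ^ ((i + 1) * d), ?_, fun h => ha (IsNilpotent.eq_zero ⟨_, h⟩), ?_⟩
    · rw [← pow_add, hper _ _ (by omega)]
    · obtain ⟨k, hk⟩ : ∃ k, (i + 1) * d = k + 1 := ⟨(i + 1) * d - 1, by omega⟩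
      rw [hk, pow_succ, mul_assoc, hab, mul_zero]
  have he1 : e ≠ 1 := fun h => hb (by rwa [h, one_mul] at heb)
  have hcen : ∀ x, e * x = x * e := by
    intro x
    have h0 : ∀ y : F, (1 - e) * e * y = 0 := fun y => by rw [sub_mul, one_mul, hee, sub_self, zero_mul]
    have h0' : ∀ y : F, e * (1 - e) * y = 0 := fun y => by rw [mul_sub, mul_one, hee, sub_self, zero_mul]
    have h1 : e * x * (1 - e) = 0 := hred _ (by
      rw [show e * x * (1 - e) * (e * x * (1 - e)) = e * x * ((1 - e) * e * (x * (1 - e))) by noncomm_ring, h0,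
        mul_zero])
    have h2 : (1 - e) * x * e = 0 := hred _ (by
      rw [show (1 - e) * x * e * ((1 - e) * x * e) = (1 - e) * x * (e * (1 - e) * (x * e)) by noncomm_ring, h0',
        mul_zero])
    calc e * x = e * x * (1 - e) + e * x * e := by noncomm_ring
      _ = (1 - e) * x * e + e * x * e := by rw [h1, h2]
      _ = x * e := by noncomm_ring
  have hcen' : ∀ x, (1 - e) * x = x * (1 - e) := fun x => by rw [sub_mul, mul_sub, one_mul, mul_one, hcen]
  have key : ∀ f : F, f ≠ 0 → (∀ x, f * x = x * f) → f * f = f → ∀ a c : F, (a * c - c * a) * (1 - f) = 0 := by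
    intro f hf0 hfc hff a c
    haveI := ideal_span_twoSided hfc
    have hlt : Nat.card (F ⧸ Ideal.span {f}) < n := by
      rw [← hn]
      refine lt_of_le_of_ne (Nat.card_le_card_of_surjective _ Ideal.Quotient.mk_surjective) fun h => hf0 ?_
      have hb' := (Nat.bijective_iff_surjective_and_card _).2 ⟨Ideal.Quotient.mk_surjective (I := Ideal.span {f}), h.symm⟩
      refine hb'.1 ?_
      rw [map_zero, Ideal.Quotient.eq_zero_iff_mem]
      exact Ideal.subset_span rfl
    haveI : Finite (F ⧸ Ideal.span {f}) := Finite.of_surjective _ Ideal.Quotient.mk_surjective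
    have hmul : ∀ y, y ∈ Ideal.span ({f} : Set F) → y * (1 - f) = 0 := fun y hy => by
      obtain ⟨w, rfl⟩ := Ideal.mem_span_singleton'.1 hy
      rw [mul_assoc, mul_sub, mul_one, hff, sub_self, mul_zero]
    have hred' : ∀ q : F ⧸ Ideal.span {f}, q * q = 0 → q = 0 := fun q => by
      obtain ⟨x, rfl⟩ := Ideal.Quotient.mk_surjective q
      intro hq
      rw [← map_mul, Ideal.Quotient.eq_zero_iff_mem] at hq
      have hx : x * (1 - f) = 0 := hred _ (by
        have hf' : (1 - f) * x = x * (1 - f) := by rw [sub_mul, mul_sub, one_mul, mul_one, hfc]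
        rw [mul_assoc, ← mul_assoc (1 - f), hf', ← mul_assoc, ← mul_assoc, hmul _ hq, zero_mul])
      rw [Ideal.Quotient.eq_zero_iff_mem]
      refine Ideal.mem_span_singleton'.2 ⟨x, ?_⟩
      rw [mul_sub, mul_one, sub_eq_zero] at hx
      exact hx.symm
    refine hmul _ ?_
    rw [← Ideal.Quotient.eq_zero_iff_mem, map_sub, map_mul, map_mul,
      ih _ hlt (F ⧸ Ideal.span {f}) rfl hred' (Ideal.Quotient.mk _ a) (Ideal.Quotient.mk _ c), sub_self]
  intro a c
  have h1 := key e he0 hcen hee a c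
  have h2 := key (1 - e) (sub_ne_zero.2 he1.symm) hcen'
    (by rw [mul_sub, mul_one, sub_mul, one_mul, hee, sub_self, sub_zero]) a c
  rw [sub_sub_cancel] at h2
  rw [mul_sub, mul_one, h2, sub_zero] at h1
  exact sub_eq_zero.1 h1

/-- A nontrivial action of a `p`-group on a set of size divisible by `p` fixing a point fixes another. -/
theorem exists_fixed_ne {P α : Type*} [Group P] [MulAction P α] [Finite α] {p : ℕ} [Fact p.Prime]
    (hP : IsPGroup p P) (hα : p ∣ Nat.card α) (a : α) (ha : ∀ y : P, y • a = a) :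
    ∃ c : α, (∀ y : P, y • c = c) ∧ c ≠ a := by
  obtain ⟨c, hc, hne⟩ := hP.exists_fixed_point_of_prime_dvd_card_of_fixed_point α hα (a := a) ha
  exact ⟨c, hc, hne.symm⟩

/-- A nonzero finite group of exponent `p` has order divisible by `p`. -/
theorem dvd_card_of_smul_zero {A : Type*} [AddCommGroup A] [Finite A] {p : ℕ} [Fact p.Prime]
    (h : ∀ a : A, p • a = 0) {a : A} (ha : a ≠ 0) : p ∣ Nat.card A :=
  addOrderOf_eq_prime (h a) ha ▸ addOrderOf_dvd_natCard a

theorem eq_zero_of_two_smul {A : Type*} [AddCommGroup A] {p : ℕ} [Fact p.Prime] (hp : p ≠ 2)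
    (h : ∀ a : A, p • a = 0) {a : A} (ha : a + a = 0) : a = 0 := by
  rw [← AddMonoid.addOrderOf_eq_one_iff]
  refine Nat.eq_one_of_dvd_coprimes ((Nat.coprime_primes (Fact.out : p.Prime) Nat.prime_two).2 hp)
    (addOrderOf_dvd_of_nsmul_eq_zero (h a)) (addOrderOf_dvd_of_nsmul_eq_zero (show 2 • a = 0 by rw [two_nsmul, ha]))

/-- A finite group of exponent `p` is as large as its dual. -/
theorem card_dual (p : ℕ) [Fact p.Prime] (A : Type*) [AddCommGroup A] [Finite A] (h : ∀ a : A, p • a = 0) :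
    Nat.card A = Nat.card (A →+ ZMod p) := by
  suffices ∀ [Module (ZMod p) A], Nat.card A = Nat.card (A →+ ZMod p) from @this (AddCommGroup.zmodModule h)
  intro _
  classical
  have e : (A →+ ZMod p) ≃ Module.Dual (ZMod p) A :=
    { toFun := fun g => g.toZModLinearMap p
      invFun := fun g => g.toAddMonoidHom
      left_inv := fun g => AddMonoidHom.ext fun _ => rfl
      right_inv := fun g => LinearMap.ext fun _ => rfl }
  rw [Nat.card_congr e]
  exact Nat.card_congr ((Module.Free.chooseBasis (ZMod p) A).toDualEquiv).toEquiv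

/-- An element of `P` quadratic on the singular vectors fixes the values of the form. -/
theorem values_fixed {p : ℕ} [Fact p.Prime] (hp : p ≠ 2) {P M Z 𝕌 : Type*} [Group P] [Finite P]
    [AddCommGroup M] [Finite M] [AddCommGroup Z] [Finite Z] [DistribMulAction P M] [DistribMulAction P Z]
    (hP : IsPGroup p P) (hpM : ∀ m : M, p • m = 0) (hpZ : ∀ z : Z, p • z = 0)
    (ρ : 𝕌 → AddMonoid.End M) (hUP : ∀ (y : P) i, ∃ j, ∀ m, y • ρ i (y⁻¹ • m) = ρ j m)
    (hsimple : ∀ H : AddSubgroup M, (∀ i, ∀ m ∈ H, ρ i m ∈ H) → (∀ y : P, ∀ m ∈ H, y • m ∈ H) → H = ⊥ ∨ H = ⊤)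
    (b : M →+ M →+ Z) (halt : ∀ m, b m m = 0) (hbU : ∀ i s t, b (ρ i s) (ρ i t) = b s t)
    (hbP : ∀ (y : P) s t, b (y • s) (y • t) = y • b s t) (hnd : ∀ s, (∀ t, b s t = 0) → s = 0)
    {x : P} (hx : ∀ s : M, (∀ y : P, b (y • s) s = 0) → x • (x • s - s) = x • s - s) :
    ∀ s t : M, x • b s t = b s t := by
  intro s₀ t₀
  rcases subsingleton_or_nontrivial M with hs | hnt
  · rw [Subsingleton.elim s₀ 0, map_zero, AddMonoidHom.zero_apply, smul_zero]
  haveI : Finite (AddMonoid.End M) := Finite.of_injective (fun φ : AddMonoid.End M => (φ : M → M)) DFunLike.coe_injective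
  -- the commutant
  obtain ⟨F, hF⟩ : ∃ F : Subring (AddMonoid.End M), ∀ φ, φ ∈ F ↔ ∀ i m, φ (ρ i m) = ρ i (φ m) :=
    ⟨Subring.centralizer (Set.range ρ), fun φ => by
      rw [Subring.mem_centralizer_iff, Set.forall_mem_range]
      exact forall_congr' fun i => ⟨fun h m => (DFunLike.congr_fun h m).symm,
        fun h => DFunLike.ext _ _ fun m => (h m).symm⟩⟩
  let σ : P → AddMonoid.End M → AddMonoid.End M := fun y φ =>
    { toFun := fun m => y • φ (y⁻¹ • m)
      map_zero' := by rw [smul_zero, map_zero, smul_zero]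
      map_add' := fun a c => by rw [smul_add, map_add, smul_add] }
  have hσ : ∀ y φ m, σ y φ m = y • φ (y⁻¹ • m) := fun _ _ _ => rfl
  have hσF : ∀ y φ, φ ∈ F → σ y φ ∈ F := by
    intro y φ hφ
    rw [hF] at hφ ⊢
    intro i m
    obtain ⟨j, hj⟩ := hUP y⁻¹ i
    simp only [inv_inv] at hj
    have h1 : y⁻¹ • ρ i m = ρ j (y⁻¹ • m) := by rw [← hj, smul_inv_smul]
    rw [hσ, hσ, h1, hφ, ← hj, smul_inv_smul]
  letI : MulAction P F :=
    { smul := fun y φ => ⟨σ y φ, hσF y φ φ.2⟩
      one_smul := fun φ => Subtype.ext (DFunLike.ext _ _ fun m => by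
        show (1 : P) • (φ : AddMonoid.End M) ((1 : P)⁻¹ • m) = _
        rw [inv_one, one_smul, one_smul])
      mul_smul := fun y y' φ => Subtype.ext (DFunLike.ext _ _ fun m => by
        show (y * y') • (φ : AddMonoid.End M) ((y * y')⁻¹ • m) = y • (y' • (φ : AddMonoid.End M) (y'⁻¹ • (y⁻¹ • m)))
        rw [mul_inv_rev, mul_smul, mul_smul]) }
  have hsm : ∀ (y : P) (φ : F) m, ((y • φ : F) : AddMonoid.End M) m = y • (φ : AddMonoid.End M) (y⁻¹ • m) :=
    fun _ _ _ => rfl
  have hzero : ∀ y : P, y • (0 : F) = 0 := fun y => Subtype.ext (DFunLike.ext _ _ fun m => by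
    rw [hsm]; exact smul_zero y)
  have hFU : ∀ (φ : F) i m, (φ : AddMonoid.End M) (ρ i m) = ρ i ((φ : AddMonoid.End M) m) := fun φ =>
    (hF _).1 φ.2
  have hpF : ∀ φ : F, p • φ = 0 := fun φ => Subtype.ext (DFunLike.ext _ _ fun m => by
    show p • ((φ : AddMonoid.End M) m) = 0
    exact hpM _)
  -- fixed elements of the commutant are invertible
  have hfix : ∀ φ : F, (∀ y : P, y • φ = φ) → φ ≠ 0 → IsUnit φ := by
    intro φ hφ hφ0
    have hker : Function.Injective ((φ : AddMonoid.End M) : M → M) := by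
      obtain ⟨H, hH⟩ : ∃ H : AddSubgroup M, ∀ m, m ∈ H ↔ (φ : AddMonoid.End M) m = 0 :=
        ⟨AddMonoidHom.ker (φ : AddMonoid.End M), fun _ => Iff.rfl⟩
      have hbot : H = ⊥ := by
        refine (hsimple H (fun i m hm => ?_) (fun y m hm => ?_)).resolve_right fun h => hφ0 ?_
        · rw [hH, hFU, (hH m).1 hm, map_zero]
        · rw [hH, ← hφ y, hsm, inv_smul_smul, (hH m).1 hm, smul_zero]
        · exact Subtype.ext (DFunLike.ext _ _ fun m => (hH m).1 (h.ge (AddSubgroup.mem_top m)))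
      intro a c h
      refine sub_eq_zero.1 (AddSubgroup.mem_bot.1 (hbot ▸ (hH _).2 ?_))
      rw [map_sub, h, sub_self]
    have hinj : Function.Injective fun ψ : F => φ * ψ := fun ψ ψ' h => Subtype.ext (DFunLike.ext _ _ fun m =>
      hker (DFunLike.congr_fun (congrArg Subtype.val h) m))
    obtain ⟨ψ, hψ⟩ := (Finite.injective_iff_surjective.1 hinj) 1
    exact IsUnit.of_mul_eq_one _ hψ
  -- the commutant has no nilpotent elements
  have hred : ∀ φ : F, φ * φ = 0 → φ = 0 := by
    intro φ hφ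
    by_contra hφ0
    have hpow : ∀ k : ℕ, (1 + φ) ^ k = 1 + k • φ := by
      intro k
      induction k with
      | zero => simp
      | succ k ihk => rw [pow_succ, ihk, mul_add, mul_one, add_mul, one_mul, smul_mul_assoc, hφ, smul_zero,
          add_zero, add_assoc, ← succ_nsmul]
    haveI : Nontrivial F := ⟨⟨φ, 0, hφ0⟩⟩
    obtain ⟨u, hu⟩ : IsUnit (1 + φ) := ⟨⟨1 + φ, (1 + φ) ^ (p - 1),
      by rw [← pow_succ', Nat.sub_add_cancel (Fact.out : p.Prime).one_le, hpow, hpF, add_zero],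
      by rw [← pow_succ, Nat.sub_add_cancel (Fact.out : p.Prime).one_le, hpow, hpF, add_zero]⟩, rfl⟩
    have hup : u ^ p = 1 := Units.ext (by rw [Units.val_pow_eq_pow_val, hu, hpow, hpF, add_zero, Units.val_one])
    have hu1 : u ≠ 1 := fun h => hφ0 (by rwa [h, Units.val_one, left_eq_add] at hu)
    have hdu : p ∣ Nat.card Fˣ := orderOf_eq_prime hup hu1 ▸ orderOf_dvd_natCard u
    have hdF : p ∣ Nat.card F := dvd_card_of_smul_zero hpF hφ0
    letI : MulAction P {ψ : F // ¬ IsUnit ψ} :=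
      { smul := fun y ψ => ⟨y • ψ.1, fun hu => ψ.2 (by
          obtain ⟨v, hv⟩ := hu
          have h1 : ∀ z : P, z • (1 : F) = 1 := fun z => Subtype.ext (DFunLike.ext _ _ fun m => by
            rw [hsm]; exact smul_inv_smul z m)
          have hm : ∀ (z : P) (α β : F), z • (α * β) = (z • α) * (z • β) := fun z α β =>
            Subtype.ext (DFunLike.ext _ _ fun m => by
              show z • (α : AddMonoid.End M) ((β : AddMonoid.End M) (z⁻¹ • m)) =
                z • (α : AddMonoid.End M) (z⁻¹ • (z • (β : AddMonoid.End M) (z⁻¹ • m)))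
              rw [inv_smul_smul])
          refine ⟨⟨ψ.1, y⁻¹ • ((v⁻¹ : Fˣ) : F), ?_, ?_⟩, rfl⟩
          · rw [← inv_smul_smul y ψ.1, ← hm, ← hv, Units.mul_inv, h1]
          · rw [← inv_smul_smul y ψ.1, ← hm, ← hv, Units.inv_mul, h1])⟩
        one_smul := fun ψ => Subtype.ext (one_smul P ψ.1)
        mul_smul := fun y y' ψ => Subtype.ext (mul_smul y y' ψ.1) }
    have hdN : p ∣ Nat.card {ψ : F // ¬ IsUnit ψ} := by
      have hc : Nat.card {ψ : F // IsUnit ψ} = Nat.card Fˣ := (Nat.card_congr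
        (Equiv.ofBijective (fun v : Fˣ => (⟨(v : F), v.isUnit⟩ : {ψ : F // IsUnit ψ}))
          ⟨fun v w h => Units.ext (congrArg Subtype.val h), fun ψ => ⟨ψ.2.unit, Subtype.ext rfl⟩⟩)).symm
      classical
      rw [← Nat.card_congr (Equiv.sumCompl (fun ψ : F => IsUnit ψ)), Nat.card_sum, hc] at hdF
      exact (Nat.dvd_add_right hdu).1 hdF
    obtain ⟨⟨ψ, hψ⟩, hψf, hψ0⟩ := exists_fixed_ne hP hdN ⟨0, not_isUnit_zero⟩ fun y => Subtype.ext (hzero y)
    exact hψ (hfix ψ (fun y => congrArg Subtype.val (hψf y)) fun h => hψ0 (Subtype.ext h))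
  have hcomm : ∀ a c : F, a * c = c * a := comm_of_reduced _ F rfl hred
  have hcommm : ∀ (a c : F) m, (a : AddMonoid.End M) ((c : AddMonoid.End M) m) =
      (c : AddMonoid.End M) ((a : AddMonoid.End M) m) := fun a c m =>
    DFunLike.congr_fun (congrArg Subtype.val (hcomm a c)) m
  -- a nonzero fixed vector generates
  obtain ⟨m₁, hm₁⟩ := exists_ne (0 : M)
  obtain ⟨l, hlfix, hl0⟩ := exists_fixed_ne hP (dvd_card_of_smul_zero hpM hm₁) (0 : M) fun y : P => smul_zero y
  have hcyc : ∀ a : F, (a : AddMonoid.End M) l = 0 → a = 0 := by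
    intro a ha
    obtain ⟨H, hH⟩ : ∃ H : AddSubgroup M, ∀ m, m ∈ H ↔ ∀ y : P, ((y • a : F) : AddMonoid.End M) m = 0 :=
      ⟨⨅ y : P, AddMonoidHom.ker ((y • a : F) : AddMonoid.End M), fun m =>
        AddSubgroup.mem_iInf.trans (forall_congr' fun y => Iff.rfl)⟩
    rcases hsimple H (fun i m hm => (hH _).2 fun y => by rw [hFU, (hH m).1 hm y, map_zero])
      (fun z m hm => (hH _).2 fun y => by
        rw [show y = z * (z⁻¹ * y) by group, mul_smul, hsm, inv_smul_smul, (hH m).1 hm, smul_zero]) with h | h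
    · exact absurd ((AddSubgroup.mem_bot).1 (h ▸ (hH l).2 fun y => by
        rw [hsm, hlfix, ha, smul_zero])) hl0
    · refine Subtype.ext (DFunLike.ext _ _ fun m => ?_)
      have := (hH m).1 (h ▸ AddSubgroup.mem_top m) 1
      rwa [one_smul] at this
  -- functionals on `Z`
  letI : Module (ZMod p) M := AddCommGroup.zmodModule hpM
  letI : Module (ZMod p) Z := AddCommGroup.zmodModule hpZ
  by_cases hb0 : ∀ s t, b s t = 0
  · rw [hb0, smul_zero]
  haveI : Finite (M →+ M →+ ZMod p) :=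
    Finite.of_injective (fun g : M →+ M →+ ZMod p => fun (s t : M) => g s t) fun g g' h =>
      AddMonoidHom.ext fun s => AddMonoidHom.ext fun t => congrFun (congrFun h s) t
  obtain ⟨Φ, hΦ⟩ : ∃ Φ : AddSubgroup (M →+ M →+ ZMod p), ∀ g, g ∈ Φ ↔
      ∃ ψ : Z →+ ZMod p, ∀ s t, g s t = ψ (b s t) :=
    ⟨{ carrier := {g | ∃ ψ : Z →+ ZMod p, ∀ s t, g s t = ψ (b s t)}
       zero_mem' := ⟨0, fun _ _ => rfl⟩
       add_mem' := fun ⟨ψ, h⟩ ⟨ψ', h'⟩ => ⟨ψ + ψ', fun s t => by
        rw [AddMonoidHom.add_apply, AddMonoidHom.add_apply, h, h', AddMonoidHom.add_apply]⟩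
       neg_mem' := fun ⟨ψ, h⟩ => ⟨-ψ, fun s t => by
        rw [AddMonoidHom.neg_apply, AddMonoidHom.neg_apply, h, AddMonoidHom.neg_apply]⟩ }, fun _ => Iff.rfl⟩
  let act : P → (M →+ M →+ ZMod p) → (M →+ M →+ ZMod p) := fun y g =>
    AddMonoidHom.mk' (fun s => AddMonoidHom.mk' (fun t => g (y⁻¹ • s) (y⁻¹ • t))
      fun a c => by rw [smul_add, map_add])
      fun a c => AddMonoidHom.ext fun t => by simp [smul_add]
  have hact : ∀ y g, g ∈ Φ → act y g ∈ Φ := by
    intro y g hg
    obtain ⟨ψ, hψ⟩ := (hΦ g).1 hg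
    refine (hΦ _).2 ⟨ψ.comp (DistribSMul.toAddMonoidHom Z y⁻¹), fun s t => ?_⟩
    show g (y⁻¹ • s) (y⁻¹ • t) = ψ (y⁻¹ • b s t)
    rw [hψ, hbP]
  letI : MulAction P Φ :=
    { smul := fun y g => ⟨act y g, hact y g g.2⟩
      one_smul := fun g => Subtype.ext (AddMonoidHom.ext fun s => AddMonoidHom.ext fun t => by
        show (g : M →+ M →+ ZMod p) ((1 : P)⁻¹ • s) ((1 : P)⁻¹ • t) = _
        rw [inv_one, one_smul, one_smul])
      mul_smul := fun y y' g => Subtype.ext (AddMonoidHom.ext fun s => AddMonoidHom.ext fun t => by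
        show (g : M →+ M →+ ZMod p) ((y * y')⁻¹ • s) ((y * y')⁻¹ • t) =
          (g : M →+ M →+ ZMod p) (y'⁻¹ • y⁻¹ • s) (y'⁻¹ • y⁻¹ • t)
        rw [mul_inv_rev, mul_smul, mul_smul]) }
  have hsep : ∀ z : Z, (∀ ψ : Z →+ ZMod p, ψ z = 0) → z = 0 := fun z hz =>
    (Module.Basis.ofVectorSpace (ZMod p) Z).forall_coord_eq_zero_iff.1 fun i =>
      hz ((Module.Basis.ofVectorSpace (ZMod p) Z).coord i).toAddMonoidHom
  obtain ⟨g₁, hg₁⟩ : ∃ g : Φ, g ≠ 0 := by
    push Not at hb0
    obtain ⟨s, t, hst⟩ := hb0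
    obtain ⟨ψ, hψ⟩ : ∃ ψ : Z →+ ZMod p, ψ (b s t) ≠ 0 := by
      by_contra hc; push Not at hc; exact hst (hsep _ hc)
    refine ⟨⟨AddMonoidHom.mk' (fun s => ψ.comp (b s)) fun a c => by simp [AddMonoidHom.comp_add],
      (hΦ _).2 ⟨ψ, fun _ _ => rfl⟩⟩, fun h => hψ ?_⟩
    exact DFunLike.congr_fun (DFunLike.congr_fun (congrArg Subtype.val h) s) t
  obtain ⟨⟨f, hf⟩, hffix, hf0⟩ := exists_fixed_ne hP (dvd_card_of_smul_zero (fun g : Φ => Subtype.ext
    (AddMonoidHom.ext fun s => AddMonoidHom.ext fun t => by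
      show (p • (g : M →+ M →+ ZMod p)) s t = 0
      rw [AddMonoidHom.nsmul_apply, AddMonoidHom.nsmul_apply, nsmul_eq_mul, ZMod.natCast_self, zero_mul])) hg₁)
    (0 : Φ) fun y => Subtype.ext (AddMonoidHom.ext fun s => AddMonoidHom.ext fun t => rfl)
  obtain ⟨ψ₀, hψ₀⟩ := (hΦ f).1 hf
  have hfU : ∀ i s t, f (ρ i s) (ρ i t) = f s t := fun i s t => by rw [hψ₀, hψ₀, hbU]
  have hfP : ∀ (y : P) s t, f (y • s) (y • t) = f s t := fun y s t => by
    have := DFunLike.congr_fun (DFunLike.congr_fun (congrArg Subtype.val (hffix y⁻¹)) s) t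
    change f ((y⁻¹)⁻¹ • s) ((y⁻¹)⁻¹ • t) = f s t at this
    rwa [inv_inv] at this
  have hfalt : ∀ s t, f t s = -f s t := fun s t => by
    have h := halt (s + t)
    simp only [map_add, AddMonoidHom.add_apply, halt, zero_add, add_zero] at h
    rw [hψ₀, hψ₀, eq_neg_of_add_eq_zero_left h, map_neg]
  have hfnd : Function.Injective f := by
    rw [← AddMonoidHom.ker_eq_bot_iff]
    refine (hsimple _ (fun i m hm => ?_) (fun y m hm => ?_)).resolve_right fun h => hf0 (Subtype.ext ?_)
    · rw [AddMonoidHom.mem_ker] at hm ⊢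
      refine AddMonoidHom.ext fun t => ?_
      obtain ⟨t', rfl⟩ : ∃ t', ρ i t' = t := (Finite.injective_iff_surjective.1 fun a c h => sub_eq_zero.1
        (hnd _ fun t => by rw [← hbU i, map_sub (ρ i), h, sub_self, map_zero, AddMonoidHom.zero_apply])) t
      rw [hfU, hm, AddMonoidHom.zero_apply, AddMonoidHom.zero_apply]
    · rw [AddMonoidHom.mem_ker] at hm ⊢
      refine AddMonoidHom.ext fun t => ?_
      rw [← smul_inv_smul y t, hfP, hm, AddMonoidHom.zero_apply, AddMonoidHom.zero_apply]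
    · refine AddMonoidHom.ext fun s => ?_
      have := h.ge (AddSubgroup.mem_top s)
      rw [AddMonoidHom.mem_ker] at this
      rw [this]; rfl
  have hρsurj : ∀ i, Function.Surjective (ρ i) := fun i => Finite.injective_iff_surjective.1 fun a c h =>
    sub_eq_zero.1 (hnd _ fun t => by rw [← hbU i, map_sub (ρ i), h, sub_self, map_zero, AddMonoidHom.zero_apply])
  haveI : Finite (M →+ ZMod p) := Finite.of_injective (fun g : M →+ ZMod p => (g : M → ZMod p)) DFunLike.coe_injective
  have hfbij : Function.Bijective f := by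
    refine (Nat.bijective_iff_injective_and_card _).2 ⟨hfnd, ?_⟩
    exact card_dual p M hpM
  -- every form is given by the commutant
  have hrep : ∀ ψ : Z →+ ZMod p, ∃ c : F, ∀ s t, ψ (b s t) = f ((c : AddMonoid.End M) s) t := by
    intro ψ
    choose lam hlam using fun s => hfbij.2 (ψ.comp (b s))
    have hl : ∀ s t, f (lam s) t = ψ (b s t) := fun s t => DFunLike.congr_fun (hlam s) t
    refine ⟨⟨AddMonoidHom.mk' lam fun a c => hfnd ?_, (hF _).2 fun i s => hfnd ?_⟩, fun s t => (hl s t).symm⟩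
    · refine AddMonoidHom.ext fun t => ?_
      simp [map_add, hl]
    · refine AddMonoidHom.ext fun t => ?_
      obtain ⟨t, rfl⟩ := hρsurj i t
      show f (lam (ρ i s)) (ρ i t) = f (ρ i (lam s)) (ρ i t)
      rw [hl, hfU, hl, hbU]
  obtain ⟨SA, hSA⟩ : ∃ SA : Set F, ∀ c : F, c ∈ SA ↔
      ∀ s t, f ((c : AddMonoid.End M) s) t = f s ((c : AddMonoid.End M) t) :=
    ⟨{c | ∀ s t, f ((c : AddMonoid.End M) s) t = f s ((c : AddMonoid.End M) t)}, fun _ => Iff.rfl⟩
  have hrepS : ∀ (ψ : Z →+ ZMod p) (c : F), (∀ s t, ψ (b s t) = f ((c : AddMonoid.End M) s) t) → c ∈ SA := by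
    intro ψ c hc
    refine (hSA c).2 fun s t => ?_
    have h := halt (s + t)
    simp only [map_add, AddMonoidHom.add_apply, halt, zero_add, add_zero] at h
    rw [hfalt ((c : AddMonoid.End M) t) s, ← hc, ← hc, eq_neg_of_add_eq_zero_left h, map_neg, neg_neg]
  have hSAP : ∀ (y : P) (c : F), c ∈ SA → y • c ∈ SA := by
    intro y c hc
    refine (hSA _).2 fun s t => ?_
    rw [hsm, hsm, ← smul_inv_smul y t, hfP, (hSA c).1 hc]
    conv_rhs => rw [← smul_inv_smul y s, hfP, inv_smul_smul]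
  -- the singular vectors
  have hsing : ∀ a : F, a ∈ SA → ∀ y : P, b (y • (a : AddMonoid.End M) l) ((a : AddMonoid.End M) l) = 0 := by
    intro a ha y
    refine hsep _ fun ψ => ?_
    obtain ⟨c, hc⟩ := hrep ψ
    have hcS := hrepS ψ c hc
    have e : y • (a : AddMonoid.End M) l = ((y • a : F) : AddMonoid.End M) l := by
      rw [hsm, hlfix]
    obtain ⟨d, hd⟩ : ∃ d : F, d = a * c * (y • a) := ⟨_, rfl⟩
    have hdl : ψ (b (y • (a : AddMonoid.End M) l) ((a : AddMonoid.End M) l)) = f ((d : AddMonoid.End M) l) l := by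
      rw [hc, e, ← (hSA a).1 ha, hd]
      rfl
    have hdS : f ((d : AddMonoid.End M) l) l = f l ((d : AddMonoid.End M) l) := by
      rw [hd]
      show f ((a : AddMonoid.End M) ((c : AddMonoid.End M) (((y • a : F) : AddMonoid.End M) l))) l = f l
        ((a : AddMonoid.End M) ((c : AddMonoid.End M) (((y • a : F) : AddMonoid.End M) l)))
      rw [(hSA a).1 ha, (hSA c).1 hcS, (hSA _).1 (hSAP y a ha),
        hcommm (y • a) c, hcommm (y • a) a, hcommm c a]
    rw [hdl]
    rw [hfalt ((d : AddMonoid.End M) l) l] at hdS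
    exact eq_zero_of_two_smul hp (fun z => by rw [nsmul_eq_mul, ZMod.natCast_self, zero_mul])
      (eq_neg_iff_add_eq_zero.1 hdS)
  -- the element acts trivially on the self-adjoint part
  have hsub : ∀ a c : F, x • (a - c) = x • a - x • c := fun a c => Subtype.ext (DFunLike.ext _ _ fun m => by
    show x • ((a : AddMonoid.End M) (x⁻¹ • m) - (c : AddMonoid.End M) (x⁻¹ • m)) = _
    rw [smul_sub]; rfl)
  have hmul : ∀ a c : F, x • (a * c) = (x • a) * (x • c) := fun a c => Subtype.ext (DFunLike.ext _ _ fun m => by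
    show x • (a : AddMonoid.End M) ((c : AddMonoid.End M) (x⁻¹ • m)) =
      x • (a : AddMonoid.End M) (x⁻¹ • (x • (c : AddMonoid.End M) (x⁻¹ • m)))
    rw [inv_smul_smul])
  have hδ2 : ∀ a : F, a ∈ SA → x • (x • a - a) = x • a - a := by
    intro a ha
    have h := hx _ (hsing a ha)
    have e : ∀ c : F, x • (c : AddMonoid.End M) l = ((x • c : F) : AddMonoid.End M) l := fun c => by
      rw [hsm]; conv_rhs => rw [show x⁻¹ • l = l from hlfix x⁻¹]
    rw [e] at h
    refine sub_eq_zero.1 (hcyc _ ?_)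
    show ((x • (x • a - a) : F) : AddMonoid.End M) l - (((x • a : F) : AddMonoid.End M) l - (a : AddMonoid.End M) l) = 0
    rw [← e, ← h]
    exact sub_self _
  have hmem : ∀ a c : F, a ∈ SA → c ∈ SA → a * c ∈ SA := fun a c ha hc => (hSA _).2 fun s t => by
    show f ((a : AddMonoid.End M) ((c : AddMonoid.End M) s)) t = f s ((a : AddMonoid.End M) ((c : AddMonoid.End M) t))
    rw [(hSA a).1 ha, (hSA c).1 hc, hcommm c a]
  have htriv : ∀ a : F, a ∈ SA → x • a = a := by
    intro a ha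
    obtain ⟨δ, hδ⟩ : ∃ δ, δ = x • a - a := ⟨_, rfl⟩
    have h1 : x • a = a + δ := by rw [hδ, add_sub_cancel]
    have h2 : x • δ = δ := hδ ▸ hδ2 a ha
    have h3 := hδ2 _ (hmem a a ha ha)
    rw [hsub, hmul, hmul, h1] at h3
    have h4 : x • (a + δ) = a + δ + δ := by
      rw [← h1]
      have := h2
      rw [hδ, hsub, ← hδ] at this
      rw [sub_eq_iff_eq_add.1 this, h1]
      abel
    rw [h4] at h3
    have h5 : δ * δ + δ * δ = 0 := by
      calc δ * δ + δ * δ = ((a + δ + δ) * (a + δ + δ) - (a + δ) * (a + δ)) - ((a + δ) * (a + δ) - a * a) := by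
            noncomm_ring
        _ = 0 := sub_eq_zero.2 h3
    rw [h1, hred δ (eq_zero_of_two_smul hp hpF h5), add_zero]
  -- conclusion
  refine (sub_eq_zero.1 (hsep _ fun ψ => ?_))
  obtain ⟨c, hc⟩ := hrep ψ
  rw [map_sub, sub_eq_zero, ← hbP, hc, hc]
  conv_lhs => rw [← htriv c (hrepS ψ c hc)]
  rw [hsm, inv_smul_smul, hfP]

end Cfsg.Agent.Spor.Flavell
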