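import Mathlib
import Cfsg.Agent.Lib.Fus.QuadPairSplitting

/-!
A root element pinned under a quadratic element that has some non-nilpotent anticommutator.
-/

set_option autoImplicit false
set_option linter.unusedSectionVars false

namespace Cfsg.Agent.Spor.Flavell

open Cfsg.Agent.Fus.QPair Cfsg.Agent.Fus.RingSL

universe u

variable {k : Type u} [Field k] {M : Type u} [AddCommGroup M] [Module k M] [FiniteDimensional k M]
  {G : Subgroup (LinearMap.GeneralLinearGroup k M)} {σ ρ : LinearMap.GeneralLinearGroup k M}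

local notation "End'" => Module.End k M
local notation "GLM" => LinearMap.GeneralLinearGroup k M

variable (hk2 : ringChar k ≠ 2) (hk3 : Nat.card k ≠ 3) (hG : UnipFree G)

include hk2 hk3 hG

/-- The part of `ρ` on the support of the anticommutator is a minimal element. -/
theorem exists_pinned (hρ : ρ ∈ Cfsg.quadraticElements G) (hσ : σ ∈ Cfsg.minimalQuadraticElements G)
    (hz : ¬ IsNilpotent (zz ((σ : End') - 1) ((ρ : End') - 1))) :
    ∃ g ∈ Cfsg.minimalQuadraticElements G, ∃ E : End', (g : End') - 1 = E * ((ρ : End') - 1) ∧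
      (g : End') - 1 = ((ρ : End') - 1) * E := by
  have hs := hσ.1.2.1.1
  have ht := hρ.2.1.1
  obtain ⟨E, q, h⟩ := exists_split hz
  have hle : famGroup ((σ : End') - 1) ((ρ : End') - 1) ≤ G := by
    rw [famGroup_eq, Subgroup.closure_le]
    exact Set.union_subset hσ.1.2.2 hρ.2.2
  obtain ⟨hEs, -⟩ := minimal_s hs ht h hk2 hk3 hle hσ.2
  obtain ⟨t, htd⟩ : ∃ t, t = (ρ : End') - 1 := ⟨_, rfl⟩
  obtain ⟨φ, hφ⟩ : ∃ φ, φ = phi hs ht h := ⟨_, rfl⟩
  have hEt : Commute E ((ρ : End') - 1) := E_comm h (zz_comm_right ht)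
  have hEsc : Commute E ((σ : End') - 1) := E_comm h (zz_comm_left hs)
  obtain ⟨g, hg⟩ : ∃ g, g = φ (low (1 * (zUnit h : AdjoinRoot q))) := ⟨_, rfl⟩
  have hge : (g : End') = 1 + E * t := by rw [hg, hφ, phi_low hs ht h, emb_one h, htd]
  have hEtt : E * t * (E * t) = 0 := by
    rw [htd, mul_assoc, ← mul_assoc ((ρ : End') - 1), ← hEt.eq, mul_assoc E ((ρ : End') - 1), ht, mul_zero, mul_zero]
  have hs0 : (σ : End') - 1 ≠ 0 := hσ.1.2.1.2
  have hfam : ∀ (c : k) (x : GLM), (x : End') = 1 + c • (E * t) → x ∈ G := by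
    intro c x hx
    refine (Units.ext (?_ : ((φ (low (algebraMap k (AdjoinRoot q) c * (zUnit h : AdjoinRoot q))) : GLM) : End') =
      (x : End'))) ▸ hle (hφ ▸ (phi_mem hs ht h hk2 hk3 _).2)
    rw [hφ, phi_low hs ht h, emb_algebraMap h, smul_mul_assoc, hx, htd]
  have hEt0 : E * t ≠ 0 := by
    intro e
    refine hz ?_
    have : E * zz ((σ : End') - 1) ((ρ : End') - 1) = 0 := by
      rw [zz, mul_add, ← mul_assoc, hEsc.eq, mul_assoc, ← htd, e, mul_zero, ← mul_assoc E t, e, zero_mul, add_zero]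
    exfalso
    exact hs0 (by
      have e2 := emb_inv_root hs ht h
      rw [← emb_E h, mul_assoc, this, mul_zero] at e2
      rw [← hEs, ← e2, zero_mul])
  have hrk : Module.finrank k (LinearMap.range (E * t)) ≤ Cfsg.commutatorRank σ := by
    obtain ⟨A, hA⟩ : ∃ A, A = emb (zz ((σ : End') - 1) ((ρ : End') - 1)) E (AdjoinRoot.root q) * mu _ _ h 1 0 :=
      ⟨_, rfl⟩
    have eEt : E * t = A := by
      rw [hA, show mu _ _ h 1 0 = emb (zz ((σ : End') - 1) ((ρ : End') - 1)) E ((zUnit h)⁻¹ : (AdjoinRoot q)ˣ).val *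
        ((ρ : End') - 1) from rfl, ← mul_assoc, ← emb_mul h, ← coe_zUnit h, Units.mul_inv, emb_one h, htd]
    have eA : A = A * mu _ _ h 0 1 * mu _ _ h 1 0 := by
      conv_lhs => rw [hA]
      rw [hA, mul_assoc (emb _ E _ * _), mu_mul hs ht h, if_pos rfl, mul_assoc, mu_mul hs ht h, if_pos rfl]
    rw [eEt, eA]
    refine le_trans (Submodule.finrank_mono (t := (rf σ).map A) ?_) (Submodule.finrank_map_le A _)
    rintro _ ⟨p, rfl⟩
    refine ⟨mu _ _ h 0 1 (mu _ _ h 1 0 p), ?_, rfl⟩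
    show mu _ _ h 0 1 _ ∈ LinearMap.range ((σ : End') - 1)
    rw [show mu ((σ : End') - 1) ((ρ : End') - 1) h 0 1 = E * ((σ : End') - 1) from rfl, hEs]
    exact ⟨_, rfl⟩
  obtain ⟨g', hg'e, hg'm, -⟩ := minimal_of_rank hEtt hEt0 hfam hσ hrk
  exact ⟨g', hg'm, E, by rw [hg'e, add_sub_cancel_left, htd], by rw [hg'e, add_sub_cancel_left, htd, hEt.eq]⟩

end Cfsg.Agent.Spor.Flavell
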