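import Mathlib
import Cfsg.Agent.Lib.Spor.FlavellBasics
import Cfsg.Agent.Lib.Spor.FlavellPinned
import Cfsg.Agent.Lib.Spor.FlavellChain

/-!
A linear group over `ZMod p`, `p ≥ 5`, without normal `p`-subgroups has no quadratic element lying in
every Sylow subgroup invariant under a coprime group of operators, by induction on the order.
-/

set_option autoImplicit false
set_option linter.unusedSectionVars false

namespace Cfsg.Agent.Spor.Flavell

open Cfsg.Agent Cfsg.Agent.Fus Cfsg.Agent.Fus.QFix Cfsg.Agent.Fus.QPair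
open scoped Pointwise

variable {p : ℕ} [Fact p.Prime] {V : Type} [AddCommGroup V] [Module (ZMod p) V] [Finite V]
  {L : Subgroup (LinearMap.GeneralLinearGroup (ZMod p) V)}

local notation "GLM" => LinearMap.GeneralLinearGroup (ZMod p) V
local notation "End'" => Module.End (ZMod p) V

theorem commute_iff_sub {x y : GLM} : x * y = y * x ↔ Commute ((x : End') - 1) ((y : End') - 1) := by
  rw [Units.ext_iff, Units.val_mul, Units.val_mul, Commute, SemiconjBy]
  constructor
  · intro h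
    simp only [sub_mul, mul_sub, one_mul, mul_one, h]
    abel
  · intro h
    simp only [sub_mul, mul_sub, one_mul, mul_one] at h
    linear_combination (norm := abel) h

theorem pow_eq_one_of_sq (hp : 5 ≤ p) {x : GLM} (h : ((x : End') - 1) * ((x : End') - 1) = 0) : x ^ p = 1 := by
  refine Units.ext ?_
  rw [Units.val_pow_eq_pow_val, show (x : End') = 1 + ((x : End') - 1) from (add_sub_cancel _ _).symm,
    one_add_pow_of_sq (p := p) h, ZMod.natCast_self, zero_smul, add_zero, Units.val_one]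

theorem isPGroup_zpowers {x : GLM} (h : x ^ p = 1) : IsPGroup p (Subgroup.zpowers x) := by
  rintro ⟨_, k, rfl⟩
  refine ⟨1, Subtype.ext ?_⟩
  show (x ^ k) ^ (p ^ 1) = 1
  rw [pow_one, ← zpow_natCast, ← zpow_mul, mul_comm, zpow_mul, zpow_natCast, h, one_zpow]

theorem no_quadratic (hp : 5 ≤ p) (L A : Subgroup GLM) (hnorm : A ≤ Subgroup.normalizer (L : Set GLM))
    (hcop : (Nat.card A).Coprime (Nat.card L)) (hO : opc p L = ⊥)
    (IH : ∀ R, R < L → A ≤ Subgroup.normalizer (R : Set GLM) → ∀ y ∈ R,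
      ((y : End') - 1) * ((y : End') - 1) = 0 → InP p R A y → y ∈ opc p R)
    {x : GLM} (hx2 : ((x : End') - 1) * ((x : End') - 1) = 0) (hx0 : (x : End') - 1 ≠ 0)
    (hxP : InP p L A x) : False := by
  classical
  obtain ⟨hk2, hk3⟩ := char_ne hp
  have h20 : (2 : ZMod p) ≠ 0 := (two_ne hp).1
  have hG : UnipFree L := unipFree fun N hN hNp hn => by
    rw [eq_bot_iff, ← hO]
    refine le_opc hN hNp fun g hg => Subgroup.mem_normalizer_iff.2 fun y => ⟨hn g hg y, fun hy => ?_⟩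
    have := hn g⁻¹ (L.inv_mem hg) _ hy
    rwa [inv_inv, show g⁻¹ * (g * y * g⁻¹) * g = y by group] at this
  have hxq : x ∈ Cfsg.quadraticElements L := mem_quadratic_iff.2 ⟨hxP.1, hx2, hx0⟩
  have hnormal : ∀ R, R ≤ L → R ≠ L → L ≤ Subgroup.normalizer (R : Set GLM) →
      A ≤ Subgroup.normalizer (R : Set GLM) → x ∉ R := by
    intro R hR hne hLn hAn hxR
    have h1 := IH R (lt_of_le_of_ne hR hne) hAn x hxR hx2 (hxP.restrict hnorm hcop hR hAn hxR)
    have h2 : opc p R ≤ opc p L :=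
      le_opc ((opc_le R).trans hR) (opc_isPGroup R) (hLn.trans (normalizer_le_opc R))
    rw [hO] at h2
    exact hx0 (by rw [Subgroup.mem_bot.1 (h2 h1), Units.val_one, sub_self])
  -- generation by quadratic elements
  have hquad : ∀ g ∈ Subgroup.normalizer (L : Set GLM), ∀ y ∈ Cfsg.quadraticElements L,
      g * y * g⁻¹ ∈ Cfsg.quadraticElements L := by
    intro g hg y hy
    obtain ⟨h1, h2, h3⟩ := mem_quadratic_iff.1 hy
    refine mem_quadratic_iff.2 ⟨(Subgroup.mem_normalizer_iff.1 hg y).1 h1, ?_, ?_⟩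
    · rw [UnipJoin.conj_sub_one, show (g : End') * ((y : End') - 1) * ((g⁻¹ : GLM) : End') *
        ((g : End') * ((y : End') - 1) * ((g⁻¹ : GLM) : End')) = (g : End') * (((y : End') - 1) *
        (((g⁻¹ : GLM) : End') * (g : End')) * ((y : End') - 1)) * ((g⁻¹ : GLM) : End') by simp only [mul_assoc],
        ← Units.val_mul, inv_mul_cancel, Units.val_one, mul_one, h2, mul_zero, zero_mul]
    · intro e
      rw [sub_eq_zero] at e
      refine h3 ?_
      have e' : g * y * g⁻¹ = 1 := Units.ext e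
      rw [mul_inv_eq_one, mul_eq_left] at e'
      rw [e', Units.val_one, sub_self]
  have hgen : Subgroup.closure (Cfsg.quadraticElements L) = L := by
    have hle : Subgroup.closure (Cfsg.quadraticElements L) ≤ L := (Subgroup.closure_le _).2 fun y hy => hy.1
    by_contra hne
    exact hnormal _ hle hne
      (le_normalizer_closure fun g hg y hy => Subgroup.subset_closure (hquad g (Subgroup.le_normalizer hg) y hy))
      (le_normalizer_closure fun g hg y hy => Subgroup.subset_closure (hquad g (hnorm hg) y hy))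
      (Subgroup.subset_closure hxq)
  -- the group of all roots
  obtain ⟨R0, hR0⟩ : ∃ R0, R0 = Subgroup.closure (Cfsg.minimalQuadraticElements L) := ⟨_, rfl⟩
  obtain ⟨C0, hC0⟩ : ∃ C0, C0 = L ⊓ Subgroup.centralizer (R0 : Set GLM) := ⟨_, rfl⟩
  have hR0n : ∀ H : Subgroup GLM, H ≤ Subgroup.normalizer (L : Set GLM) →
      H ≤ Subgroup.normalizer (R0 : Set GLM) := fun H hH => hR0 ▸
    le_normalizer_closure fun g hg y hy => Subgroup.subset_closure (conj_equivariant (hH hg) hy).1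
  have hnilC : ∀ ρ ∈ Cfsg.quadraticElements L, NilAll L ρ → ρ ∈ C0 := by
    intro ρ hρ hnil
    rw [hC0]
    refine ⟨hρ.1, ?_⟩
    have : R0 ≤ Subgroup.centralizer ({ρ} : Set GLM) := by
      rw [hR0, Subgroup.closure_le]
      intro π hπ
      refine Subgroup.mem_centralizer_singleton_iff.2 (commute_iff_sub.2 ?_)
      exact (commute_of_nilAll hk2 hk3 hG hρ hnil hπ (UnipJoin.sub_one_mem (self_mem_class hπ) :
        (π : End') - 1 ∈ rootSpace L π))
    exact Subgroup.mem_centralizer_iff.2 fun r hr => Subgroup.mem_centralizer_singleton_iff.1 (this hr)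
  have hsplit : L ≤ R0 ⊔ C0 := by
    conv_lhs => rw [← hgen]
    rw [Subgroup.closure_le]
    intro ρ hρ
    suffices h : ∀ n, ∀ ρ ∈ Cfsg.quadraticElements L, Cfsg.commutatorRank ρ = n → ρ ∈ R0 ⊔ C0 from h _ ρ hρ rfl
    intro n
    induction n using Nat.strong_induction_on with
    | _ n ih =>
    intro ρ hρ hn
    by_cases hnil : NilAll L ρ
    · exact Subgroup.mem_sup_right (hnilC ρ hρ hnil)
    simp only [NilAll, not_forall] at hnil
    obtain ⟨π, hπ, hz⟩ := hnil
    obtain ⟨g, hg, -, ρ', -, hρe, hρ', hlt, -⟩ := exists_split_quadratic hk2 hk3 hG hρ hπ hz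
    rw [hρe]
    refine mul_mem (Subgroup.mem_sup_left (hR0 ▸ Subgroup.subset_closure hg)) ?_
    rcases hρ' with h | h
    · rw [h]; exact one_mem _
    · exact ih _ (hn ▸ hlt) ρ' h rfl
  have hnil : ¬ NilAll L x := by
    intro hnil
    obtain ⟨π, hπ⟩ := exists_minimal ⟨x, hxq⟩
    obtain ⟨b, hb, hpb⟩ := exists_partner_any hp hG hπ
    refine hnormal C0 (hC0 ▸ inf_le_left) (fun e => hπ.1.2.1.2 ?_)
      (hC0 ▸ le_normalizer_inf_centralizer Subgroup.le_normalizer (hR0n L Subgroup.le_normalizer))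
      (hC0 ▸ le_normalizer_inf_centralizer hnorm (hR0n A hnorm)) (hnilC x hxq hnil)
    have hm : π ∈ C0 := e.symm ▸ hπ.1.1
    rw [hC0] at hm
    have hc : Commute ((b : End') - 1) ((π : End') - 1) :=
      commute_iff_sub.1 (Subgroup.mem_centralizer_iff.1 hm.2 b (hR0 ▸ Subgroup.subset_closure hb))
    rw [← hpb.sts, mul_assoc, hc.eq, ← mul_assoc, hpb.ss, zero_mul]
  simp only [NilAll, not_forall] at hnil
  obtain ⟨π, hπ, hz⟩ := hnil
  obtain ⟨g, hg, E, hgE, hgE'⟩ := exists_pinned hk2 hk3 hG hxq hπ hz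
  clear hz hπ π
  -- the component of the pinned root
  obtain ⟨s0, hs0⟩ : ∃ s0 : Set GLM, s0 = {ρ | ρ ∈ Cfsg.minimalQuadraticElements L ∧ RConj L g ρ} := ⟨_, rfl⟩
  obtain ⟨K, hK⟩ : ∃ K, K = Subgroup.closure s0 := ⟨_, rfl⟩
  have hgs : g ∈ s0 := hs0 ▸ ⟨hg, (EConj.refl g).rconj hg⟩
  have hgK : g ∈ K := hK ▸ Subgroup.subset_closure hgs
  have hKL : K ≤ L := hK ▸ (Subgroup.closure_le _).2 fun ρ hρ => by rw [hs0] at hρ; exact hρ.1.1.1
  have hLK : L ≤ Subgroup.normalizer (K : Set GLM) := hK ▸ le_normalizer_closure fun c hc ρ hρ => by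
    rw [hs0] at hρ ⊢
    refine Subgroup.subset_closure ⟨(conj_minimal hc hρ.1).1, hρ.2.trans ?_ hρ.1⟩
    exact EConj.rconj ⟨c, hc, rfl⟩ hρ.1
  have hKn : ∀ c ∈ L, ∀ n ∈ K, c * n * c⁻¹ ∈ K := fun c hc n hn =>
    (Subgroup.mem_normalizer_iff.1 (hLK hc) n).1 hn
  -- roots inside and outside the component
  have hout : ∀ ρ ∈ Cfsg.minimalQuadraticElements L, ¬ RConj L g ρ → ∀ k ∈ K, ρ * k = k * ρ := by
    intro ρ hρ hne
    have : K ≤ Subgroup.centralizer ({ρ} : Set GLM) := by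
      rw [hK, Subgroup.closure_le]
      intro π hπ
      rw [hs0] at hπ
      refine Subgroup.mem_centralizer_singleton_iff.2 (commute_iff_sub.2 ?_)
      exact (commute_of_not_rconj hp hG hπ.1 hρ fun h => hne (hπ.2.trans h hπ.1))
    exact fun k hk => (Subgroup.mem_centralizer_singleton_iff.1 (this hk)).symm
  have hrootK : ∀ ρ ∈ Cfsg.minimalQuadraticElements L, ρ ∈ K → RConj L g ρ := by
    intro ρ hρ hρK
    by_contra hne
    obtain ⟨b, hb, hpb⟩ := exists_partner_any hp hG hρ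
    have hc : Commute ((ρ : End') - 1) ((b : End') - 1) :=
      commute_iff_sub.1 (hout ρ hρ hne b (partner_mem hKn hρ hρK hb hpb))
    refine hρ.1.2.1.2 ?_
    rw [← hpb.sts, hc.eq, mul_assoc, hpb.ss, mul_zero]
  -- the operators fixing the component
  obtain ⟨A1, hA1⟩ : ∃ A1, A1 = A ⊓ Subgroup.normalizer (K : Set GLM) := ⟨_, rfl⟩
  have hA1A : A1 ≤ A := hA1 ▸ inf_le_left
  have hA1K : A1 ≤ Subgroup.normalizer (K : Set GLM) := hA1 ▸ inf_le_right
  have hA1L : A1 ≤ Subgroup.normalizer (L : Set GLM) := hA1A.trans hnorm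
  have hcop1 : (Nat.card A1).Coprime (Nat.card L) := hcop.coprime_dvd_left (Subgroup.card_dvd_of_le hA1A)
  have hcop1K : (Nat.card A1).Coprime (Nat.card K) := hcop1.coprime_dvd_right (Subgroup.card_dvd_of_le hKL)
  have hmove : ∀ a ∈ A, a ∉ A1 → ∀ k ∈ K, ∀ k' ∈ K, a * k' * a⁻¹ * k = k * (a * k' * a⁻¹) := by
    intro a ha hna
    have hne : ¬ RConj L g (a * g * a⁻¹) := by
      intro h
      refine hna (hA1 ▸ ⟨ha, ?_⟩)
      have hle : ∀ k ∈ K, a * k * a⁻¹ ∈ K := by
        intro k hk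
        refine (Subgroup.closure_le (K.comap (MulAut.conj a).toMonoidHom)).2 (fun ρ hρ => ?_) (hK.le hk)
        show a * ρ * a⁻¹ ∈ K
        rw [hs0] at hρ
        refine hK ▸ Subgroup.subset_closure (hs0 ▸ ⟨(conj_equivariant (hnorm ha) hρ.1).1, ?_⟩)
        exact h.trans (hρ.2.equivariant (hnorm ha) hρ.1) (conj_equivariant (hnorm ha) hg).1
      refine Subgroup.mem_normalizer_iff.2 fun y => ⟨hle y, fun hy => ?_⟩
      have hm : K.map (MulAut.conj a).toMonoidHom = K := by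
        refine Subgroup.eq_of_le_of_card_ge ?_ (le_of_eq
          (Subgroup.card_map_of_injective (MulAut.conj a).injective).symm)
        rintro _ ⟨k, hk, rfl⟩; exact hle k hk
      obtain ⟨k, hk, e⟩ := hm.ge hy
      rwa [← (MulAut.conj a).injective e]
    intro k hk k' hk'
    have : a * k' * a⁻¹ ∈ Subgroup.centralizer (K : Set GLM) := by
      refine (Subgroup.closure_le ((Subgroup.centralizer (K : Set GLM)).comap (MulAut.conj a).toMonoidHom)).2
        (fun ρ hρ => Subgroup.mem_centralizer_iff.2 fun m hm => ?_) (hK.le hk')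
      show m * (a * ρ * a⁻¹) = a * ρ * a⁻¹ * m
      rw [hs0] at hρ
      refine (hout _ (conj_equivariant (hnorm ha) hρ.1).1 (fun h => hne ?_) m hm).symm
      exact h.trans ((hρ.2.equivariant (hnorm ha) hρ.1).symm (conj_equivariant (hnorm ha) hg).1
        (conj_equivariant (hnorm ha) hρ.1).1) (conj_equivariant (hnorm ha) hρ.1).1
    exact (Subgroup.mem_centralizer_iff.1 this k hk).symm
  -- every element is a commuting product
  have hdec : ∀ y ∈ L, y ^ p = 1 → ∃ y1 ∈ K, ∃ z ∈ L, (∃ k : ℕ, y1 ^ p ^ k = 1) ∧ (∃ k : ℕ, z ^ p ^ k = 1) ∧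
      (∀ m ∈ K, z * m = m * z) ∧ y = y1 * z := by
    obtain ⟨C, hC⟩ : ∃ C, C = L ⊓ Subgroup.centralizer (K : Set GLM) := ⟨_, rfl⟩
    have hle : L ≤ K ⊔ C := by
      refine hsplit.trans (sup_le ?_ ?_)
      · rw [hR0, Subgroup.closure_le]
        intro ρ hρ
        by_cases h : RConj L g ρ
        · exact Subgroup.mem_sup_left (hK ▸ Subgroup.subset_closure (hs0 ▸ ⟨hρ, h⟩))
        · exact Subgroup.mem_sup_right (hC ▸ ⟨hρ.1.1,
            Subgroup.mem_centralizer_iff.2 fun k hk => (hout ρ hρ h k hk).symm⟩)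
      · refine le_trans ?_ le_sup_right
        rw [hC0, hC]
        refine inf_le_inf_left _ (Subgroup.centralizer_le ?_)
        rw [hK, SetLike.coe_subset_coe, Subgroup.closure_le]
        intro ρ hρ
        rw [hs0] at hρ
        exact hR0 ▸ Subgroup.subset_closure hρ.1
    have hCK : C ≤ Subgroup.normalizer (K : Set GLM) := hC ▸ inf_le_left.trans hLK
    intro y hy hyp
    have hy' : y ∈ (K : Set GLM) * (C : Set GLM) := by
      rw [← Subgroup.coe_mul_of_right_le_normalizer_left K C hCK]; exact hle hy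
    obtain ⟨y0, hy0, z0, hz0, rfl⟩ := Set.mem_mul.1 hy'
    rw [hC] at hz0
    have hcz : Commute y0 z0 := Subgroup.mem_centralizer_iff.1 hz0.2 y0 hy0
    obtain ⟨k, n', hn', hcard⟩ := Nat.exists_eq_pow_mul_and_not_dvd (Nat.card_pos (α := L)).ne' p
      (Fact.out : p.Prime).ne_one
    obtain ⟨m, hm⟩ : ∃ m, m = n' ^ (p - 1) := ⟨_, rfl⟩
    have hm1 : m ≡ 1 [MOD p] := by
      rw [hm]
      have := Nat.ModEq.pow_totient (((Fact.out : p.Prime).coprime_iff_not_dvd.2 hn').symm)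
      rwa [Nat.totient_prime Fact.out] at this
    have hdvd : Nat.card L ∣ m * p ^ k := by
      rw [hcard, hm, mul_comm]
      exact mul_dvd_mul (dvd_pow_self n' (by omega)) dvd_rfl
    have hpe : ∀ v ∈ L, (v ^ m) ^ p ^ k = 1 := fun v hv => by
      rw [← pow_mul]
      exact orderOf_dvd_iff_pow_eq_one.1 ((L.orderOf_dvd_natCard hv).trans hdvd)
    refine ⟨y0 ^ m, K.pow_mem hy0 m, z0 ^ m, L.pow_mem hz0.1 m, ⟨k, hpe y0 (hKL hy0)⟩, ⟨k, hpe z0 hz0.1⟩,
      fun v hv => ((Commute.symm (Subgroup.mem_centralizer_iff.1 hz0.2 v hv)).pow_left m).eq, ?_⟩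
    rw [← hcz.mul_pow, ← pow_mod_orderOf]
    have ho : orderOf (y0 * z0) ∣ p := orderOf_dvd_of_pow_eq_one hyp
    have := Nat.ModEq.of_dvd ho hm1
    rw [this, pow_mod_orderOf, pow_one]
  -- invariant Sylow subgroups of the component extend
  have hext : ∀ T, Grp.IsSylowIn p T K → A1 ≤ Subgroup.normalizer (T : Set GLM) →
      ∃ S, Grp.IsSylowIn p S L ∧ A ≤ Subgroup.normalizer (S : Set GLM) ∧ S ⊓ K = T := by
    intro T hT hTA
    obtain ⟨f, hf⟩ : ∃ f : A → Subgroup GLM, f = fun a : A => T.map (MulAut.conj (a : GLM)).toMonoidHom :=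
      ⟨_, rfl⟩
    have hfm : ∀ (a : A) v, v ∈ f a ↔ (a : GLM)⁻¹ * v * (a : GLM) ∈ T := by
      intro a v
      rw [hf]
      constructor
      · rintro ⟨w, hw, rfl⟩
        simpa [mul_assoc] using hw
      · exact fun hv => ⟨_, hv, by simp [mul_assoc]⟩
    have hp' : ∀ a, IsPGroup p (f a) := fun a => hf ▸ hT.2.1.map _
    have hn : ∀ a b, f a ≤ Subgroup.normalizer (f b : Set GLM) := by
      intro a b v hv
      rw [hfm] at hv
      by_cases hc : (b : GLM)⁻¹ * (a : GLM) ∈ A1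
      · have hv' : (b : GLM)⁻¹ * v * (b : GLM) ∈ T := by
          have := (Subgroup.mem_normalizer_iff.1 (hTA hc) _).1 hv
          rwa [show (b : GLM)⁻¹ * (a : GLM) * ((a : GLM)⁻¹ * v * (a : GLM)) * ((b : GLM)⁻¹ * (a : GLM))⁻¹ =
            (b : GLM)⁻¹ * v * (b : GLM) by group] at this
        exact Subgroup.le_normalizer ((hfm b v).2 hv')
      · refine Subgroup.centralizer_le_normalizer _ (Subgroup.mem_centralizer_iff.2 fun w hw => ?_)
        rw [SetLike.mem_coe, hfm] at hw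
        have h := hmove _ (A.mul_mem (A.inv_mem b.2) a.2) hc _ (hT.1 hw) _ (hT.1 hv)
        calc w * v = (b : GLM) * (((b : GLM)⁻¹ * w * (b : GLM)) * ((b : GLM)⁻¹ * (a : GLM) *
              ((a : GLM)⁻¹ * v * (a : GLM)) * ((b : GLM)⁻¹ * (a : GLM))⁻¹)) * (b : GLM)⁻¹ := by group
          _ = v * w := by rw [← h]; group
    have hle : ⨆ a, f a ≤ L := iSup_le fun a v hv => by
      have h1 := (Subgroup.mem_normalizer_iff.1 (hnorm a.2) _).1 (hKL (hT.1 ((hfm a v).1 hv)))
      rwa [show (a : GLM) * ((a : GLM)⁻¹ * v * (a : GLM)) * (a : GLM)⁻¹ = v by group] at h1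
    have hAn : A ≤ Subgroup.normalizer ((⨆ a, f a : Subgroup GLM) : Set GLM) := by
      rw [Subgroup.iSup_eq_closure]
      refine le_normalizer_closure fun c hc v hv => ?_
      obtain ⟨a, hva⟩ := Set.mem_iUnion.1 hv
      refine Subgroup.subset_closure (Set.mem_iUnion.2 ⟨⟨c * a, A.mul_mem hc a.2⟩, ?_⟩)
      rw [SetLike.mem_coe, hfm] at hva ⊢
      rwa [show (c * (a : GLM))⁻¹ * (c * v * c⁻¹) * (c * (a : GLM)) = (a : GLM)⁻¹ * v * (a : GLM) by group]
    obtain ⟨S, hS, hSA, hle'⟩ := Grp.exists_invariant_sylow_ge A L hnorm hcop (solv hcop) hle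
      (isPGroup_iSup f hp' hn) hAn
    refine ⟨S, hS, hSA, (hT.eq_of_le (le_inf ?_ hT.1) inf_le_right (hS.2.1.to_le inf_le_left)).symm⟩
    exact fun v hv => hle' (le_iSup f ⟨1, A.one_mem⟩ ((hfm _ v).2 (by simpa using hv)))
  obtain ⟨P, hP⟩ := exists_meet (p := p) (L := K) (A := A1)
  have hPp := meet_isPGroup hA1K hcop1K hP
  have hPc : ∀ c ∈ K, (∀ a ∈ A1, a * c = c * a) → ∀ v ∈ P, c * v * c⁻¹ ∈ P := fun c hc hfix v hv =>
    (hP _).2 (((hP v).1 hv).conj hA1K hcop1K ⟨hc, Subgroup.mem_centralizer_iff.2 hfix⟩)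
  have hcomp : ∀ y, InP p L A y → ((y : End') - 1) * ((y : End') - 1) = 0 →
      ∃ y1 ∈ P, ∃ z ∈ L, (∃ k : ℕ, z ^ p ^ k = 1) ∧ (∀ m ∈ K, z * m = m * z) ∧ y = y1 * z := by
    intro y hy hy2
    obtain ⟨y1, hy1, z, hz, ⟨k1, hk1⟩, hzp, hzc, rfl⟩ := hdec y hy.1 (pow_eq_one_of_sq hp hy2)
    refine ⟨y1, (hP _).2 ⟨hy1, fun T hT hTA => ?_⟩, z, hz, hzp, hzc, rfl⟩
    obtain ⟨S, hS, hSA, hST⟩ := hext T hT hTA
    have hyS := hy.2 S hS hSA
    have key : ∀ v, v ∈ T ↔ y1 * v * y1⁻¹ ∈ T := by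
      intro v
      have e : ∀ v ∈ K, y1 * z * v * (y1 * z)⁻¹ = y1 * v * y1⁻¹ := fun v hv => by
        rw [mul_inv_rev, mul_assoc y1 z v, hzc v hv]; group
      constructor
      · intro hv
        rw [← e v (hT.1 hv), ← hST]
        exact ⟨S.mul_mem (S.mul_mem hyS (hST.ge hv).1) (S.inv_mem hyS),
          hKn _ (L.mul_mem (hKL hy1) hz) _ (hT.1 hv)⟩
      · intro hv
        have hvK : v ∈ K := by
          have := K.mul_mem (K.mul_mem (K.inv_mem hy1) (hT.1 hv)) hy1
          rwa [show y1⁻¹ * (y1 * v * y1⁻¹) * y1 = v by group] at this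
        rw [← hST]
        refine ⟨?_, hvK⟩
        rw [← e v hvK] at hv
        have := S.mul_mem (S.mul_mem (S.inv_mem hyS) (hST.ge hv).1) hyS
        rwa [show (y1 * z)⁻¹ * (y1 * z * v * (y1 * z)⁻¹) * (y1 * z) = v by group] at this
    have hyn : Subgroup.zpowers y1 ≤ Subgroup.normalizer (T : Set GLM) :=
      Subgroup.zpowers_le.2 (Subgroup.mem_normalizer_iff.2 key)
    have hy1p : IsPGroup p (Subgroup.zpowers y1) := by
      rintro ⟨_, j, rfl⟩
      refine ⟨k1, Subtype.ext ?_⟩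
      show (y1 ^ j) ^ p ^ k1 = 1
      rw [← zpow_natCast, ← zpow_mul, mul_comm, zpow_mul, zpow_natCast, hk1, one_zpow]
    have e := hT.eq_of_le le_sup_left (sup_le hT.1 (Subgroup.zpowers_le.2 hy1))
      (hT.2.1.to_sup_of_normal_left' hy1p hyn)
    exact e ▸ Subgroup.mem_sup_right (Subgroup.mem_zpowers _)
  have hPL : ∀ ρ ∈ P, InP p L A ρ := by
    intro ρ hρ
    obtain ⟨hρK, hρT⟩ := (hP ρ).1 hρ
    refine ⟨hKL hρK, fun S hS hSA => ?_⟩
    refine (hρT (S ⊓ K) (sylow_inf_normal hS hKL hLK) fun a ha => ?_).1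
    exact Grp.mem_normalizer_iff_smul.2 (by
      rw [Subgroup.smul_inf, Grp.mem_normalizer_iff_smul.1 (hSA (hA1A ha)),
        Grp.mem_normalizer_iff_smul.1 (hA1K ha)])
  -- a central root of an invariant Sylow subgroup of the component
  obtain ⟨S, hS, hSA⟩ := Grp.exists_invariant_sylow A L hnorm hcop (solv hcop) p
  obtain ⟨rts, hrts⟩ : ∃ rts : Subgroup GLM → Set GLM,
      rts = fun S => {ρ | ρ ∈ Cfsg.minimalQuadraticElements L ∧ ρ ∈ K ∧ ρ ∈ S} := ⟨_, rfl⟩
  obtain ⟨W, hW⟩ : ∃ W, W = Subgroup.closure (rts S) := ⟨_, rfl⟩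
  have hWS : W ≤ S := hW ▸ (Subgroup.closure_le _).2 fun ρ hρ => by rw [hrts] at hρ; exact hρ.2.2
  obtain ⟨z1, hz1, hz1c⟩ : ∃ z1 ∈ rts S, ∀ ρ ∈ rts S, z1 * ρ = ρ * z1 := by
    have hne : ∃ z, z ∈ rts S := by
      have hT := sylow_inf_normal hS hKL hLK
      obtain ⟨T', hT', -, hgT⟩ := Grp.exists_invariant_sylow_ge (⊥ : Subgroup GLM) K bot_le
        (by rw [Subgroup.card_bot]; exact Nat.coprime_one_left _)
        (solv (by rw [Subgroup.card_bot]; exact Nat.coprime_one_left _))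
        (Subgroup.zpowers_le.2 hgK) (isPGroup_zpowers (pow_eq_one_of_sq hp hg.1.2.1.1)) bot_le
      obtain ⟨c, hc, e⟩ := hT'.conj hT
      have : c * g * c⁻¹ ∈ S ⊓ K := e ▸ Subgroup.smul_mem_pointwise_smul _ _ _ (hgT (Subgroup.mem_zpowers g))
      exact ⟨c * g * c⁻¹, hrts ▸ ⟨(conj_minimal (hKL hc) hg).1, this.2, this.1⟩⟩
    obtain ⟨N, hN⟩ := (Subgroup.isNilpotent_iff_lowerCentralSeries S).1 hS.2.1.isNilpotent
    by_contra hcon
    push Not at hcon
    have key : ∀ n, ∃ ρ ∈ rts S, ρ ∈ S.lowerCentralSeries n := by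
      intro n
      induction n with
      | zero =>
        obtain ⟨z, hz⟩ := hne
        exact ⟨z, hz, by rw [hrts] at hz; exact hz.2.2⟩
      | succ n ih =>
        obtain ⟨ρ, hρ, hρn⟩ := ih
        obtain ⟨π, hπ, hne'⟩ := hcon ρ hρ
        rw [hrts] at hρ hπ
        obtain ⟨hρm, hρK, hρS⟩ := hρ
        obtain ⟨hπm, hπK, hπS⟩ := hπ
        have h0 := sandwich_zero hp hG hρm hπm.1 (zz_nilpotent_of_pgroup hS.2.1 hρS hπS)
        have h0' := sandwich_zero hp hG hπm hρm.1 (zz_nilpotent_of_pgroup hS.2.1 hπS hρS)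
        obtain ⟨-, hu⟩ := exists_root hp hG hρm hπm.1 h0
          (w := ((π : End') - 1) * ((ρ : End') - 1) * ((π : End') - 1))
          (u := ((ρ : End') - 1) * ((π : End') - 1) - ((π : End') - 1) * ((ρ : End') - 1)) rfl rfl
        obtain ⟨δ, hδ, hδe⟩ := hu h0' fun e => hne' (commute_iff_sub.2 (sub_eq_zero.1 e))
        have hno : ¬ Opposite ρ π := fun hop => opp_mul_ne hop hπm.1.2.1.2 h0'
        have e : δ = ρ * π * ρ⁻¹ * π⁻¹ := Units.ext (by
          rw [hδe, comm_elem hk2 hk3 hG hρm hπm hno (Subgroup.subset_closure (self_mem_class hρm))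
            (Subgroup.subset_closure (self_mem_class hπm))])
        refine ⟨δ, hrts ▸ ⟨hδ, ?_, ?_⟩, ?_⟩
        · exact e ▸ K.mul_mem (K.mul_mem (K.mul_mem hρK hπK) (K.inv_mem hρK)) (K.inv_mem hπK)
        · exact e ▸ S.mul_mem (S.mul_mem (S.mul_mem hρS hπS) (S.inv_mem hρS)) (S.inv_mem hπS)
        · rw [e, Subgroup.lowerCentralSeries_succ]
          exact Subgroup.commutator_mem_commutator hρn hπS
    obtain ⟨ρ, hρ, hρn⟩ := key N
    rw [hN, Subgroup.mem_bot] at hρn
    rw [hrts] at hρ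
    exact hρ.1.1.2.1.2 (by rw [hρn, Units.val_one, sub_self])
  -- the odd operators fix the classes
  have hoddc : ∀ c ∈ A1, Odd (orderOf c) := by
    have hoddA : Odd (Nat.card A) := by
      obtain ⟨b, hb, hpb⟩ := exists_partner_any hp hG hg
      obtain ⟨s, hs⟩ : ∃ s, s = (g : End') - 1 := ⟨_, rfl⟩
      obtain ⟨t, ht⟩ : ∃ t, t = (b : End') - 1 := ⟨_, rfl⟩
      rw [← hs, ← ht] at hpb
      have hm : wel (1 : ZMod p) s t * wel (1 : ZMod p) s t ∈ mset L := by
        have h1 : wel (1 : ZMod p) s t ∈ mset L := by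
          rw [← hpb.wel_eq one_ne_zero, hs]
          refine Submonoid.mul_mem _ (Submonoid.mul_mem _ (scalar_mem hg _) ?_) (scalar_mem hg _)
          rw [sub_eq_add_neg, ← neg_smul, ht]; exact scalar_mem hb _
        exact Submonoid.mul_mem _ h1 h1
      rw [hpb.wel_sq] at hm
      obtain ⟨i, hi, hie⟩ := hm
      have hie' : (i : End') = 1 - (2 : ZMod p) • proj s t := hie
      have hne : i ≠ 1 := by
        intro e
        rw [e, Units.val_one, eq_comm, sub_eq_self, smul_eq_zero] at hie'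
        refine hg.1.2.1.2 ?_
        rw [← hs, ← hpb.proj_left.1, hie'.resolve_left h20, zero_mul]
      have hsq : i ^ 2 = 1 := Units.ext (by
        rw [pow_two, Units.val_mul, Units.val_one, hie']
        simp only [sub_mul, mul_sub, one_mul, mul_one, smul_mul_assoc, mul_smul_comm, hpb.proj_idem]
        module)
      have hd := L.orderOf_dvd_natCard hi
      rw [orderOf_eq_prime hsq hne] at hd
      rw [← Nat.not_even_iff_odd]
      exact fun he => Nat.prime_two.not_dvd_one (hcop ▸ Nat.dvd_gcd he.two_dvd hd)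
    exact fun c hc => hoddA.of_dvd_nat (A.orderOf_dvd_natCard (hA1A hc))
  have hclass : ∀ a ∈ A1, ∀ ρ ∈ Cfsg.minimalQuadraticElements L, ρ ∈ K → EConj L ρ (a * ρ * a⁻¹) := by
    intro a ha ρ hρ hρK
    refine econj_of_rconj_odd hp hG (hA1L ha) (hoddc a ha) hρ ?_
    exact ((hrootK ρ hρ hρK).symm hg hρ).trans (hrootK _ (conj_equivariant (hA1L ha) hρ).1
      ((Subgroup.mem_normalizer_iff.1 (hA1K ha) ρ).1 hρK)) hg
  -- transitivity of the normalizer
  obtain ⟨N, hN⟩ : ∃ N, N = L ⊓ Subgroup.normalizer (rts S) := ⟨_, rfl⟩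
  have hrconj : ∀ c ∈ L, ∀ S1 : Subgroup GLM, ∀ v, v ∈ rts (MulAut.conj c • S1) ↔ c⁻¹ * v * c ∈ rts S1 := by
    intro c hc S1 v
    rw [hrts]
    simp only [Set.mem_ofPred_eq, Grp.mem_smul_conj]
    refine and_congr ⟨fun h => ?_, fun h => ?_⟩ (and_congr ⟨fun h => ?_, fun h => ?_⟩ Iff.rfl)
    · have := (conj_minimal (L.inv_mem hc) h).1
      rwa [inv_inv] at this
    · have := (conj_minimal hc h).1
      rwa [show c * (c⁻¹ * v * c) * c⁻¹ = v by group] at this
    · have := hKn c⁻¹ (L.inv_mem hc) v h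
      rwa [inv_inv] at this
    · have := hKn c hc _ h
      rwa [show c * (c⁻¹ * v * c) * c⁻¹ = v by group] at this
  have hweak : ∀ S1, Grp.IsSylowIn p S1 L → rts S ⊆ (S1 : Set GLM) → rts S1 = rts S := by
    intro S1 hS1 hle
    have hsub : rts S ⊆ rts S1 := fun v hv => by
      have h1 := hle hv
      rw [hrts] at hv ⊢
      exact ⟨hv.1, hv.2.1, h1⟩
    obtain ⟨c, hc, e⟩ := hS.conj hS1
    refine (Set.eq_of_subset_of_ncard_le hsub (le_of_eq ?_) (Set.toFinite _)).symm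
    have e2 : rts S1 = (fun v => c * v * c⁻¹) '' rts S := by
      ext v
      rw [← e, hrconj c hc]
      exact ⟨fun h => ⟨_, h, by group⟩, by rintro ⟨w, hw, rfl⟩; simpa [mul_assoc] using hw⟩
    rw [e2, Set.ncard_image_of_injective _ fun v w h => mul_left_cancel (mul_right_cancel h)]
  obtain ⟨Z, hZ⟩ : ∃ Z : Set GLM, Z = {z | z ∈ rts S ∧ (∀ ρ ∈ rts S, z * ρ = ρ * z) ∧ EConj L z1 z} := ⟨_, rfl⟩
  have hZconj : ∀ c ∈ Subgroup.normalizer (L : Set GLM), c ∈ Subgroup.normalizer (rts S) →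
      EConj L z1 (c * z1 * c⁻¹) → ∀ z ∈ Z, c * z * c⁻¹ ∈ Z := by
    rw [hZ]
    rintro c hcL hcn hce z ⟨h1, h2, h3⟩
    refine ⟨(Subgroup.mem_set_normalizer_iff.1 hcn z).1 h1, fun ρ hρ => ?_, hce.trans (h3.equivariant hcL)⟩
    have := h2 (c⁻¹ * ρ * c) ((Subgroup.mem_set_normalizer_iff.1 hcn _).2 (by simpa [mul_assoc] using hρ))
    calc c * z * c⁻¹ * ρ = c * (z * (c⁻¹ * ρ * c)) * c⁻¹ := by group
      _ = c * (c⁻¹ * ρ * c * z) * c⁻¹ := by rw [this]
      _ = ρ * (c * z * c⁻¹) := by group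
  have hrA : ∀ a ∈ A1, a ∈ Subgroup.normalizer (rts S) := by
    intro a ha
    refine Subgroup.mem_set_normalizer_iff.2 fun v => ?_
    rw [hrts]
    refine and_congr ⟨fun h => (conj_equivariant (hA1L ha) h).1, fun h => ?_⟩
      (and_congr (Subgroup.mem_normalizer_iff.1 (hA1K ha) v) (Subgroup.mem_normalizer_iff.1 (hSA (hA1A ha)) v))
    have := (conj_equivariant (hA1L (inv_mem ha)) h).1
    rwa [inv_inv, show a⁻¹ * (a * v * a⁻¹) * a = v by group] at this
  obtain ⟨σ, hσZ, hσfix⟩ := exists_conj_fixed A1 N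
    (by
      intro a ha
      refine Grp.mem_normalizer_iff_smul.2 ?_
      refine Subgroup.ext fun v => ?_
      rw [hN, Grp.mem_smul_conj]
      refine and_congr ?_ ?_
      · have := Subgroup.mem_normalizer_iff.1 (hA1L (inv_mem ha)) v
        rw [inv_inv] at this
        exact this.symm
      · constructor
        · intro h
          have := (Subgroup.normalizer (rts S)).mul_mem ((Subgroup.normalizer (rts S)).mul_mem (hrA a ha) h)
            ((Subgroup.normalizer (rts S)).inv_mem (hrA a ha))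
          rwa [show a * (a⁻¹ * v * a) * a⁻¹ = v by group] at this
        · exact fun h => (Subgroup.normalizer (rts S)).mul_mem ((Subgroup.normalizer (rts S)).mul_mem
            ((Subgroup.normalizer (rts S)).inv_mem (hrA a ha)) h) (hrA a ha))
    (hcop1.coprime_dvd_right (Subgroup.card_dvd_of_le (hN ▸ inf_le_left))) Z
    ⟨z1, hZ ▸ ⟨hz1, hz1c, EConj.refl z1⟩⟩
    (fun a ha => hZconj a (hA1L ha) (hrA a ha) (by
      rw [hrts] at hz1
      exact hclass a ha z1 hz1.1 hz1.2.1))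
    (fun c hc => by
      rw [hN] at hc
      exact hZconj c (Subgroup.le_normalizer hc.1) hc.2 ⟨c, hc.1, rfl⟩)
    (fun u hu v hv => by
      rw [hZ] at hu hv
      obtain ⟨hu1, hu2, hu3⟩ := hu
      obtain ⟨hv1, hv2, hv3⟩ := hv
      obtain ⟨c, hc, hcv⟩ := hu3.symm.trans hv3
      obtain ⟨Cv, hCv⟩ : ∃ Cv, Cv = L ⊓ Subgroup.centralizer ({v} : Set GLM) := ⟨_, rfl⟩
      have hW1 : W ≤ Cv := by
        rw [hW, Subgroup.closure_le, hCv]
        intro ρ hρ
        exact ⟨by rw [hrts] at hρ; exact hKL hρ.2.1,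
          Subgroup.mem_centralizer_singleton_iff.2 (hv2 ρ hρ).symm⟩
      have hW2 : MulAut.conj c • W ≤ Cv := by
        intro w hw
        rw [Grp.mem_smul_conj] at hw
        have h1 : c⁻¹ * w * c ∈ L ⊓ Subgroup.centralizer ({u} : Set GLM) := by
          refine (Subgroup.closure_le _).2 (fun ρ hρ => ?_) (hW.le hw)
          exact ⟨by rw [hrts] at hρ; exact hKL hρ.2.1, Subgroup.mem_centralizer_singleton_iff.2 (hu2 ρ hρ).symm⟩
        rw [hCv]
        refine ⟨?_, Subgroup.mem_centralizer_singleton_iff.2 ?_⟩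
        · have := L.mul_mem (L.mul_mem hc h1.1) (L.inv_mem hc)
          rwa [show c * (c⁻¹ * w * c) * c⁻¹ = w by group] at this
        · have h2 := Subgroup.mem_centralizer_singleton_iff.1 h1.2
          rw [← hcv]
          calc w * (c * u * c⁻¹) = c * (c⁻¹ * w * c * u) * c⁻¹ := by group
            _ = c * (u * (c⁻¹ * w * c)) * c⁻¹ := by rw [h2]
            _ = c * u * c⁻¹ * w := by group
      have hWp : IsPGroup p W := hS.2.1.to_le hWS
      obtain ⟨X1, hX1, -, hWX1⟩ := Grp.exists_invariant_sylow_ge (⊥ : Subgroup GLM) Cv bot_le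
        (by rw [Subgroup.card_bot]; exact Nat.coprime_one_left _)
        (solv (by rw [Subgroup.card_bot]; exact Nat.coprime_one_left _)) hW1 hWp bot_le
      obtain ⟨X2, hX2, -, hWX2⟩ := Grp.exists_invariant_sylow_ge (⊥ : Subgroup GLM) Cv bot_le
        (by rw [Subgroup.card_bot]; exact Nat.coprime_one_left _)
        (solv (by rw [Subgroup.card_bot]; exact Nat.coprime_one_left _)) hW2 (hWp.map _) bot_le
      obtain ⟨d, hd, hde⟩ := hX2.conj hX1
      obtain ⟨S1, hS1, -, hXS⟩ := Grp.exists_invariant_sylow_ge (⊥ : Subgroup GLM) L bot_le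
        (by rw [Subgroup.card_bot]; exact Nat.coprime_one_left _)
        (solv (by rw [Subgroup.card_bot]; exact Nat.coprime_one_left _))
        (hX1.1.trans (hCv ▸ inf_le_left)) hX1.2.1 bot_le
      rw [hCv] at hd
      have hdc : d * c ∈ L := L.mul_mem hd.1 hc
      have e1 := hweak S1 hS1 fun ρ hρ => hXS (hWX1 (hW ▸ Subgroup.subset_closure hρ))
      have hS2 : Grp.IsSylowIn p (MulAut.conj (d * c)⁻¹ • S1) L :=
        hS1.smul (Grp.conj_smul_eq_self_of_mem (L.inv_mem hdc))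
      have e2 := hweak _ hS2 fun ρ hρ => by
        rw [SetLike.mem_coe, Grp.mem_smul_conj, inv_inv]
        refine hXS ?_
        rw [← hde, Grp.mem_smul_conj]
        refine hWX2 ?_
        rw [Grp.mem_smul_conj]
        have := hW ▸ Subgroup.subset_closure hρ
        rwa [show c⁻¹ * (d⁻¹ * (d * c * ρ * (d * c)⁻¹) * d) * c = ρ by group]
      refine ⟨d * c, hN ▸ ⟨hdc, Subgroup.mem_set_normalizer_iff.2 fun ρ => ?_⟩, ?_⟩
      · constructor
        · intro h
          rw [← e2, hrconj _ (L.inv_mem hdc), inv_inv] at h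
          rwa [← e1]
        · intro h
          rw [← e1] at h
          rw [← e2, hrconj _ (L.inv_mem hdc), inv_inv]
          exact h
      · have h := Subgroup.mem_centralizer_singleton_iff.1 hd.2
        calc d * c * u * (d * c)⁻¹ = d * (c * u * c⁻¹) * d⁻¹ := by group
          _ = v := by rw [hcv, h, mul_inv_cancel_right])
  rw [hZ] at hσZ
  obtain ⟨hσr, hσc, -⟩ := hσZ
  rw [hrts] at hσr
  obtain ⟨hσ, hσK, -⟩ := hσr
  have hσfix' : ∀ a ∈ A1, a * σ = σ * a := fun a ha => mul_inv_eq_iff_eq_mul.1 (hσfix a ha)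
  -- the fixed partner
  obtain ⟨Kσ, hKσ⟩ : ∃ Kσ, Kσ = L ⊓ Subgroup.centralizer ({σ} : Set GLM) := ⟨_, rfl⟩
  have hA1Kσ : A1 ≤ Subgroup.normalizer (Kσ : Set GLM) := by
    intro a ha
    have hn1 := le_normalizer_inf_centralizer (H := Subgroup.zpowers a) (L := L) (R := Subgroup.zpowers σ)
      (Subgroup.zpowers_le.2 (hA1L ha)) (Subgroup.zpowers_le.2 ?_)
    · have := hn1 (Subgroup.mem_zpowers a)
      rwa [Subgroup.zpowers_eq_closure, Subgroup.centralizer_closure, ← hKσ] at this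
    · refine Subgroup.centralizer_le_normalizer _ (Subgroup.mem_centralizer_iff.2 fun w hw => ?_)
      obtain ⟨j, rfl⟩ := hw
      exact (Commute.zpow_right (hσfix' a ha) j).eq.symm
  obtain ⟨Q, hQ⟩ : ∃ Q : Set GLM,
      Q = {τ | τ ∈ Cfsg.minimalQuadraticElements L ∧ NPair ((σ : End') - 1) ((τ : End') - 1)} := ⟨_, rfl⟩
  have hQconj : ∀ c ∈ Subgroup.normalizer (L : Set GLM), c * σ * c⁻¹ = σ → ∀ τ ∈ Q, c * τ * c⁻¹ ∈ Q := by
    rw [hQ]
    rintro c hc hcσ τ ⟨hτ, hpair⟩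
    refine ⟨(conj_equivariant hc hτ).1, ?_⟩
    have := hpair.conj (v := (c : End')) (w := ((c⁻¹ : GLM) : End')) (by rw [← Units.val_mul, mul_inv_cancel]; rfl)
      (by rw [← Units.val_mul, inv_mul_cancel]; rfl)
    rwa [← UnipJoin.conj_sub_one, ← UnipJoin.conj_sub_one, hcσ] at this
  obtain ⟨τ, hτQ, hτfix⟩ := exists_conj_fixed A1 Kσ hA1Kσ
    (hcop1.coprime_dvd_right (Subgroup.card_dvd_of_le (hKσ ▸ inf_le_left))) Q
    (by
      obtain ⟨τ, hτ, h⟩ := exists_partner_any hp hG hσ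
      exact ⟨τ, hQ ▸ ⟨hτ, h⟩⟩)
    (fun c hc => hQconj c (hA1L hc) (hσfix c hc))
    (fun k hk => by
      rw [hKσ] at hk
      exact hQconj k (Subgroup.le_normalizer hk.1)
        (by rw [Subgroup.mem_centralizer_singleton_iff.1 hk.2]; group))
    (fun u hu v hv => by
      rw [hQ] at hu hv
      obtain ⟨m, hm, w, -, hmw, hwm, hms, hmt⟩ := QFix.exists_conj hp mset_inv hu.2 hv.2 (scalar_mem hσ)
        (scalar_mem hu.1) (scalar_mem hv.1)
      obtain ⟨c, hc, hce⟩ := hm
      have hce' : (c : End') = m := hce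
      have hci : ((c⁻¹ : GLM) : End') = w := Units.inv_eq_of_mul_eq_one_right (by rw [hce', hmw])
      refine ⟨c, hKσ ▸ ⟨hc, Subgroup.mem_centralizer_singleton_iff.2 (Units.ext ?_)⟩, Units.ext ?_⟩
      · rw [Units.val_mul, Units.val_mul, hce']
        rw [mul_sub, sub_mul, mul_one, one_mul, sub_left_inj] at hms
        exact hms
      · refine sub_left_inj (a := (1 : End')) |>.1 ?_
        rw [UnipJoin.conj_sub_one, hce', hci, hmt])
  rw [hQ] at hτQ
  obtain ⟨hτ, hpair⟩ := hτQ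
  have hτK : τ ∈ K := partner_mem hKn hσ hσK hτ hpair
  have hτfix' : ∀ a ∈ A1, a * τ = τ * a := fun a ha => mul_inv_eq_iff_eq_mul.1 (hτfix a ha)
  -- the torus and the Weyl element
  obtain ⟨s, hs⟩ : ∃ s, s = (σ : End') - 1 := ⟨_, rfl⟩
  obtain ⟨t, ht⟩ : ∃ t, t = (τ : End') - 1 := ⟨_, rfl⟩
  rw [← hs, ← ht] at hpair
  have hwel : ∀ c : ZMod p, c ≠ 0 → ∃ m ∈ K, (∀ a ∈ A1, a * m = m * a) ∧ (m : End') = wel c s t := by
    intro c hc
    refine ⟨σ ^ c.val * τ ^ (-c⁻¹).val * σ ^ c.val,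
      K.mul_mem (K.mul_mem (K.pow_mem hσK _) (K.pow_mem hτK _)) (K.pow_mem hσK _), fun a ha => ?_, ?_⟩
    · exact (((Commute.pow_right (hσfix' a ha) _).mul_right (Commute.pow_right (hτfix' a ha) _)).mul_right
        (Commute.pow_right (hσfix' a ha) _)).eq
    · rw [← hpair.wel_eq hc, Units.val_mul, Units.val_mul, pow_val_eq hσ.1.2.1.1, pow_val_eq hτ.1.2.1.1, ← hs,
        ← ht, neg_smul, ← sub_eq_add_neg]
  obtain ⟨ζ, hζ⟩ := IsCyclic.exists_generator (α := (ZMod p)ˣ)
  obtain ⟨γ, hγ⟩ : ∃ γ : ZMod p, γ = (ζ : ZMod p) := ⟨_, rfl⟩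
  have hγ0 : γ ≠ 0 := hγ ▸ ζ.ne_zero
  have hζo : orderOf ζ = p - 1 := by
    rw [orderOf_eq_card_of_forall_mem_zpowers hζ, Nat.card_eq_fintype_card, ZMod.card_units]
  have hγne : ∀ n, 0 < n → n < p - 1 → γ ^ n ≠ 1 := by
    intro n h1 h2 e
    have : ζ ^ n = 1 := Units.ext (by rw [Units.val_pow_eq_pow_val, ← hγ, e, Units.val_one])
    have := Nat.le_of_dvd h1 (hζo ▸ orderOf_dvd_of_pow_eq_one this)
    omega
  obtain ⟨hu, huK, hufix, hue⟩ : ∃ hu ∈ K, (∀ a ∈ A1, a * hu = hu * a) ∧ (hu : End') = torus γ s t := by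
    obtain ⟨m1, hm1, hf1, he1⟩ := hwel γ hγ0
    obtain ⟨m2, hm2, hf2, he2⟩ := hwel (-1) (neg_ne_zero.2 one_ne_zero)
    refine ⟨m1 * m2, K.mul_mem hm1 hm2, fun a ha => (Commute.mul_right (hf1 a ha) (hf2 a ha)).eq, ?_⟩
    obtain ⟨a1, a2⟩ := hpair.proj_left
    obtain ⟨a3, a4⟩ := hpair.proj_right
    rw [Units.val_mul, he1, he2, wel, wel, torus]
    simp only [mul_add, add_mul, mul_sub, sub_mul, one_mul, mul_one, smul_mul_assoc, mul_smul_comm, smul_smul,
      a1, a2, a3, a4, hpair.proj_idem, hpair.ss, hpair.tt, smul_zero, inv_neg, inv_one, mul_neg, neg_mul,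
      neg_smul, one_smul, neg_neg, neg_zero, smul_neg]
    abel
  have hord : hu ^ (p - 1) = 1 := by
    have e : ∀ n : ℕ, ((hu ^ n : GLM) : End') = torus (γ ^ n) s t := by
      intro n
      induction n with
      | zero => rw [pow_zero, pow_zero, Units.val_one, torus, proj, inv_one, one_smul, one_smul]; abel
      | succ n ih => rw [pow_succ, Units.val_mul, ih, hue, torus_mul hpair, pow_succ]
    refine Units.ext ?_
    rw [e, hγ, ← Units.val_pow_eq_pow_val, ← hζo, pow_orderOf_eq_one, Units.val_one, torus, proj, inv_one,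
      one_smul, one_smul]
    abel
  obtain ⟨wu, hwuK, hwufix, hwue⟩ := hwel 1 one_ne_zero
  -- local subgroups
  have hlocal : ∀ F ∈ K, (∀ a ∈ A1, a * F = F * a) → (∃ m ∈ L, F * m ≠ m * F) →
      ∀ y, InP p L A y → ((y : End') - 1) * ((y : End') - 1) = 0 →
      (∀ a ∈ A, y * (a * F * a⁻¹) = a * F * a⁻¹ * y) →
      ∃ R : Subgroup GLM, R ≤ L ∧ y ∈ opc p R ∧
        ∀ v ∈ L, (∀ a ∈ A, v * (a * F * a⁻¹) = a * F * a⁻¹ * v) → v ∈ R := by
    intro F hFK hFfix hFc y hy hy2 hyc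
    obtain ⟨Fs, hFs⟩ : ∃ Fs : Subgroup GLM, Fs = Subgroup.closure {v | ∃ a ∈ A, v = a * F * a⁻¹} := ⟨_, rfl⟩
    have hFA : A ≤ Subgroup.normalizer (Fs : Set GLM) := hFs ▸ le_normalizer_closure fun c hc v hv => by
      obtain ⟨a, ha, rfl⟩ := hv
      exact Subgroup.subset_closure ⟨c * a, A.mul_mem hc ha, by group⟩
    have hmem : ∀ v ∈ L, (∀ a ∈ A, v * (a * F * a⁻¹) = a * F * a⁻¹ * v) →
        v ∈ L ⊓ Subgroup.centralizer (Fs : Set GLM) := by
      intro v hv hvc
      refine ⟨hv, ?_⟩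
      rw [hFs, Subgroup.centralizer_closure]
      refine Subgroup.mem_centralizer_iff.2 ?_
      rintro w ⟨a, ha, rfl⟩
      exact (hvc a ha).symm
    refine ⟨_, inf_le_left, IH _ (lt_of_le_of_ne inf_le_left fun e => ?_)
      (le_normalizer_inf_centralizer hnorm hFA) y (hmem y hy.1 hyc) hy2
      (hy.restrict hnorm hcop inf_le_left (le_normalizer_inf_centralizer hnorm hFA) (hmem y hy.1 hyc)), hmem⟩
    obtain ⟨m, hm, hne⟩ := hFc
    rw [← e] at hm
    exact hne (Subgroup.mem_centralizer_iff.1 hm.2 F (hFs ▸ Subgroup.subset_closure ⟨1, A.one_mem, by simp⟩))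
  have hKcomm : ∀ v ∈ K, ∀ F ∈ K, (∀ a ∈ A1, a * F = F * a) → v * F = F * v →
      ∀ a ∈ A, v * (a * F * a⁻¹) = a * F * a⁻¹ * v := by
    intro v hv F hF hfix hc a ha
    by_cases h : a ∈ A1
    · rw [hfix a h, mul_inv_cancel_right, hc]
    · exact (hmove a ha h v hv F hF).symm
  have hzz : ∀ F ∈ K, (∀ a ∈ A1, a * F = F * a) → (∃ m ∈ L, F * m ≠ m * F) →
      ∀ y, InP p L A y → ((y : End') - 1) * ((y : End') - 1) = 0 →
      (∀ a ∈ A, y * (a * F * a⁻¹) = a * F * a⁻¹ * y) →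
      ∀ b ∈ Cfsg.minimalQuadraticElements L, b ∈ K → b * F = F * b →
      IsNilpotent (zz ((b : End') - 1) ((y : End') - 1)) := by
    intro F hFK hFfix hFc y hy hy2 hyc b hb hbK hbF
    obtain ⟨R, -, hyR, hR⟩ := hlocal F hFK hFfix hFc y hy hy2 hyc
    have hbR := hR b hb.1.1 (hKcomm b hbK F hFK hFfix hbF)
    exact zz_nilpotent_of_pgroup
      ((opc_isPGroup R).to_sup_of_normal_left' (isPGroup_zpowers (pow_eq_one_of_sq hp hb.1.2.1.1))
        (Subgroup.zpowers_le.2 (normalizer_le_opc R (Subgroup.le_normalizer hbR))))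
      (Subgroup.mem_sup_right (Subgroup.mem_zpowers b)) (Subgroup.mem_sup_left hyR)
  have hs0' : s ≠ 0 := hs ▸ hσ.1.2.1.2
  obtain ⟨he1, he2⟩ := torus_mul_s hpair γ
  have hhuc : ∃ m ∈ L, hu * m ≠ m * hu := by
    refine ⟨σ, hσ.1.1, fun e => ?_⟩
    have e' : (hu : End') * s = s * (hu : End') := by
      rw [hs, mul_sub, sub_mul, mul_one, one_mul, ← Units.val_mul, e, Units.val_mul]
    rw [hue, he1, he2] at e'
    have := smul_left_injective (ZMod p) hs0' e'
    exact hγne 2 (by norm_num) (by omega) (by rw [pow_two]; nth_rw 2 [this]; rw [mul_inv_cancel₀ hγ0])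
  have hstc : ¬ σ * τ = τ * σ := fun e => hs0' (by
    have hc : Commute s t := hs ▸ ht ▸ commute_iff_sub.1 e
    rw [← hpair.sts, hc.eq, mul_assoc, hpair.ss, mul_zero])
  -- no root element lies in all invariant Sylow subgroups
  have hnoroot : ∀ ρ ∈ Cfsg.minimalQuadraticElements L, ρ ∈ K → ρ ∉ P := by
    intro ρ hρ hρK hρP
    have hcσ : ∀ v ∈ Cfsg.minimalQuadraticElements L, v ∈ P → Commute ((v : End') - 1) s := by
      intro v hv hvP
      refine hs ▸ commute_iff_sub.1 (hσc v (hrts ▸ ⟨hv, ((hP v).1 hvP).1, ?_⟩)).symm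
      exact (hPL v hvP).2 S hS hSA
    have c1 := hcσ ρ hρ hρP
    have c2 : Commute ((ρ : End') - 1) t := by
      have h := hcσ _ (conj_minimal (hKL hwuK) hρ).1 (hPc wu hwuK hwufix ρ hρP)
      have hwi : ((wu⁻¹ : GLM) : End') = wel (-1 : ZMod p) s t :=
        Units.inv_eq_of_mul_eq_one_right (by rw [hwue, hpair.wel_mul_neg one_ne_zero])
      have e : (wu : End') * t * ((wu⁻¹ : GLM) : End') = -s := by
        rw [hwue, hwi, hpair.wel_conj hpair.proj_right.1 hpair.proj_right.2 hpair.tt hpair.tt, hpair.sts]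
      have h' : Commute ((wu : End') * ((ρ : End') - 1) * ((wu⁻¹ : GLM) : End'))
          ((wu : End') * t * ((wu⁻¹ : GLM) : End')) := by
        rw [e, ← UnipJoin.conj_sub_one]; exact h.neg_right
      have wiw : ((wu⁻¹ : GLM) : End') * (wu : End') = 1 := by rw [← Units.val_mul, inv_mul_cancel]; rfl
      have := congrArg (fun z : End' => ((wu⁻¹ : GLM) : End') * z * (wu : End')) h'.eq
      have cl : ∀ z : End', ((wu⁻¹ : GLM) : End') * ((wu : End') * z) = z := fun z => by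
        rw [← mul_assoc, wiw, one_mul]
      simp only [mul_assoc, cl, wiw, mul_one] at this
      exact this
    have hch : Commute (hu : End') ((ρ : End') - 1) := by
      rw [hue]
      exact ((((Commute.one_right _).sub_right ((c1.mul_right c2).add_right (c2.mul_right c1))).add_right
        ((c1.mul_right c2).smul_right _)).add_right ((c2.mul_right c1).smul_right _)).symm
    obtain ⟨b, hb, hbp, hbw⟩ := exists_partner_wt hp hG hρ (hKL huK) hord one_ne_zero (wt_of_comm hch)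
    have hbh : b * hu = hu * b := Units.ext (by
      have e := hbw
      unfold Wt at e
      rw [inv_one, one_smul, mul_sub, sub_mul, mul_one, one_mul, sub_left_inj] at e
      rw [Units.val_mul, Units.val_mul, e])
    have hρh : ρ * hu = hu * ρ := Units.ext (by
      have e := hch.eq
      rw [mul_sub, sub_mul, mul_one, one_mul, sub_left_inj] at e
      rw [Units.val_mul, Units.val_mul, e])
    have hn := hzz hu huK hufix hhuc ρ (hPL ρ hρP) hρ.1.2.1.1 (hKcomm ρ hρK hu huK hufix hρh) b hb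
      (partner_mem hKn hρ hρK hb hbp) hbh
    exact not_isNilpotent_of_opposite hb.1.2.1.1 hρ.1.2.1.1 hb.1.2.1.2 (opposite_of_npair hbp.symm) hn
  -- quadratic elements of all invariant Sylow subgroups commute with the pair
  have hKEY : ∀ F ∈ Cfsg.minimalQuadraticElements L, F ∈ K → (∀ a ∈ A1, a * F = F * a) →
      ∀ y, InP p L A y → ((y : End') - 1) * ((y : End') - 1) = 0 → y * F = F * y := by
    intro F hF hFK hFfix y hy hy2
    rcases eq_or_ne y 1 with rfl | hy1
    · simp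
    have hyq : y ∈ Cfsg.quadraticElements L :=
      mem_quadratic_iff.2 ⟨hy.1, hy2, fun e => hy1 (Units.ext (sub_eq_zero.1 e))⟩
    obtain ⟨y1, hy1P, z, hzL, ⟨k, hzk⟩, hzc, rfl⟩ := hcomp y hy hy2
    have hFn : Subgroup.zpowers F ≤ Subgroup.normalizer (P : Set GLM) := by
      refine Subgroup.zpowers_le.2 (Subgroup.mem_normalizer_iff.2 fun v => ⟨hPc F hFK hFfix v, fun hv => ?_⟩)
      have := hPc F⁻¹ (K.inv_mem hFK) (fun a ha => (Commute.inv_right (hFfix a ha)).eq) _ hv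
      rwa [inv_inv, show F⁻¹ * (F * v * F⁻¹) * F = v by group] at this
    have hQp := hPp.to_sup_of_normal_left' (isPGroup_zpowers (pow_eq_one_of_sq hp hF.1.2.1.1)) hFn
    have hzn : Subgroup.zpowers z ≤ Subgroup.normalizer ((P ⊔ Subgroup.zpowers F : Subgroup GLM) : Set GLM) := by
      refine Subgroup.zpowers_le.2 (Subgroup.centralizer_le_normalizer _
        (Subgroup.mem_centralizer_iff.2 fun v hv => (hzc v ?_).symm))
      exact (sup_le (fun v hv => ((hP v).1 hv).1) (Subgroup.zpowers_le.2 hFK) :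
        P ⊔ Subgroup.zpowers F ≤ K) hv
    have hzp : IsPGroup p (Subgroup.zpowers z) := by
      rintro ⟨_, j, rfl⟩
      refine ⟨k, Subtype.ext ?_⟩
      show (z ^ j) ^ p ^ k = 1
      rw [← zpow_natCast, ← zpow_mul, mul_comm, zpow_mul, zpow_natCast, hzk, one_zpow]
    have hp' := hQp.to_sup_of_normal_left' hzp hzn
    have hn := zz_nilpotent_of_pgroup hp' (Subgroup.mem_sup_left (Subgroup.mem_sup_right (Subgroup.mem_zpowers F)))
      (mul_mem (Subgroup.mem_sup_left (Subgroup.mem_sup_left hy1P))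
        (Subgroup.mem_sup_right (Subgroup.mem_zpowers z)))
    have h0 := sandwich_zero hp hG hF hyq hn
    have hK' : ∀ i j : ℕ, F ^ i * (y1 * z) ^ j * (F ^ i)⁻¹ * ((y1 * z) ^ j)⁻¹ ∈ P := by
      intro i j
      have hc : Commute y1 z := (hzc y1 ((hP y1).1 hy1P).1).symm
      have hzF : (z ^ j) * (F ^ i)⁻¹ = (F ^ i)⁻¹ * z ^ j :=
        ((Commute.pow_pow (hzc F hFK) j i).inv_right).eq
      rw [hc.mul_pow, show F ^ i * (y1 ^ j * z ^ j) * (F ^ i)⁻¹ * (y1 ^ j * z ^ j)⁻¹ =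
        F ^ i * y1 ^ j * (z ^ j * (F ^ i)⁻¹) * (z ^ j)⁻¹ * (y1 ^ j)⁻¹ by group, hzF,
        show F ^ i * y1 ^ j * ((F ^ i)⁻¹ * z ^ j) * (z ^ j)⁻¹ * (y1 ^ j)⁻¹ =
          (F ^ i * y1 ^ j * (F ^ i)⁻¹) * (y1 ^ j)⁻¹ by group]
      exact P.mul_mem (hPc _ (K.pow_mem hFK i) (fun a ha => (Commute.pow_right (hFfix a ha) i).eq) _
        (P.pow_mem hy1P j)) (P.inv_mem (P.pow_mem hy1P j))
    obtain ⟨hw, hu', -, -⟩ := families hp hG hF hyq h0 P hK' rfl rfl
    obtain ⟨hr1, hr2⟩ := exists_root hp hG hF hyq h0 rfl rfl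
    have w0 : (((y1 * z : GLM) : End') - 1) * ((F : End') - 1) * (((y1 * z : GLM) : End') - 1) = 0 := by
      by_contra hne
      obtain ⟨δ, hδ, he⟩ := hr1 hne
      have hmem : δ ∈ P := hw 1 δ (by rw [one_smul]; exact he)
      exact hnoroot δ hδ ((hP δ).1 hmem).1 hmem
    refine (commute_iff_sub.2 ?_)
    refine Commute.symm ?_
    by_contra hne
    obtain ⟨δ, hδ, he⟩ := hr2 w0 (sub_ne_zero.2 hne)
    have hmem : δ ∈ P := hu' 1 δ (by rw [one_smul]; exact he)
    exact hnoroot δ hδ ((hP δ).1 hmem).1 hmem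
  have hxorb : ∀ F ∈ Cfsg.minimalQuadraticElements L, F ∈ K → (∀ a ∈ A1, a * F = F * a) →
      ∀ a ∈ A, x * (a * F * a⁻¹) = a * F * a⁻¹ * x := by
    intro F hF hFK hFfix a ha
    have hy := hxP.conj_operator hnorm hcop (A.inv_mem ha)
    rw [inv_inv] at hy
    have hyq := (hquad a⁻¹ (hnorm (A.inv_mem ha)) x hxq).2.1.1
    rw [inv_inv] at hyq
    have e := hKEY F hF hFK hFfix _ hy hyq
    calc x * (a * F * a⁻¹) = a * (a⁻¹ * x * a * F) * a⁻¹ := by group
      _ = a * (F * (a⁻¹ * x * a)) * a⁻¹ := by rw [e]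
      _ = a * F * a⁻¹ * x := by group
  have hxh : ∀ a ∈ A, x * (a * hu * a⁻¹) = a * hu * a⁻¹ * x := by
    intro a ha
    have k1 := commute_iff_sub.1 (hxorb σ hσ hσK hσfix' a ha)
    have k2 := commute_iff_sub.1 (hxorb τ hτ hτK hτfix' a ha)
    rw [UnipJoin.conj_sub_one, ← hs] at k1
    rw [UnipJoin.conj_sub_one, ← ht] at k2
    have ai : ((a⁻¹ : GLM) : End') * (a : End') = 1 := by rw [← Units.val_mul, inv_mul_cancel]; rfl
    have ai' : (a : End') * ((a⁻¹ : GLM) : End') = 1 := by rw [← Units.val_mul, mul_inv_cancel]; rfl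
    refine Units.ext ?_
    rw [Units.val_mul, Units.val_mul (a * hu * a⁻¹)]
    have e : ((a * hu * a⁻¹ : GLM) : End') = torus γ ((a : End') * s * ((a⁻¹ : GLM) : End'))
        ((a : End') * t * ((a⁻¹ : GLM) : End')) := by
      rw [Units.val_mul, Units.val_mul, hue, torus, torus, conj_proj ai]
      have cm : ∀ u v : End', (a : End') * u * ((a⁻¹ : GLM) : End') * ((a : End') * v * ((a⁻¹ : GLM) : End')) =
          (a : End') * (u * v) * ((a⁻¹ : GLM) : End') := fun u v => by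
        simp only [mul_assoc]; rw [← mul_assoc ((a⁻¹ : GLM) : End') (a : End'), ai, one_mul]
      rw [cm, cm]
      simp only [mul_add, add_mul, mul_sub, sub_mul, mul_one, ai', mul_smul_comm, smul_mul_assoc]
    rw [e]
    have : Commute ((x : End') - 1) (torus γ ((a : End') * s * ((a⁻¹ : GLM) : End'))
        ((a : End') * t * ((a⁻¹ : GLM) : End'))) :=
      (((Commute.one_right _).sub_right ((k1.mul_right k2).add_right (k2.mul_right k1))).add_right
        ((k1.mul_right k2).smul_right _)).add_right ((k2.mul_right k1).smul_right _)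
    have h2 := this.add_left (Commute.one_left _)
    rw [sub_add_cancel] at h2
    exact h2.eq
  have h1x := hxorb σ hσ hσK hσfix' 1 A.one_mem
  have h2x := hxorb τ hτ hτK hτfix' 1 A.one_mem
  rw [one_mul, inv_one, mul_one] at h1x h2x
  have hkill : ∀ {b : GLM} {u : End'}, ((b : End') - 1) * u = 0 → u * ((b : End') - 1) = 0 →
      ∀ {F : GLM}, (F : End') - 1 = u → b * F = F * b := fun h1 h2 F hF =>
    commute_iff_sub.2 (by rw [hF]; exact h1.trans h2.symm)
  refine no_pinned hp hG hKn hγ0 hσ hτ (by rw [← hs, ← ht]; exact hpair) hxq (hKL huK) hord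
    (by rw [← hs, ← ht]; exact hue) (commute_iff_sub.1 h1x) (commute_iff_sub.1 h2x) ?_ ?_ hg hgK
    (c := E) (c' := E) hgE hgE'
  · intro b hb hbK ν hν hw
    have g2 : γ ^ 2 ≠ 1 := hγne 2 (by norm_num) (by omega)
    have g3 : γ ^ 3 ≠ 1 := hγne 3 (by norm_num) (by omega)
    rcases hν with rfl | rfl | rfl
    · refine hzz hu huK hufix hhuc x hxP hx2 hxh b hb hbK (Units.ext ?_)
      unfold Wt at hw
      rw [one_smul, mul_sub, sub_mul, mul_one, one_mul, sub_left_inj] at hw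
      rw [Units.val_mul, Units.val_mul, hw]
    · rw [hue] at hw
      obtain ⟨k1, k2⟩ := kill hpair g2 g3 hγ0 hw
      exact hzz σ hσK hσfix' ⟨τ, hτ.1.1, hstc⟩ x hxP hx2 (hxorb σ hσ hσK hσfix') b hb hbK
        (hkill k1 k2 hs.symm)
    · rw [hue, ← torus_symm] at hw
      obtain ⟨k1, k2⟩ := kill hpair.symm (by rw [inv_pow]; exact inv_eq_one.not.2 g2)
        (by rw [inv_pow]; exact inv_eq_one.not.2 g3) (inv_ne_zero hγ0) hw
      exact hzz τ hτK hτfix' ⟨σ, hσ.1.1, fun e => hstc e.symm⟩ x hxP hx2 (hxorb τ hτ hτK hτfix') b hb hbK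
        (hkill k1 k2 ht.symm)
  · intro b hb d hd hbK hdK i hiL hie hic
    obtain ⟨R, -, hxR, hR⟩ := hlocal hu huK hufix hhuc x hxP hx2 hxh
    have hiR : i ∈ R := hR i hiL fun a ha => by
      by_cases h : a ∈ A1
      · rw [hufix a h, mul_inv_cancel_right]
        exact (Units.ext (by rw [Units.val_mul, Units.val_mul]; exact hic.eq) : hu * i = i * hu).symm
      · refine Units.ext ?_
        rw [Units.val_mul, Units.val_mul (a * hu * a⁻¹)]
        have key : ∀ v ∈ K, Commute ((a * hu * a⁻¹ : GLM) : End') ((v : End') - 1) := fun v hv => by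
          refine Commute.sub_right ?_ (Commute.one_right _)
          show ((a * hu * a⁻¹ : GLM) : End') * (v : End') = (v : End') * ((a * hu * a⁻¹ : GLM) : End')
          rw [← Units.val_mul, ← Units.val_mul, hmove a ha h v hv hu huK]
        rw [hie]
        exact ((Commute.one_right _).sub_right (Commute.smul_right
          (((key d hdK).mul_right (key b hbK)).add_right ((key b hbK).mul_right (key d hdK))) _)).symm.eq
    have hn := mul_nilpotent_of_pgroup (opc_isPGroup R) hxR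
      ((Subgroup.mem_normalizer_iff.1 (normalizer_le_opc R (Subgroup.le_normalizer hiR)) x).1 hxR)
    rwa [UnipJoin.conj_sub_one] at hn

end Cfsg.Agent.Spor.Flavell
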