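import Mathlib

/-!
The group step of Flavell's theorem, for a family of groups `G i` with normal subgroups `Q i ≤ P`:
the elements which stay in the `Q i` under all compositions of automorphisms of `P` and conjugations
by the `G i` form a characteristic subgroup of `P` normalised by all `G i`. It contains the quadratic
elements of `P` and auxiliary sets of elements quadratic on `Q i` which detect membership in `Q i`.
-/

set_option autoImplicit false
set_option linter.unusedSectionVars false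

namespace Cfsg.Agent.Spor.Flavell.Words

open scoped commutatorElement

variable {X : Type*} [Group X] {ι : Type*} {G Q : ι → Subgroup X} {P : Subgroup X}

/-- An automorphism of a subgroup as a map on the whole group. -/
noncomputable def ext (φ : P ≃* P) (x : X) : X := by
  classical exact if h : x ∈ P then ((φ ⟨x, h⟩ : P) : X) else 1

theorem ext_mem (φ : P ≃* P) (x : X) : ext φ x ∈ P := by
  unfold ext
  split
  · exact Subtype.coe_prop _
  · exact one_mem _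

theorem ext_of_mem (φ : P ≃* P) {x : X} (h : x ∈ P) : ext φ x = φ ⟨x, h⟩ := by
  rw [ext, dif_pos h]

theorem ext_mul (φ : P ≃* P) {x y : X} (hx : x ∈ P) (hy : y ∈ P) : ext φ (x * y) = ext φ x * ext φ y := by
  rw [ext_of_mem φ hx, ext_of_mem φ hy, ext_of_mem φ (mul_mem hx hy), ← P.coe_mul, ← map_mul]; rfl

theorem ext_inv (φ : P ≃* P) {x : X} (hx : x ∈ P) : ext φ x⁻¹ = (ext φ x)⁻¹ := by
  rw [ext_of_mem φ hx, ext_of_mem φ (inv_mem hx), ← P.coe_inv, ← map_inv]; rfl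

theorem ext_one (φ : P ≃* P) : ext φ 1 = 1 := by
  rw [ext_of_mem φ (one_mem P), show (⟨1, one_mem P⟩ : P) = 1 from rfl, map_one, P.coe_one]

theorem ext_symm_ext (φ : P ≃* P) {x : X} (hx : x ∈ P) : ext φ.symm (ext φ x) = x := by
  rw [ext_of_mem φ hx, ext_of_mem φ.symm (Subtype.coe_prop _)]
  simp

theorem ext_ext_symm (φ : P ≃* P) {x : X} (hx : x ∈ P) : ext φ (ext φ.symm x) = x := by
  rw [ext_of_mem φ.symm hx, ext_of_mem φ (Subtype.coe_prop _)]
  simp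

theorem ext_refl {x : X} (hx : x ∈ P) : ext (MulEquiv.refl P) x = x := by
  rw [ext_of_mem _ hx]; rfl

/-- A letter of a word: an element of some `G i` followed by an automorphism of `P`. -/
abbrev Letter (G : ι → Subgroup X) (P : Subgroup X) := (Σ i, G i) × (P ≃* P)

/-- Conjugate, then apply the automorphism. -/
noncomputable def step (e : Letter G P) (x : X) : X := ext e.2 ((e.1.2 : X) * x * (e.1.2 : X)⁻¹)

theorem step_mem (e : Letter G P) (x : X) : step e x ∈ P := ext_mem _ _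

/-- Apply a word. -/
noncomputable def run : List (Letter G P) → X → X
  | [], x => x
  | e :: L, x => run L (step e x)

/-- All intermediate values lie in `Q`. -/
def Chk (Q : ι → Subgroup X) : List (Letter G P) → X → Prop
  | [], _ => True
  | e :: L, x => x ∈ Q e.1.1 ∧ Chk Q L (step e x)

theorem run_append (L L' : List (Letter G P)) (x : X) : run (L ++ L') x = run L' (run L x) := by
  induction L generalizing x with
  | nil => rfl
  | cons e L ih => exact ih _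

theorem chk_append (L L' : List (Letter G P)) (x : X) :
    Chk Q (L ++ L') x ↔ Chk Q L x ∧ Chk Q L' (run L x) := by
  induction L generalizing x with
  | nil => exact ⟨fun h => ⟨trivial, h⟩, fun h => h.2⟩
  | cons e L ih =>
    show x ∈ Q e.1.1 ∧ Chk Q (L ++ L') (step e x) ↔ (x ∈ Q e.1.1 ∧ Chk Q L (step e x)) ∧ Chk Q L' (run L (step e x))
    rw [ih, and_assoc]

theorem run_mem (L : List (Letter G P)) {x : X} (hx : x ∈ P) : run L x ∈ P := by
  induction L generalizing x with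
  | nil => exact hx
  | cons e L ih => exact ih (step_mem e x)

theorem chk_run_one (L : List (Letter G P)) : Chk Q L 1 ∧ run L 1 = 1 := by
  induction L with
  | nil => exact ⟨trivial, rfl⟩
  | cons e L ih =>
    have h : step e (1 : X) = 1 := by rw [step, mul_one, mul_inv_cancel, ext_one]
    show ((1 : X) ∈ Q e.1.1 ∧ Chk Q L (step e 1)) ∧ run L (step e 1) = 1
    rw [h]
    exact ⟨⟨one_mem _, ih.1⟩, ih.2⟩

variable (hQP : ∀ i, Q i ≤ P) (hGQ : ∀ i, ∀ g ∈ G i, ∀ x ∈ Q i, g * x * g⁻¹ ∈ Q i)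
include hQP hGQ

theorem chk_run_mul (L : List (Letter G P)) {x y : X} (hx : Chk Q L x) (hy : Chk Q L y) :
    Chk Q L (x * y) ∧ run L (x * y) = run L x * run L y := by
  induction L generalizing x y with
  | nil => exact ⟨trivial, rfl⟩
  | cons e L ih =>
    have hs : step e (x * y) = step e x * step e y := by
      rw [step, step, step, show (e.1.2 : X) * (x * y) * (e.1.2 : X)⁻¹ =
        (e.1.2 : X) * x * (e.1.2 : X)⁻¹ * ((e.1.2 : X) * y * (e.1.2 : X)⁻¹) by group]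
      exact ext_mul _ (hQP _ (hGQ _ _ e.1.2.2 _ hx.1)) (hQP _ (hGQ _ _ e.1.2.2 _ hy.1))
    obtain ⟨h1, h2⟩ := ih hx.2 hy.2
    exact ⟨⟨mul_mem hx.1 hy.1, hs ▸ h1⟩, show run L (step e (x * y)) = _ from hs ▸ h2⟩

theorem chk_run_inv (L : List (Letter G P)) {x : X} (hx : Chk Q L x) :
    Chk Q L x⁻¹ ∧ run L x⁻¹ = (run L x)⁻¹ := by
  induction L generalizing x with
  | nil => exact ⟨trivial, rfl⟩
  | cons e L ih =>
    have hs : step e x⁻¹ = (step e x)⁻¹ := by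
      rw [step, step, show (e.1.2 : X) * x⁻¹ * (e.1.2 : X)⁻¹ = ((e.1.2 : X) * x * (e.1.2 : X)⁻¹)⁻¹ by group]
      exact ext_inv _ (hQP _ (hGQ _ _ e.1.2.2 _ hx.1))
    obtain ⟨h1, h2⟩ := ih hx.2
    exact ⟨⟨inv_mem hx.1, hs ▸ h1⟩, show run L (step e x⁻¹) = _ from hs ▸ h2⟩

/-- An inner word: an automorphism followed by a word, as a map from `P` to `P`. -/
noncomputable def inner (φ : P ≃* P) (L : List (Letter G P)) (x : X) : X := run L (ext φ x)

/-- The domain of an inner word. -/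
noncomputable def dom (φ : P ≃* P) (L : List (Letter G P)) : Subgroup X where
  carrier := {x | x ∈ P ∧ Chk Q L (ext φ x)}
  mul_mem' := fun hx hy => ⟨mul_mem hx.1 hy.1, by
    rw [ext_mul φ hx.1 hy.1]; exact (chk_run_mul hQP hGQ L hx.2 hy.2).1⟩
  one_mem' := ⟨one_mem P, by rw [ext_one]; exact (chk_run_one L).1⟩
  inv_mem' := fun hx => ⟨inv_mem hx.1, by
    rw [ext_inv φ hx.1]; exact (chk_run_inv hQP hGQ L hx.2).1⟩

theorem inner_mul (φ : P ≃* P) (L : List (Letter G P)) {x y : X} (hx : x ∈ dom hQP hGQ φ L)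
    (hy : y ∈ dom hQP hGQ φ L) : inner φ L (x * y) = inner φ L x * inner φ L y := by
  rw [inner, inner, inner, ext_mul φ hx.1 hy.1]; exact (chk_run_mul hQP hGQ L hx.2 hy.2).2

theorem inner_inv (φ : P ≃* P) (L : List (Letter G P)) {x : X} (hx : x ∈ dom hQP hGQ φ L) :
    inner φ L x⁻¹ = (inner φ L x)⁻¹ := by
  rw [inner, inner, ext_inv φ hx.1]; exact (chk_run_inv hQP hGQ L hx.2).2

theorem inner_comm (φ : P ≃* P) (L : List (Letter G P)) {x y : X} (hx : x ∈ dom hQP hGQ φ L)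
    (hy : y ∈ dom hQP hGQ φ L) : inner φ L ⁅x, y⁆ = ⁅inner φ L x, inner φ L y⁆ := by
  rw [commutatorElement_def, commutatorElement_def, inner_mul hQP hGQ φ L (mul_mem (mul_mem hx hy) (inv_mem hx))
    (inv_mem hy), inner_mul hQP hGQ φ L (mul_mem hx hy) (inv_mem hx), inner_mul hQP hGQ φ L hx hy,
    inner_inv hQP hGQ φ L hx, inner_inv hQP hGQ φ L hy]

omit hQP hGQ

/-- The inverse inner word. -/
noncomputable def inv (φ : P ≃* P) : List (Letter G P) → (P ≃* P) × List (Letter G P)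
  | [] => (φ.symm, [])
  | e :: L => ((inv e.2 L).1, (inv e.2 L).2 ++ [(⟨e.1.1, e.1.2⁻¹⟩, φ.symm)])

theorem inv_length (φ : P ≃* P) (L : List (Letter G P)) : (inv φ L).2.length = L.length := by
  induction L generalizing φ with
  | nil => rfl
  | cons e L ih => simp [inv, ih]

include hQP hGQ

theorem inv_spec (φ : P ≃* P) (L : List (Letter G P)) {x : X} (hx : x ∈ dom hQP hGQ φ L) :
    inner φ L x ∈ dom hQP hGQ (inv φ L).1 (inv φ L).2 ∧ inner (inv φ L).1 (inv φ L).2 (inner φ L x) = x := by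
  induction L generalizing φ x with
  | nil => exact ⟨⟨ext_mem _ _, trivial⟩, ext_symm_ext φ hx.1⟩
  | cons e L ih =>
    obtain ⟨hQ, hc⟩ := hx.2
    have hQ' := hGQ _ _ e.1.2.2 _ hQ
    obtain ⟨⟨hP, hc'⟩, he⟩ := ih e.2 ⟨hQP _ hQ', hc⟩
    refine ⟨⟨hP, ?_⟩, ?_⟩
    · show Chk Q ((inv e.2 L).2 ++ [(⟨e.1.1, e.1.2⁻¹⟩, φ.symm)]) _
      rw [chk_append]
      exact ⟨hc', (show run (inv e.2 L).2 (ext (inv e.2 L).1 _) = _ from he).symm ▸ hQ', trivial⟩
    · show run ((inv e.2 L).2 ++ [(⟨e.1.1, e.1.2⁻¹⟩, φ.symm)]) (ext (inv e.2 L).1 _) = x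
      rw [run_append]
      have he' : run (inv e.2 L).2 (ext (inv e.2 L).1 (inner φ (e :: L) x)) =
          (e.1.2 : X) * ext φ x * (e.1.2 : X)⁻¹ := he
      rw [he']
      show step ((⟨e.1.1, e.1.2⁻¹⟩, φ.symm) : Letter G P) _ = x
      rw [step, Subgroup.coe_inv, show ((e.1.2 : X))⁻¹ * ((e.1.2 : X) * ext φ x * (e.1.2 : X)⁻¹) * ((e.1.2 : X))⁻¹⁻¹ =
        ext φ x by group, ext_symm_ext φ hx.1]

theorem inv_spec' (φ : P ≃* P) (L : List (Letter G P)) {y : X}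
    (hy : y ∈ dom hQP hGQ (inv φ L).1 (inv φ L).2) :
    inner (inv φ L).1 (inv φ L).2 y ∈ dom hQP hGQ φ L ∧ inner φ L (inner (inv φ L).1 (inv φ L).2 y) = y := by
  induction L generalizing φ y with
  | nil => exact ⟨⟨ext_mem _ _, trivial⟩, ext_ext_symm φ hy.1⟩
  | cons e L ih =>
    obtain ⟨hP, hc⟩ := hy
    change Chk Q ((inv e.2 L).2 ++ [(⟨e.1.1, e.1.2⁻¹⟩, φ.symm)]) (ext (inv e.2 L).1 y) at hc
    rw [chk_append] at hc
    obtain ⟨hc1, hQ, -⟩ := hc
    obtain ⟨hd, he⟩ := ih e.2 ⟨hP, hc1⟩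
    have hQ' := hGQ _ _ (inv_mem e.1.2.2) _ hQ
    have hval : inner (inv φ (e :: L)).1 (inv φ (e :: L)).2 y =
        ext φ.symm ((e.1.2 : X)⁻¹ * inner (inv e.2 L).1 (inv e.2 L).2 y * (e.1.2 : X)) := by
      show run ((inv e.2 L).2 ++ [(⟨e.1.1, e.1.2⁻¹⟩, φ.symm)]) (ext (inv e.2 L).1 y) = _
      rw [run_append]
      show step ((⟨e.1.1, e.1.2⁻¹⟩, φ.symm) : Letter G P) _ = _
      rw [step, Subgroup.coe_inv, inv_inv]
      rfl
    have hmem : (e.1.2 : X)⁻¹ * inner (inv e.2 L).1 (inv e.2 L).2 y * (e.1.2 : X) ∈ Q e.1.1 := by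
      rw [inv_inv] at hQ'
      exact hQ'
    have hback : (e.1.2 : X) * ((e.1.2 : X)⁻¹ * inner (inv e.2 L).1 (inv e.2 L).2 y * (e.1.2 : X)) * (e.1.2 : X)⁻¹ =
        inner (inv e.2 L).1 (inv e.2 L).2 y := by group
    refine ⟨?_, ?_⟩
    · rw [hval]
      refine ⟨ext_mem _ _, ?_⟩
      rw [ext_ext_symm φ (hQP _ hmem)]
      refine ⟨hmem, ?_⟩
      rw [step, hback]
      exact hd.2
    · rw [hval]
      show run (e :: L) (ext φ (ext φ.symm _)) = y
      rw [ext_ext_symm φ (hQP _ hmem)]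
      show run L (step e _) = y
      rw [step, hback]
      exact he

omit hQP hGQ

/-- The elements of `P` quadratic on `P`. -/
def Qs (P : Subgroup X) : Set X := {s | s ∈ P ∧ ∀ y ∈ P, ⁅s, ⁅s, y⁆⁆ = 1}

/-- The elements of `P` quadratic on all quadratic elements. -/
def Xone (P : Subgroup X) : Set X := {x | x ∈ P ∧ ∀ s ∈ Qs P, ⁅x, ⁅x, s⁆⁆ = 1}

theorem ext_mem_qs (φ : P ≃* P) {s : X} (hs : s ∈ Qs P) : ext φ s ∈ Qs P := by
  refine ⟨ext_mem _ _, fun y hy => ?_⟩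
  have hy' : ext φ.symm y ∈ P := ext_mem _ _
  have h1 : ⁅s, ext φ.symm y⁆ ∈ P := mul_mem (mul_mem (mul_mem hs.1 hy') (inv_mem hs.1)) (inv_mem hy')
  have hc : ∀ a b : X, a ∈ P → b ∈ P → ext φ ⁅a, b⁆ = ⁅ext φ a, ext φ b⁆ := fun a b ha hb => by
    rw [commutatorElement_def, commutatorElement_def, ext_mul φ (mul_mem (mul_mem ha hb) (inv_mem ha)) (inv_mem hb),
      ext_mul φ (mul_mem ha hb) (inv_mem ha), ext_mul φ ha hb, ext_inv φ ha, ext_inv φ hb]
  have h := congrArg (ext φ) (hs.2 _ hy')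
  rw [ext_one, hc _ _ hs.1 h1, hc _ _ hs.1 hy', ext_ext_symm φ hy] at h
  exact h

/-- The hypotheses on the family. -/
structure Data (G Q : ι → Subgroup X) (P : Subgroup X) (Y : ι → Set X) : Prop where
  le : ∀ i, Q i ≤ P
  norm : ∀ i, ∀ g ∈ G i, ∀ x ∈ Q i, g * x * g⁻¹ ∈ Q i
  qs : ∀ i, Qs P ⊆ Q i
  quad : ∀ i, ∀ v ∈ Y i, v ∈ Q i ∧ ∀ q ∈ Q i, ⁅v, ⁅v, q⁆⁆ = 1
  fix : ∀ i, ∀ v ∈ Y i, ∀ w ∈ Xone P, ∀ d ∈ Xone P, ⁅⁅v, ⁅v, w⁆⁆, d⁆ = 1
  det : ∀ i, ∀ z ∈ Xone P, (∀ w ∈ Y i, ∀ d ∈ Y i, ⁅⁅z, ⁅z, w⁆⁆, d⁆ = 1) → z ∈ Q i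

variable {Y : ι → Set X}

theorem Data.yquad (hD : Data G Q P Y) {i : ι} {y : X} (hy : y ∈ Qs P ∨ y ∈ Y i) :
    y ∈ Q i ∧ ∀ q ∈ Q i, ⁅y, ⁅y, q⁆⁆ = 1 := by
  rcases hy with hy | hy
  · exact ⟨hD.qs i hy, fun q hq => hy.2 q (hD.le i hq)⟩
  · exact hD.quad i y hy

/-- The image of a quadratic element is quadratic on the quadratic elements. -/
theorem Data.xone_image (hD : Data G Q P Y) {n : ℕ}
    (hq : ∀ L : List (Letter G P), L.length ≤ n → ∀ s ∈ Qs P, Chk Q L s ∧ ∀ j, run L s ∈ Q j)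
    (φ : P ≃* P) (L : List (Letter G P)) (hL : L.length ≤ n) {i : ι} {v : X}
    (hv : v ∈ dom hD.le hD.norm φ L) (hv2 : ∀ q ∈ Q i, ⁅v, ⁅v, q⁆⁆ = 1) : inner φ L v ∈ Xone P := by
  refine ⟨run_mem L (ext_mem _ _), fun s hs => ?_⟩
  obtain ⟨hc, hQ⟩ := hq (inv φ L).2 ((inv_length φ L).trans_le hL) _ (ext_mem_qs (inv φ L).1 hs)
  obtain ⟨hd, he⟩ := inv_spec' hD.le hD.norm φ L (y := s) ⟨hs.1, hc⟩
  have h2 := congrArg (inner φ L) (hv2 _ (hQ i))
  have hc2 : ⁅v, inner (inv φ L).1 (inv φ L).2 s⁆ ∈ dom hD.le hD.norm φ L :=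
    mul_mem (mul_mem (mul_mem hv hd) (inv_mem hv)) (inv_mem hd)
  rw [show inner φ L (1 : X) = 1 by rw [inner, ext_one]; exact (chk_run_one (Q := Q) L).2] at h2
  change inner φ L ⁅v, ⁅v, inner (inv φ L).1 (inv φ L).2 s⁆⁆ = 1 at h2
  rwa [inner_comm hD.le hD.norm φ L hv hc2, inner_comm hD.le hD.norm φ L hv hd, he] at h2

/-- The aligned case. -/
theorem Data.aligned (hD : Data G Q P Y) {n : ℕ}
    (hq : ∀ L : List (Letter G P), L.length ≤ n → ∀ s ∈ Qs P, Chk Q L s ∧ ∀ j, run L s ∈ Q j)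
    (hdom : ∀ (φ : P ≃* P) (L : List (Letter G P)), L.length ≤ n → ∀ i y, y ∈ Qs P ∨ y ∈ Y i →
      y ∈ dom hD.le hD.norm φ L)
    (φ : P ≃* P) (L : List (Letter G P)) (hL : L.length ≤ n) {i : ι} {v : X} (hv : v ∈ Qs P ∨ v ∈ Y i) (j : ι) :
    inner φ L v ∈ Q j := by
  have hvd := hdom φ L hL i v hv
  refine hD.det j _ (hD.xone_image hq φ L hL hvd (hD.yquad hv).2) fun w hw d hd => ?_
  have pull : ∀ w ∈ Y j, ∃ a, a ∈ dom hD.le hD.norm φ L ∧ a ∈ Xone P ∧ inner φ L a = w := fun w hw => by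
    have hL' : (inv φ L).2.length ≤ n := (inv_length φ L).trans_le hL
    have h1 := hdom (inv φ L).1 (inv φ L).2 hL' j w (Or.inr hw)
    exact ⟨_, (inv_spec' hD.le hD.norm φ L h1).1, hD.xone_image hq _ _ hL' h1 (hD.quad j w hw).2,
      (inv_spec' hD.le hD.norm φ L h1).2⟩
  obtain ⟨a, ha, haX, rfl⟩ := pull w hw
  obtain ⟨c, hc, hcX, rfl⟩ := pull d hd
  have key : ⁅⁅v, ⁅v, a⁆⁆, c⁆ = 1 := by
    rcases hv with hv | hv
    · rw [hv.2 a ha.1, commutatorElement_def]; group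
    · exact hD.fix i v hv a haX c hcX
  have h := congrArg (inner φ L) key
  have hva : ⁅v, a⁆ ∈ dom hD.le hD.norm φ L := mul_mem (mul_mem (mul_mem hvd ha) (inv_mem hvd)) (inv_mem ha)
  have hvva : ⁅v, ⁅v, a⁆⁆ ∈ dom hD.le hD.norm φ L :=
    mul_mem (mul_mem (mul_mem hvd hva) (inv_mem hvd)) (inv_mem hva)
  rwa [show inner φ L (1 : X) = 1 by rw [inner, ext_one]; exact (chk_run_one (Q := Q) L).2,
    inner_comm hD.le hD.norm φ L hvva hc, inner_comm hD.le hD.norm φ L hvd hva,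
    inner_comm hD.le hD.norm φ L hvd ha] at h

/-- The induction on the length of the words. -/
theorem Data.stay (hD : Data G Q P Y) : ∀ (n : ℕ) (L : List (Letter G P)), L.length ≤ n → ∀ i y,
    y ∈ Qs P ∨ (y ∈ Y i ∧ ∀ e ∈ L.head?, e.1.1 = i) → Chk Q L y ∧ ∀ j, run L y ∈ Q j := by
  intro n
  induction n with
  | zero =>
    intro L hL i y hy
    obtain rfl : L = [] := List.length_eq_zero_iff.1 (Nat.le_zero.1 hL)
    refine ⟨trivial, fun j => ?_⟩
    have hy' : y ∈ Qs P ∨ y ∈ Y i := hy.imp id And.left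
    have hdom : ∀ (φ : P ≃* P) (L : List (Letter G P)), L.length ≤ 0 → ∀ i y, y ∈ Qs P ∨ y ∈ Y i →
        y ∈ dom hD.le hD.norm φ L := by
      intro φ L hL i y hy
      obtain rfl : L = [] := List.length_eq_zero_iff.1 (Nat.le_zero.1 hL)
      exact ⟨hD.le i (hD.yquad hy).1, trivial⟩
    have h := hD.aligned (n := 0) (fun L hL s hs => by
      obtain rfl : L = [] := List.length_eq_zero_iff.1 (Nat.le_zero.1 hL)
      exact ⟨trivial, fun j => hD.qs j hs⟩) hdom (MulEquiv.refl P) [] le_rfl hy' j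
    rwa [inner, ext_refl (hD.le i (hD.yquad hy').1)] at h
  | succ n ih =>
    have hq : ∀ L : List (Letter G P), L.length ≤ n → ∀ s ∈ Qs P, Chk Q L s ∧ ∀ j, run L s ∈ Q j :=
      fun L hL s hs => by
        rcases L with _ | ⟨e, L⟩
        · exact ⟨trivial, fun j => hD.qs j hs⟩
        · exact ih _ hL e.1.1 s (Or.inl hs)
    have hdom : ∀ (φ : P ≃* P) (L : List (Letter G P)), L.length ≤ n → ∀ i y, y ∈ Qs P ∨ y ∈ Y i →
        y ∈ dom hD.le hD.norm φ L := by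
      intro φ L hL i y hy
      have hyP := hD.le i (hD.yquad hy).1
      have hs : step ((⟨i, 1⟩, φ) : Letter G P) y = ext φ y := by simp [step]
      refine ⟨hyP, ?_⟩
      rcases List.eq_nil_or_concat' L with rfl | ⟨L0, e, rfl⟩
      · trivial
      rw [List.length_append, List.length_singleton] at hL
      obtain ⟨h1, h2⟩ := ih (((⟨i, 1⟩, φ) : Letter G P) :: L0) (by simpa using hL) i y
        (hy.imp id fun h => ⟨h, by simp⟩)
      obtain ⟨-, h1'⟩ := h1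
      rw [hs] at h1'
      change ∀ j, run L0 (step ((⟨i, 1⟩, φ) : Letter G P) y) ∈ Q j at h2
      rw [hs] at h2
      rw [chk_append]
      exact ⟨h1', h2 _, trivial⟩
    intro L hL i y hy
    rcases L with _ | ⟨⟨⟨k, g⟩, φ⟩, L⟩
    · exact ih [] (Nat.zero_le n) i y hy
    rw [List.length_cons, Nat.succ_le_succ_iff] at hL
    have hyk : y ∈ Qs P ∨ y ∈ Y k := hy.imp id fun h => by
      have hk : k = i := h.2 ((⟨k, g⟩, φ) : Letter G P) (by simp)
      exact hk ▸ h.1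
    have hv : (g : X) * y * (g : X)⁻¹ ∈ Q k := hD.norm k _ g.2 _ (hD.yquad hyk).1
    have hv2 : ∀ q ∈ Q k, ⁅(g : X) * y * (g : X)⁻¹, ⁅(g : X) * y * (g : X)⁻¹, q⁆⁆ = 1 := fun q hq => by
      have hq' := hD.norm k _ (inv_mem g.2) _ hq
      have e := congrArg (MulAut.conj (g : X)) ((hD.yquad hyk).2 _ hq')
      simp only [map_commutatorElement, map_one, MulAut.conj_apply] at e
      rwa [show (g : X) * ((g : X)⁻¹ * q * ((g : X)⁻¹)⁻¹) * (g : X)⁻¹ = q by group] at e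
    have hchk : Chk Q (((⟨k, g⟩, φ) : Letter G P) :: L) y := by
      refine ⟨(hD.yquad hyk).1, ?_⟩
      rcases List.eq_nil_or_concat' L with rfl | ⟨L0, e, rfl⟩
      · trivial
      rw [List.length_append, List.length_singleton] at hL
      obtain ⟨⟨-, h1⟩, h2⟩ := ih (((⟨k, g⟩, φ) : Letter G P) :: L0) (by simpa using hL) k y
        (hyk.imp id fun h => ⟨h, by simp⟩)
      rw [chk_append]
      exact ⟨h1, h2 _, trivial⟩
    refine ⟨hchk, fun j => ?_⟩
    show inner φ L ((g : X) * y * (g : X)⁻¹) ∈ Q j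
    have hvd : (g : X) * y * (g : X)⁻¹ ∈ dom hD.le hD.norm φ L := ⟨hD.le k hv, hchk.2⟩
    refine hD.det j _ (hD.xone_image hq φ L hL hvd hv2) fun w hw d _ => ?_
    have hL' : (inv φ L).2.length ≤ n := (inv_length φ L).trans_le hL
    have h1 := hdom (inv φ L).1 (inv φ L).2 hL' j w (Or.inr hw)
    obtain ⟨ha, he⟩ := inv_spec' hD.le hD.norm φ L h1
    have haQ := hD.aligned hq hdom (inv φ L).1 (inv φ L).2 hL' (Or.inr hw) k
    have h := congrArg (inner φ L) (hv2 _ haQ)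
    have hva : ⁅(g : X) * y * (g : X)⁻¹, inner (inv φ L).1 (inv φ L).2 w⁆ ∈ dom hD.le hD.norm φ L :=
      mul_mem (mul_mem (mul_mem hvd ha) (inv_mem hvd)) (inv_mem ha)
    rw [show inner φ L (1 : X) = 1 by rw [inner, ext_one]; exact (chk_run_one (Q := Q) L).2,
      inner_comm hD.le hD.norm φ L hvd hva, inner_comm hD.le hD.norm φ L hvd ha, he] at h
    rw [h, commutatorElement_def]
    group

/-- The set of elements that never leave the `Q i`. -/
def core (hD : Data G Q P Y) : Subgroup X where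
  carrier := {x | x ∈ P ∧ ∀ (φ : P ≃* P) (L : List (Letter G P)), Chk Q L (ext φ x) ∧ ∀ j, run L (ext φ x) ∈ Q j}
  mul_mem' := fun {a b} ha hb => ⟨mul_mem ha.1 hb.1, fun φ L => by
    obtain ⟨h1, h2⟩ := chk_run_mul hD.le hD.norm L (ha.2 φ L).1 (hb.2 φ L).1
    rw [ext_mul φ ha.1 hb.1]
    exact ⟨h1, fun j => h2 ▸ mul_mem ((ha.2 φ L).2 j) ((hb.2 φ L).2 j)⟩⟩
  one_mem' := ⟨one_mem P, fun φ L => by
    rw [ext_one]; exact ⟨(chk_run_one L).1, fun j => by rw [(chk_run_one (Q := Q) L).2]; exact one_mem _⟩⟩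
  inv_mem' := fun {a} ha => ⟨inv_mem ha.1, fun φ L => by
    obtain ⟨h1, h2⟩ := chk_run_inv hD.le hD.norm L (ha.2 φ L).1
    rw [ext_inv φ ha.1]
    exact ⟨h1, fun j => h2 ▸ inv_mem ((ha.2 φ L).2 j)⟩⟩

theorem core_le (hD : Data G Q P Y) : core hD ≤ P := fun _ hx => hx.1

theorem core_le_q (hD : Data G Q P Y) (i : ι) : core hD ≤ Q i := fun x hx => by
  have := (hx.2 (MulEquiv.refl P) []).2 i
  rwa [run, ext_refl hx.1] at this

theorem ext_trans (φ ψ : P ≃* P) {x : X} (hx : x ∈ P) : ext ψ (ext φ x) = ext (φ.trans ψ) x := by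
  rw [ext_of_mem φ hx, ext_of_mem ψ (Subtype.coe_prop _), ext_of_mem _ hx]
  rfl

theorem core_char (hD : Data G Q P Y) : ((core hD).subgroupOf P).Characteristic := by
  refine Subgroup.characteristic_iff_map_le.2 fun φ => ?_
  rintro _ ⟨x, hx, rfl⟩
  refine ⟨Subtype.coe_prop _, fun ψ L => ?_⟩
  have h : Chk Q L (ext (φ.trans ψ) (x : X)) ∧ ∀ j, run L (ext (φ.trans ψ) (x : X)) ∈ Q j := hx.2 (φ.trans ψ) L
  rwa [← ext_trans φ ψ x.2, ext_of_mem φ x.2] at h

theorem core_normal (hD : Data G Q P Y) (i : ι) :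
    G i ≤ Subgroup.normalizer ((core hD : Subgroup X) : Set X) := by
  have hconj : ∀ g ∈ G i, ∀ x ∈ core hD, g * x * g⁻¹ ∈ core hD := by
    intro g hg x hx
    refine ⟨hD.le i (hD.norm i g hg x (core_le_q hD i hx)), fun φ L => ?_⟩
    obtain ⟨⟨-, h1⟩, h2⟩ := hx.2 (MulEquiv.refl P) (((⟨i, ⟨g, hg⟩⟩, φ) : Letter G P) :: L)
    change ∀ j, run L (step ((⟨i, ⟨g, hg⟩⟩, φ) : Letter G P) (ext (MulEquiv.refl P) x)) ∈ Q j at h2
    rw [ext_refl hx.1] at h1 h2
    exact ⟨h1, h2⟩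
  intro g hg
  refine Subgroup.mem_normalizer_iff.2 fun x => ⟨hconj g hg x, fun hx => ?_⟩
  have := hconj g⁻¹ (inv_mem hg) _ hx
  rwa [inv_inv, show g⁻¹ * (g * x * g⁻¹) * g = x by group] at this

theorem qs_le_core (hD : Data G Q P Y) (i : ι) {s : X} (hs : s ∈ Qs P) : s ∈ core hD :=
  ⟨hs.1, fun φ L => hD.stay L.length L le_rfl i _ (Or.inl (ext_mem_qs φ hs))⟩

theorem y_le_core (hD : Data G Q P Y) {i : ι} {y : X} (hy : y ∈ Y i) : y ∈ core hD := by
  have hyP := hD.le i (hD.quad i y hy).1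
  refine ⟨hyP, fun φ L => ?_⟩
  have h := hD.stay (L.length + 1) (((⟨i, 1⟩, φ) : Letter G P) :: L) (by simp) i y
    (Or.inr ⟨hy, by simp⟩)
  have hs : step ((⟨i, 1⟩, φ) : Letter G P) y = ext φ y := by simp [step]
  obtain ⟨⟨-, h1⟩, h2⟩ := h
  change ∀ j, run L (step ((⟨i, 1⟩, φ) : Letter G P) y) ∈ Q j at h2
  rw [hs] at h1 h2
  exact ⟨h1, h2⟩

/-- The quadratic elements stay in every `Q i` along every word. -/
theorem stay (hD : Data G Q P Y) (L : List (Letter G P)) (i : ι) {s : X} (hs : s ∈ Qs P) :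
    Chk Q L s ∧ ∀ j, run L s ∈ Q j :=
  hD.stay L.length L le_rfl i s (Or.inl hs)

/-- A characteristic subgroup of `P` normal in all `G i`. -/
theorem exists_char (hD : Data G Q P Y) (i : ι) (hne : ∃ s ∈ Qs P, s ≠ 1) :
    ∃ C : Subgroup P, C.Characteristic ∧ C ≠ ⊥ ∧
      ∀ j, G j ≤ Subgroup.normalizer ((C.map P.subtype : Subgroup X) : Set X) := by
  refine ⟨(core hD).subgroupOf P, core_char hD, fun e => ?_, fun j => ?_⟩
  · obtain ⟨s, hs, hs1⟩ := hne
    exact hs1 (congrArg Subtype.val ((Subgroup.eq_bot_iff_forall _).1 e ⟨s, hs.1⟩ (qs_le_core hD i hs)))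
  · rw [Subgroup.map_subgroupOf_eq_of_le (core_le hD)]
    exact core_normal hD j

end Cfsg.Agent.Spor.Flavell.Words
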