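import Mathlib
import Cfsg.Agent.Lib.Grp.Coprime
import Cfsg.Agent.Lib.Grp.Frattini
import Cfsg.Agent.Lib.Grp.OmegaFixed
import Cfsg.Agent.Lib.Spor.FlavellBasics
import Cfsg.Agent.Lib.Spor.FlavellBridge
import Cfsg.Agent.Lib.Spor.FlavellWords
import Cfsg.Agent.Lib.Spor.FlavellCommutant

/-!
The elements detecting membership in the `p`-core, and Flavell's theorem.
-/

set_option autoImplicit false
set_option linter.unusedSectionVars false

namespace Cfsg.Agent.Spor.Flavell

open Cfsg.Agent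
open scoped commutatorElement Pointwise

variable {X : Type*} [Group X] [Finite X] {p : ℕ} [Fact p.Prime]

theorem isPGroup_of_coprime {N : Subgroup X} (h : ∀ g ∈ N, (orderOf g).Coprime p → g = 1) :
    IsPGroup p N := by
  rintro ⟨g, hg⟩
  obtain ⟨a, m, hm, e⟩ := Nat.exists_eq_pow_mul_and_not_dvd (orderOf_pos g).ne' p (Fact.out : p.Prime).ne_one
  have h1 : orderOf (g ^ p ^ a) = m := by
    rw [orderOf_pow' _ (pow_ne_zero _ (Fact.out : p.Prime).ne_zero), e, Nat.gcd_eq_right ⟨m, rfl⟩,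
      Nat.mul_div_cancel_left _ (pow_pos (Fact.out : p.Prime).pos _)]
  exact ⟨a, Subtype.ext (h _ (pow_mem hg _) (h1 ▸ ((Fact.out : p.Prime).coprime_iff_not_dvd.2 hm).symm))⟩

/-- An element of order prime to `p` lies in the group generated by any power with exponent a power
of `p`. -/
theorem exists_pow_pow_eq {g : X} (hg : (orderOf g).Coprime p) (k : ℕ) : ∃ j : ℕ, (g ^ p ^ k) ^ j = g :=
  exists_pow_eq_self_of_coprime (hg.pow_right k).symm

theorem pGroup_coprime_card {g : X} {K : Subgroup X} (hg : (orderOf g).Coprime p) (hK : IsPGroup p K) :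
    (Nat.card (Subgroup.zpowers g)).Coprime (Nat.card K) := by
  obtain ⟨n, hn⟩ := IsPGroup.iff_card.1 hK
  rw [Nat.card_zpowers, hn]
  exact hg.pow_right n

theorem isSolvable_pGroup {K : Subgroup X} (hK : IsPGroup p K) : Group.IsSolvable K := by
  haveI := hK.isNilpotent
  infer_instance

/-- An element of order prime to `p` trivial on both factors of a series of a `p`-group is trivial. -/
theorem cent_of_series {g : X} {K N : Subgroup X} (hg : (orderOf g).Coprime p) (hK : IsPGroup p K)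
    (hgK : g ∈ Subgroup.normalizer (K : Set X)) (hKN : ∀ v ∈ K, ⁅g, v⁆ ∈ N)
    (hN : ∀ w ∈ N, Commute g w) : ∀ v ∈ K, Commute g v := by
  have hpow : ∀ n : ℕ, ∀ v ∈ K, ⁅g ^ n, v⁆ ∈ N := by
    intro n
    induction n with
    | zero => intro v _; rw [pow_zero, commutatorElement_def]; simp
    | succ n ih =>
      intro v hv
      have h1 : Commute (g ^ n) ⁅g, v⁆ := (hN _ (hKN v hv)).pow_left n
      have e : ⁅g ^ (n + 1), v⁆ = (g ^ n * ⁅g, v⁆ * (g ^ n)⁻¹) * ⁅g ^ n, v⁆ := by
        rw [commutatorElement_def, commutatorElement_def, commutatorElement_def, pow_succ]; group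
      rw [e, h1.eq, mul_inv_cancel_right]
      exact mul_mem (hKN v hv) (ih v hv)
  have h := Grp.le_centralizer_of_series (Subgroup.zpowers g) K N (Subgroup.zpowers_le.2 hgK)
    (pGroup_coprime_card hg hK) (Or.inr (isSolvable_pGroup hK)) (Subgroup.commutator_le.2 fun v hv a ha => by
      obtain ⟨n, rfl⟩ := (isOfFinOrder_of_finite g).mem_powers_iff_mem_zpowers.2 ha
      rw [← commutatorElement_inv]
      exact inv_mem (hpow n v hv))
    (Subgroup.commutator_eq_bot_iff_le_centralizer.2 fun w hw => Subgroup.mem_centralizer_iff.2 fun a ha => by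
      obtain ⟨n, rfl⟩ := (isOfFinOrder_of_finite g).mem_powers_iff_mem_zpowers.2 ha
      exact ((hN w hw).pow_left n).eq)
  exact fun v hv => ((Subgroup.mem_centralizer_iff.1 (h (Subgroup.mem_zpowers g))) v hv).symm

/-- An element of order prime to `p` trivial modulo the Frattini subgroup of a `p`-group is trivial. -/
theorem cent_of_frattini {g : X} {Q : Subgroup X} (hg : (orderOf g).Coprime p) (hQ : IsPGroup p Q)
    (hgQ : g ∈ Subgroup.normalizer (Q : Set X))
    (h : ∀ v ∈ Q, ⁅g, v⁆ ∈ (frattini Q).map Q.subtype) : ∀ v ∈ Q, Commute g v := by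
  obtain ⟨Φ, hΦ⟩ : ∃ Φ, Φ = (frattini Q).map Q.subtype := ⟨_, rfl⟩
  have hΦn : g ∈ Subgroup.normalizer (Φ : Set X) := by
    have key : ∀ y : X, y ∈ Φ → g * y * g⁻¹ ∈ Φ := by
      intro y hy
      have hyQ : y ∈ Q := Subgroup.map_subtype_le _ (hΦ ▸ hy)
      have := mul_mem (hΦ ▸ h y hyQ : ⁅g, y⁆ ∈ Φ) hy
      rwa [commutatorElement_def, inv_mul_cancel_right] at this
    refine Subgroup.mem_normalizer_fintype (S := (Φ : Set X)) key
  obtain ⟨C, hC⟩ : ∃ C : Subgroup X, C = Subgroup.centralizer (Subgroup.zpowers g : Set X) := ⟨_, rfl⟩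
  have htop : C.subgroupOf Q = ⊤ := by
    refine frattini_nongenerating (eq_top_iff.2 fun v _ => ?_)
    obtain ⟨m, hm, c, hc, e⟩ := Grp.exists_commutator_mul_fixed (Subgroup.zpowers g) Q
      (Subgroup.zpowers_le.2 hgQ) (pGroup_coprime_card hg hQ) (Or.inr (isSolvable_pGroup hQ)) v.2
    have hpow : ∀ n : ℕ, ∀ w ∈ Q, ⁅g ^ n, w⁆ ∈ Φ := by
      intro n
      induction n with
      | zero => intro w _; rw [pow_zero, commutatorElement_def]; simp
      | succ n ih =>
        intro w hw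
        have e : ⁅g ^ (n + 1), w⁆ = (g ^ n * ⁅g, w⁆ * (g ^ n)⁻¹) * ⁅g ^ n, w⁆ := by
          rw [commutatorElement_def, commutatorElement_def, commutatorElement_def, pow_succ]; group
        rw [e]
        exact mul_mem ((Subgroup.mem_normalizer_iff.1 (pow_mem hΦn n) _).1 (hΦ ▸ h w hw)) (ih w hw)
    have hmΦ : m ∈ Φ := by
      refine Subgroup.commutator_le.2 (fun w hw a ha => ?_) hm
      obtain ⟨n, rfl⟩ := (isOfFinOrder_of_finite g).mem_powers_iff_mem_zpowers.2 ha
      rw [← commutatorElement_inv]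
      exact inv_mem (hpow n w hw)
    rw [hΦ] at hmΦ
    obtain ⟨m', hm', rfl⟩ := hmΦ
    have hv : v = m' * ⟨c, hc.1⟩ := Subtype.ext e
    rw [hv]
    exact mul_mem (Subgroup.mem_sup_right hm')
      (Subgroup.mem_sup_left (show c ∈ C from hC ▸ hc.2))
  intro v hv
  have hvC : v ∈ Subgroup.centralizer (Subgroup.zpowers g : Set X) :=
    hC ▸ (Subgroup.mem_subgroupOf.1 (htop ▸ Subgroup.mem_top (⟨v, hv⟩ : Q) : (⟨v, hv⟩ : Q) ∈ C.subgroupOf Q))
  exact Subgroup.mem_centralizer_iff.1 hvC g (Subgroup.mem_zpowers g)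

theorem mem_sup_mul' {H N : Subgroup X} (h : H ≤ Subgroup.normalizer (N : Set X)) {g : X} (hg : g ∈ H ⊔ N) :
    ∃ a ∈ H, ∃ b ∈ N, a * b = g := by
  have : g ∈ (↑(H ⊔ N) : Set X) := hg
  rw [Subgroup.coe_mul_of_left_le_normalizer_right H N h] at this
  exact Set.mem_mul.mp this

/-- A `p`-element of a subgroup whose elements of order prime to `p` are central lies in its `p`-core. -/
theorem mem_opc_of_central {N : Subgroup X} (h : ∀ g ∈ N, (orderOf g).Coprime p → ∀ y ∈ N, Commute g y)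
    {x : X} (hx : x ∈ N) (hxp : IsPGroup p (Subgroup.zpowers x)) : x ∈ opc p N := by
  obtain ⟨S, hS, -, hxS⟩ := Grp.exists_invariant_sylow_ge (⊥ : Subgroup X) N bot_le
    (by rw [Subgroup.card_bot]; exact Nat.coprime_one_left _)
    (solv (by rw [Subgroup.card_bot]; exact Nat.coprime_one_left _))
    (Subgroup.zpowers_le.2 hx) hxp bot_le (p := p)
  have hnorm : N ≤ Subgroup.normalizer (S : Set X) := by
    refine le_trans ?_ (inf_le_right : N ⊓ Subgroup.normalizer (S : Set X) ≤ _)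
    refine Grp.le_of_forall_sylow inf_le_left fun q hq => ?_
    by_cases hqp : q = p
    · subst hqp
      exact ⟨S, hS, le_inf hS.1 Subgroup.le_normalizer⟩
    obtain ⟨Y, hY⟩ := Grp.exists_isSylowIn q N
    refine ⟨Y, hY, fun c hc => ⟨hY.1 hc, Subgroup.mem_normalizer_fintype fun s hs => ?_⟩⟩
    obtain ⟨k, hk⟩ := IsPGroup.iff_orderOf.1 hY.2.1 (⟨c, hc⟩ : Y)
    rw [← Subgroup.orderOf_coe] at hk
    have hcc : (orderOf c).Coprime p := hk ▸ ((Nat.coprime_primes hq.out (Fact.out : p.Prime)).2 hqp).pow_left k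
    rw [(h c (hY.1 hc) hcc s (hS.1 hs)).eq, mul_inv_cancel_right]
    exact hs
  exact le_opc hS.1 hS.2.1 hnorm (hxS (Subgroup.mem_zpowers x))

theorem commutator_mul_left_mem {Z : Subgroup X} {x v w : X} (hv : ⁅x, v⁆ ∈ Z)
    (hw : ⁅x, w⁆ ∈ Z) (hvn : v ∈ Subgroup.normalizer (Z : Set X)) : ⁅x, v * w⁆ ∈ Z := by
  rw [show ⁅x, v * w⁆ = ⁅x, v⁆ * (v * ⁅x, w⁆ * v⁻¹) by simp [commutatorElement_def, mul_assoc]]
  exact mul_mem hv ((Subgroup.mem_normalizer_iff.1 hvn _).1 hw)

/-- A normal `p`-subgroup is trivial if it is contained in its commutator with the group modulo `Z`. -/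
theorem le_of_le_sup_commutator {Q K Z : Subgroup X} (hQ : IsPGroup p Q) (hKQ : K ≤ Q) (hZQ : Z ≤ Q)
    (hQZ : Q ≤ Subgroup.normalizer (Z : Set X)) (h : K ≤ ⁅K, Q⁆ ⊔ Z) : K ≤ Z := by
  obtain ⟨n, hn⟩ := (Subgroup.isNilpotent_iff_lowerCentralSeries Q).1 hQ.isNilpotent
  have key : ∀ i, K ≤ Q.lowerCentralSeries i ⊔ Z := by
    intro i
    induction i with
    | zero => exact hKQ.trans le_sup_left
    | succ i ih =>
      refine h.trans (sup_le ?_ le_sup_right)
      refine Subgroup.commutator_le.2 fun a ha q hq => ?_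
      have ha' := ih ha
      have hlcs : Q.lowerCentralSeries i ≤ Subgroup.normalizer (Z : Set X) :=
        fun y hy => hQZ (Subgroup.lowerCentralSeries_le_self _ _ hy)
      obtain ⟨c, hc, z, hz, rfl⟩ := mem_sup_mul' hlcs ha'
      have e : ⁅c * z, q⁆ = c * ⁅z, q⁆ * c⁻¹ * ⁅c, q⁆ := by simp [commutatorElement_def, mul_assoc]
      rw [e]
      refine mul_mem (Subgroup.mem_sup_right ((Subgroup.mem_normalizer_iff.1 (hlcs hc) _).1 ?_))
        (Subgroup.mem_sup_left ?_)
      · have := mul_mem hz ((Subgroup.mem_normalizer_iff.1 (hQZ hq) _).1 (inv_mem hz))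
        simpa [commutatorElement_def, mul_assoc] using this
      · rw [Subgroup.lowerCentralSeries_succ]
        exact Subgroup.commutator_mem_commutator hc hq
  have := key n
  rwa [hn, bot_sup_eq] at this

theorem le_normalizer_of_forall {H K : Subgroup X} (h : ∀ g ∈ H, ∀ v ∈ K, g * v * g⁻¹ ∈ K) :
    H ≤ Subgroup.normalizer (K : Set X) :=
  fun g hg => Subgroup.mem_normalizer_fintype (h g hg)

theorem conj_comm (g a b : X) : g * ⁅a, b⁆ * g⁻¹ = ⁅g * a * g⁻¹, g * b * g⁻¹⁆ := by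
  simp [commutatorElement_def, mul_assoc]

theorem mem_iff_conj {K : Subgroup X} {g : X} (hg : g ∈ Subgroup.normalizer (K : Set X)) {v : X} (hv : v ∈ K) :
    g * v * g⁻¹ ∈ K :=
  (Subgroup.mem_normalizer_iff.1 hg v).1 hv

theorem le_normalizer_inf' {H A B : Subgroup X} (hA : H ≤ Subgroup.normalizer (A : Set X))
    (hB : H ≤ Subgroup.normalizer (B : Set X)) : H ≤ Subgroup.normalizer ((A ⊓ B : Subgroup X) : Set X) :=
  le_normalizer_of_forall fun g hg v hv => ⟨mem_iff_conj (hA hg) hv.1, mem_iff_conj (hB hg) hv.2⟩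

theorem le_normalizer_commutator' {H A B : Subgroup X} (hA : H ≤ Subgroup.normalizer (A : Set X))
    (hB : H ≤ Subgroup.normalizer (B : Set X)) : H ≤ Subgroup.normalizer ((⁅A, B⁆ : Subgroup X) : Set X) := by
  refine le_normalizer_of_forall fun g hg v hv => ?_
  have h : ⁅A, B⁆ ≤ (⁅A, B⁆ : Subgroup X).comap (MulAut.conj g).toMonoidHom :=
    Subgroup.commutator_le.2 fun a ha b hb => by
      show g * ⁅a, b⁆ * g⁻¹ ∈ ⁅A, B⁆
      rw [conj_comm]
      exact Subgroup.commutator_mem_commutator (mem_iff_conj (hA hg) ha) (mem_iff_conj (hB hg) hb)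
  exact h hv

theorem le_normalizer_centralizer {H A : Subgroup X} (hA : H ≤ Subgroup.normalizer (A : Set X)) :
    H ≤ Subgroup.normalizer ((Subgroup.centralizer (A : Set X) : Subgroup X) : Set X) := by
  refine le_normalizer_of_forall fun g hg v hv => Subgroup.mem_centralizer_iff.2 fun a ha => ?_
  have h := Subgroup.mem_centralizer_iff.1 hv _ ((Subgroup.mem_normalizer_iff.1 (hA (inv_mem hg)) a).1 ha)
  rw [inv_inv] at h
  calc a * (g * v * g⁻¹) = g * (g⁻¹ * a * g * v) * g⁻¹ := by group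
    _ = g * (v * (g⁻¹ * a * g)) * g⁻¹ := by rw [h]
    _ = g * v * g⁻¹ * a := by group

/-- The setting of Flavell's theorem. -/
structure Setting (p : ℕ) (G R P Q : Subgroup X) : Prop where
  norm : R ≤ Subgroup.normalizer (G : Set X)
  cop : (Nat.card R).Coprime (Nat.card G)
  ppos : ∀ x ∈ P, InP p G R x
  pgrp : IsPGroup p P
  rnorm : R ≤ Subgroup.normalizer (P : Set X)
  qdef : Q = opc p G
  qle : Q ≤ P
  cent : ∀ g ∈ G, (orderOf g).Coprime p → (∀ q ∈ Q, Commute g q) → ∀ y ∈ G, Commute g y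
  ne : P ≠ ⊥

variable {G R P Q : Subgroup X}

namespace Setting

variable (hS : Setting p G R P Q)
include hS

theorem pleg : P ≤ G := fun x hx => (hS.ppos x hx).1

theorem qgrp : IsPGroup p Q := hS.pgrp.to_le hS.qle

theorem gnorm : G ≤ Subgroup.normalizer (Q : Set X) :=
  hS.qdef ▸ Subgroup.le_normalizer.trans (normalizer_le_opc G)

theorem rq : R ≤ Subgroup.normalizer (Q : Set X) := hS.qdef ▸ hS.norm.trans (normalizer_le_opc G)

theorem mem_q (hp : 5 ≤ p) {x : X} (hx : x ∈ P) (hq : ∀ q ∈ Q, ⁅x, ⁅x, q⁆⁆ = 1) : x ∈ Q := by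
  obtain ⟨Φ, hΦ⟩ : ∃ Φ, Φ = (frattini Q).map Q.subtype := ⟨_, rfl⟩
  have hΦn : Subgroup.normalizer (Q : Set X) ≤ Subgroup.normalizer (Φ : Set X) := by
    intro g hg
    refine Subgroup.mem_normalizer_fintype fun v hv => ?_
    rw [SetLike.mem_coe, hΦ] at hv ⊢
    obtain ⟨v, hv, rfl⟩ := hv
    exact ⟨Q.normalizerMonoidHom ⟨g, hg⟩ v,
      Subgroup.characteristic_iff_map_le.1 inferInstance _ (Subgroup.mem_map_of_mem _ hv), rfl⟩
  haveI : Finite Q := inferInstance
  have hcomm : ∀ v ∈ Q, ∀ w ∈ Q, ⁅v, w⁆ ∈ Φ := fun v hv w hw => hΦ ▸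
    ⟨⁅(⟨v, hv⟩ : Q), ⟨w, hw⟩⁆, Grp.pGroup_commutator_le_frattini hS.qgrp
      (Subgroup.commutator_mem_commutator (Subgroup.mem_top _) (Subgroup.mem_top _)), rfl⟩
  have hpow : ∀ v ∈ Q, v ^ p ∈ Φ := fun v hv => hΦ ▸
    ⟨(⟨v, hv⟩ : Q) ^ p, Grp.pGroup_pow_mem_frattini hS.qgrp _, rfl⟩
  obtain ⟨N, hNG, hNn, hNe, -, -, hNx⟩ := exists_normal_of_section hp hS.norm hS.cop hS.gnorm
    (hS.gnorm.trans hΦn) hS.rq (hS.rq.trans hΦn) hcomm (Subgroup.le_normalizer.trans hΦn) hpow
  have hcen : ∀ g ∈ N, (orderOf g).Coprime p → ∀ y ∈ N, Commute g y := by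
    intro g hg hgc
    obtain ⟨k, hk⟩ := hNe g hg
    obtain ⟨j, hj⟩ := exists_pow_pow_eq hgc k
    have hgc' : (orderOf (g ^ p ^ k)).Coprime p := hgc.coprime_dvd_left (orderOf_pow_dvd _)
    have h1 := cent_of_frattini hgc' hS.qgrp (hS.gnorm (pow_mem (hNG hg) _)) (fun v hv => hΦ ▸ hk v hv)
    exact fun y hy => hS.cent g (hNG hg) hgc (fun v hv => hj ▸ (h1 v hv).pow_left j) y (hNG hy)
  have hxN : x ∈ N := hNx x (hS.ppos x hx) fun v hv => by rw [hq v hv]; exact one_mem _
  rw [hS.qdef]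
  refine le_opc ((opc_le N).trans hNG) (opc_isPGroup N) ?_
    (mem_opc_of_central hcen hxN (hS.pgrp.to_le (Subgroup.zpowers_le.2 hx)))
  exact ((le_inf (le_inf Subgroup.le_normalizer hS.gnorm) (hS.gnorm.trans hΦn)).trans hNn).trans (normalizer_le_opc N)

theorem qs_subset (hp : 5 ≤ p) : Words.Qs P ⊆ Q := fun _ hs =>
  hS.mem_q hp hs.1 fun q hq => hs.2 q (hS.qle hq)

theorem exists_qs_ne : ∃ s ∈ Words.Qs P, s ≠ 1 := by
  haveI : Nontrivial P := (Subgroup.nontrivial_iff_ne_bot P).2 hS.ne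
  haveI := hS.pgrp.center_nontrivial
  obtain ⟨⟨s, hs⟩, hs1⟩ := exists_ne (1 : Subgroup.center P)
  refine ⟨(s : X), ⟨s.2, fun y hy => ?_⟩, fun e => hs1 (Subtype.ext (Subtype.ext e))⟩
  have h := congrArg Subtype.val (Subgroup.mem_center_iff.1 hs ⟨y, hy⟩)
  change y * (s : X) = (s : X) * y at h
  have h1 : ⁅(s : X), y⁆ = 1 := commutatorElement_eq_one_iff_mul_comm.2 h.symm
  rw [h1, commutatorElement_one_right]

end Setting

/-- A minimal invariant subgroup with trivial `p`-core beyond `Q` containing `Xone P`. -/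
structure Tower (p : ℕ) (G R P Q T : Subgroup X) : Prop where
  le : T ≤ G
  qle : Q ≤ T
  pnorm : P ≤ Subgroup.normalizer (T : Set X)
  rnorm : R ≤ Subgroup.normalizer (T : Set X)
  core : ∀ N ≤ T, IsPGroup p N → T ≤ Subgroup.normalizer (N : Set X) → N ≤ Q
  xone : Words.Xone P ⊆ T
  cq : ∀ g ∈ G, (orderOf g).Coprime p → (∀ s ∈ Words.Qs P, Commute g s) → g ∈ T

/-- The subgroup generated by the elements of order prime to `p`. -/
def pRes (p : ℕ) (T : Subgroup X) : Subgroup X := Subgroup.closure {g | g ∈ T ∧ (orderOf g).Coprime p}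

theorem pRes_le (T : Subgroup X) : pRes p T ≤ T := (Subgroup.closure_le _).2 fun _ hg => hg.1

theorem mem_pRes {T : Subgroup X} {g : X} (hg : g ∈ T) (h : (orderOf g).Coprime p) : g ∈ pRes p T :=
  Subgroup.subset_closure ⟨hg, h⟩

theorem le_normalizer_pRes {H T : Subgroup X} (h : H ≤ Subgroup.normalizer (T : Set X)) :
    H ≤ Subgroup.normalizer (pRes p T : Set X) :=
  le_normalizer_closure fun g hg y hy => Subgroup.subset_closure
    ⟨mem_iff_conj (h hg) hy.1, by
      rw [show g * y * g⁻¹ = MulAut.conj g y from rfl, MulEquiv.orderOf_eq]; exact hy.2⟩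

/-- An element of `P` in `T` centralising the residual modulo `Q` lies in `Q`. -/
theorem Tower.mem_q (hS : Setting p G R P Q) {T : Subgroup X} (hT : Tower p G R P Q T) {z : X}
    (hzp : IsPGroup p (Subgroup.zpowers z))
    (hzT : z ∈ T) (hz : ∀ u ∈ pRes p T, ⁅u, z⁆ ∈ Q) : z ∈ Q := by
  have hTQ : T ≤ Subgroup.normalizer (Q : Set X) := hT.le.trans hS.gnorm
  have hUQ : pRes p T ≤ Subgroup.normalizer (Q : Set X) := (pRes_le T).trans hTQ
  obtain ⟨Z, hZ⟩ : ∃ Z : Subgroup X, ∀ t, t ∈ Z ↔ t ∈ T ∧ ∀ u ∈ pRes p T, ⁅u, t⁆ ∈ Q :=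
    ⟨{ carrier := {t | t ∈ T ∧ ∀ u ∈ pRes p T, ⁅u, t⁆ ∈ Q}
       mul_mem' := fun ha hb => ⟨mul_mem ha.1 hb.1, fun u hu =>
        commutator_mul_left_mem (ha.2 u hu) (hb.2 u hu) (hTQ ha.1)⟩
       one_mem' := ⟨one_mem T, fun u _ => by rw [commutatorElement_one_right]; exact one_mem Q⟩
       inv_mem' := fun {a} ha => ⟨inv_mem ha.1, fun u hu => by
        rw [show ⁅u, a⁻¹⁆ = a⁻¹ * ⁅u, a⁆⁻¹ * a⁻¹⁻¹ by simp [commutatorElement_def, mul_assoc]]
        exact mem_iff_conj (hTQ (inv_mem ha.1)) (inv_mem (ha.2 u hu))⟩ }, fun _ => Iff.rfl⟩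
  have hZT : Z ≤ T := fun t ht => ((hZ t).1 ht).1
  have hQZ : Q ≤ Z := fun q hq => (hZ q).2 ⟨hT.qle hq, fun u hu =>
    mul_mem (mem_iff_conj (hUQ hu) hq) (inv_mem hq)⟩
  have hTZ : T ≤ Subgroup.normalizer (Z : Set X) := le_normalizer_of_forall fun g hg t ht => by
    refine (hZ _).2 ⟨mul_mem (mul_mem hg (hZT ht)) (inv_mem hg), fun u hu => ?_⟩
    have hu' := mem_iff_conj ((le_normalizer_pRes Subgroup.le_normalizer : T ≤ _) (inv_mem hg)) hu
    have h := mem_iff_conj (hTQ hg) (((hZ t).1 ht).2 _ hu')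
    rwa [conj_comm, show g * (g⁻¹ * u * g⁻¹⁻¹) * g⁻¹ = u by group] at h
  obtain ⟨S, hS', -, hQS⟩ := Grp.exists_invariant_sylow_ge (⊥ : Subgroup X) Z bot_le
    (by rw [Subgroup.card_bot]; exact Nat.coprime_one_left _)
    (solv (by rw [Subgroup.card_bot]; exact Nat.coprime_one_left _)) hQZ hS.qgrp bot_le (p := p)
  have hnorm : Z ≤ Subgroup.normalizer (S : Set X) := by
    refine le_trans ?_ (inf_le_right : Z ⊓ Subgroup.normalizer (S : Set X) ≤ _)
    refine Grp.le_of_forall_sylow inf_le_left fun q hq => ?_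
    by_cases hqp : q = p
    · subst hqp
      exact ⟨S, hS', le_inf hS'.1 Subgroup.le_normalizer⟩
    obtain ⟨Y, hY⟩ := Grp.exists_isSylowIn q Z
    refine ⟨Y, hY, fun c hc => ⟨hY.1 hc, Subgroup.mem_normalizer_fintype fun s hs => ?_⟩⟩
    have hcc : (orderOf c).Coprime p := by
      obtain ⟨k, hk⟩ := IsPGroup.iff_orderOf.1 hY.2.1 (⟨c, hc⟩ : Y)
      rw [← Subgroup.orderOf_coe] at hk
      exact hk ▸ ((Nat.coprime_primes hq.out (Fact.out : p.Prime)).2 hqp).pow_left k
    have h := ((hZ s).1 (hS'.1 hs)).2 c (mem_pRes (hZT (hY.1 hc)) hcc)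
    have h2 := mul_mem (hQS h) hs
    rwa [commutatorElement_def, inv_mul_cancel_right] at h2
  have huniq : ∀ {S1 : Subgroup X}, Grp.IsSylowIn p S1 Z → S1 = S := fun {S1} h1 => by
    obtain ⟨k, hk, e⟩ := hS'.conj h1
    rw [← e, Grp.mem_normalizer_iff_smul.1 (hnorm hk)]
  have hTS : T ≤ Subgroup.normalizer (S : Set X) := fun g hg =>
    Grp.mem_normalizer_iff_smul.2 (huniq (hS'.smul (Grp.mem_normalizer_iff_smul.1 (hTZ hg))))
  have hSQ : S ≤ Q := hT.core S (hS'.1.trans hZT) hS'.2.1 hTS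
  obtain ⟨S1, hS1, -, hzS1⟩ := Grp.exists_invariant_sylow_ge (⊥ : Subgroup X) Z bot_le
    (by rw [Subgroup.card_bot]; exact Nat.coprime_one_left _)
    (solv (by rw [Subgroup.card_bot]; exact Nat.coprime_one_left _))
    (Subgroup.zpowers_le.2 ((hZ z).2 ⟨hzT, hz⟩)) hzp bot_le (p := p)
  exact hSQ (huniq hS1 ▸ hzS1 (Subgroup.mem_zpowers z))

/-- There is a tower in which the residual centralises all invariant abelian subgroups of `Q`. -/
theorem exists_tower (hp : 5 ≤ p) (hS : Setting p G R P Q) : ∃ T, Tower p G R P Q T ∧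
    T = pRes p T ⊔ (P ⊓ T) ∧
    ∀ V ≤ Q, (∀ a ∈ V, ∀ b ∈ V, a * b = b * a) → T ≤ Subgroup.normalizer (V : Set X) →
      P ≤ Subgroup.normalizer (V : Set X) → R ≤ Subgroup.normalizer (V : Set X) →
      ∀ u ∈ pRes p T, ∀ v ∈ V, Commute u v := by
  have hG : Tower p G R P Q G :=
    { le := le_rfl
      qle := hS.qle.trans hS.pleg
      pnorm := hS.pleg.trans Subgroup.le_normalizer
      rnorm := hS.norm
      core := fun N hN hNp hNn => hS.qdef ▸ le_opc hN hNp hNn
      xone := fun x hx => hS.pleg hx.1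
      cq := fun g hg _ _ => hg }
  obtain ⟨T, hT, hmin⟩ := (Set.toFinite {T | Tower p G R P Q T}).exists_minimal ⟨G, hG⟩
  have hT' : Tower p G R P Q T := hT
  have helem : ∀ V ≤ Q, (∀ a ∈ V, ∀ b ∈ V, a * b = b * a) → (∀ v ∈ V, v ^ p = 1) →
      T ≤ Subgroup.normalizer (V : Set X) → P ≤ Subgroup.normalizer (V : Set X) →
      R ≤ Subgroup.normalizer (V : Set X) → ∀ g ∈ T, (orderOf g).Coprime p → ∀ v ∈ V, Commute g v := by
    intro V hVQ hab hexp hTV hPV hRV
    have hn : ∀ (H : Subgroup X), H ≤ Subgroup.normalizer ((⊥ : Subgroup X) : Set X) :=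
      fun H => le_normalizer_of_forall fun g _ v hv => by
        rw [Subgroup.mem_bot] at hv ⊢; rw [hv]; group
    obtain ⟨N, hNT, hNn, hNe, hND, hNk, hNx⟩ := exists_normal_of_section hp hT'.rnorm
      (hS.cop.coprime_dvd_right (Subgroup.card_dvd_of_le hT'.le)) hTV (hn T) hRV (hn R)
      (fun a ha b hb => Subgroup.mem_bot.2 (commutatorElement_eq_one_iff_mul_comm.2 (hab a ha b hb)))
      (hn V) (fun v hv => Subgroup.mem_bot.2 (hexp v hv))
    have hTN : T ≤ Subgroup.normalizer (N : Set X) :=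
      (le_inf (le_inf Subgroup.le_normalizer hTV) (hn T)).trans hNn
    have hN : Tower p G R P Q N :=
      { le := hNT.trans hT'.le
        qle := hND Q hT'.qle hS.qgrp (hT'.le.trans hS.gnorm)
        pnorm := (le_inf (le_inf hT'.pnorm hPV) (hn P)).trans hNn
        rnorm := (le_inf (le_inf hT'.rnorm hRV) (hn R)).trans hNn
        core := fun D hD hDp hDn => by
          have h1 : D ≤ opc p N := le_opc hD hDp hDn
          exact h1.trans (hT'.core _ ((opc_le N).trans hNT) (opc_isPGroup N) (hTN.trans (normalizer_le_opc N)))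
        cq := fun g hg hgc hgs => hNk g (hT'.cq g hg hgc hgs) fun v hv => Subgroup.mem_bot.2
          (commutatorElement_eq_one_iff_mul_comm.2 (hgs v ⟨hS.qle (hVQ hv), fun y hy =>
            commutatorElement_eq_one_iff_mul_comm.2 (hab v hv _ (by
              rw [show ⁅v, y⁆ = v * (y * v⁻¹ * y⁻¹) by simp [commutatorElement_def, mul_assoc]]
              exact mul_mem hv (mem_iff_conj (hPV hy) (inv_mem hv))))⟩).eq)
        xone := fun x hx => hNx x
          ((hS.ppos x hx.1).restrict hS.norm hS.cop hT'.le hT'.rnorm (hT'.xone hx)) fun v hv =>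
          Subgroup.mem_bot.2 (hx.2 v ⟨hS.qle (hVQ hv), fun y hy => commutatorElement_eq_one_iff_mul_comm.2
            (hab v hv _ (by
              rw [show ⁅v, y⁆ = v * (y * v⁻¹ * y⁻¹) by simp [commutatorElement_def, mul_assoc]]
              exact mul_mem hv (mem_iff_conj (hPV hy) (inv_mem hv))))⟩) }
    intro g hg hgc v hv
    obtain ⟨k, hk⟩ := hNe g (hmin hN hNT hg)
    obtain ⟨j, hj⟩ := exists_pow_pow_eq hgc k
    have h1 : Commute (g ^ p ^ k) v :=
      commutatorElement_eq_one_iff_mul_comm.1 (Subgroup.mem_bot.1 (hk v hv))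
    exact hj ▸ h1.pow_left j
  have hUT := pRes_le (p := p) T
  refine ⟨T, hT', ?_, fun V hVQ hab hTV hPV hRV u hu v hv => ?_⟩
  · refine le_antisymm ?_ (sup_le hUT inf_le_right)
    have hUn : T ≤ Subgroup.normalizer (pRes p T : Set X) := le_normalizer_pRes Subgroup.le_normalizer
    have hle : pRes p T ⊔ (P ⊓ T) ≤ T := sup_le hUT inf_le_right
    have hPn : P ≤ Subgroup.normalizer ((pRes p T ⊔ (P ⊓ T) : Subgroup X) : Set X) :=
      (le_inf (le_normalizer_pRes hT'.pnorm) (le_normalizer_inf' Subgroup.le_normalizer hT'.pnorm)).trans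
        (Subgroup.normalizer_inf_normalizer_le_normalizer_sup _ _)
    have hRn : R ≤ Subgroup.normalizer ((pRes p T ⊔ (P ⊓ T) : Subgroup X) : Set X) :=
      (le_inf (le_normalizer_pRes hT'.rnorm) (le_normalizer_inf' hS.rnorm hT'.rnorm)).trans
        (Subgroup.normalizer_inf_normalizer_le_normalizer_sup _ _)
    refine hmin (y := pRes p T ⊔ (P ⊓ T)) ?_ hle
    exact
      { le := hle.trans hT'.le
        qle := (le_inf hS.qle hT'.qle).trans le_sup_right
        pnorm := hPn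
        rnorm := hRn
        core := fun D hD hDp hDn => by
          have hDU : D ⊓ pRes p T ≤ Q :=
            (le_opc inf_le_right (hDp.to_le inf_le_left)
              (le_normalizer_inf' (le_sup_left.trans hDn) Subgroup.le_normalizer)).trans
              (hT'.core _ ((opc_le _).trans hUT) (opc_isPGroup _) (hUn.trans (normalizer_le_opc _)))
          -- every element of `D` centralises the residual modulo `Q`
          intro z hz
          have hzU : ∀ u ∈ pRes p T, ⁅u, z⁆ ∈ Q := fun u hu => hDU ⟨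
            (show u * z * u⁻¹ * z⁻¹ ∈ D from
              mul_mem (mem_iff_conj (hDn (Subgroup.mem_sup_left hu)) hz) (inv_mem hz)),
            show ⁅u, z⁆ ∈ pRes p T by
              rw [show ⁅u, z⁆ = u * (z * u⁻¹ * z⁻¹) by simp [commutatorElement_def, mul_assoc]]
              exact mul_mem hu (mem_iff_conj (hUn (hle (hD hz))) (inv_mem hu))⟩
          exact hT'.mem_q hS (hDp.to_le (Subgroup.zpowers_le.2 hz)) (hle (hD hz)) hzU
        xone := fun x hx => Subgroup.mem_sup_right ⟨hx.1, hT'.xone hx⟩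
        cq := fun g hg hgc hgs => Subgroup.mem_sup_left (mem_pRes (hT'.cq g hg hgc hgs) hgc) }
  · have hW : ∀ (g : X) (_ : g ∈ T) (_ : (orderOf g).Coprime p), ∀ v ∈ V, Commute g v := by
      intro g hg hgc
      let Ω : Subgroup X :=
        { carrier := {w | w ∈ V ∧ w ^ p = 1}
          mul_mem' := fun {a b} ha hb => ⟨mul_mem ha.1 hb.1, by
            rw [(show Commute a b from hab a ha.1 b hb.1).mul_pow, ha.2, hb.2, one_mul]⟩
          one_mem' := ⟨one_mem V, one_pow p⟩
          inv_mem' := fun {a} ha => ⟨inv_mem ha.1, by rw [inv_pow, ha.2, inv_one]⟩ }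
      have hΩn : ∀ H : Subgroup X, H ≤ Subgroup.normalizer (V : Set X) → H ≤ Subgroup.normalizer (Ω : Set X) :=
        fun H hH => le_normalizer_of_forall fun c hc w hw => ⟨mem_iff_conj (hH hc) hw.1, by
          rw [← MulAut.conj_apply, ← map_pow, hw.2, map_one]⟩
      have hΩ := helem Ω (fun w hw => hVQ hw.1) (fun a ha b hb => hab a ha.1 b hb.1) (fun w hw => hw.2)
        (hΩn T hTV) (hΩn P hPV) (hΩn R hRV) g hg hgc
      intro w hw
      let φ : V ≃* V :=
        { toFun := fun w => ⟨g * w * g⁻¹, mem_iff_conj (hTV hg) w.2⟩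
          invFun := fun w => ⟨g⁻¹ * w * g, by simpa using mem_iff_conj (hTV (inv_mem hg)) w.2⟩
          left_inv := fun w => Subtype.ext (by simp [mul_assoc])
          right_inv := fun w => Subtype.ext (by simp [mul_assoc])
          map_mul' := fun a b => Subtype.ext (by simp [mul_assoc]) }
      have hiter : ∀ (i : ℕ) (w : V), (((⇑φ)^[i] w : V) : X) = g ^ i * w * (g ^ i)⁻¹ := by
        intro i
        induction i with
        | zero => intro w; simp
        | succ i ih =>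
          intro w
          rw [Function.iterate_succ_apply']
          show g * ((⇑φ)^[i] w : V) * g⁻¹ = _
          rw [ih, pow_succ']
          simp [mul_assoc]
      have h := Grp.OmegaFix.aut_eq_one (p := p) (by omega) _ V rfl (hS.qgrp.to_le hVQ) φ (orderOf g) hgc
        (fun w => Subtype.ext (by rw [hiter, pow_orderOf_eq_one]; simp))
        (fun w hw => Subtype.ext (by
          show g * w * g⁻¹ = w
          rw [(hΩ w ⟨w.2, by simpa using congrArg Subtype.val hw⟩).eq, mul_inv_cancel_right])) ⟨w, hw⟩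
      have e : g * w * g⁻¹ = w := congrArg Subtype.val h
      exact mul_inv_eq_iff_eq_mul.1 e
    refine (Subgroup.closure_le (Subgroup.centralizer ({v} : Set X))).2 (fun g hg => ?_) hu v rfl |> Eq.symm
    exact Subgroup.mem_centralizer_iff.2 fun w hw => by
      rw [Set.mem_singleton_iff] at hw; subst hw; exact (hW g hg.1 hg.2 w hv).eq.symm

end Cfsg.Agent.Spor.Flavell
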