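import Mathlib
import Cfsg.Agent.Lib.Spor.FlavellResidual

/-!
The detecting set of the group step and Flavell's theorem.
-/

set_option autoImplicit false
set_option linter.unusedSectionVars false

namespace Cfsg.Agent.Spor.Flavell

open Cfsg.Agent
open scoped commutatorElement Pointwise

variable {X : Type*} [Group X] [Finite X] {p : ℕ} [Fact p.Prime]

/-- The subgroups between `Z` and `Q1` normalised by `U` and `P`. -/
structure IsInv (U P Z Q1 K : Subgroup X) : Prop where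
  le : Z ≤ K
  sub : K ≤ Q1
  unorm : U ≤ Subgroup.normalizer (K : Set X)
  pnorm : P ≤ Subgroup.normalizer (K : Set X)

/-- The minimal ones above `Z`. -/
def IsMinInv (U P Z Q1 K : Subgroup X) : Prop :=
  IsInv U P Z Q1 K ∧ K ≠ Z ∧ ∀ K', IsInv U P Z Q1 K' → K' ≤ K → K' = Z ∨ K' = K

theorem exists_minInv {U P Z Q1 A : Subgroup X} (hA : IsInv U P Z Q1 A) (hne : A ≠ Z) :
    ∃ K ≤ A, IsMinInv U P Z Q1 K := by
  obtain ⟨K, hKA, hK⟩ := (Set.toFinite {K | IsInv U P Z Q1 K ∧ K ≠ Z}).exists_le_minimal (a := A) ⟨hA, hne⟩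
  refine ⟨K, hKA, hK.1.1, hK.1.2, fun K' hK' hle => ?_⟩
  rcases eq_or_ne K' Z with h | h
  · exact Or.inl h
  · exact Or.inr (le_antisymm hle (hK.2 ⟨hK', h⟩ hle))

theorem commute_conj_eq {c g : X} (h : Commute g c) : g * c * g⁻¹ = c := by
  rw [h.eq, mul_inv_cancel_right]

theorem inv_conj_mem {K : Subgroup X} {g : X} (hg : g ∈ Subgroup.normalizer (K : Set X)) {v : X} (hv : v ∈ K) :
    g⁻¹ * v * g ∈ K := by
  have := mem_iff_conj (inv_mem hg) hv
  rwa [inv_inv] at this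

theorem commutator_mem_left {K : Subgroup X} {a g : X} (hg : g ∈ Subgroup.normalizer (K : Set X)) (ha : a ∈ K) :
    ⁅a, g⁆ ∈ K := by
  rw [show ⁅a, g⁆ = a * (g * a⁻¹ * g⁻¹) by simp [commutatorElement_def, mul_assoc]]
  exact mul_mem ha (mem_iff_conj hg (inv_mem ha))

theorem commutator_mem_right {K : Subgroup X} {a g : X} (hg : g ∈ Subgroup.normalizer (K : Set X)) (ha : a ∈ K) :
    ⁅g, a⁆ ∈ K := by
  rw [← commutatorElement_inv]
  exact inv_mem (commutator_mem_left hg ha)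

/-- The residual centralises nothing but the centre: an invariant subgroup it centralises is central. -/
theorem le_center_of_centralized {U Q Q1 Z K : Subgroup X} (hQ1 : Q1 = ⁅Q, U⁆)
    (hZ : Z = Q1 ⊓ Subgroup.centralizer (Q1 : Set X)) (hKQ1 : K ≤ Q1)
    (hKQ : ⁅⁅K, Q⁆, U⁆ = ⊥) (hUK : ∀ u ∈ U, ∀ v ∈ K, Commute u v) : K ≤ Z := by
  have h2 : ⁅⁅U, K⁆, Q⁆ = ⊥ := by
    have : ⁅U, K⁆ = ⊥ := Subgroup.commutator_eq_bot_iff_le_centralizer.2 fun u hu =>
      Subgroup.mem_centralizer_iff.2 fun v hv => (hUK u hu v hv).symm.eq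
    rw [this, Subgroup.commutator_bot_left]
  have h := Subgroup.commutator_commutator_eq_bot_of_rotate (H₁ := Q) (H₂ := U) (H₃ := K) h2 hKQ
  rw [← hQ1, Subgroup.commutator_comm, Subgroup.commutator_eq_bot_iff_le_centralizer] at h
  exact hZ ▸ le_inf hKQ1 h

/-- Equivariant values of the commutator form on a minimal subgroup are fixed by the elements of
`Xone P`. -/
theorem values_fixed_group (hp : p ≠ 2) {U P Z Q1 K : Subgroup X} (hPp : IsPGroup p P) (hK : IsMinInv U P Z Q1 K)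
    (hUP : P ≤ Subgroup.normalizer (U : Set X)) (hUZ' : U ≤ Subgroup.normalizer (Z : Set X))
    (hPZ : P ≤ Subgroup.normalizer (Z : Set X))
    (hQ1P : Q1 ≤ P) (hZc : ∀ c ∈ Z, ∀ a ∈ Q1, Commute c a) (hclass : ∀ a ∈ Q1, ∀ b ∈ Q1, ⁅a, b⁆ ∈ Z)
    (hexp : ∀ a ∈ K, a ^ p ∈ Z) (hUZ : ∀ u ∈ U, ∀ c ∈ Z, Commute u c)
    (hnd : ∀ a ∈ K, (∀ b ∈ K, Commute a b) → a ∈ Z) {x : X} (hx : x ∈ Words.Xone P) :
    ∀ a ∈ K, ∀ b ∈ K, Commute x ⁅a, b⁆ := by
  obtain ⟨hK, hKne, hKmin⟩ := hK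
  have hZK := hK.le
  have hKQ1 := hK.sub
  have hconj : ∀ a ∈ K, ∀ c ∈ K, ∀ d ∈ K, a * ⁅c, d⁆ * a⁻¹ = ⁅c, d⁆ := fun a ha c hc d hd =>
    commute_conj_eq (hZc _ (hclass c (hKQ1 hc) d (hKQ1 hd)) a (hKQ1 ha)).symm
  have hmulL : ∀ a ∈ K, ∀ b ∈ K, ∀ c ∈ K, ⁅a * b, c⁆ = ⁅a, c⁆ * ⁅b, c⁆ := fun a ha b hb c hc => by
    rw [show ⁅a * b, c⁆ = (a * ⁅b, c⁆ * a⁻¹) * ⁅a, c⁆ by simp [commutatorElement_def, mul_assoc],
      hconj a ha b hb c hc]
    exact (hZc _ (hclass b (hKQ1 hb) c (hKQ1 hc)) _ (hKQ1 (hZK (hclass a (hKQ1 ha) c (hKQ1 hc))))).eq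
  have hmulR : ∀ a ∈ K, ∀ b ∈ K, ∀ c ∈ K, ⁅a, b * c⁆ = ⁅a, b⁆ * ⁅a, c⁆ := fun a ha b hb c hc => by
    rw [show ⁅a, b * c⁆ = ⁅a, b⁆ * (b * ⁅a, c⁆ * b⁻¹) by simp [commutatorElement_def, mul_assoc],
      hconj b hb a ha c hc]
  have hpow : ∀ a ∈ K, ∀ b ∈ K, ⁅a, b⁆ ^ p = 1 := by
    intro a ha b hb
    have h : ∀ n : ℕ, ⁅a ^ n, b⁆ = ⁅a, b⁆ ^ n := by
      intro n
      induction n with
      | zero => simp [commutatorElement_def]
      | succ n ih => rw [pow_succ, hmulL _ (pow_mem ha n) a ha b hb, ih, ← pow_succ]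
    rw [← h, commutatorElement_eq_one_iff_mul_comm]
    exact hZc _ (hexp a ha) b (hKQ1 hb)
  -- the target
  obtain ⟨Zp, hZp⟩ : ∃ Zp : Subgroup X, ∀ c, c ∈ Zp ↔ c ∈ Z ∧ c ^ p = 1 :=
    ⟨{ carrier := {c | c ∈ Z ∧ c ^ p = 1}
       mul_mem' := fun {a b} ha hb => ⟨mul_mem ha.1 hb.1, by
        rw [(hZc a ha.1 b (hKQ1 (hZK hb.1))).mul_pow, ha.2, hb.2, one_mul]⟩
       one_mem' := ⟨one_mem Z, one_pow p⟩
       inv_mem' := fun {a} ha => ⟨inv_mem ha.1, by rw [inv_pow, ha.2, inv_one]⟩ }, fun _ => Iff.rfl⟩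
  letI : CommGroup Zp := { (inferInstance : Group Zp) with
    mul_comm := fun a b => Subtype.ext (hZc a ((hZp a).1 a.2).1 b (hKQ1 (hZK ((hZp b).1 b.2).1))).eq }
  haveI hnK : (Z.subgroupOf K).Normal := ⟨fun c hc g => by
    show (g : X) * (c : X) * (g : X)⁻¹ ∈ Z
    rw [commute_conj_eq (hZc (c : X) hc (g : X) (hKQ1 g.2)).symm]; exact hc⟩
  letI : CommGroup (↥K ⧸ Z.subgroupOf K) := { (inferInstance : Group (↥K ⧸ Z.subgroupOf K)) with
    mul_comm := by
      intro a b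
      induction a using QuotientGroup.induction_on with | _ a => ?_
      induction b using QuotientGroup.induction_on with | _ b => ?_
      refine QuotientGroup.eq.2 ?_
      have := hclass (b : X)⁻¹ (inv_mem (hKQ1 b.2)) (a : X)⁻¹ (inv_mem (hKQ1 a.2))
      rw [commutatorElement_def, inv_inv, inv_inv] at this
      show ((a * b : K)⁻¹ * (b * a) : X) ∈ Z
      convert this using 1
      simp [mul_assoc] }
  let β : K → ((↥K ⧸ Z.subgroupOf K) →* Zp) := fun a => QuotientGroup.lift (Z.subgroupOf K)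
    (MonoidHom.mk' (fun c : K => (⟨⁅(a : X), (c : X)⁆, (hZp _).2 ⟨hclass _ (hKQ1 a.2) _ (hKQ1 c.2),
        hpow _ a.2 _ c.2⟩⟩ : Zp)) fun c d => Subtype.ext (hmulR _ a.2 _ c.2 _ d.2))
    fun c hc => Subtype.ext (commutatorElement_eq_one_iff_mul_comm.2 (hZc _ hc _ (hKQ1 a.2)).eq.symm)
  have hβ : ∀ a c : K, (β a (c : ↥K ⧸ Z.subgroupOf K) : X) = ⁅(a : X), (c : X)⁆ := fun a c => rfl
  let γ : (↥K ⧸ Z.subgroupOf K) →* ((↥K ⧸ Z.subgroupOf K) →* Zp) := QuotientGroup.lift (Z.subgroupOf K)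
    (MonoidHom.mk' β fun a b => MonoidHom.ext fun q => by
      induction q using QuotientGroup.induction_on with | _ c => ?_
      exact Subtype.ext (hmulL _ a.2 _ b.2 _ c.2))
    fun a ha => MonoidHom.ext fun q => by
      induction q using QuotientGroup.induction_on with | _ c => ?_
      exact Subtype.ext (commutatorElement_eq_one_iff_mul_comm.2 (hZc _ ha _ (hKQ1 c.2)).eq)
  let M := Additive (↥K ⧸ Z.subgroupOf K)
  let mk : K → M := fun a => Additive.ofMul (a : ↥K ⧸ Z.subgroupOf K)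
  have hmk : ∀ m : M, ∃ a, mk a = m := fun m => by
    obtain ⟨a, ha⟩ := QuotientGroup.mk_surjective (Additive.toMul m)
    exact ⟨a, congrArg Additive.ofMul ha⟩
  let b : M →+ M →+ Additive Zp := AddMonoidHom.mk'
    (fun s => AddMonoidHom.mk' (fun t => Additive.ofMul (γ (Additive.toMul s) (Additive.toMul t)))
      fun t t' => congrArg Additive.ofMul (map_mul (γ (Additive.toMul s)) _ _))
    fun s s' => AddMonoidHom.ext fun t => congrArg Additive.ofMul
      (DFunLike.congr_fun (map_mul γ (Additive.toMul s) (Additive.toMul s')) (Additive.toMul t))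
  have hb : ∀ a c : K, ((Additive.toMul (b (mk a) (mk c)) : Zp) : X) = ⁅(a : X), (c : X)⁆ := fun a c => rfl
  haveI : Finite M := inferInstanceAs (Finite (↥K ⧸ Z.subgroupOf K))
  haveI : Finite (Additive Zp) := inferInstanceAs (Finite Zp)
  -- the actions
  let c : (g : X) → g ∈ Subgroup.normalizer (K : Set X) → (↥K →* ↥K) := fun g hg =>
    MonoidHom.mk' (fun v => ⟨g * v * g⁻¹, mem_iff_conj hg v.2⟩) fun u v => Subtype.ext (by simp [mul_assoc])
  let cq : (g : X) → g ∈ Subgroup.normalizer (K : Set X) → g ∈ Subgroup.normalizer (Z : Set X) →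
      ((↥K ⧸ Z.subgroupOf K) →* (↥K ⧸ Z.subgroupOf K)) := fun g hg hgZ =>
    QuotientGroup.map _ _ (c g hg) fun v hv => mem_iff_conj hgZ hv
  letI : DistribMulAction P M :=
    { smul := fun g m => Additive.ofMul (cq g (hK.pnorm g.2) (hPZ g.2) (Additive.toMul m))
      one_smul := fun m => by
        obtain ⟨a, rfl⟩ := hmk m
        show mk (c (1 : P) (hK.pnorm (1 : P).2) a) = mk a
        exact congrArg mk (Subtype.ext (by simp [c]))
      mul_smul := fun g h m => by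
        obtain ⟨a, rfl⟩ := hmk m
        show mk (c (g * h : P) (hK.pnorm (g * h : P).2) a) = mk (c g (hK.pnorm g.2) (c h (hK.pnorm h.2) a))
        exact congrArg mk (Subtype.ext (by simp [c, mul_assoc]))
      smul_zero := fun g => congrArg Additive.ofMul (map_one (cq g (hK.pnorm g.2) (hPZ g.2)))
      smul_add := fun g m n => congrArg Additive.ofMul (map_mul (cq g (hK.pnorm g.2) (hPZ g.2)) (Additive.toMul m) (Additive.toMul n)) }
  have hsmk : ∀ (g : P) (a : K), g • mk a = mk (c g (hK.pnorm g.2) a) := fun g a => rfl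
  have hZpP : ∀ g : P, ∀ v : Zp, (g : X) * v * (g : X)⁻¹ ∈ Zp := fun g v =>
    (hZp _).2 ⟨mem_iff_conj (hPZ g.2) ((hZp v).1 v.2).1, by
      rw [← MulAut.conj_apply, ← map_pow, ((hZp v).1 v.2).2, map_one]⟩
  let cz : P → (Zp →* Zp) := fun g => MonoidHom.mk'
    (fun v => ⟨(g : X) * v * (g : X)⁻¹, hZpP g v⟩) fun v w => Subtype.ext (by simp [mul_assoc])
  letI : DistribMulAction P (Additive Zp) :=
    { smul := fun g v => Additive.ofMul (cz g (Additive.toMul v))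
      one_smul := fun v => by
        show Additive.ofMul (cz 1 (Additive.toMul v)) = Additive.ofMul (Additive.toMul v)
        exact congrArg Additive.ofMul (Subtype.ext (by simp [cz]))
      mul_smul := fun g h v => by
        show Additive.ofMul (cz (g * h) (Additive.toMul v)) = Additive.ofMul (cz g (cz h (Additive.toMul v)))
        exact congrArg Additive.ofMul (Subtype.ext (by simp [cz, mul_assoc]))
      smul_zero := fun g => congrArg Additive.ofMul (map_one (cz g))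
      smul_add := fun g v w => congrArg Additive.ofMul (map_mul (cz g) (Additive.toMul v) (Additive.toMul w)) }
  let ρ : U → AddMonoid.End M := fun u => MonoidHom.toAdditive (cq u (hK.unorm u.2) (hUZ' u.2))
  have hρ : ∀ (u : U) (a : K), ρ u (mk a) = mk (c u (hK.unorm u.2) a) := fun u a => rfl
  have key := values_fixed (p := p) hp (P := P) (M := M) (Z := Additive Zp) hPp
    (fun m => by
      obtain ⟨a, rfl⟩ := hmk m
      show Additive.ofMul ((a : ↥K ⧸ Z.subgroupOf K) ^ p) = 0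
      rw [← QuotientGroup.mk_pow, (QuotientGroup.eq_one_iff (a ^ p)).2 (hexp a a.2)]
      rfl)
    (fun v => congrArg Additive.ofMul (Subtype.ext ((hZp _).1 (Additive.toMul v).2).2 : Additive.toMul v ^ p = 1))
    ρ (fun g u => ⟨⟨(g : X) * u * (g : X)⁻¹, mem_iff_conj (hUP g.2) u.2⟩, fun m => by
      obtain ⟨a, rfl⟩ := hmk m
      rw [hsmk, hρ, hsmk, hρ]
      exact congrArg mk (Subtype.ext (by simp [c, mul_assoc]))⟩)
    (fun H hHU hHP => by
      obtain ⟨K', hK'⟩ : ∃ K' : Subgroup X, ∀ v, v ∈ K' ↔ ∃ h : v ∈ K, mk ⟨v, h⟩ ∈ H :=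
        ⟨{ carrier := {v | ∃ h : v ∈ K, mk ⟨v, h⟩ ∈ H}
           mul_mem' := fun ⟨h, e⟩ ⟨h', e'⟩ => ⟨mul_mem h h', H.add_mem e e'⟩
           one_mem' := ⟨one_mem K, H.zero_mem⟩
           inv_mem' := fun ⟨h, e⟩ => ⟨inv_mem h, H.neg_mem e⟩ }, fun _ => Iff.rfl⟩
      have hinv : IsInv U P Z Q1 K' :=
        { le := fun v hv => (hK' v).2 ⟨hZK hv, by
            rw [show mk ⟨v, hZK hv⟩ = 0 from congrArg Additive.ofMul ((QuotientGroup.eq_one_iff _).2 hv)]
            exact H.zero_mem⟩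
          sub := fun v hv => hKQ1 ((hK' v).1 hv).1
          unorm := le_normalizer_of_forall fun g hg v hv => (hK' _).2 ⟨mem_iff_conj (hK.unorm hg) ((hK' v).1 hv).1,
            hHU ⟨g, hg⟩ _ ((hK' v).1 hv).2⟩
          pnorm := le_normalizer_of_forall fun g hg v hv => (hK' _).2 ⟨mem_iff_conj (hK.pnorm hg) ((hK' v).1 hv).1,
            hHP ⟨g, hg⟩ _ ((hK' v).1 hv).2⟩ }
      rcases hKmin K' hinv (fun v hv => ((hK' v).1 hv).1) with h | h
      · refine Or.inl (eq_bot_iff.2 fun m hm => ?_)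
        obtain ⟨a, rfl⟩ := hmk m
        exact AddSubgroup.mem_bot.2 (congrArg Additive.ofMul
          ((QuotientGroup.eq_one_iff _).2 (show (a : X) ∈ Z from h ▸ (hK' _).2 ⟨a.2, hm⟩)))
      · refine Or.inr (eq_top_iff.2 fun m _ => ?_)
        obtain ⟨a, rfl⟩ := hmk m
        exact ((hK' (a : X)).1 (h.symm ▸ a.2)).2)
    b
    (fun m => by
      obtain ⟨a, rfl⟩ := hmk m
      exact congrArg Additive.ofMul (Subtype.ext (commutatorElement_self (a : X))))
    (fun u s t => by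
      obtain ⟨a, rfl⟩ := hmk s
      obtain ⟨d, rfl⟩ := hmk t
      refine congrArg Additive.ofMul (Subtype.ext ?_)
      show ⁅(u : X) * a * (u : X)⁻¹, (u : X) * d * (u : X)⁻¹⁆ = ⁅(a : X), (d : X)⁆
      rw [← conj_comm, commute_conj_eq (hUZ u u.2 _ (hclass _ (hKQ1 a.2) _ (hKQ1 d.2)))])
    (fun g s t => by
      obtain ⟨a, rfl⟩ := hmk s
      obtain ⟨d, rfl⟩ := hmk t
      refine congrArg Additive.ofMul (Subtype.ext ?_)
      show ⁅(g : X) * a * (g : X)⁻¹, (g : X) * d * (g : X)⁻¹⁆ = (g : X) * ⁅(a : X), (d : X)⁆ * (g : X)⁻¹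
      rw [← conj_comm])
    (fun s hs => by
      obtain ⟨a, rfl⟩ := hmk s
      refine congrArg Additive.ofMul ((QuotientGroup.eq_one_iff _).2 (hnd a a.2 fun d hd => ?_))
      have h := congrArg (fun z : Additive Zp => ((Additive.toMul z : Zp) : X)) (hs (mk ⟨d, hd⟩))
      exact commutatorElement_eq_one_iff_mul_comm.1 h)
    (x := ⟨x, hx.1⟩) (fun s hs => by
      obtain ⟨a, rfl⟩ := hmk s
      have hqs : (a : X) ∈ Words.Qs P := by
        refine ⟨hQ1P (hKQ1 a.2), fun y hy => ?_⟩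
        have h := congrArg (fun z : Additive Zp => ((Additive.toMul z : Zp) : X)) (hs ⟨y, hy⟩)
        change ⁅y * a * y⁻¹, (a : X)⁆ = 1 at h
        have h' : Commute (y * a * y⁻¹)⁻¹ (a : X) :=
          (show Commute (y * a * y⁻¹) (a : X) from commutatorElement_eq_one_iff_mul_comm.1 h).inv_left
        refine commutatorElement_eq_one_iff_mul_comm.2 ?_
        rw [show ⁅(a : X), y⁆ = a * (y * a * y⁻¹)⁻¹ by simp [commutatorElement_def, mul_assoc]]
        exact ((Commute.refl (a : X)).mul_right h'.symm).eq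
      obtain ⟨d, hd⟩ : ∃ d : K, (d : X) = ⁅x, (a : X)⁆ :=
        ⟨⟨_, commutator_mem_right (hK.pnorm hx.1) a.2⟩, rfl⟩
      have e : (⟨x, hx.1⟩ : P) • mk a - mk a = mk d := by
        rw [hsmk]
        show Additive.ofMul (((c x (hK.pnorm hx.1) a : K) : ↥K ⧸ Z.subgroupOf K) / (a : ↥K ⧸ Z.subgroupOf K)) = _
        rw [← QuotientGroup.mk_div]
        exact congrArg mk (Subtype.ext (by simp [c, hd, commutatorElement_def, div_eq_mul_inv]))
      rw [e, hsmk]
      refine congrArg mk (Subtype.ext ?_)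
      show x * d * x⁻¹ = d
      have h := hx.2 a hqs
      rw [← hd] at h
      exact commute_conj_eq (commutatorElement_eq_one_iff_mul_comm.1 h))
  intro a ha d hd
  have h := congrArg (fun z : Additive Zp => ((Additive.toMul z : Zp) : X)) (key (mk ⟨a, ha⟩) (mk ⟨d, hd⟩))
  exact mul_inv_eq_iff_eq_mul.1 h

/-- An element is the product of a power of order prime to `p` and a `p`-element power. -/
theorem exists_split (d : X) : ∃ c e : X, c ∈ Subgroup.zpowers d ∧ e ∈ Subgroup.zpowers d ∧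
    (orderOf c).Coprime p ∧ IsPGroup p (Subgroup.zpowers e) ∧ c * e = d := by
  obtain ⟨a, m, hm, e⟩ := Nat.exists_eq_pow_mul_and_not_dvd (orderOf_pos d).ne' p (Fact.out : p.Prime).ne_one
  have hcop : (p ^ a).Coprime m := ((Fact.out : p.Prime).coprime_iff_not_dvd.2 hm).pow_left a
  have hab : ((p ^ a : ℕ) : ℤ) * Nat.gcdA (p ^ a) m + ((m : ℕ) : ℤ) * Nat.gcdB (p ^ a) m = 1 := by
    rw [← Nat.gcd_eq_gcd_ab, hcop.gcd_eq_one, Nat.cast_one]
  refine ⟨d ^ (((p ^ a : ℕ) : ℤ) * Nat.gcdA (p ^ a) m), d ^ ((m : ℤ) * Nat.gcdB (p ^ a) m),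
    Subgroup.zpow_mem _ (Subgroup.mem_zpowers d) _, Subgroup.zpow_mem _ (Subgroup.mem_zpowers d) _, ?_, ?_, ?_⟩
  · refine (((Fact.out : p.Prime).coprime_iff_not_dvd.2 hm).symm).coprime_dvd_left ?_
    refine orderOf_dvd_of_pow_eq_one ?_
    rw [← zpow_natCast, ← zpow_mul, mul_comm (((p ^ a : ℕ) : ℤ)), mul_assoc, ← Nat.cast_mul, ← e,
      mul_comm, zpow_mul, zpow_natCast, pow_orderOf_eq_one, one_zpow]
  · refine IsPGroup.of_card_dvd_pow ?_ (n := a)
    rw [Nat.card_zpowers]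
    refine orderOf_dvd_of_pow_eq_one ?_
    rw [← zpow_natCast, ← zpow_mul, mul_comm ((m : ℤ)), mul_assoc, ← Nat.cast_mul, mul_comm m, ← e,
      mul_comm, zpow_mul, zpow_natCast, pow_orderOf_eq_one, one_zpow]
  · rw [← zpow_add, hab, zpow_one]

/-- The detecting set. -/
theorem exists_detectors (hp : 5 ≤ p) {G R P Q : Subgroup X} (hS : Setting p G R P Q) :
    ∃ Y : Set X, (∀ v ∈ Y, v ∈ Q ∧ ∀ q ∈ Q, ⁅v, ⁅v, q⁆⁆ = 1) ∧
      (∀ v ∈ Y, ∀ w ∈ Words.Xone P, ∀ d ∈ Words.Xone P, ⁅⁅v, ⁅v, w⁆⁆, d⁆ = 1) ∧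
      (∀ z ∈ Words.Xone P, (∀ w ∈ Y, ∀ d ∈ Y, ⁅⁅z, ⁅z, w⁆⁆, d⁆ = 1) → z ∈ Q) ∧
      ∀ g ∈ G, (orderOf g).Coprime p → (∀ s ∈ Words.Qs P, Commute g s) → (∀ v ∈ Y, Commute g v) →
        ∀ y ∈ G, Commute g y := by
  obtain ⟨T, hT, hTeq, hab⟩ := exists_tower hp hS
  obtain ⟨U, hU⟩ : ∃ U, U = pRes p T := ⟨_, rfl⟩
  rw [← hU] at hTeq hab
  have hUT : U ≤ T := hU ▸ pRes_le T
  have hTU : T ≤ Subgroup.normalizer (U : Set X) := hU ▸ le_normalizer_pRes Subgroup.le_normalizer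
  have hPU : P ≤ Subgroup.normalizer (U : Set X) := hU ▸ le_normalizer_pRes hT.pnorm
  have hRU : R ≤ Subgroup.normalizer (U : Set X) := hU ▸ le_normalizer_pRes hT.rnorm
  have hUQ : U ≤ Subgroup.normalizer (Q : Set X) := (hUT.trans hT.le).trans hS.gnorm
  have hTQ : T ≤ Subgroup.normalizer (Q : Set X) := hT.le.trans hS.gnorm
  have hPQ : P ≤ Subgroup.normalizer (Q : Set X) := hS.pleg.trans hS.gnorm
  obtain ⟨Q1, hQ1⟩ : ∃ Q1, Q1 = ⁅Q, U⁆ := ⟨_, rfl⟩
  obtain ⟨Z, hZ⟩ : ∃ Z, Z = Q1 ⊓ Subgroup.centralizer (Q1 : Set X) := ⟨_, rfl⟩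
  have hQ1Q : Q1 ≤ Q := hQ1 ▸ Grp.commutator_le_left_of_le_normalizer hUQ
  have hQ1P : Q1 ≤ P := hQ1Q.trans hS.qle
  have hZQ1 : Z ≤ Q1 := hZ ▸ inf_le_left
  have hZc : ∀ c ∈ Z, ∀ a ∈ Q1, Commute c a := fun c hc a ha =>
    (Subgroup.mem_centralizer_iff.1 (hZ ▸ hc : c ∈ Q1 ⊓ Subgroup.centralizer (Q1 : Set X)).2 a ha).symm
  have hn : ∀ H : Subgroup X, H ≤ Subgroup.normalizer (Q : Set X) → H ≤ Subgroup.normalizer (U : Set X) →
      H ≤ Subgroup.normalizer (Q1 : Set X) ∧ H ≤ Subgroup.normalizer (Z : Set X) := fun H h1 h2 =>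
    have h : H ≤ Subgroup.normalizer (Q1 : Set X) := hQ1 ▸ le_normalizer_commutator' h1 h2
    ⟨h, hZ ▸ le_normalizer_inf' h (le_normalizer_centralizer h)⟩
  obtain ⟨hUQ1, hUZn⟩ := hn U hUQ Subgroup.le_normalizer
  obtain ⟨hPQ1, hPZn⟩ := hn P hPQ hPU
  obtain ⟨hTQ1, hTZn⟩ := hn T hTQ hTU
  obtain ⟨hRQ1, hRZn⟩ := hn R hS.rq hRU
  have hQPn : ∀ {A : Subgroup X}, P ≤ Subgroup.normalizer (A : Set X) → Q ≤ Subgroup.normalizer (A : Set X) :=
    fun h => hS.qle.trans h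
  have hUZ : ∀ u ∈ U, ∀ c ∈ Z, Commute u c := hab Z (hZQ1.trans hQ1Q)
    (fun a ha b hb => (hZc a ha b (hZQ1 hb)).eq) hTZn hPZn hRZn
  -- class two
  have hclass : ∀ a ∈ Q1, ∀ b ∈ Q1, ⁅a, b⁆ ∈ Z := by
    obtain ⟨D0, hD0⟩ : ∃ D0, D0 = ⁅Q1, Q1⁆ := ⟨_, rfl⟩
    have hD0Q1 : D0 ≤ Q1 := hD0 ▸ Grp.commutator_le_left_of_le_normalizer Subgroup.le_normalizer
    obtain ⟨Z2, hZ2⟩ : ∃ Z2 : Subgroup X, ∀ a, a ∈ Z2 ↔ a ∈ Q1 ∧ ∀ b ∈ Q1, ⁅b, a⁆ ∈ Z :=
      ⟨{ carrier := {a | a ∈ Q1 ∧ ∀ b ∈ Q1, ⁅b, a⁆ ∈ Z}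
         mul_mem' := fun ha hb => ⟨mul_mem ha.1 hb.1, fun c hc =>
          commutator_mul_left_mem (ha.2 c hc) (hb.2 c hc) ((hn Q1 (hQ1Q.trans Subgroup.le_normalizer)
            (hQ1P.trans hPU)).2 ha.1)⟩
         one_mem' := ⟨one_mem Q1, fun c _ => by rw [commutatorElement_one_right]; exact one_mem Z⟩
         inv_mem' := fun {a} ha => ⟨inv_mem ha.1, fun c hc => by
          rw [show ⁅c, a⁻¹⁆ = a⁻¹ * ⁅c, a⁆⁻¹ * a⁻¹⁻¹ by simp [commutatorElement_def, mul_assoc]]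
          exact mem_iff_conj ((hn Q1 (hQ1Q.trans Subgroup.le_normalizer) (hQ1P.trans hPU)).2 (inv_mem ha.1))
            (inv_mem (ha.2 c hc))⟩ }, fun _ => Iff.rfl⟩
    have hZ2n : ∀ H : Subgroup X, H ≤ Subgroup.normalizer (Q1 : Set X) → H ≤ Subgroup.normalizer (Z : Set X) →
        H ≤ Subgroup.normalizer (Z2 : Set X) := fun H h1 h2 => le_normalizer_of_forall fun g hg a ha =>
      (hZ2 _).2 ⟨mem_iff_conj (h1 hg) ((hZ2 a).1 ha).1, fun b hb => by
        have h := mem_iff_conj (h2 hg) (((hZ2 a).1 ha).2 _ (inv_conj_mem (h1 hg) hb))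
        rwa [conj_comm, show g * (g⁻¹ * b * g) * g⁻¹ = b by group] at h⟩
    obtain ⟨Y0, hY0⟩ : ∃ Y0, Y0 = Z2 ⊓ D0 := ⟨_, rfl⟩
    have hY0Q1 : Y0 ≤ Q1 := hY0 ▸ fun a ha => hD0Q1 ha.2
    have hY0n : ∀ H : Subgroup X, H ≤ Subgroup.normalizer (Q1 : Set X) → H ≤ Subgroup.normalizer (Z : Set X) →
        H ≤ Subgroup.normalizer (Y0 : Set X) := fun H h1 h2 =>
      hY0 ▸ le_normalizer_inf' (hZ2n H h1 h2) (hD0 ▸ le_normalizer_commutator' h1 h1)
    have hY0ab : ∀ a ∈ Y0, ∀ b ∈ Y0, a * b = b * a := by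
      have h1 : ⁅⁅Z2, Q1⁆, Q1⁆ = ⊥ := by
        refine le_bot_iff.1 ((Subgroup.commutator_mono (Subgroup.commutator_le.2 fun a ha b hb => ?_) le_rfl).trans
          (Subgroup.commutator_eq_bot_iff_le_centralizer.2
            (fun c hc => (hZ ▸ hc : c ∈ Q1 ⊓ Subgroup.centralizer (Q1 : Set X)).2)).le)
        rw [← commutatorElement_inv]
        exact inv_mem (((hZ2 a).1 ha).2 b hb)
      have h2 : ⁅⁅Q1, Z2⁆, Q1⁆ = ⊥ := by rw [Subgroup.commutator_comm Q1 Z2]; exact h1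
      have h3 := Subgroup.commutator_commutator_eq_bot_of_rotate h2 h1
      rw [← hD0, Subgroup.commutator_eq_bot_iff_le_centralizer] at h3
      intro a ha b hb
      rw [hY0] at ha hb
      exact (Subgroup.mem_centralizer_iff.1 (h3 hb.2) a ha.1)
    have hY0U := hab Y0 (hY0Q1.trans hQ1Q) hY0ab (hY0n T hTQ1 hTZn) (hY0n P hPQ1 hPZn) (hY0n R hRQ1 hRZn)
    have hY0Z : Y0 ≤ Z := by
      refine le_center_of_centralized hQ1 hZ hY0Q1 ?_ hY0U
      refine le_bot_iff.1 ((Subgroup.commutator_mono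
        (Grp.commutator_le_left_of_le_normalizer (hQPn (hY0n P hPQ1 hPZn))) le_rfl).trans
        (Subgroup.commutator_eq_bot_iff_le_centralizer.2 fun a ha => Subgroup.mem_centralizer_iff.2 fun u hu =>
          (hY0U u hu a ha).eq).le)
    intro a ha b hb
    by_contra hcon
    obtain ⟨D, hD⟩ := (Set.toFinite {D : Subgroup X | D ≤ D0 ∧ Q1 ≤ Subgroup.normalizer (D : Set X) ∧ ¬ D ≤ Z}).exists_minimal
      ⟨D0, le_rfl, hD0 ▸ le_normalizer_commutator' Subgroup.le_normalizer Subgroup.le_normalizer,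
        fun h => hcon (h (hD0 ▸ Subgroup.commutator_mem_commutator ha hb))⟩
    obtain ⟨hDD0, hDn, hDZ⟩ := hD.1
    have hle : ⁅D, Q1⁆ ≤ D := Grp.commutator_le_left_of_le_normalizer hDn
    by_cases h : ⁅D, Q1⁆ ≤ Z
    · refine hDZ fun d hd => hY0Z ?_
      rw [hY0]
      refine ⟨(hZ2 d).2 ⟨hD0Q1 (hDD0 hd), fun c hc => ?_⟩, hDD0 hd⟩
      rw [← commutatorElement_inv]
      exact inv_mem (h (Subgroup.commutator_mem_commutator hd hc))
    · have := hD.2 ⟨hle.trans hDD0, le_normalizer_commutator' hDn Subgroup.le_normalizer, h⟩ hle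
      exact hDZ (le_of_le_sup_commutator (hS.qgrp.to_le hQ1Q) (hDD0.trans hD0Q1) hZQ1
        (hn Q1 (hQ1Q.trans Subgroup.le_normalizer) (hQ1P.trans hPU)).2 (this.trans le_sup_left))
  -- minimal invariant subgroups
  have hminQ : ∀ K, IsMinInv U P Z Q1 K → ∀ a ∈ K, ∀ q ∈ Q, ⁅a, q⁆ ∈ Z := by
    intro K hK a ha q hq
    have hle : ⁅K, Q⁆ ⊔ Z ≤ K :=
      sup_le (Grp.commutator_le_left_of_le_normalizer (hQPn hK.1.pnorm)) hK.1.le
    have hinv : IsInv U P Z Q1 (⁅K, Q⁆ ⊔ Z) :=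
      { le := le_sup_right
        sub := hle.trans hK.1.sub
        unorm := (le_inf (le_normalizer_commutator' hK.1.unorm hUQ) hUZn).trans
          (Subgroup.normalizer_inf_normalizer_le_normalizer_sup _ _)
        pnorm := (le_inf (le_normalizer_commutator' hK.1.pnorm hPQ) hPZn).trans
          (Subgroup.normalizer_inf_normalizer_le_normalizer_sup _ _) }
    rcases hK.2.2 _ hinv hle with h | h
    · exact h.le (Subgroup.mem_sup_left (Subgroup.commutator_mem_commutator ha hq))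
    · exact absurd (le_antisymm (le_of_le_sup_commutator hS.qgrp (hK.1.sub.trans hQ1Q) (hZQ1.trans hQ1Q)
        (hQPn hPZn) h.ge) hK.1.le) hK.2.1
  obtain ⟨Sp, hSp⟩ : ∃ Sp : Subgroup X, ∀ a, a ∈ Sp ↔ a ∈ Q1 ∧ a ^ p ∈ Z :=
    ⟨{ carrier := {a | a ∈ Q1 ∧ a ^ p ∈ Z}
       mul_mem' := fun {a b} ha hb => ⟨mul_mem ha.1 hb.1, by
        have hz := hclass b hb.1 a ha.1
        rw [Grp.OmegaFix.mul_pow_central a b ⁅b, a⁆ (commutatorElement_def b a) (hZc _ hz a ha.1) (hZc _ hz b hb.1)]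
        exact mul_mem (mul_mem ha.2 hb.2) (pow_mem hz _)⟩
       one_mem' := ⟨one_mem Q1, by rw [one_pow]; exact one_mem Z⟩
       inv_mem' := fun {a} ha => ⟨inv_mem ha.1, by rw [inv_pow]; exact inv_mem ha.2⟩ }, fun _ => Iff.rfl⟩
  have hminp : ∀ K, IsMinInv U P Z Q1 K → ∀ a ∈ K, a ^ p ∈ Z := by
    intro K hK a ha
    have hinv : IsInv U P Z Q1 (K ⊓ Sp) :=
      { le := le_inf hK.1.le fun c hc => (hSp c).2 ⟨hZQ1 hc, pow_mem hc p⟩
        sub := inf_le_left.trans hK.1.sub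
        unorm := le_normalizer_inf' hK.1.unorm (le_normalizer_of_forall fun g hg v hv => (hSp _).2
          ⟨mem_iff_conj (hUQ1 hg) ((hSp v).1 hv).1, by
            rw [← MulAut.conj_apply, ← map_pow]; exact mem_iff_conj (hUZn hg) ((hSp v).1 hv).2⟩)
        pnorm := le_normalizer_inf' hK.1.pnorm (le_normalizer_of_forall fun g hg v hv => (hSp _).2
          ⟨mem_iff_conj (hPQ1 hg) ((hSp v).1 hv).1, by
            rw [← MulAut.conj_apply, ← map_pow]; exact mem_iff_conj (hPZn hg) ((hSp v).1 hv).2⟩) }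
    rcases hK.2.2 _ hinv inf_le_left with h | h
    · exfalso
      obtain ⟨c, hc, hcZ⟩ := SetLike.not_le_iff_exists.1 fun hle => hK.2.1 (le_antisymm hle hK.1.le)
      obtain ⟨k, hk⟩ := hS.qgrp ⟨c, hQ1Q (hK.1.sub hc)⟩
      classical
      have hex : ∃ j, c ^ p ^ j ∈ Z := ⟨k, by
        rw [show c ^ p ^ k = 1 from congrArg Subtype.val hk]; exact one_mem Z⟩
      obtain ⟨j, hj⟩ : ∃ j, Nat.find hex = j + 1 := ⟨Nat.find hex - 1, by
        have : Nat.find hex ≠ 0 := fun e => hcZ (by simpa [e] using Nat.find_spec hex)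
        omega⟩
      refine Nat.find_min hex (show j < Nat.find hex by omega) (h.le ⟨pow_mem hc _, (hSp _).2
        ⟨hK.1.sub (pow_mem hc _), ?_⟩⟩)
      rw [← pow_mul, ← pow_succ, ← hj]
      exact Nat.find_spec hex
    · exact ((hSp a).1 (h.ge ha).2).2
  -- the socle
  obtain ⟨gen, hgen⟩ : ∃ gen : Set X, gen = {v | v ∈ Z ∨ ∃ K, IsMinInv U P Z Q1 K ∧ v ∈ K} := ⟨_, rfl⟩
  obtain ⟨S, hSdef⟩ : ∃ S, S = Subgroup.closure gen := ⟨_, rfl⟩
  have hZS : Z ≤ S := fun c hc => hSdef ▸ Subgroup.subset_closure (hgen ▸ Or.inl hc)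
  have hKS : ∀ K, IsMinInv U P Z Q1 K → K ≤ S := fun K hK v hv =>
    hSdef ▸ Subgroup.subset_closure (hgen ▸ Or.inr ⟨K, hK, hv⟩)
  have hSQ1 : S ≤ Q1 := by
    rw [hSdef, hgen]; refine (Subgroup.closure_le _).2 ?_
    rintro v (hv | ⟨K, hK, hv⟩)
    exacts [hZQ1 hv, hK.1.sub hv]
  have hSn : U ≤ Subgroup.normalizer (S : Set X) ∧ P ≤ Subgroup.normalizer (S : Set X) ∧
      R ≤ Subgroup.normalizer (S : Set X) := by
    have hsame : ∀ H : Subgroup X, H ≤ Subgroup.normalizer (Z : Set X) →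
        (∀ g ∈ H, ∀ K, IsMinInv U P Z Q1 K → IsMinInv U P Z Q1 (MulAut.conj g • K)) →
        H ≤ Subgroup.normalizer (S : Set X) := by
      intro H hHZ hK
      rw [hSdef]
      refine le_normalizer_closure fun g hg v hv => Subgroup.subset_closure ?_
      rw [hgen] at hv ⊢
      rcases hv with hv | ⟨K, hKm, hv⟩
      · exact Or.inl (mem_iff_conj (hHZ hg) hv)
      · exact Or.inr ⟨_, hK g hg K hKm, Subgroup.smul_mem_pointwise_smul v (MulAut.conj g) K hv⟩
    refine ⟨hsame U hUZn fun g hg K hK => ?_, hsame P hPZn fun g hg K hK => ?_, hsame R hRZn fun g hg K hK => ?_⟩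
    · rw [Grp.mem_normalizer_iff_smul.1 (hK.1.unorm hg)]; exact hK
    · rw [Grp.mem_normalizer_iff_smul.1 (hK.1.pnorm hg)]; exact hK
    · have hinv : ∀ (g : X) (L : Subgroup X), g ∈ R → IsInv U P Z Q1 L → IsInv U P Z Q1 (MulAut.conj g • L) := by
        intro g L hg hL
        have hmem : ∀ v, v ∈ MulAut.conj g • L ↔ g⁻¹ * v * g ∈ L := fun v => by
          rw [Grp.mem_smul_conj]
        have hstep : ∀ H : Subgroup X, R ≤ Subgroup.normalizer (H : Set X) → H ≤ Subgroup.normalizer (L : Set X) →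
            H ≤ Subgroup.normalizer ((MulAut.conj g • L : Subgroup X) : Set X) := fun H hH hHL =>
          le_normalizer_of_forall fun h hh v hv => (hmem _).2 (by
            have := mem_iff_conj (hHL (inv_conj_mem (hH hg) hh)) ((hmem v).1 hv)
            rwa [show g⁻¹ * h * g * (g⁻¹ * v * g) * (g⁻¹ * h * g)⁻¹ = g⁻¹ * (h * v * h⁻¹) * g by group] at this)
        exact
          { le := fun v hv => (hmem v).2 (hL.le (inv_conj_mem (hRZn hg) hv))
            sub := fun v hv => by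
              have := mem_iff_conj (hRQ1 hg) (hL.sub ((hmem v).1 hv))
              rwa [show g * (g⁻¹ * v * g) * g⁻¹ = v by group] at this
            unorm := hstep U hRU hL.unorm
            pnorm := hstep P hS.rnorm hL.pnorm }
      have hZfix : MulAut.conj g • Z = Z := Grp.mem_normalizer_iff_smul.1 (hRZn hg)
      refine ⟨hinv g K hg hK.1, fun e => hK.2.1 ((smul_left_cancel_iff (MulAut.conj g)).1 (e.trans hZfix.symm)), fun L hL hle => ?_⟩
      have h' := hK.2.2 _ (hinv g⁻¹ L (inv_mem hg) hL) (by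
        rw [← Subgroup.pointwise_smul_le_pointwise_smul_iff (a := MulAut.conj g), smul_smul, ← map_mul,
          mul_inv_cancel, map_one, one_smul]
        exact hle)
      rcases h' with h | h
      · exact Or.inl (by
          have := congrArg (MulAut.conj g • ·) h
          simpa [smul_smul, ← map_mul, hZfix] using this)
      · exact Or.inr (by
          have := congrArg (MulAut.conj g • ·) h
          simpa [smul_smul, ← map_mul] using this)
  have hTS : T ≤ Subgroup.normalizer (S : Set X) := hTeq ▸ sup_le hSn.1 (inf_le_left.trans hSn.2.1)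
  have hperp : ∀ a ∈ Q1, (∀ s ∈ S, Commute a s) → a ∈ Z := by
    intro a ha hcomm
    obtain ⟨A, hA⟩ : ∃ A, A = Q1 ⊓ Subgroup.centralizer (S : Set X) := ⟨_, rfl⟩
    have haA : a ∈ A := hA ▸ ⟨ha, Subgroup.mem_centralizer_iff.2 fun s hs => (hcomm s hs).eq.symm⟩
    by_contra haZ
    have hZA : Z ≤ A := hA ▸ le_inf hZQ1 fun c hc => Subgroup.mem_centralizer_iff.2 fun s hs =>
      (hZc c hc s (hSQ1 hs)).eq.symm
    obtain ⟨K, hKA, hK⟩ := exists_minInv (U := U) (P := P) (Q1 := Q1)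
      { le := hZA
        sub := hA ▸ inf_le_left
        unorm := hA ▸ le_normalizer_inf' hUQ1 (le_normalizer_centralizer hSn.1)
        pnorm := hA ▸ le_normalizer_inf' hPQ1 (le_normalizer_centralizer hSn.2.1) }
      (fun e => haZ (e ▸ haA))
    have hKV : ∀ v ∈ K, v ∈ S ⊓ Subgroup.centralizer (S : Set X) := fun v hv =>
      ⟨hKS K hK hv, (hA.le (hKA hv)).2⟩
    have hV := hab (S ⊓ Subgroup.centralizer (S : Set X)) (inf_le_left.trans (hSQ1.trans hQ1Q))
      (fun v hv w hw => (Subgroup.mem_centralizer_iff.1 hw.2 v hv.1))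
      (le_normalizer_inf' hTS (le_normalizer_centralizer hTS))
      (le_normalizer_inf' hSn.2.1 (le_normalizer_centralizer hSn.2.1))
      (le_normalizer_inf' hSn.2.2 (le_normalizer_centralizer hSn.2.2))
    refine hK.2.1 (le_antisymm ?_ hK.1.le)
    refine le_center_of_centralized hQ1 hZ hK.1.sub ?_ fun u hu v hv => hV u hu v (hKV v hv)
    exact le_bot_iff.1 ((Subgroup.commutator_mono (Subgroup.commutator_le.2 (hminQ K hK)) le_rfl).trans
      (Subgroup.commutator_eq_bot_iff_le_centralizer.2 fun c hc => Subgroup.mem_centralizer_iff.2 fun u hu =>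
        (hUZ u hu c hc).eq).le)
  -- elements trivial on the socle centralise `Q`
  have hsoc : ∀ g ∈ U, (orderOf g).Coprime p → (∀ v ∈ S, ⁅g, v⁆ ∈ Z) → ∀ q ∈ Q, Commute g q := by
    intro g hgU hgc hgSZ
    have hgS : ∀ s ∈ S, Commute g s := cent_of_series hgc (hS.qgrp.to_le (hSQ1.trans hQ1Q))
      (hSn.1 hgU) hgSZ (fun c hc => hUZ _ hgU c hc)
    have hgQ1 : ∀ a ∈ Q1, Commute g a := cent_of_series hgc (hS.qgrp.to_le hQ1Q) (hUQ1 hgU)
      (fun a ha => hperp _ (commutator_mem_right (hUQ1 hgU) ha) fun s hs => by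
        obtain ⟨d, hd⟩ : ∃ d, d = ⁅g, a⁆ := ⟨_, rfl⟩
        have hdQ : d ∈ Q1 := hd ▸ commutator_mem_right (hUQ1 hgU) ha
        have hc := hclass a ha s (hSQ1 hs)
        have h1 : ⁅g * a * g⁻¹, s⁆ = ⁅a, s⁆ := by
          conv_lhs => rw [show s = g * s * g⁻¹ from (commute_conj_eq (hgS s hs)).symm]
          rw [← conj_comm, commute_conj_eq (hUZ _ hgU _ hc)]
        have h2 : ⁅d * a, s⁆ = ⁅a, s⁆ * ⁅d, s⁆ := by
          rw [show ⁅d * a, s⁆ = (d * ⁅a, s⁆ * d⁻¹) * ⁅d, s⁆ by simp [commutatorElement_def, mul_assoc],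
            commute_conj_eq (hZc _ hc d hdQ).symm]
        rw [hd, show ⁅g, a⁆ * a = g * a * g⁻¹ by simp [commutatorElement_def], h1, left_eq_mul] at h2
        exact commutatorElement_eq_one_iff_mul_comm.1 h2)
      (fun c hc => hUZ _ hgU c hc)
    exact cent_of_series hgc hS.qgrp (hUQ hgU) (fun q hq => by
      rw [← commutatorElement_inv, hQ1]
      exact inv_mem (Subgroup.commutator_mem_commutator hq hgU)) hgQ1
  -- the detecting set
  refine ⟨{v | ∃ K, IsMinInv U P Z Q1 K ∧ (¬ ∀ a ∈ K, ∀ b ∈ K, Commute a b) ∧ v ∈ K}, ?_, ?_, ?_, ?_⟩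
  · rintro v ⟨K, hK, -, hv⟩
    exact ⟨hQ1Q (hK.1.sub hv), fun q hq =>
      commutatorElement_eq_one_iff_mul_comm.2 (hZc _ (hminQ K hK v hv q hq) v (hK.1.sub hv)).symm.eq⟩
  · rintro v ⟨K, hK, hKab, hv⟩ w hw d hd
    have hrad : ∀ a ∈ K, (∀ b ∈ K, Commute a b) → a ∈ Z := by
      intro a ha hc
      have hinv : IsInv U P Z Q1 (K ⊓ Subgroup.centralizer (K : Set X)) :=
        { le := le_inf hK.1.le fun c hc => Subgroup.mem_centralizer_iff.2 fun s hs =>
            (hZc c hc s (hK.1.sub hs)).eq.symm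
          sub := inf_le_left.trans hK.1.sub
          unorm := le_normalizer_inf' hK.1.unorm (le_normalizer_centralizer hK.1.unorm)
          pnorm := le_normalizer_inf' hK.1.pnorm (le_normalizer_centralizer hK.1.pnorm) }
      rcases hK.2.2 _ hinv inf_le_left with h | h
      · exact h.le ⟨ha, Subgroup.mem_centralizer_iff.2 fun b hb => (hc b hb).eq.symm⟩
      · exact absurd (fun a ha b hb => (Subgroup.mem_centralizer_iff.1 (h.ge hb).2 a ha)) hKab
    have h := values_fixed_group (by omega) hS.pgrp hK hPU hUZn hPZn hQ1P hZc hclass (hminp K hK) hUZ hrad hd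
      v hv ⁅v, w⁆ (commutator_mem_left (hK.1.pnorm hw.1) hv)
    exact commutatorElement_eq_one_iff_mul_comm.2 h.symm.eq
  rotate_left
  · intro g hgG hgc hgs hgY
    have hgT := hT.cq g hgG hgc hgs
    have hgU : g ∈ U := hU ▸ mem_pRes hgT hgc
    refine hS.cent g hgG hgc (hsoc g hgU hgc fun v hv => ?_)
    have hle : S ≤ Subgroup.centralizer ({g} : Set X) := by
      rw [hSdef, hgen]
      refine (Subgroup.closure_le _).2 ?_
      rintro v (hv | ⟨K, hK, hv⟩)
      · exact Subgroup.mem_centralizer_singleton_iff.2 (hUZ g hgU v hv).symm.eq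
      by_cases hKab : ∀ a ∈ K, ∀ b ∈ K, Commute a b
      · exact Subgroup.mem_centralizer_singleton_iff.2 (hgs v ⟨hQ1P (hK.1.sub hv), fun y hy =>
          commutatorElement_eq_one_iff_mul_comm.2 (hKab v hv _ (commutator_mem_left (hK.1.pnorm hy) hv)).eq⟩).symm.eq
      · exact Subgroup.mem_centralizer_singleton_iff.2 (hgY v ⟨K, hK, hKab, hv⟩).symm.eq
    rw [commutatorElement_eq_one_iff_mul_comm.2 (Subgroup.mem_centralizer_singleton_iff.1 (hle hv)).symm]
    exact one_mem Z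
  intro z hz hcond
  -- `z` is quadratic on the socle
  have hzS : ∀ v ∈ S, ⁅z, ⁅z, v⁆⁆ ∈ Z := by
    have hzn : z ∈ Subgroup.normalizer (Z : Set X) := hPZn hz.1
    have hmul : ∀ v ∈ S, ∀ w ∈ S, ⁅z, ⁅z, v⁆⁆ ∈ Z → ⁅z, ⁅z, w⁆⁆ ∈ Z → ⁅z, ⁅z, v * w⁆⁆ ∈ Z := by
      intro v hv w hw h1 h2
      have hnS : ∀ y ∈ S, y ∈ Subgroup.normalizer (Z : Set X) := fun y hy => hPZn (hQ1P (hSQ1 hy))
      have hcS : ∀ y ∈ S, ⁅z, y⁆ ∈ S := fun y hy => commutator_mem_right (hSn.2.1 hz.1) hy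
      rw [show ⁅z, v * w⁆ = ⁅z, v⁆ * (⁅z, w⁆ * ⁅(⁅z, w⁆)⁻¹, v⁆) by simp [commutatorElement_def, mul_assoc]]
      refine commutator_mul_left_mem h1 (commutator_mul_left_mem h2 ?_ (hnS _ (hcS w hw))) (hnS _ (hcS v hv))
      exact commutator_mem_right hzn (hclass _ (inv_mem (hSQ1 (hcS w hw))) _ (hSQ1 hv))
    intro v hv
    rw [hSdef] at hv
    induction hv using Subgroup.closure_induction with
    | mem v hv =>
      rw [hgen] at hv
      rcases hv with hv | ⟨K, hK, hv⟩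
      · exact commutator_mem_right hzn (commutator_mem_right hzn hv)
      by_cases hKab : ∀ a ∈ K, ∀ b ∈ K, Commute a b
      · rw [hz.2 v ⟨hQ1P (hK.1.sub hv), fun y hy => commutatorElement_eq_one_iff_mul_comm.2
          (hKab v hv _ (commutator_mem_left (hK.1.pnorm hy) hv)).eq⟩]
        exact one_mem Z
      · have hinv : IsInv U P Z Q1 (K ⊓ Subgroup.centralizer (K : Set X)) :=
          { le := le_inf hK.1.le fun c hc => Subgroup.mem_centralizer_iff.2 fun s hs =>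
              (hZc c hc s (hK.1.sub hs)).eq.symm
            sub := inf_le_left.trans hK.1.sub
            unorm := le_normalizer_inf' hK.1.unorm (le_normalizer_centralizer hK.1.unorm)
            pnorm := le_normalizer_inf' hK.1.pnorm (le_normalizer_centralizer hK.1.pnorm) }
        rcases hK.2.2 _ hinv inf_le_left with h | h
        · have hzK := hK.1.pnorm hz.1
          refine h.le ⟨commutator_mem_right hzK (commutator_mem_right hzK hv),
            Subgroup.mem_centralizer_iff.2 fun d hd => ?_⟩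
          exact (commutatorElement_eq_one_iff_mul_comm.1 (hcond v ⟨K, hK, hKab, hv⟩ d ⟨K, hK, hKab, hd⟩)).symm
        · exact absurd (fun a ha b hb => (Subgroup.mem_centralizer_iff.1 (h.ge hb).2 a ha)) hKab
    | one => rw [commutatorElement_one_right, commutatorElement_one_right]; exact one_mem Z
    | mul v w hv hw h1 h2 => exact hmul v (hSdef ▸ hv) w (hSdef ▸ hw) h1 h2
    | inv v hv h1 =>
      have hv' : v ∈ S := hSdef ▸ hv
      have hp' : ∀ n : ℕ, ⁅z, ⁅z, v ^ n⁆⁆ ∈ Z := by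
        intro n
        induction n with
        | zero => rw [pow_zero, commutatorElement_one_right, commutatorElement_one_right]; exact one_mem Z
        | succ n ih => rw [pow_succ]; exact hmul _ (pow_mem hv' n) v hv' ih h1
      have : v⁻¹ = v ^ (orderOf v - 1) := inv_eq_of_mul_eq_one_right (by
        rw [← pow_succ', Nat.sub_add_cancel (orderOf_pos v), pow_orderOf_eq_one])
      exact this ▸ hp' _
  have hSp' : ∀ v ∈ S, v ^ p ∈ Z := by
    have hle : S ≤ Sp := by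
      rw [hSdef, hgen]; refine (Subgroup.closure_le _).2 ?_
      rintro v (hv | ⟨K, hK, hv⟩)
      exacts [(hSp v).2 ⟨hZQ1 hv, pow_mem hv p⟩, (hSp v).2 ⟨hK.1.sub hv, hminp K hK v hv⟩]
    exact fun v hv => ((hSp v).1 (hle hv)).2
  have hHG : U ⊔ P ≤ G := sup_le (hUT.trans hT.le) hS.pleg
  have hRH : R ≤ Subgroup.normalizer ((U ⊔ P : Subgroup X) : Set X) :=
    (le_inf hRU hS.rnorm).trans (Subgroup.normalizer_inf_normalizer_le_normalizer_sup _ _)
  obtain ⟨N, hNH, hNn, hNe, -, -, hNx⟩ := exists_normal_of_section hp hRH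
    (hS.cop.coprime_dvd_right (Subgroup.card_dvd_of_le hHG)) (sup_le hSn.1 hSn.2.1) (sup_le hUZn hPZn)
    hSn.2.2 hRZn (fun v hv w hw => hclass v (hSQ1 hv) w (hSQ1 hw))
    (fun v hv => hPZn (hQ1P (hSQ1 hv))) hSp'
  have hzN : z ∈ N := hNx z ((hS.ppos z hz.1).restrict hS.norm hS.cop hHG hRH (Subgroup.mem_sup_right hz.1)) hzS
  have hHN : U ⊔ P ≤ Subgroup.normalizer (N : Set X) :=
    (le_inf (le_inf Subgroup.le_normalizer (sup_le hSn.1 hSn.2.1)) (sup_le hUZn hPZn)).trans hNn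
  have hNU : ∀ g ∈ N ⊓ U, (orderOf g).Coprime p → ∀ y ∈ G, Commute g y := by
    intro g hg hgc
    obtain ⟨k, hk⟩ := hNe g hg.1
    obtain ⟨j, hj⟩ := exists_pow_pow_eq hgc k
    exact hS.cent g (hT.le (hUT hg.2)) hgc fun q hq =>
      hj ▸ (hsoc _ (pow_mem hg.2 _) (hgc.coprime_dvd_left (orderOf_pow_dvd _)) (fun v hv => hk v hv) q hq).pow_left j
  have hNUQ : opc p (N ⊓ U) ≤ Q :=
    (le_opc ((opc_le _).trans inf_le_right) (opc_isPGroup _)
      ((le_normalizer_inf' (le_sup_left.trans hHN) Subgroup.le_normalizer).trans (normalizer_le_opc _))).trans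
      (hT.core _ ((opc_le _).trans hUT) (opc_isPGroup _) (hTU.trans (normalizer_le_opc _)))
  refine hT.mem_q hS (hS.pgrp.to_le (Subgroup.zpowers_le.2 hz.1)) (hT.xone hz) fun u hu => ?_
  rw [← hU] at hu
  obtain ⟨d, hd⟩ : ∃ d, d = ⁅u, z⁆ := ⟨_, rfl⟩
  have hdNU : d ∈ N ⊓ U := hd ▸ ⟨(show u * z * u⁻¹ * z⁻¹ ∈ N from
      mul_mem (mem_iff_conj (hHN (Subgroup.mem_sup_left hu)) hzN) (inv_mem hzN)),
      commutator_mem_left (hTU (hT.xone hz)) hu⟩
  obtain ⟨c, e, hc, he, hcc, hep, hce⟩ := exists_split (p := p) d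
  have hcNU : c ∈ N ⊓ U := Subgroup.zpowers_le.2 hdNU hc
  have heNU : e ∈ N ⊓ U := Subgroup.zpowers_le.2 hdNU he
  have hcen := hNU c hcNU hcc
  have heQ : e ∈ Q := hNUQ (mem_opc_of_central (fun g hg hgc y hy => hNU g hg hgc y (hT.le (hUT hy.2))) heNU hep)
  suffices h1 : c = 1 by rw [← hd, ← hce, h1, one_mul]; exact heQ
  have hezP : e * z ∈ P := mul_mem (hS.qle heQ) hz.1
  have huz : u * z * u⁻¹ = c * (e * z) := by
    rw [← mul_assoc, hce, hd, commutatorElement_def]; group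
  obtain ⟨k, hk⟩ := hS.pgrp ⟨z, hz.1⟩
  obtain ⟨k', hk'⟩ := hS.pgrp ⟨e * z, hezP⟩
  have hk1 : (u * z * u⁻¹) ^ p ^ (k + k') = 1 := by
    rw [← MulAut.conj_apply, ← map_pow, pow_add, pow_mul, show z ^ p ^ k = 1 from congrArg Subtype.val hk,
      one_pow, map_one]
  have hk2 : (e * z) ^ p ^ (k + k') = 1 := by
    rw [add_comm, pow_add, pow_mul, show (e * z) ^ p ^ k' = 1 from congrArg Subtype.val hk', one_pow]
  have hcomm : Commute c (e * z) := hcen _ (hS.pleg hezP)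
  rw [huz, hcomm.mul_pow, hk2, mul_one] at hk1
  exact orderOf_eq_one_iff.1 (Nat.eq_one_of_dvd_coprimes (hcc.pow_right (k + k')) dvd_rfl
    (orderOf_dvd_of_pow_eq_one hk1))

/-- The family of admissible groups for a given `P`. -/
abbrev Admissible (p : ℕ) (R P : Subgroup X) := {G : Subgroup X // Setting p G R P (opc p G)}

/-- A canonical characteristic subgroup of `P`, normal in every admissible group, containing its
centralizer in `P`, and whose centralizer in an admissible group is nilpotent. -/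
theorem exists_common (hp : 5 ≤ p) {R P : Subgroup X} (hne : Nonempty (Admissible p R P)) :
    ∃ C ≤ P, (C.subgroupOf P).Characteristic ∧ C ≠ ⊥ ∧ P ⊓ Subgroup.centralizer (C : Set X) ≤ C ∧
      ∀ G, Setting p G R P (opc p G) → G ≤ Subgroup.normalizer (C : Set X) := by
  choose Y hY hfix hdet hcen using fun G : Admissible p R P => exists_detectors hp G.2
  have hD : Words.Data (fun G : Admissible p R P => (G : Subgroup X)) (fun G => opc p (G : Subgroup X)) P Y :=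
    { le := fun G => G.2.qle
      norm := fun G g hg x hx => mem_iff_conj (G.2.gnorm hg) hx
      qs := fun G => G.2.qs_subset hp
      quad := hY
      fix := hfix
      det := hdet }
  obtain ⟨D, hDdef⟩ : ∃ D, D = Words.core hD := ⟨_, rfl⟩
  obtain ⟨G0⟩ := hne
  have hPp : IsPGroup p P := G0.2.pgrp
  obtain ⟨E, hE⟩ : ∃ E, E = P ⊓ Subgroup.centralizer (D : Set X) := ⟨_, rfl⟩
  have hEG : ∀ G, Setting p G R P (opc p G) → G ≤ Subgroup.normalizer (E : Set X) := by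
    intro G hG
    obtain ⟨K, hK⟩ : ∃ K, K = G ⊓ Subgroup.centralizer (D : Set X) := ⟨_, rfl⟩
    have hDn : G ≤ Subgroup.normalizer (D : Set X) := hDdef ▸ Words.core_normal hD ⟨G, hG⟩
    have hcK : ∀ g ∈ K, (orderOf g).Coprime p → ∀ y ∈ G, Commute g y := by
      intro g hg hgc
      rw [hK] at hg
      refine hcen ⟨G, hG⟩ g hg.1 hgc (fun s hs => ?_) fun v hv => ?_
      · exact (Subgroup.mem_centralizer_iff.1 hg.2 s (hDdef ▸ Words.qs_le_core hD ⟨G, hG⟩ hs)).symm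
      · exact (Subgroup.mem_centralizer_iff.1 hg.2 v (hDdef ▸ Words.y_le_core hD hv)).symm
    have heq : E = opc p K := by
      refine le_antisymm (fun x hx => ?_) ?_
      · rw [hE] at hx
        refine mem_opc_of_central (fun g hg hgc y hy => hcK g hg hgc y ?_) (hK ▸ ⟨hG.pleg hx.1, hx.2⟩)
          (hPp.to_le (Subgroup.zpowers_le.2 hx.1))
        rw [hK] at hy; exact hy.1
      · have hKG : K ≤ G := hK ▸ inf_le_left
        have h1 : opc p K ≤ opc p G := le_opc ((opc_le K).trans hKG) (opc_isPGroup K)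
          ((hK ▸ le_normalizer_inf' Subgroup.le_normalizer (le_normalizer_centralizer hDn) :
            G ≤ Subgroup.normalizer (K : Set X)).trans (normalizer_le_opc K))
        refine fun x hx => hE ▸ ⟨hG.qle (h1 hx), ?_⟩
        exact (hK.le (opc_le K hx)).2
    rw [heq]
    exact (hK ▸ le_normalizer_inf' Subgroup.le_normalizer (le_normalizer_centralizer hDn) :
      G ≤ Subgroup.normalizer (K : Set X)).trans (normalizer_le_opc K)
  have hDP : D ≤ P := hDdef ▸ Words.core_le hD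
  have hEP : E ≤ P := hE ▸ inf_le_left
  refine ⟨D ⊔ E, sup_le hDP hEP, ?_, ?_, ?_, fun G hG =>
    (le_inf (hDdef ▸ Words.core_normal hD ⟨G, hG⟩) (hEG G hG)).trans
      (Subgroup.normalizer_inf_normalizer_le_normalizer_sup _ _)⟩
  · rw [Subgroup.subgroupOf_sup hDP hEP]
    haveI h1 : (D.subgroupOf P).Characteristic := hDdef ▸ Words.core_char hD
    haveI h2 : (E.subgroupOf P).Characteristic := by
      have : E.subgroupOf P = Subgroup.centralizer ((D.subgroupOf P : Subgroup P) : Set P) := by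
        ext x
        rw [Subgroup.mem_subgroupOf, hE, Subgroup.mem_inf, Subgroup.mem_centralizer_iff,
          Subgroup.mem_centralizer_iff]
        refine ⟨fun h d hd => Subtype.ext (h.2 d hd), fun h => ⟨x.2, fun d hd => ?_⟩⟩
        exact congrArg Subtype.val (h ⟨d, hDP hd⟩ hd)
      rw [this]
      infer_instance
    exact Subgroup.characteristic_iff_map_le.2 fun φ => by
      rw [Subgroup.map_sup]
      exact sup_le_sup (Subgroup.characteristic_iff_map_le.1 h1 φ) (Subgroup.characteristic_iff_map_le.1 h2 φ)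
  · obtain ⟨s, hs, hs1⟩ := G0.2.exists_qs_ne
    intro e
    refine hs1 (Subgroup.mem_bot.1 (e ▸ Subgroup.mem_sup_left ?_))
    exact hDdef ▸ Words.qs_le_core hD G0 hs
  · intro x hx
    refine Subgroup.mem_sup_right (hE ▸ ⟨hx.1, ?_⟩)
    exact Subgroup.centralizer_le (SetLike.coe_subset_coe.2 (le_sup_left : D ≤ D ⊔ E)) hx.2

/-- Flavell's theorem. -/
theorem exists_characteristic (hp : 5 ≤ p) {G R P : Subgroup X} (hS : Setting p G R P (opc p G)) :
    ∃ C : Subgroup P, C.Characteristic ∧ C ≠ ⊥ ∧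
      G ≤ Subgroup.normalizer ((C.map P.subtype : Subgroup X) : Set X) := by
  obtain ⟨C, hCP, hchar, hne, -, hn⟩ := exists_common hp ⟨⟨G, hS⟩⟩
  refine ⟨C.subgroupOf P, hchar, fun e => hne ?_, ?_⟩
  · rw [← Subgroup.map_subgroupOf_eq_of_le hCP, e, Subgroup.map_bot]
  · rw [Subgroup.map_subgroupOf_eq_of_le hCP]; exact hn G hS

end Cfsg.Agent.Spor.Flavell
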