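import Mathlib
import Cfsg.Agent.Lib.Spor.FlavellCore

/-!
In characteristic `p ≥ 5` a quadratic element lying in all Sylow subgroups invariant under a coprime
group of operators lies in the largest normal `p`-subgroup.
-/

set_option autoImplicit false
set_option linter.unusedSectionVars false

namespace Cfsg.Agent.Spor.Flavell

open Cfsg.Agent Cfsg.Agent.Fus
open scoped Pointwise

variable {G G' : Type*} [Group G] [Finite G] [Group G'] [Finite G'] {p : ℕ} [Fact p.Prime]

/-- The condition passes to images. -/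
theorem InP.map (f : G →* G') {L A : Subgroup G} (hnorm : A ≤ Subgroup.normalizer (L : Set G))
    (hcop : (Nat.card A).Coprime (Nat.card L)) {x : G} (hx : InP p L A x) :
    InP p (L.map f) (A.map f) (f x) := by
  refine ⟨Subgroup.mem_map_of_mem f hx.1, fun T hT hTA => ?_⟩
  obtain ⟨M, hM⟩ : ∃ M, M = L ⊓ T.comap f := ⟨_, rfl⟩
  have hML : M ≤ L := hM ▸ inf_le_left
  have hMA : A ≤ Subgroup.normalizer (M : Set G) := by
    intro a ha
    refine Subgroup.mem_normalizer_iff.2 fun y => ?_
    rw [hM, Subgroup.mem_inf, Subgroup.mem_inf, Subgroup.mem_comap, Subgroup.mem_comap, map_mul, map_mul, map_inv]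
    exact and_congr (Subgroup.mem_normalizer_iff.1 (hnorm ha) y)
      (Subgroup.mem_normalizer_iff.1 (hTA (Subgroup.mem_map_of_mem f ha)) (f y))
  have hcM : (Nat.card A).Coprime (Nat.card M) := hcop.coprime_dvd_right (Subgroup.card_dvd_of_le hML)
  obtain ⟨X, hX, hXA⟩ := Grp.exists_invariant_sylow A M hMA hcM (solv hcM) p
  obtain ⟨S, hS, hSA, hXS⟩ := Grp.exists_invariant_sylow_ge A L hnorm hcop (solv hcop) (hX.1.trans hML) hX.2.1 hXA
  have hMT : M.map f = T := by
    refine le_antisymm (Subgroup.map_le_iff_le_comap.2 (hM ▸ inf_le_right)) fun v hv => ?_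
    obtain ⟨w, hw, rfl⟩ := hT.1 hv
    exact ⟨w, hM ▸ ⟨hw, hv⟩, rfl⟩
  have hle : X.map f ≤ T := hMT ▸ Subgroup.map_mono hX.1
  have hXT : X.map f = T := by
    refine le_antisymm hle (Subgroup.relIndex_eq_one.1 ?_)
    obtain ⟨k, hk⟩ : ∃ k, (X.map f).relIndex T = p ^ k := hT.2.1.index ((X.map f).subgroupOf T)
    rcases k with _ | k
    · rw [hk, pow_zero]
    · refine absurd ?_ hX.2.2
      refine (hk ▸ dvd_pow_self p k.succ_ne_zero : p ∣ (X.map f).relIndex T).trans ?_
      rw [← hMT, ← Subgroup.relIndex_comap]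
      exact Subgroup.relIndex_dvd_of_le_left _ (Subgroup.le_comap_map f X)
  have e := hT.eq_of_le (hXT ▸ Subgroup.map_mono hXS) (Subgroup.map_mono hS.1) (hS.2.1.map f)
  exact e ▸ Subgroup.mem_map_of_mem f (hx.2 S hS hSA)

/-- The condition passes to a subgroup containing both groups. -/
theorem InP.subgroupOf {L A H : Subgroup G} (hL : L ≤ H) (hA : A ≤ H) {x : H} (hx : InP p L A (x : G)) :
    InP p (L.subgroupOf H) (A.subgroupOf H) x := by
  refine ⟨hx.1, fun S hS hSA => ?_⟩
  have hS' : Grp.IsSylowIn p (S.map H.subtype) L := by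
    refine ⟨(Subgroup.map_mono hS.1).trans (Subgroup.map_subgroupOf_eq_of_le hL).le, hS.2.1.map _, ?_⟩
    rw [← Subgroup.map_subgroupOf_eq_of_le hL,
      Subgroup.relIndex_map_map_of_injective _ _ H.subtype_injective]
    exact hS.2.2
  have hA' : A ≤ Subgroup.normalizer ((S.map H.subtype : Subgroup G) : Set G) :=
    (Subgroup.map_subgroupOf_eq_of_le hA).ge.trans
      ((Subgroup.map_mono hSA).trans (Subgroup.le_normalizer_map _))
  obtain ⟨y, hy, e⟩ := hx.2 _ hS' hA'
  rwa [← H.subtype_injective e]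

/-- Lemma T: quadratic elements of all invariant Sylow subgroups lie in the `p`-core. -/
theorem mem_opc (hp : 5 ≤ p) : ∀ n : ℕ, ∀ (V : Type) [AddCommGroup V] [Module (ZMod p) V] [Finite V]
    (L A : Subgroup (LinearMap.GeneralLinearGroup (ZMod p) V)), Nat.card V + Nat.card L = n →
    A ≤ Subgroup.normalizer (L : Set _) → (Nat.card A).Coprime (Nat.card L) →
    ∀ x : LinearMap.GeneralLinearGroup (ZMod p) V,
      ((x : Module.End (ZMod p) V) - 1) * ((x : Module.End (ZMod p) V) - 1) = 0 → InP p L A x →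
      x ∈ opc p L := by
  intro n
  induction n using Nat.strong_induction_on with
  | _ n ih =>
  intro V _ _ _ L A hn hnorm hcop x hx2 hx
  rcases eq_or_ne x 1 with rfl | hx1
  · exact one_mem _
  rcases eq_or_ne (opc p L) ⊥ with hO | hO
  · exfalso
    refine no_quadratic hp L A hnorm hcop hO (fun R hR hRA y hy hy2 hyP => ?_) hx2
      (fun e => hx1 (Units.ext (sub_eq_zero.1 e))) hx
    refine ih _ ?_ V R A rfl hRA (hcop.coprime_dvd_right (Subgroup.card_dvd_of_le hR.le)) y hy2 hyP
    have : Nat.card R < Nat.card L := lt_of_not_ge fun h => hR.ne (Subgroup.eq_of_le_of_card_ge hR.le h)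
    omega
  obtain ⟨N, hN⟩ : ∃ N, N = opc p L := ⟨_, rfl⟩
  obtain ⟨H, hH⟩ : ∃ H, H = L ⊔ A := ⟨_, rfl⟩
  have hLH : L ≤ H := hH ▸ le_sup_left
  have hAH : A ≤ H := hH ▸ le_sup_right
  have hHN : H ≤ Subgroup.normalizer (N : Set _) :=
    hN ▸ (hH ▸ sup_le Subgroup.le_normalizer hnorm : H ≤ Subgroup.normalizer (L : Set _)).trans
      (normalizer_le_opc L)
  obtain ⟨V1, hV1⟩ : ∃ V1 : Submodule (ZMod p) V, ∀ v, v ∈ V1 ↔ ∀ g ∈ N, (g : Module.End (ZMod p) V) v = v :=
    ⟨⨅ g ∈ N, LinearMap.eqLocus (g : Module.End (ZMod p) V) 1, fun v => by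
      simp [Submodule.mem_iInf, LinearMap.mem_eqLocus]⟩
  have hinv : ∀ g : H, ∀ v ∈ V1, ((g : LinearMap.GeneralLinearGroup (ZMod p) V) : Module.End (ZMod p) V) v ∈ V1 := by
    intro g v hv
    rw [hV1] at hv ⊢
    intro m hm
    have hm' := (Subgroup.mem_normalizer_iff.1 (hHN (inv_mem g.2)) m).1 hm
    rw [inv_inv] at hm'
    have e := congrArg (((g : LinearMap.GeneralLinearGroup (ZMod p) V)) : Module.End (ZMod p) V) (hv _ hm')
    rwa [← Module.End.mul_apply, ← Units.val_mul, show (g : LinearMap.GeneralLinearGroup (ZMod p) V) *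
      ((g : LinearMap.GeneralLinearGroup (ZMod p) V)⁻¹ * m * g) = m * g by group, Units.val_mul,
      Module.End.mul_apply] at e
  have hNp : IsPGroup p N := hN ▸ opc_isPGroup L
  have hne : ∃ m : V, m ≠ 0 := by
    by_contra hcon
    push Not at hcon
    exact hx1 (Units.ext (LinearMap.ext fun v => by rw [hcon v, map_zero, map_zero]))
  obtain ⟨v0, hv0, hv0f⟩ := QPair.exists_fixed (isUnipotentOn_of_pgroup hNp) hne
  have hV1bot : V1 ≠ ⊥ := fun e => hv0 ((Submodule.mem_bot _).1 (e ▸ (hV1 v0).2 hv0f))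
  have hV1top : V1 ≠ ⊤ := fun e => hO (hN ▸ (Subgroup.eq_bot_iff_forall _).2 fun g hg =>
    Units.ext (LinearMap.ext fun v => (hV1 v).1 (e ▸ Submodule.mem_top) g hg))
  haveI : Finite (V ⧸ V1) := Finite.of_surjective _ (Submodule.mkQ_surjective V1)
  -- the two representations
  obtain ⟨f1, hf1⟩ : ∃ f1 : H →* LinearMap.GeneralLinearGroup (ZMod p) V1, ∀ (g : H) (v : V1),
      (((f1 g : LinearMap.GeneralLinearGroup (ZMod p) V1) : Module.End (ZMod p) V1) v : V) =
        ((g : LinearMap.GeneralLinearGroup (ZMod p) V) : Module.End (ZMod p) V) v :=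
    ⟨MonoidHom.toHomUnits
      { toFun := fun g : H => ((g : LinearMap.GeneralLinearGroup (ZMod p) V) : Module.End (ZMod p) V).restrict (hinv g)
        map_one' := LinearMap.ext fun v => Subtype.ext rfl
        map_mul' := fun a b => LinearMap.ext fun v => Subtype.ext rfl }, fun g v => rfl⟩
  obtain ⟨f2, hf2⟩ : ∃ f2 : H →* LinearMap.GeneralLinearGroup (ZMod p) (V ⧸ V1), ∀ (g : H) (v : V),
      ((f2 g : LinearMap.GeneralLinearGroup (ZMod p) (V ⧸ V1)) : Module.End (ZMod p) (V ⧸ V1))
        (Submodule.Quotient.mk v) =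
        Submodule.Quotient.mk (((g : LinearMap.GeneralLinearGroup (ZMod p) V) : Module.End (ZMod p) V) v) :=
    ⟨MonoidHom.toHomUnits
      { toFun := fun g : H => V1.mapQ V1 ((g : LinearMap.GeneralLinearGroup (ZMod p) V) : Module.End (ZMod p) V)
          (fun v hv => hinv g v hv)
        map_one' := LinearMap.ext fun w => Quotient.inductionOn' w fun v => rfl
        map_mul' := fun a b => LinearMap.ext fun w => Quotient.inductionOn' w fun v => rfl }, fun g v => rfl⟩
  have hn' : A.subgroupOf H ≤ Subgroup.normalizer ((L.subgroupOf H : Subgroup H) : Set H) := fun a ha =>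
    Subgroup.mem_normalizer_iff.2 fun y => Subgroup.mem_normalizer_iff.1 (hnorm ha) (y : LinearMap.GeneralLinearGroup (ZMod p) V)
  have hcA : Nat.card (A.subgroupOf H) = Nat.card A := Nat.card_congr (Subgroup.subgroupOfEquivOfLe hAH).toEquiv
  have hcL : Nat.card (L.subgroupOf H) = Nat.card L := Nat.card_congr (Subgroup.subgroupOfEquivOfLe hLH).toEquiv
  have hxH := InP.subgroupOf hLH hAH (x := ⟨x, hLH hx.1⟩) hx
  have step : ∀ (W : Type) [AddCommGroup W] [Module (ZMod p) W] [Finite W]
      (f : H →* LinearMap.GeneralLinearGroup (ZMod p) W),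
      ((f ⟨x, hLH hx.1⟩ : LinearMap.GeneralLinearGroup (ZMod p) W) : Module.End (ZMod p) W) - 1 = 0 ∨
      ((((f ⟨x, hLH hx.1⟩ : LinearMap.GeneralLinearGroup (ZMod p) W) : Module.End (ZMod p) W) - 1) *
        (((f ⟨x, hLH hx.1⟩ : LinearMap.GeneralLinearGroup (ZMod p) W) : Module.End (ZMod p) W) - 1) = 0) →
      Nat.card W + Nat.card ((L.subgroupOf H).map f) < n →
      f ⟨x, hLH hx.1⟩ ∈ opc p ((L.subgroupOf H).map f) := by
    intro W _ _ _ f hsq hlt
    refine ih _ hlt W _ ((A.subgroupOf H).map f) rfl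
      ((Subgroup.map_mono hn').trans (Subgroup.le_normalizer_map _)) ?_ _ ?_ (hxH.map f hn' (hcA ▸ hcL ▸ hcop))
    · exact ((hcA ▸ hcL ▸ hcop : (Nat.card (A.subgroupOf H)).Coprime (Nat.card (L.subgroupOf H))).coprime_dvd_left
        (Subgroup.card_map_dvd _ _)).coprime_dvd_right (Subgroup.card_map_dvd _ _)
    · rcases hsq with h | h
      · rw [h, mul_zero]
      · exact h
  have hz2 : ∀ v : V, (x : Module.End (ZMod p) V) ((x : Module.End (ZMod p) V) v - v) =
      (x : Module.End (ZMod p) V) v - v := fun v => by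
    have e := LinearMap.congr_fun hx2 v
    simp only [Module.End.mul_apply, LinearMap.sub_apply, Module.End.one_apply, LinearMap.zero_apply] at e
    exact sub_eq_zero.1 e
  have hmap : ∀ {W : Type} [AddCommGroup W] [Module (ZMod p) W] [Finite W]
      (f : H →* LinearMap.GeneralLinearGroup (ZMod p) W),
      Nat.card ((L.subgroupOf H).map f) ≤ Nat.card L := fun f =>
    hcL ▸ Nat.le_of_dvd Nat.card_pos (Subgroup.card_map_dvd _ _)
  have h1 : f1 ⟨x, hLH hx.1⟩ ∈ opc p ((L.subgroupOf H).map f1) := by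
    refine step V1 f1 (Or.inr (LinearMap.ext fun v => Subtype.ext ?_)) ?_
    · simp only [Module.End.mul_apply, LinearMap.sub_apply, Module.End.one_apply, LinearMap.zero_apply,
        Submodule.coe_sub, hf1, ZeroMemClass.coe_zero, hz2, sub_self]
    · have hlt : Nat.card V1 < Nat.card V :=
        lt_of_le_of_ne (Nat.card_le_card_of_injective V1.subtype V1.subtype_injective) fun e => by
          obtain ⟨-, h⟩ := (Nat.bijective_iff_injective_and_card V1.subtype).2 ⟨V1.subtype_injective, e⟩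
          exact hV1top (eq_top_iff.2 fun v _ => by obtain ⟨w, rfl⟩ := h v; exact w.2)
      have := hmap f1
      omega
  have h2 : f2 ⟨x, hLH hx.1⟩ ∈ opc p ((L.subgroupOf H).map f2) := by
    refine step (V ⧸ V1) f2 (Or.inr ?_) ?_
    · refine LinearMap.ext fun w => Quotient.inductionOn' w fun v => ?_
      show _ = (0 : V ⧸ V1)
      simp only [Submodule.Quotient.mk''_eq_mk, Module.End.mul_apply, LinearMap.sub_apply, Module.End.one_apply,
        hf2, ← Submodule.Quotient.mk_sub, hz2, sub_self, Submodule.Quotient.mk_zero]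
    · obtain ⟨v, hv, hv0'⟩ := (Submodule.ne_bot_iff _).1 hV1bot
      have hlt : Nat.card (V ⧸ V1) < Nat.card V :=
        lt_of_le_of_ne (Nat.card_le_card_of_surjective _ (Submodule.mkQ_surjective V1)) fun e => by
          obtain ⟨h, -⟩ := (Nat.bijective_iff_surjective_and_card (Submodule.mkQ V1)).2 ⟨Submodule.mkQ_surjective V1, e.symm⟩
          exact hv0' (h (by rw [map_zero]; exact (Submodule.Quotient.mk_eq_zero V1).2 hv))
      have := hmap f2
      rw [hcL] at *
      omega
  -- the common preimage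
  obtain ⟨M, hM⟩ : ∃ M : Subgroup H, M = L.subgroupOf H ⊓
      ((opc p ((L.subgroupOf H).map f1)).comap f1 ⊓ (opc p ((L.subgroupOf H).map f2)).comap f2) := ⟨_, rfl⟩
  have hMp : IsPGroup p M := by
    rintro ⟨g, hg⟩
    rw [hM] at hg
    obtain ⟨-, hg1, hg2⟩ := hg
    obtain ⟨a, ha⟩ := opc_isPGroup _ ⟨f1 g, hg1⟩
    obtain ⟨b, hb⟩ := opc_isPGroup _ ⟨f2 g, hg2⟩
    have ha' : f1 (g ^ p ^ (a + b)) = 1 := by
      rw [map_pow, pow_add, pow_mul]
      rw [show f1 g ^ p ^ a = 1 from congrArg Subtype.val ha, one_pow]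
    have hb' : f2 (g ^ p ^ (a + b)) = 1 := by
      rw [map_pow, add_comm, pow_add, pow_mul]
      rw [show f2 g ^ p ^ b = 1 from congrArg Subtype.val hb, one_pow]
    obtain ⟨h, hh⟩ : ∃ h, h = g ^ p ^ (a + b) := ⟨_, rfl⟩
    rw [← hh] at ha' hb'
    have hsq : (((h : LinearMap.GeneralLinearGroup (ZMod p) V) : Module.End (ZMod p) V) - 1) *
        (((h : LinearMap.GeneralLinearGroup (ZMod p) V) : Module.End (ZMod p) V) - 1) = 0 := by
      refine LinearMap.ext fun v => ?_
      have e2 : ((h : LinearMap.GeneralLinearGroup (ZMod p) V) : Module.End (ZMod p) V) v - v ∈ V1 := by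
        refine (Submodule.Quotient.eq V1).1 ?_
        rw [← hf2, hb']; rfl
      have e1 := hf1 h ⟨_, e2⟩
      rw [ha'] at e1
      simp only [Module.End.mul_apply, LinearMap.sub_apply, Module.End.one_apply, LinearMap.zero_apply]
      exact sub_eq_zero.2 e1.symm
    refine ⟨a + b + 1, Subtype.ext (Subtype.ext ?_)⟩
    show (g : LinearMap.GeneralLinearGroup (ZMod p) V) ^ p ^ (a + b + 1) = 1
    rw [pow_succ, pow_mul, ← SubmonoidClass.coe_pow, ← hh]
    exact pow_eq_one_of_sq hp hsq
  have hle : (M.map H.subtype) ≤ opc p L := by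
    refine le_opc ?_ (hMp.map _) ?_
    · rw [hM]; exact (Subgroup.map_mono inf_le_left).trans (Subgroup.map_subgroupOf_eq_of_le hLH).le
    · refine (Subgroup.map_subgroupOf_eq_of_le hLH).ge.trans
        ((Subgroup.map_mono ?_).trans (Subgroup.le_normalizer_map _))
      intro g hg
      refine Subgroup.mem_normalizer_iff.2 fun y => ?_
      rw [hM]
      simp only [Subgroup.mem_inf, Subgroup.mem_comap, map_mul, map_inv]
      refine and_congr (Subgroup.mem_normalizer_iff.1 (Subgroup.le_normalizer hg) y) (and_congr ?_ ?_)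
      · exact Subgroup.mem_normalizer_iff.1
          (normalizer_le_opc _ (Subgroup.le_normalizer (Subgroup.mem_map_of_mem f1 hg))) (f1 y)
      · exact Subgroup.mem_normalizer_iff.1
          (normalizer_le_opc _ (Subgroup.le_normalizer (Subgroup.mem_map_of_mem f2 hg))) (f2 y)
  exact hle ⟨⟨x, hLH hx.1⟩, hM ▸ ⟨hx.1, h1, h2⟩, rfl⟩

end Cfsg.Agent.Spor.Flavell
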