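import Mathlib
import Cfsg.Agent.Lib.Grp.Coprime
import Cfsg.Agent.Lib.Grp.CoprimeAbelian
import Cfsg.Agent.Lib.Grp.FpfPrime
import Cfsg.Agent.Lib.Transfer.Residual
import Cfsg.Agent.Lib.Spor.FlavellMain
import Cfsg.Agent.Lib.Spor.FlavellResidual
import Cfsg.Agent.Lib.Spor.FlavellDetect

/-!
Auxiliary facts for Flavell's signalizer argument, and the step through a quotient.
-/

set_option autoImplicit false
set_option linter.unusedSectionVars false
set_option linter.style.haveILetI false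

namespace Cfsg.Agent.Spor.Flavell.Signal

open Cfsg.Agent Cfsg.Agent.Spor.Flavell
open scoped commutatorElement Pointwise

variable {X : Type*} [Group X] [Finite X] {p : ℕ} [Fact p.Prime]

/-- A centralizer of the operators normalising the group permutes the invariant Sylow subgroups. -/
theorem inP_conj_outer {L A : Subgroup X} {x c : X} (hx : InP p L A x)
    (hcL : c ∈ Subgroup.normalizer (L : Set X)) (hcA : c ∈ Subgroup.centralizer (A : Set X)) :
    InP p L A (c * x * c⁻¹) := by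
  refine ⟨mem_iff_conj hcL hx.1, fun S hS hSA => ?_⟩
  have hS' : Grp.IsSylowIn p (MulAut.conj c⁻¹ • S) L :=
    hS.smul (Grp.mem_normalizer_iff_smul.1 (inv_mem hcL))
  have hA' : A ≤ Subgroup.normalizer ((MulAut.conj c⁻¹ • S : Subgroup X) : Set X) := by
    intro a ha
    have e := Subgroup.mem_centralizer_iff.1 hcA a ha
    rw [Grp.mem_normalizer_iff_smul, ← mul_smul, ← map_mul, show a * c⁻¹ = c⁻¹ * a by
      rw [eq_inv_mul_iff_mul_eq, ← mul_assoc, ← e, mul_inv_cancel_right], map_mul, mul_smul,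
      Grp.mem_normalizer_iff_smul.1 (hSA ha)]
  have := hx.2 _ hS' hA'
  rw [Grp.mem_smul_conj, inv_inv] at this
  exact this

/-- An invariant `p`-subgroup normalised by the fixed points lies in all invariant Sylow subgroups. -/
theorem inP_of_invariant {L A U : Subgroup X} (hnorm : A ≤ Subgroup.normalizer (L : Set X))
    (hcop : (Nat.card A).Coprime (Nat.card L)) (hUL : U ≤ L) (hU : IsPGroup p U)
    (hUA : A ≤ Subgroup.normalizer (U : Set X))
    (hUC : L ⊓ Subgroup.centralizer (A : Set X) ≤ Subgroup.normalizer (U : Set X)) {x : X} (hx : x ∈ U) :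
    InP p L A x := by
  refine ⟨hUL hx, fun S hS hSA => ?_⟩
  obtain ⟨S1, hS1, hS1A, hUS1⟩ := Grp.exists_invariant_sylow_ge A L hnorm hcop (solv hcop) hUL hU hUA
  obtain ⟨c, hc, rfl⟩ := Grp.invariant_sylow_conj A L hnorm hcop (solv hcop) hS1 hS hS1A hSA
  rw [← Grp.mem_normalizer_iff_smul.1 (hUC hc)] at hx
  exact Subgroup.pointwise_smul_le_pointwise_smul_iff.2 hUS1 hx

/-- A subgroup characteristic in `P` is normalised by the normaliser of `P`. -/
theorem le_normalizer_of_char {P K : Subgroup X} (hKP : K ≤ P) (h : (K.subgroupOf P).Characteristic) :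
    Subgroup.normalizer (P : Set X) ≤ Subgroup.normalizer (K : Set X) := by
  refine le_normalizer_of_forall fun g hg v hv => ?_
  exact Subgroup.mem_subgroupOf.1 (Subgroup.characteristic_iff_le_comap.1 h (P.normalizerMonoidHom ⟨g, hg⟩)
    (show (⟨v, hKP hv⟩ : P) ∈ K.subgroupOf P from hv) : P.normalizerMonoidHom ⟨g, hg⟩ ⟨v, hKP hv⟩ ∈ K.subgroupOf P)

/-- An element of order prime to `p` whose conjugate differs from it by a commuting `p`-element. -/
theorem commute_of_commutator_mem {K : Subgroup X} (hK : IsPGroup p K) {c s : X} (hc : (orderOf c).Coprime p)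
    (hs : ⁅c, s⁆ ∈ K) (hcK : ∀ v ∈ K, Commute c v) : Commute c s := by
  obtain ⟨k, hk⟩ := hK ⟨_, hs⟩
  have hk' : ⁅c, s⁆ ^ p ^ k = 1 := congrArg Subtype.val hk
  have h : ∀ n : ℕ, ⁅c ^ n, s⁆ = ⁅c, s⁆ ^ n := by
    intro n
    induction n with
    | zero => simp [commutatorElement_def]
    | succ n ih =>
      rw [pow_succ', show ⁅c * c ^ n, s⁆ = (c * ⁅c ^ n, s⁆ * c⁻¹) * ⁅c, s⁆ by
        simp [commutatorElement_def, mul_assoc], ih, ((hcK _ hs).pow_right n).eq, mul_inv_cancel_right, ← pow_succ]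
  have h1 : ⁅c, s⁆ ^ orderOf c = 1 := by rw [← h, pow_orderOf_eq_one, commutatorElement_one_left]
  exact commutatorElement_eq_one_iff_mul_comm.1
    ((pow_eq_one_iff_of_coprime (hc.pow_right k)).1 ⟨h1, hk'⟩)

/-- An element is trivial if its order divides two coprime numbers. -/
theorem eq_one_of_pgroup_of_coprime {K : Subgroup X} (hK : IsPGroup p K) {c : X} (hc : c ∈ K)
    (h : (orderOf c).Coprime p) : c = 1 := by
  obtain ⟨k, hk⟩ := hK ⟨c, hc⟩
  exact orderOf_eq_one_iff.1 (Nat.eq_one_of_dvd_coprimes (h.pow_right k) dvd_rfl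
    (orderOf_dvd_of_pow_eq_one (congrArg Subtype.val hk)))

/-- A group in which the fixed points of an operator of prime order are central is nilpotent. -/
theorem isNilpotent_of_fixed_central {r : ℕ} [Fact r.Prime] {K : Subgroup X} {a : X} (ha : a ^ r = 1)
    (haK : a ∈ Subgroup.normalizer (K : Set X))
    (hcop : (Nat.card (Subgroup.zpowers a)).Coprime (Nat.card K))
    (hz : K ≤ Subgroup.centralizer ((K ⊓ Subgroup.centralizer {a} : Subgroup X) : Set X)) :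
    Group.IsNilpotent K := by
  obtain ⟨Z, hZ⟩ : ∃ Z, Z = K ⊓ Subgroup.centralizer ({a} : Set X) := ⟨_, rfl⟩
  rw [← hZ] at hz
  obtain ⟨Y, hY⟩ : ∃ Y, Y = Subgroup.normalizer (Z : Set X) := ⟨_, rfl⟩
  have hKY : K ≤ Y := hY ▸ hz.trans (Subgroup.centralizer_le_normalizer _)
  have haZ : Subgroup.zpowers a ≤ Subgroup.centralizer (Z : Set X) := by
    rw [Subgroup.le_centralizer_iff, hZ, ← Grp.centralizer_singleton_eq_zpowers]; exact inf_le_right
  have haY : Subgroup.zpowers a ≤ Y := hY ▸ haZ.trans (Subgroup.centralizer_le_normalizer _)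
  haveI : (Z.subgroupOf Y).Normal := Subgroup.normal_subgroupOf_of_le_normalizer hY.le
  let π := QuotientGroup.mk' (Z.subgroupOf Y)
  have hfix : (K.subgroupOf Y).map π ⊓ Subgroup.centralizer {π ⟨a, haY (Subgroup.mem_zpowers a)⟩} = ⊥ := by
    refine (Subgroup.eq_bot_iff_forall _).mpr ?_
    rintro _ ⟨⟨k, hk, rfl⟩, hkc⟩
    have hkc' := Subgroup.mem_centralizer_singleton_iff.mp hkc
    have hmem : ∀ b ∈ Subgroup.zpowers a, b * (k : X) * b⁻¹ * (k : X)⁻¹ ∈ Z := by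
      intro b hb
      obtain ⟨j, hj⟩ := Subgroup.mem_zpowers_iff.mp hb
      have e : Commute (π ⟨b, haY hb⟩) (π k) := by
        rw [show (⟨b, haY hb⟩ : ↥Y) = ⟨a, haY (Subgroup.mem_zpowers a)⟩ ^ j from Subtype.ext (by simp [hj]), map_zpow]
        exact (show Commute (π ⟨a, haY (Subgroup.mem_zpowers a)⟩) (π k) from hkc'.symm).zpow_left j
      have e2 : π (⟨b, haY hb⟩ * k * (⟨b, haY hb⟩)⁻¹ * k⁻¹) = 1 := by
        rw [map_mul, map_mul, map_mul, map_inv, map_inv, e.eq]; group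
      exact Subgroup.mem_subgroupOf.mp ((QuotientGroup.eq_one_iff _).mp e2)
    have hZK : Z ≤ K := hZ ▸ inf_le_left
    obtain ⟨c, hc, hkc2⟩ := Grp.exists_fixed_rep (Subgroup.zpowers a) K Z (Subgroup.zpowers_le.2 haK)
      (Grp.inf_eq_bot_of_coprime hcop) (hcop.coprime_dvd_right (Subgroup.card_dvd_of_le hZK))
      (Or.inl (Group.isSolvable_of_comm mul_comm')) hZK (hKY.trans hY.le) (haY.trans hY.le)
      (Subgroup.mem_subgroupOf.mp hk) hmem
    rw [← Grp.centralizer_singleton_eq_zpowers] at hc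
    have hkZ : (k : X) ∈ Z := by
      have h1 := Z.mul_mem (hZ ▸ hc : c ∈ Z) (Z.inv_mem hkc2)
      simpa using h1
    exact (QuotientGroup.eq_one_iff _).mpr (Subgroup.mem_subgroupOf.mpr hkZ)
  have hnorm : π ⟨a, haY (Subgroup.mem_zpowers a)⟩ ∈
      Subgroup.normalizer (((K.subgroupOf Y).map π : Subgroup _) : Set (↥Y ⧸ Z.subgroupOf Y)) := by
    refine Subgroup.le_normalizer_map π ⟨⟨a, haY (Subgroup.mem_zpowers a)⟩, ?_, rfl⟩
    refine Subgroup.mem_normalizer_iff.mpr fun y => ?_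
    rw [Subgroup.mem_subgroupOf, Subgroup.mem_subgroupOf]
    exact Subgroup.mem_normalizer_iff.mp haK y
  have ha1 : π ⟨a, haY (Subgroup.mem_zpowers a)⟩ ^ r = 1 := by
    rw [← map_pow, show (⟨a, haY (Subgroup.mem_zpowers a)⟩ : ↥Y) ^ r = 1 from Subtype.ext (by simp [ha]), map_one]
  haveI := Grp.isNilpotent_of_fpf (p := r) ha1 hnorm hfix
  let f : ↥K →* ↥((K.subgroupOf Y).map π) :=
    { toFun := fun k => ⟨π ⟨k, hKY k.2⟩, ⟨⟨k, hKY k.2⟩, k.2, rfl⟩⟩
      map_one' := Subtype.ext (map_one π)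
      map_mul' := fun x y => Subtype.ext (map_mul π ⟨x, hKY x.2⟩ ⟨y, hKY y.2⟩) }
  refine Subgroup.isNilpotent_of_ker_le_center f (fun x hx => Subgroup.mem_center_iff.2 fun y => ?_)
  have h1 : π ⟨x, hKY x.2⟩ = 1 := congrArg Subtype.val (MonoidHom.mem_ker.mp hx)
  exact (Subtype.ext (Subgroup.mem_centralizer_iff.mp (hz y.2) x
    (Subgroup.mem_subgroupOf.mp ((QuotientGroup.eq_one_iff (N := Z.subgroupOf Y) (⟨x, hKY x.2⟩ : ↥Y)).mp h1))) :
      x * y = y * x).symm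

/-- In a nilpotent group the `p`-elements form the `p`-core. -/
theorem mem_opc_of_nilpotent {K : Subgroup X} (h : Group.IsNilpotent K) {e : X} (he : e ∈ K)
    (hep : IsPGroup p (Subgroup.zpowers e)) : e ∈ opc p K := by
  have hz : IsPGroup p (Subgroup.zpowers (⟨e, he⟩ : K)) :=
    hep.of_equiv (((Subgroup.zpowers (⟨e, he⟩ : K)).equivMapOfInjective _ K.subtype_injective).trans
      (MulEquiv.subgroupCongr (MonoidHom.map_zpowers _ _))).symm
  obtain ⟨S, hS⟩ := hz.exists_le_sylow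
  exact ⟨⟨e, he⟩, Grp.le_pCore ((Grp.isNilpotent_iff_sylow_normal.mp h) p inferInstance S) S.isPGroup'
    (hS (Subgroup.mem_zpowers _)), rfl⟩

/-- In a nilpotent group the elements of order prime to `p` generate a group of order prime to `p`. -/
theorem coprime_of_mem_pRes {K : Subgroup X} (h : Group.IsNilpotent K) {g : X} (hg : g ∈ pRes p K) :
    (orderOf g).Coprime p := by
  obtain ⟨S, N, hN, hc⟩ := Grp.hasNormalPComplement_of_nilpotent (p := p) h
  haveI := hN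
  obtain ⟨k, hk⟩ := IsPGroup.iff_card.1 S.isPGroup'
  have hle : pRes p K ≤ N.map K.subtype := by
    refine (Subgroup.closure_le _).2 fun v hv => ⟨⟨v, hv.1⟩, ?_, rfl⟩
    refine Transfer.pResidual_le_of_index (p := p) (k := k) ?_ (Transfer.mem_pResidual_of_coprime ?_)
    · rw [hc.symm.index_eq_card, hk]
    · rw [← Subgroup.orderOf_coe]; exact hv.2
  obtain ⟨v, hv, rfl⟩ := hle hg
  rw [K.coe_subtype, Subgroup.orderOf_coe]
  refine Nat.Coprime.coprime_dvd_left (Subgroup.orderOf_dvd_natCard N hv) ?_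
  rw [Nat.coprime_comm, (Fact.out : p.Prime).coprime_iff_not_dvd, ← hc.index_eq_card]
  exact S.not_dvd_index

/-- The step through the quotient by the part of order prime to `p`. -/
theorem exists_large_subgroup (hp : 5 ≤ p) {G R C M H W X0 P : Subgroup X} {a : X}
    (hHG : H ≤ G) (hcop : (Nat.card R).Coprime (Nat.card G)) (haR : a ∈ R)
    (hWH : W ≤ H) (hHW : H ≤ Subgroup.normalizer (W : Set X)) (hRH : R ≤ Subgroup.normalizer (H : Set X))
    (hRW : R ≤ Subgroup.normalizer (W : Set X))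
    (hX0P : X0 ≤ P) (hX0ne : X0 ≠ ⊥) (hHX0 : H ≤ Subgroup.normalizer (X0 : Set X))
    (hPH : P ≤ H) (hPp : IsPGroup p P) (hPpos : ∀ x ∈ P, InP p H R x)
    (hRP : R ≤ Subgroup.normalizer (P : Set X))
    (hW : ∀ w ∈ W, (orderOf w).Coprime p)
    (hWc : ∀ w ∈ W, Commute a w → ∀ y ∈ H, Commute w y)
    (hJ : ∀ h ∈ H, (∀ x ∈ X0, Commute h x) → ∃ c ∈ W, ∃ e ∈ X0, c * e = h)
    (hCR : C ≤ Subgroup.centralizer (R : Set X)) (hCH : C ≤ Subgroup.normalizer (H : Set X))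
    (hCW : C ≤ Subgroup.normalizer (W : Set X))
    (hmax : ∀ T ≤ H, IsPGroup p T → R ≤ Subgroup.normalizer (T : Set X) →
      C ≤ Subgroup.normalizer (T : Set X) → T ≤ P)
    (hMH : M ≤ H) (hMa : M ≤ Subgroup.centralizer {a}) :
    ∃ X3 ≤ P, (X3.subgroupOf P).Characteristic ∧ X3 ≠ ⊥ ∧ M ≤ Subgroup.normalizer (X3 : Set X) ∧
      P ⊓ Subgroup.centralizer (X3 : Set X) ≤ X3 := by
  obtain ⟨Γ, hΓ⟩ : ∃ Γ, Γ = Subgroup.normalizer (H : Set X) ⊓ Subgroup.normalizer (W : Set X) := ⟨_, rfl⟩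
  have hHΓ : H ≤ Γ := hΓ ▸ le_inf Subgroup.le_normalizer hHW
  have hRΓ : R ≤ Γ := hΓ ▸ le_inf hRH hRW
  have hCΓ : C ≤ Γ := hΓ ▸ le_inf hCH hCW
  have hΓH : Γ ≤ Subgroup.normalizer (H : Set X) := hΓ ▸ inf_le_left
  haveI : (W.subgroupOf Γ).Normal :=
    Subgroup.normal_subgroupOf_of_le_normalizer (hΓ ▸ inf_le_right)
  obtain ⟨π, hπ⟩ : ∃ π : ↥Γ →* ↥Γ ⧸ W.subgroupOf Γ, π = QuotientGroup.mk' _ := ⟨_, rfl⟩
  have hker : ∀ u : ↥Γ, π u = 1 ↔ (u : X) ∈ W := fun u => by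
    rw [hπ, QuotientGroup.mk'_apply, QuotientGroup.eq_one_iff, Subgroup.mem_subgroupOf]
  have hWP : ∀ w ∈ W, ∀ K : Subgroup X, IsPGroup p K → w ∈ K → w = 1 :=
    fun w hw K hK hwK => eq_one_of_pgroup_of_coprime hK hwK (hW w hw)
  -- the three images
  obtain ⟨Hi, hHi⟩ : ∃ Hi, Hi = (H.subgroupOf Γ).map π := ⟨_, rfl⟩
  obtain ⟨Ri, hRi⟩ : ∃ Ri, Ri = (R.subgroupOf Γ).map π := ⟨_, rfl⟩
  obtain ⟨Pi, hPi⟩ : ∃ Pi, Pi = (P.subgroupOf Γ).map π := ⟨_, rfl⟩
  have hcop' : (Nat.card R).Coprime (Nat.card H) := hcop.coprime_dvd_right (Subgroup.card_dvd_of_le hHG)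
  have hnormΓ : R.subgroupOf Γ ≤ Subgroup.normalizer ((H.subgroupOf Γ : Subgroup Γ) : Set Γ) := fun u hu =>
    Subgroup.mem_normalizer_iff.2 fun y => Subgroup.mem_normalizer_iff.1 (hRH hu) (y : X)
  have hcopΓ : (Nat.card (R.subgroupOf Γ)).Coprime (Nat.card (H.subgroupOf Γ)) := by
    rwa [Nat.card_congr (Subgroup.subgroupOfEquivOfLe hRΓ).toEquiv,
      Nat.card_congr (Subgroup.subgroupOfEquivOfLe hHΓ).toEquiv]
  have hnormI : Ri ≤ Subgroup.normalizer (Hi : Set (↥Γ ⧸ W.subgroupOf Γ)) :=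
    hRi ▸ hHi ▸ (Subgroup.map_mono hnormΓ).trans (Subgroup.le_normalizer_map _)
  have hcopI : (Nat.card Ri).Coprime (Nat.card Hi) := hRi ▸ hHi ▸
    (hcopΓ.coprime_dvd_left (Subgroup.card_map_dvd _ _)).coprime_dvd_right (Subgroup.card_map_dvd _ _)
  have hPΓp : IsPGroup p Pi := hPi ▸ (hPp.comap_of_injective Γ.subtype Γ.subtype_injective).map π
  -- the preimage of a subgroup of the image of `P`
  obtain ⟨Qi, hQi⟩ : ∃ Qi, Qi = opc p Hi := ⟨_, rfl⟩
  have hQle : Qi ≤ Pi := by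
    obtain ⟨Y, hY⟩ : ∃ Y, Y = (Qi.comap π).map Γ.subtype := ⟨_, rfl⟩
    have hYmem : ∀ u : ↥Γ, (u : X) ∈ Y ↔ π u ∈ Qi := fun u => by
      rw [hY]
      refine ⟨?_, fun h => ⟨u, h, rfl⟩⟩
      rintro ⟨v, hv, e⟩
      rwa [← Subtype.ext e]
    have hYH : Y ≤ H := by
      rw [hY]
      rintro _ ⟨u, hu, rfl⟩
      obtain ⟨h, hh, e⟩ : π u ∈ (H.subgroupOf Γ).map π := hHi ▸ (opc_le Hi) (hQi ▸ hu)
      have h1 : (((h⁻¹ * u : ↥Γ)) : X) ∈ W := (hker _).1 (by rw [map_mul, map_inv, e, inv_mul_cancel])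
      have h2 := mul_mem (show (h : X) ∈ H from hh) (hWH h1)
      simpa using h2
    have hWY : W ≤ Y := fun w hw => (hYmem ⟨w, hHΓ (hWH hw)⟩).2 (by rw [(hker _).2 hw]; exact one_mem _)
    have hYn : ∀ D ≤ Γ, D ≤ Subgroup.normalizer (Y : Set X) := fun D hD => le_normalizer_of_forall
      fun g hg v hv => by
        have hvΓ : v ∈ Γ := hHΓ (hYH hv)
        refine (hYmem (⟨g, hD hg⟩ * ⟨v, hvΓ⟩ * ⟨g, hD hg⟩⁻¹)).2 ?_
        rw [map_mul, map_mul, map_inv]
        refine mem_iff_conj ?_ ((hYmem ⟨v, hvΓ⟩).1 hv)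
        rw [hQi]
        refine normalizer_le_opc Hi ?_
        rw [hHi]
        refine Subgroup.le_normalizer_map π ⟨⟨g, hD hg⟩, ?_, rfl⟩
        exact Subgroup.mem_normalizer_iff.2 fun y => Subgroup.mem_normalizer_iff.1 (hΓH (hD hg)) (y : X)
    have hcY : (Nat.card R).Coprime (Nat.card Y) := hcop'.coprime_dvd_right (Subgroup.card_dvd_of_le hYH)
    obtain ⟨T, hT, hTR⟩ := Grp.exists_invariant_sylow R Y (hYn R hRΓ) hcY (solv hcY) p
    have hYW : Y ≤ Subgroup.normalizer (W : Set X) := hYH.trans hHW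
    have hdec : Y ≤ T ⊔ W := by
      refine Grp.le_of_forall_sylow (sup_le hT.1 hWY) fun q hq => ?_
      by_cases hqp : q = p
      · subst hqp; exact ⟨T, hT, le_sup_left⟩
      obtain ⟨D, hD⟩ := Grp.exists_isSylowIn q Y
      refine ⟨D, hD, fun v hv => Subgroup.mem_sup_right ?_⟩
      have hvΓ : v ∈ Γ := hHΓ (hYH (hD.1 hv))
      refine (hker ⟨v, hvΓ⟩).1 (eq_one_of_pgroup_of_coprime (hQi ▸ opc_isPGroup Hi)
        ((hYmem ⟨v, hvΓ⟩).1 (hD.1 hv)) (Nat.Coprime.coprime_dvd_left (orderOf_map_dvd π _) ?_))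
      rw [← Subgroup.orderOf_coe]
      obtain ⟨k, hk⟩ := IsPGroup.iff_orderOf.1 hD.2.1 (⟨v, hv⟩ : D)
      rw [← Subgroup.orderOf_coe] at hk
      exact hk ▸ ((Nat.coprime_primes hq.out (Fact.out : p.Prime)).2 hqp).pow_left k
    have hsplit : ∀ y ∈ Y, ∃ t ∈ T, ∃ w ∈ W, t * w = y := fun y hy =>
      mem_sup_mul' (hT.1.trans hYW) (hdec hy)
    have hCT : C ≤ Subgroup.normalizer (T : Set X) := by
      intro c hc
      have hcn := hYn C hCΓ hc
      have hA' : R ≤ Subgroup.normalizer ((MulAut.conj c • T : Subgroup X) : Set X) := by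
        intro r hr
        rw [Grp.mem_normalizer_iff_smul, ← mul_smul, ← map_mul,
          Subgroup.mem_centralizer_iff.1 (hCR hc) r hr, map_mul, mul_smul,
          Grp.mem_normalizer_iff_smul.1 (hTR hr)]
      obtain ⟨k, hk, hke⟩ := Grp.invariant_sylow_conj R Y (hYn R hRΓ) hcY (solv hcY) hT
        (hT.smul (Grp.mem_normalizer_iff_smul.1 hcn)) hTR hA'
      obtain ⟨t, ht, w, hw, rfl⟩ := hsplit k hk.1
      have hwfix : ∀ r ∈ R, Commute r w := by
        intro r hr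
        have e := Subgroup.mem_centralizer_iff.1 hk.2 r hr
        have h1 : (r * t * r⁻¹) * (r * w * r⁻¹) = t * w := by
          rw [show r * t * r⁻¹ * (r * w * r⁻¹) = r * (t * w) * r⁻¹ by group, e, mul_inv_cancel_right]
        have h2 : t⁻¹ * (r * t * r⁻¹) = w * (r * w * r⁻¹)⁻¹ := by
          rw [inv_mul_eq_iff_eq_mul, ← mul_assoc, eq_mul_inv_iff_mul_eq]
          exact h1
        have h3 : w * (r * w * r⁻¹)⁻¹ = 1 := hWP _ (mul_mem hw (inv_mem (mem_iff_conj (hRW hr) hw))) T hT.2.1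
          (h2 ▸ mul_mem (inv_mem ht) (mem_iff_conj (hTR hr) ht))
        exact mul_inv_eq_iff_eq_mul.1 (mul_inv_eq_one.1 h3).symm
      rw [Grp.mem_normalizer_iff_smul, ← hke, map_mul, mul_smul,
        Grp.mem_normalizer_iff_smul.1 (show w ∈ Subgroup.normalizer (T : Set X) from
          Subgroup.centralizer_le_normalizer _ (Subgroup.mem_centralizer_iff.2 fun s hs =>
            (hWc w hw (hwfix a haR) s (hYH (hT.1 hs))).eq.symm)),
        Grp.conj_smul_eq_self_of_mem ht]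
    intro z hz
    obtain ⟨u, rfl⟩ := QuotientGroup.mk'_surjective (W.subgroupOf Γ) z
    rw [← hπ] at hz ⊢
    obtain ⟨t, ht, w, hw, htw⟩ := hsplit u ((hYmem u).2 hz)
    have htP := hmax T (hT.1.trans hYH) hT.2.1 hTR hCT ht
    rw [hPi]
    refine ⟨⟨t, hHΓ (hPH htP)⟩, htP, ?_⟩
    rw [show u = ⟨t, hHΓ (hPH htP)⟩ * ⟨w, hHΓ (hWH hw)⟩ from Subtype.ext htw.symm, map_mul,
      (hker ⟨w, _⟩).2 hw, mul_one]
  have hX0H : X0 ≤ H := hX0P.trans hPH
  have hX0Q : (X0.subgroupOf Γ).map π ≤ Qi := by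
    rw [hQi, hHi]
    refine le_opc (Subgroup.map_mono fun u hu => hX0H hu)
      (((hPp.to_le hX0P).comap_of_injective Γ.subtype Γ.subtype_injective).map π)
      ((Subgroup.map_mono ?_).trans (Subgroup.le_normalizer_map π))
    exact fun u hu => Subgroup.mem_normalizer_iff.2 fun y => Subgroup.mem_normalizer_iff.1 (hHX0 hu) (y : X)
  have hS : Setting p Hi Ri Pi Qi :=
    { norm := hnormI
      cop := hcopI
      ppos := by
        rw [hPi]
        rintro _ ⟨u, hu, rfl⟩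
        rw [hHi, hRi]
        exact InP.map π hnormΓ hcopΓ (InP.subgroupOf hHΓ hRΓ (hPpos u hu))
      pgrp := hPΓp
      rnorm := by
        rw [hRi, hPi]
        refine (Subgroup.map_mono ?_).trans (Subgroup.le_normalizer_map _)
        exact fun u hu => Subgroup.mem_normalizer_iff.2 fun y =>
          Subgroup.mem_normalizer_iff.1 (hRP hu) (y : X)
      qdef := hQi
      qle := hQle
      cent := by
        intro z hz hzc hzq y _
        rw [hHi] at hz
        obtain ⟨h, hh, rfl⟩ := hz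
        have hcomm : ∀ x ∈ X0, Commute (h : X) x := by
          intro x hx
          have e := hzq (π ⟨x, hHΓ (hX0H hx)⟩) (hX0Q ⟨⟨x, hHΓ (hX0H hx)⟩, hx, rfl⟩)
          have h1 : ⁅(h : X), x⁆ ∈ W := (hker ⁅h, ⟨x, hHΓ (hX0H hx)⟩⁆).1 (by
            rw [map_commutatorElement]; exact commutatorElement_eq_one_iff_mul_comm.2 e)
          exact commutatorElement_eq_one_iff_mul_comm.1
            (hWP _ h1 X0 (hPp.to_le hX0P) (commutator_mem_right (hHX0 hh) hx))
        obtain ⟨c, hc, e, he, hce⟩ := hJ h hh hcomm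
        have hπh : π h ∈ Pi := by
          rw [hPi]
          refine ⟨⟨e, hHΓ (hX0H he)⟩, hX0P he, ?_⟩
          rw [show h = ⟨c, hHΓ (hWH hc)⟩ * ⟨e, hHΓ (hX0H he)⟩ from Subtype.ext hce.symm, map_mul,
            (hker ⟨c, _⟩).2 hc, one_mul]
        rw [eq_one_of_pgroup_of_coprime hPΓp hπh hzc]
        exact Commute.one_left y
      ne := by
        intro e
        refine hX0ne ((Subgroup.eq_bot_iff_forall _).2 fun x hx => ?_)
        have h1 : π ⟨x, hHΓ (hX0H hx)⟩ ∈ Pi := hPi ▸ ⟨_, hX0P hx, rfl⟩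
        rw [e, Subgroup.mem_bot, hker] at h1
        exact hWP x h1 X0 (hPp.to_le hX0P) hx }
  obtain ⟨Cb, hCbP, hchar, hCbne, hcent, hnormC⟩ := exists_common hp ⟨⟨Hi, hQi ▸ hS⟩⟩
  have hHCb := hnormC Hi (hQi ▸ hS)
  obtain ⟨Y3, hY3⟩ : ∃ Y3, Y3 = (Cb.comap π).map Γ.subtype := ⟨_, rfl⟩
  have hY3mem : ∀ u : ↥Γ, (u : X) ∈ Y3 ↔ π u ∈ Cb := fun u => by
    rw [hY3]
    refine ⟨?_, fun h => ⟨u, h, rfl⟩⟩
    rintro ⟨v, hv, e⟩
    rwa [← Subtype.ext e]
  obtain ⟨X3, hX3⟩ : ∃ X3, X3 = P ⊓ Y3 := ⟨_, rfl⟩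
  have hX3P : X3 ≤ P := hX3 ▸ inf_le_left
  have hlift : ∀ z ∈ Cb, ∃ x : ↥Γ, (x : X) ∈ X3 ∧ π x = z := by
    intro z hz
    obtain ⟨u, hu, e⟩ : z ∈ (P.subgroupOf Γ).map π := hPi ▸ hCbP hz
    exact ⟨u, hX3 ▸ ⟨hu, (hY3mem u).2 (e ▸ hz)⟩, e⟩
  have hinj : ∀ u v : ↥Γ, (u : X) ∈ P → (v : X) ∈ P → π u = π v → u = v := by
    intro u v hu hv e
    have h1 : (((u⁻¹ * v : ↥Γ)) : X) ∈ W := (hker _).1 (by rw [map_mul, map_inv, e, inv_mul_cancel])
    exact inv_mul_eq_one.1 (Subtype.ext (hWP _ h1 P hPp (mul_mem (inv_mem hu) hv)))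
  have hchar3 : (X3.subgroupOf P).Characteristic := by
    let f : ↥P →* ↥Pi := MonoidHom.mk' (fun x => ⟨π ⟨x, hHΓ (hPH x.2)⟩, hPi ▸ ⟨_, x.2, rfl⟩⟩)
      fun x y => Subtype.ext (map_mul π ⟨x, hHΓ (hPH x.2)⟩ ⟨y, hHΓ (hPH y.2)⟩)
    have hf : Function.Bijective f := by
      refine ⟨fun x y e => Subtype.ext ?_, fun z => ?_⟩
      · exact congrArg (fun u : ↥Γ => (u : X)) (hinj ⟨x, hHΓ (hPH x.2)⟩ ⟨y, hHΓ (hPH y.2)⟩ x.2 y.2 (congrArg Subtype.val e))
      · obtain ⟨u, hu, e⟩ : (z : ↥Γ ⧸ W.subgroupOf Γ) ∈ (P.subgroupOf Γ).map π := hPi ▸ z.2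
        exact ⟨⟨u, hu⟩, Subtype.ext e⟩
    let e := MulEquiv.ofBijective f hf
    have hmem : ∀ x : ↥P, x ∈ X3.subgroupOf P ↔ f x ∈ Cb.subgroupOf Pi := fun x => by
      rw [Subgroup.mem_subgroupOf, Subgroup.mem_subgroupOf, hX3, Subgroup.mem_inf]
      exact ⟨fun h => (hY3mem _).1 h.2, fun h => ⟨x.2, (hY3mem ⟨x, hHΓ (hPH x.2)⟩).2 h⟩⟩
    refine Subgroup.characteristic_iff_le_comap.2 fun φ x hx => ?_
    have h1 := Subgroup.characteristic_iff_le_comap.1 hchar ((e.symm.trans φ).trans e) ((hmem x).1 hx)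
    rw [Subgroup.mem_comap, hmem]
    have h2 : e (φ (e.symm (f x))) = f (φ x) := by
      rw [show f x = e x from rfl, e.symm_apply_apply]; rfl
    exact h2 ▸ h1
  refine ⟨X3, hX3P, hchar3, ?_, ?_, ?_⟩
  · intro e
    refine hCbne ((Subgroup.eq_bot_iff_forall _).2 fun z hz => ?_)
    obtain ⟨x, hx, rfl⟩ := hlift z hz
    rw [e, Subgroup.mem_bot] at hx
    rw [show x = 1 from Subtype.ext hx, map_one]
  · -- Frattini in the preimage
    have hY3H : Y3 ≤ H := by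
      rw [hY3]
      rintro _ ⟨u, hu, rfl⟩
      obtain ⟨x, hx, e⟩ := hlift (π u) hu
      have h1 : (((x⁻¹ * u : ↥Γ)) : X) ∈ W := (hker _).1 (by rw [map_mul, map_inv, e, inv_mul_cancel])
      simpa using mul_mem (hPH (hX3P hx)) (hWH h1)
    have hdec : ∀ y ∈ Y3, ∃ x ∈ X3, ∃ w ∈ W, x * w = y := by
      intro y hy
      obtain ⟨x, hx, e⟩ := hlift _ ((hY3mem ⟨y, hHΓ (hY3H hy)⟩).1 hy)
      exact ⟨x, hx, ((x⁻¹ * ⟨y, hHΓ (hY3H hy)⟩ : ↥Γ) : X),
        (hker _).1 (by rw [map_mul, map_inv, e, inv_mul_cancel]), by simp⟩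
    have hHY3 : H ≤ Subgroup.normalizer (Y3 : Set X) := le_normalizer_of_forall fun g hg v hv => by
      refine (hY3mem (⟨g, hHΓ hg⟩ * ⟨v, hHΓ (hY3H hv)⟩ * ⟨g, hHΓ hg⟩⁻¹)).2 ?_
      rw [map_mul, map_mul, map_inv]
      exact mem_iff_conj (hHCb (hHi ▸ ⟨_, hg, rfl⟩)) ((hY3mem ⟨v, hHΓ (hY3H hv)⟩).1 hv)
    have haX : a ∈ Subgroup.normalizer (X3 : Set X) := le_normalizer_of_char hX3P hchar3 (hRP haR)
    have haY : a ∈ Subgroup.normalizer (Y3 : Set X) := by
      have key : ∀ y ∈ Y3, a * y * a⁻¹ ∈ Y3 := by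
        intro y hy
        obtain ⟨x, hx, w, hw, rfl⟩ := hdec y hy
        rw [show a * (x * w) * a⁻¹ = (a * x * a⁻¹) * (a * w * a⁻¹) by group]
        refine mul_mem (hX3.le (mem_iff_conj haX hx)).2 ?_
        have hw' := mem_iff_conj (hRW haR) hw
        exact (hY3mem ⟨_, hHΓ (hWH hw')⟩).2 (by rw [(hker _).2 hw']; exact one_mem _)
      exact Subgroup.mem_normalizer_fintype key
    have hcopA : (Nat.card (Subgroup.zpowers a)).Coprime (Nat.card Y3) :=
      ((hcop.coprime_dvd_left (Subgroup.card_dvd_of_le (Subgroup.zpowers_le.2 haR))).coprime_dvd_right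
        (Subgroup.card_dvd_of_le (hY3H.trans hHG)))
    have hsol : Group.IsSolvable (Subgroup.zpowers a) ∨ Group.IsSolvable Y3 :=
      Or.inl (Group.isSolvable_of_comm mul_comm')
    obtain ⟨S, hS, -, hXS⟩ := Grp.exists_invariant_sylow_ge (Subgroup.zpowers a) Y3 (Subgroup.zpowers_le.2 haY)
      hcopA hsol (hX3.le.trans inf_le_right) (hPp.to_le hX3P) (Subgroup.zpowers_le.2 haX)
    have hSX : S = X3 := by
      refine le_antisymm (fun s hs => ?_) hXS
      obtain ⟨x, hx, w, hw, rfl⟩ := hdec s (hS.1 hs)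
      have : w = 1 := hWP w hw S hS.2.1 (by
        have := mul_mem (inv_mem (hXS hx)) hs
        simpa using this)
      rw [this, mul_one]; exact hx
    rw [hSX] at hS
    intro g hg
    have hga : Commute a g := (Subgroup.mem_centralizer_singleton_iff.1 (hMa hg)).symm
    have haX' : Subgroup.zpowers a ≤
        Subgroup.normalizer ((MulAut.conj g • X3 : Subgroup X) : Set X) := by
      refine Subgroup.zpowers_le.2 ?_
      rw [Grp.mem_normalizer_iff_smul, ← mul_smul, ← map_mul, hga.eq, map_mul, mul_smul,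
        Grp.mem_normalizer_iff_smul.1 haX]
    obtain ⟨k, hk, hke⟩ := Grp.invariant_sylow_conj (Subgroup.zpowers a) Y3 (Subgroup.zpowers_le.2 haY)
      hcopA hsol hS (hS.smul (Grp.mem_normalizer_iff_smul.1 (hHY3 (hMH hg)))) (Subgroup.zpowers_le.2 haX) haX'
    obtain ⟨x, hx, w, hw, rfl⟩ := hdec k hk.1
    have hwa : Commute a w := by
      have e : a * (x * w) = x * w * a := Subgroup.mem_centralizer_iff.1 hk.2 a (Subgroup.mem_zpowers a)
      have h1 : (a * x * a⁻¹) * (a * w * a⁻¹) = x * w := by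
        rw [show a * x * a⁻¹ * (a * w * a⁻¹) = a * (x * w) * a⁻¹ by group, e, mul_inv_cancel_right]
      have h2 : x⁻¹ * (a * x * a⁻¹) = w * (a * w * a⁻¹)⁻¹ := by
        rw [inv_mul_eq_iff_eq_mul, ← mul_assoc, eq_mul_inv_iff_mul_eq]
        exact h1
      have h3 : w * (a * w * a⁻¹)⁻¹ = 1 := hWP _ (mul_mem hw (inv_mem (mem_iff_conj (hRW haR) hw))) X3 hS.2.1
        (h2 ▸ mul_mem (inv_mem hx) (mem_iff_conj haX hx))
      exact mul_inv_eq_iff_eq_mul.1 (mul_inv_eq_one.1 h3).symm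
    rw [Grp.mem_normalizer_iff_smul, ← hke, map_mul, mul_smul,
      Grp.mem_normalizer_iff_smul.1 (show w ∈ Subgroup.normalizer (X3 : Set X) from
        Subgroup.centralizer_le_normalizer _ (Subgroup.mem_centralizer_iff.2 fun s hs =>
          (hWc w hw hwa s (hPH (hX3P hs))).eq.symm)),
      Grp.conj_smul_eq_self_of_mem hx]
  · intro v hv
    have hvΓ : v ∈ Γ := hHΓ (hPH hv.1)
    have h1 : π ⟨v, hvΓ⟩ ∈ Pi ⊓ Subgroup.centralizer (Cb : Set (↥Γ ⧸ W.subgroupOf Γ)) := by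
      refine ⟨hPi ▸ ⟨_, hv.1, rfl⟩, Subgroup.mem_centralizer_iff.2 fun z hz => ?_⟩
      obtain ⟨x, hx, rfl⟩ := hlift z hz
      rw [← map_mul, ← map_mul]
      exact congrArg π (Subtype.ext (Subgroup.mem_centralizer_iff.1 hv.2 x hx))
    exact hX3 ▸ ⟨hv.1, (hY3mem ⟨v, hvΓ⟩).2 (hcent h1)⟩

end Cfsg.Agent.Spor.Flavell.Signal
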