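import Mathlib
import Cfsg.Agent.Lib.Grp.Coprime
import Cfsg.Agent.Lib.Grp.CoprimeAbelian
import Cfsg.Agent.Lib.Spor.FlavellSignalQuot

/-!
Flavell's signalizer theorem: a noncyclic abelian coprime group of operators centralising the local
residuals centralises a group with trivial `p`-core.
-/

set_option autoImplicit false
set_option linter.unusedSectionVars false
set_option linter.style.haveILetI false

namespace Cfsg.Agent.Spor.Flavell.Signal

open Cfsg.Agent Cfsg.Agent.Spor.Flavell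
open scoped commutatorElement Pointwise

variable {X : Type*} [Group X] [Finite X] {p : ℕ} [Fact p.Prime]

/-- A Sylow subgroup contains the normal `p`-subgroups. -/
theorem le_sylow_of_normal {L S N : Subgroup X} (hS : Grp.IsSylowIn p S L) (hN : N ≤ L) (hNp : IsPGroup p N)
    (hn : L ≤ Subgroup.normalizer (N : Set X)) : N ≤ S := by
  have h := hS.eq_of_le (le_sup_right : S ≤ N ⊔ S) (sup_le hN hS.1)
    (hNp.to_sup_of_normal_left' hS.2.1 (hS.1.trans hn))
  exact le_sup_left.trans h.ge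

/-- The action on the local residual: an element of order prime to `p` centralising its `p`-core is fixed
by the operators and central. -/
def Local (p : ℕ) (G R : Subgroup X) (a : X) : Prop :=
  ∀ g ∈ ⁅G ⊓ Subgroup.centralizer ({a} : Set X), R⁆, (orderOf g).Coprime p →
    (∀ v ∈ opc p ⁅G ⊓ Subgroup.centralizer ({a} : Set X), R⁆, Commute g v) →
      g ∈ Subgroup.centralizer (R : Set X) ∧
        ∀ y ∈ ⁅G ⊓ Subgroup.centralizer ({a} : Set X), R⁆, Commute g y

variable {G R A : Subgroup X}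

theorem le_normalizer_fixed (hab : IsMulCommutative R) (hnorm : R ≤ Subgroup.normalizer (G : Set X)) {a : X}
    (ha : a ∈ R) : R ≤ Subgroup.centralizer {a} ∧
      R ≤ Subgroup.normalizer ((G ⊓ Subgroup.centralizer ({a} : Set X) : Subgroup X) : Set X) := by
  have h : R ≤ Subgroup.centralizer {a} := fun r hr =>
    Subgroup.mem_centralizer_singleton_iff.2 (congrArg Subtype.val (mul_comm' (⟨r, hr⟩ : R) ⟨a, ha⟩))
  exact ⟨h, le_normalizer_inf' hnorm (h.trans Subgroup.le_normalizer)⟩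

/-- The core of the local residual lies in all invariant Sylow subgroups. -/
theorem opc_residual_inP (hab : IsMulCommutative R) (hnorm : R ≤ Subgroup.normalizer (G : Set X))
    (hcop : (Nat.card R).Coprime (Nat.card G)) {a : X} (ha : a ∈ R) {x : X}
    (hx : x ∈ opc p ⁅G ⊓ Subgroup.centralizer ({a} : Set X), R⁆) : InP p G R x := by
  obtain ⟨M, hM⟩ : ∃ M, M = G ⊓ Subgroup.centralizer ({a} : Set X) := ⟨_, rfl⟩
  rw [← hM] at hx
  have hRM : R ≤ Subgroup.normalizer (M : Set X) := hM ▸ (le_normalizer_fixed hab hnorm ha).2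
  refine inP_of_invariant hnorm hcop ((opc_le _).trans ((Grp.commutator_le_left_of_le_normalizer hRM).trans
    (hM ▸ inf_le_left))) (opc_isPGroup _) ((Grp.right_le_normalizer_commutator R M).trans (normalizer_le_opc _))
    (le_trans ?_ ((Grp.left_le_normalizer_commutator R M).trans (normalizer_le_opc _))) hx
  exact hM ▸ le_inf inf_le_left (inf_le_right.trans (Subgroup.centralizer_le (by simpa using ha)))

/-- The group of the family containing one local residual. -/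
theorem exists_setting (hp : 5 ≤ p) {r : ℕ} [Fact r.Prime] (hnorm : R ≤ Subgroup.normalizer (G : Set X))
    (hcop : (Nat.card R).Coprime (Nat.card G)) (hab : IsMulCommutative R) (hAR : A ≤ R)
    (hAr : ∀ a ∈ A, a ^ r = 1) (hAnc : ¬ IsCyclic A) (hloc : ∀ a ∈ A, a ≠ 1 → Local p G R a)
    {P : Subgroup X} (hP : ∀ x, x ∈ P ↔ InP p G R x) {a : X} (haA : a ∈ A) (ha1 : a ≠ 1)
    (hQne : opc p ⁅G ⊓ Subgroup.centralizer ({a} : Set X), R⁆ ≠ ⊥) :
    ∃ H, Setting p H R P (opc p H) ∧ ⁅G ⊓ Subgroup.centralizer ({a} : Set X), R⁆ ≤ H := by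
  have haR : a ∈ R := hAR haA
  have hla := hloc a haA ha1
  unfold Local at hla
  obtain ⟨M, hM⟩ : ∃ M, M = G ⊓ Subgroup.centralizer ({a} : Set X) := ⟨_, rfl⟩
  rw [← hM] at hQne hla ⊢
  obtain ⟨M0, hM0⟩ : ∃ M0, M0 = ⁅M, R⁆ := ⟨_, rfl⟩
  rw [← hM0] at hQne hla ⊢
  obtain ⟨Q0, hQ0⟩ : ∃ Q0, Q0 = opc p M0 := ⟨_, rfl⟩
  rw [← hQ0] at hQne hla
  obtain ⟨C, hC⟩ : ∃ C, C = G ⊓ Subgroup.centralizer (R : Set X) := ⟨_, rfl⟩
  have hCG : C ≤ G := hC ▸ inf_le_left
  have hCR : C ≤ Subgroup.centralizer (R : Set X) := hC ▸ inf_le_right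
  obtain ⟨hRa, hRM⟩ := le_normalizer_fixed hab hnorm haR
  rw [← hM] at hRM
  have hMG : M ≤ G := hM ▸ inf_le_left
  have hMa : M ≤ Subgroup.centralizer {a} := hM ▸ inf_le_right
  have hCa : C ≤ Subgroup.centralizer {a} := hCR.trans (Subgroup.centralizer_le (by simpa using haR))
  have hCM : C ≤ M := hM ▸ le_inf hCG hCa
  have hM0M : M0 ≤ M := hM0 ▸ Grp.commutator_le_left_of_le_normalizer hRM
  have hMM0 : M ≤ Subgroup.normalizer (M0 : Set X) := hM0 ▸ Grp.left_le_normalizer_commutator R M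
  have hRM0 : R ≤ Subgroup.normalizer (M0 : Set X) := hM0 ▸ Grp.right_le_normalizer_commutator R M
  have hQM0 : Q0 ≤ M0 := hQ0 ▸ opc_le M0
  have hM0Q : M0 ≤ Subgroup.normalizer (Q0 : Set X) :=
    hQ0 ▸ Subgroup.le_normalizer.trans (normalizer_le_opc M0)
  have hinP : ∀ U ≤ G, IsPGroup p U → R ≤ Subgroup.normalizer (U : Set X) →
      C ≤ Subgroup.normalizer (U : Set X) → U ≤ P := fun U hUG hU hUR hUC x hx =>
    (hP x).2 (inP_of_invariant hnorm hcop hUG hU hUR (hC ▸ hUC) hx)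
  have hQP : Q0 ≤ P := by
    rw [hQ0]
    exact hinP _ ((opc_le M0).trans (hM0M.trans hMG)) (opc_isPGroup M0) (hRM0.trans (normalizer_le_opc M0))
      ((hCM.trans hMM0).trans (normalizer_le_opc M0))
  have hPG : P ≤ G := fun x hx => ((hP x).1 hx).1
  have hPp : IsPGroup p P := meet_isPGroup hnorm hcop hP
  have hRP : R ≤ Subgroup.normalizer (P : Set X) := le_normalizer_of_forall fun s hs v hv =>
    (hP _).2 (InP.conj_operator hnorm hcop ((hP v).1 hv) hs)
  have hCP : C ≤ Subgroup.normalizer (P : Set X) := le_normalizer_of_forall fun c hc v hv =>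
    (hP _).2 (InP.conj hnorm hcop ((hP v).1 hv) (hC ▸ hc))
  -- the family
  obtain ⟨S, hS⟩ : ∃ S : Set (Subgroup X), S = {Y | Y ≤ P ∧ Y ≠ ⊥ ∧ R ≤ Subgroup.normalizer (Y : Set X) ∧
      C ≤ Subgroup.normalizer (Y : Set X) ∧ M0 ≤ Subgroup.normalizer (Y : Set X) ∧
      Q0 ⊓ Subgroup.centralizer (Y : Set X) ≤ Y} := ⟨_, rfl⟩
  have hQS : Q0 ∈ S := by
    rw [hS]
    exact ⟨hQP, hQne, hQ0 ▸ hRM0.trans (normalizer_le_opc M0),
      hQ0 ▸ (hCM.trans hMM0).trans (normalizer_le_opc M0), hM0Q, inf_le_left⟩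
  obtain ⟨Y, hYS, hmax⟩ := Set.exists_max_image S
    (fun Y => Nat.card ↥(P ⊓ Subgroup.normalizer (Y : Set X)) * (Nat.card P + 1) + Nat.card Y)
    (Set.toFinite S) ⟨Q0, hQS⟩
  rw [hS] at hYS hmax
  obtain ⟨hYP, hYne, hRY, hCY, hM0Y, hQY⟩ := hYS
  have hYp : IsPGroup p Y := hPp.to_le hYP
  obtain ⟨H, hH⟩ : ∃ H, H = G ⊓ Subgroup.normalizer (Y : Set X) := ⟨_, rfl⟩
  have hHG : H ≤ G := hH ▸ inf_le_left
  have hHY : H ≤ Subgroup.normalizer (Y : Set X) := hH ▸ inf_le_right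
  have hYH : Y ≤ H := hH ▸ le_inf (hYP.trans hPG) Subgroup.le_normalizer
  have hRH : R ≤ Subgroup.normalizer (H : Set X) :=
    hH ▸ le_normalizer_inf' hnorm (hRY.trans Subgroup.le_normalizer)
  have hCH : C ≤ H := hH ▸ le_inf hCG hCY
  have hM0H : M0 ≤ H := hH ▸ le_inf (hM0M.trans hMG) hM0Y
  obtain ⟨J, hJ⟩ : ∃ J, J = H ⊓ Subgroup.centralizer (Y : Set X) := ⟨_, rfl⟩
  have hJH : J ≤ H := hJ ▸ inf_le_left
  have hJY : J ≤ Subgroup.centralizer (Y : Set X) := hJ ▸ inf_le_right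
  have hHJ : H ≤ Subgroup.normalizer (J : Set X) :=
    hJ ▸ le_normalizer_inf' Subgroup.le_normalizer (le_normalizer_centralizer hHY)
  have hRJ : R ≤ Subgroup.normalizer (J : Set X) :=
    hJ ▸ le_normalizer_inf' hRH (le_normalizer_centralizer hRY)
  have hcJ : (Nat.card R).Coprime (Nat.card J) :=
    hcop.coprime_dvd_right (Subgroup.card_dvd_of_le (hJH.trans hHG))
  -- the part of the residual centralising `Y`
  have hkey : ⁅J ⊓ Subgroup.centralizer ({a} : Set X), R⁆ ≤ Y := by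
    obtain ⟨N, hN⟩ : ∃ N, N = M0 ⊓ Subgroup.centralizer (Y : Set X) := ⟨_, rfl⟩
    have hM0N : M0 ≤ Subgroup.normalizer (N : Set X) :=
      hN ▸ le_normalizer_inf' Subgroup.le_normalizer (le_normalizer_centralizer hM0Y)
    have hcen : ∀ c ∈ N, (orderOf c).Coprime p →
        c ∈ Subgroup.centralizer (R : Set X) ∧ ∀ y ∈ M0, Commute c y := by
      intro c hc hcc
      rw [hN] at hc
      refine hla c hc.1 hcc (cent_of_series hcc (K := Q0) (N := Q0 ⊓ Subgroup.centralizer (Y : Set X)) (hQ0 ▸ opc_isPGroup M0) (hM0Q hc.1)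
        (fun v hv => (⟨commutator_mem_right (hM0Q hc.1) hv,
          commutator_mem_left (le_normalizer_centralizer hM0Y (hQM0 hv)) hc.2⟩ :
            ⁅c, v⁆ ∈ Q0 ⊓ Subgroup.centralizer (Y : Set X))) fun w hw => ?_)
      exact (Subgroup.mem_centralizer_iff.1 hc.2 w (hQY hw)).symm
    have hNR : ⁅N, R⁆ ≤ Y := by
      refine Subgroup.commutator_le.2 fun d hd s hs => ?_
      obtain ⟨c, e, hc, he, hcc, hep, hce⟩ := exists_split (p := p) d
      have hcN : c ∈ N := Subgroup.zpowers_le.2 hd hc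
      have heN : e ∈ N := Subgroup.zpowers_le.2 hd he
      have heY : e ∈ Y := by
        have h1 : opc p N ≤ Q0 := hQ0 ▸ le_opc ((opc_le N).trans (hN ▸ inf_le_left)) (opc_isPGroup N)
          (hM0N.trans (normalizer_le_opc N))
        have h2 := mem_opc_of_central (fun g hg hgc y hy => (hcen g hg hgc).2 y (hN.le hy).1) heN hep
        exact hQY ⟨h1 h2, (hN.le heN).2⟩
      have h3 : ⁅e, s⁆ ∈ Y := commutator_mem_left (hRY hs) heY
      rw [← hce, show ⁅c * e, s⁆ = (c * ⁅e, s⁆ * c⁻¹) * ⁅c, s⁆ by simp [commutatorElement_def, mul_assoc],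
        commute_conj_eq (Subgroup.mem_centralizer_iff.1 (hN.le hcN).2 _ h3).symm,
        commutatorElement_eq_one_iff_mul_comm.2 (Subgroup.mem_centralizer_iff.1 (hcen c hcN hcc).1 s hs).symm,
        mul_one]
      exact h3
    have hK1R : R ≤ Subgroup.normalizer ((J ⊓ Subgroup.centralizer ({a} : Set X) : Subgroup X) : Set X) :=
      le_normalizer_inf' hRJ (hRa.trans Subgroup.le_normalizer)
    rw [← Grp.commutator_commutator_eq R _ hK1R (hcJ.coprime_dvd_right (Subgroup.card_dvd_of_le inf_le_left))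
      (Or.inl (Group.isSolvable_of_comm mul_comm'))]
    refine (Subgroup.commutator_mono ?_ le_rfl).trans hNR
    rw [hN]
    refine le_inf ?_ ((Grp.commutator_le_left_of_le_normalizer hK1R).trans (inf_le_left.trans hJY))
    exact hM0 ▸ Subgroup.commutator_mono (hM ▸ inf_le_inf_right _ (hJH.trans hHG)) le_rfl
  -- the residual permutes the invariant Sylow subgroups of `J`
  have hperm : ∀ g ∈ M0, ∀ T, Grp.IsSylowIn p T J → R ≤ Subgroup.normalizer (T : Set X) →
      R ≤ Subgroup.normalizer ((MulAut.conj g • T : Subgroup X) : Set X) := by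
    intro g hg T hT hTR
    have hga : Commute a g := (Subgroup.mem_centralizer_singleton_iff.1 (hMa (hM0M hg))).symm
    have hz : Subgroup.zpowers a ≤ R := Subgroup.zpowers_le.2 haR
    have hTa : Subgroup.zpowers a ≤ Subgroup.normalizer ((MulAut.conj g • T : Subgroup X) : Set X) := by
      refine Subgroup.zpowers_le.2 ?_
      rw [Grp.mem_normalizer_iff_smul, ← mul_smul, ← map_mul, hga.eq, map_mul, mul_smul,
        Grp.mem_normalizer_iff_smul.1 (hTR haR)]
    obtain ⟨c, hc, hce⟩ := Grp.invariant_sylow_conj (Subgroup.zpowers a) J (hz.trans hRJ)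
      (hcJ.coprime_dvd_left (Subgroup.card_dvd_of_le hz)) (Or.inl (Group.isSolvable_of_comm mul_comm')) hT
      (hT.smul (Grp.mem_normalizer_iff_smul.1 (hHJ (hM0H hg)))) (hz.trans hTR) hTa
    rw [← Grp.centralizer_singleton_eq_zpowers] at hc
    obtain ⟨m, hm, c', hc', rfl⟩ := Grp.exists_commutator_mul_fixed R (J ⊓ Subgroup.centralizer ({a} : Set X))
      (le_normalizer_inf' hRJ (hRa.trans Subgroup.le_normalizer))
      (hcJ.coprime_dvd_right (Subgroup.card_dvd_of_le inf_le_left)) (Or.inl (Group.isSolvable_of_comm mul_comm')) hc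
    have hT' : Grp.IsSylowIn p (MulAut.conj c' • T) J :=
      hT.smul (Grp.conj_smul_eq_self_of_mem hc'.1.1)
    have hmJ : m ∈ J :=
      (Grp.commutator_le_left_of_le_normalizer (le_normalizer_inf' hRJ (hRa.trans Subgroup.le_normalizer)) hm).1
    have hmT : m ∈ MulAut.conj c' • T :=
      le_sylow_of_normal hT' (inf_le_right : Y ⊓ J ≤ J) (hYp.to_le inf_le_left)
        (le_normalizer_inf' (hJY.trans (Subgroup.centralizer_le_normalizer _)) Subgroup.le_normalizer)
        ⟨hkey hm, hmJ⟩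
    intro s hs
    rw [← hce, map_mul, mul_smul, Grp.conj_smul_eq_self_of_mem hmT, Grp.mem_normalizer_iff_smul, ← mul_smul,
      ← map_mul, Subgroup.mem_centralizer_iff.1 hc'.2 s hs, map_mul, mul_smul,
      Grp.mem_normalizer_iff_smul.1 (hTR hs)]
  -- maximality gives `P ∩ J ≤ Y`
  have hPJ : P ⊓ J ≤ Y := by
    obtain ⟨D, hD⟩ := exists_meet (p := p) (L := J) (A := R)
    have hDP : D ≤ P := hinP D (fun x hx => (hHG (hJH ((hD x).1 hx).1))) (meet_isPGroup hRJ hcJ hD)
      (le_normalizer_of_forall fun s hs v hv => (hD _).2 (InP.conj_operator hRJ hcJ ((hD v).1 hv) hs))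
      (le_normalizer_of_forall fun c hc v hv => (hD _).2 (inP_conj_outer ((hD v).1 hv) (hHJ (hCH hc)) (hCR hc)))
    have hDeq : ∀ x, x ∈ P ⊓ J ↔ InP p J R x := fun x =>
      ⟨fun hx => ((hP x).1 hx.1).restrict hnorm hcop (hJH.trans hHG) hRJ hx.2,
        fun hx => ⟨hDP ((hD x).2 hx), hx.1⟩⟩
    have hM0PJ : M0 ≤ Subgroup.normalizer ((P ⊓ J : Subgroup X) : Set X) := by
      refine le_normalizer_of_forall fun g hg x hx => (hDeq _).2 ⟨mem_iff_conj (hHJ (hM0H hg)) hx.2, fun T hT hTR => ?_⟩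
      have h1 := ((hDeq x).1 hx).2 _ (hT.smul (Grp.mem_normalizer_iff_smul.1 (hHJ (hM0H (inv_mem hg)))))
        (hperm g⁻¹ (inv_mem hg) T hT hTR)
      rw [Grp.mem_smul_conj, inv_inv] at h1
      exact h1
    have hsup : ∀ K : Subgroup X, K ≤ Subgroup.normalizer (Y : Set X) →
        K ≤ Subgroup.normalizer ((P ⊓ J : Subgroup X) : Set X) →
        K ≤ Subgroup.normalizer ((Y ⊔ P ⊓ J : Subgroup X) : Set X) := fun K h1 h2 =>
      (le_inf h1 h2).trans (Subgroup.normalizer_inf_normalizer_le_normalizer_sup _ _)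
    have hPN : P ⊓ Subgroup.normalizer (Y : Set X) ≤
        P ⊓ Subgroup.normalizer ((Y ⊔ P ⊓ J : Subgroup X) : Set X) :=
      le_inf inf_le_left (hsup _ inf_le_right (le_normalizer_inf' (inf_le_left.trans Subgroup.le_normalizer)
        ((le_inf (inf_le_left.trans hPG) inf_le_right : _ ≤ G ⊓ Subgroup.normalizer (Y : Set X)).trans (hH.ge.trans hHJ))))
    have hle : Nat.card ↥(P ⊓ Subgroup.normalizer ((Y ⊔ P ⊓ J : Subgroup X) : Set X)) * (Nat.card P + 1) +
        Nat.card ↥(Y ⊔ P ⊓ J) ≤ Nat.card ↥(P ⊓ Subgroup.normalizer (Y : Set X)) * (Nat.card P + 1) + Nat.card Y :=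
      hmax (Y ⊔ P ⊓ J) ⟨sup_le hYP inf_le_left, fun e => hYne (le_bot_iff.1 (e ▸ le_sup_left)),
        hsup R hRY (le_normalizer_inf' hRP hRJ), hsup C hCY (le_normalizer_inf' hCP (hCH.trans hHJ)),
        hsup M0 hM0Y hM0PJ,
        ((inf_le_inf_left _ (Subgroup.centralizer_le (SetLike.coe_subset_coe.2 le_sup_left))).trans hQY).trans
          le_sup_left⟩
    have h1 : Nat.card ↥(P ⊓ Subgroup.normalizer (Y : Set X)) * (Nat.card P + 1) ≤
        Nat.card ↥(P ⊓ Subgroup.normalizer ((Y ⊔ P ⊓ J : Subgroup X) : Set X)) * (Nat.card P + 1) :=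
      Nat.mul_le_mul_right _ (Nat.le_of_dvd Nat.card_pos (Subgroup.card_dvd_of_le hPN))
    have h2 : Y = Y ⊔ P ⊓ J := Subgroup.eq_of_le_of_card_ge le_sup_left (by omega)
    exact h2 ▸ le_sup_right
  -- the fixed part of order prime to `p`
  obtain ⟨B, hB⟩ : ∃ B, B = pRes p (J ⊓ Subgroup.centralizer ({a} : Set X)) := ⟨_, rfl⟩
  have hBR : B ≤ Subgroup.centralizer (R : Set X) := by
    rw [hB]
    refine (Subgroup.closure_le _).2 fun c hc => Subgroup.mem_centralizer_iff.2 fun s hs => ?_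
    exact (commute_of_commutator_mem hYp hc.2 (hkey (Subgroup.commutator_mem_commutator hc.1 hs))
      fun v hv => (Subgroup.mem_centralizer_iff.1 (hJY hc.1.1) v hv).symm).eq.symm
  have hBn : ∀ K : Subgroup X, K ≤ Subgroup.normalizer (J : Set X) → K ≤ Subgroup.centralizer {a} →
      K ≤ Subgroup.normalizer (B : Set X) := fun K h1 h2 =>
    hB ▸ le_normalizer_pRes (le_normalizer_inf' h1 (h2.trans Subgroup.le_normalizer))
  have hM0B : M0 ≤ Subgroup.centralizer (B : Set X) := by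
    have hMM : ⁅M0, R⁆ = M0 := by
      rw [hM0, Grp.commutator_commutator_eq R M hRM (hcop.coprime_dvd_right (Subgroup.card_dvd_of_le hMG))
        (Or.inl (Group.isSolvable_of_comm mul_comm'))]
    have hBn0 : ⁅B, M0⁆ ≤ B :=
      Grp.commutator_le_left_of_le_normalizer (hBn M0 (hM0H.trans hHJ) (hM0M.trans hMa))
    have h1 : ⁅⁅R, B⁆, M0⁆ = ⊥ := by
      rw [Subgroup.commutator_eq_bot_iff_le_centralizer.2 (Subgroup.le_centralizer_iff.1 hBR),
        Subgroup.commutator_bot_left]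
    have h2 : ⁅⁅B, M0⁆, R⁆ = ⊥ :=
      le_bot_iff.1 ((Subgroup.commutator_mono hBn0 le_rfl).trans
        (Subgroup.commutator_eq_bot_iff_le_centralizer.2 hBR).le)
    have h3 := Subgroup.commutator_commutator_eq_bot_of_rotate h1 h2
    rw [hMM, Subgroup.commutator_eq_bot_iff_le_centralizer] at h3
    exact h3
  have hPHB : P ⊓ H ≤ Subgroup.centralizer (B : Set X) := by
    rw [Subgroup.le_centralizer_iff, hB]
    refine (Subgroup.closure_le _).2 fun c hc => Subgroup.mem_centralizer_iff.2 fun v hv => ?_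
    have hcH : c ∈ H := hJH hc.1.1
    have hcC : c ∈ C := hC ▸ ⟨hHG hcH, hBR (hB ▸ mem_pRes hc.1 hc.2)⟩
    have hcn : c ∈ Subgroup.normalizer ((P ⊓ H : Subgroup X) : Set X) :=
      le_normalizer_inf' hCP (hCH.trans Subgroup.le_normalizer) hcC
    refine (cent_of_series hc.2 (N := Y) (hPp.to_le inf_le_left) hcn (fun w hw => ?_) (fun w hw => ?_) v hv).eq.symm
    · have h1 := commutator_mem_right hcn hw
      exact hPJ ⟨h1.1, hJ ▸ ⟨h1.2, commutator_mem_left (le_normalizer_centralizer hHY hw.2) (hJY hc.1.1)⟩⟩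
    · exact (Subgroup.mem_centralizer_iff.1 (hJY hc.1.1) w hw).symm
  obtain ⟨H2, hH2⟩ : ∃ H2, H2 = H ⊓ Subgroup.centralizer (B : Set X) := ⟨_, rfl⟩
  have hH2H : H2 ≤ H := hH2 ▸ inf_le_left
  have hPH2 : P ⊓ H ≤ H2 := hH2 ▸ le_inf inf_le_right hPHB
  have hM0H2 : M0 ≤ H2 := hH2 ▸ le_inf hM0H hM0B
  have hYH2 : Y ≤ H2 := (le_inf hYP hYH).trans hPH2
  have hRH2 : R ≤ Subgroup.normalizer (H2 : Set X) :=
    hH2 ▸ le_normalizer_inf' hRH (le_normalizer_centralizer (hBn R hRJ hRa))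
  have hCH2 : C ≤ Subgroup.normalizer (H2 : Set X) :=
    hH2 ▸ le_normalizer_inf' (hCH.trans Subgroup.le_normalizer)
      (le_normalizer_centralizer (hBn C (hCH.trans hHJ) hCa))
  obtain ⟨J2, hJ2⟩ : ∃ J2, J2 = H2 ⊓ Subgroup.centralizer (Y : Set X) := ⟨_, rfl⟩
  have hJ2H2 : J2 ≤ H2 := hJ2 ▸ inf_le_left
  have hJ2J : J2 ≤ J := hJ ▸ hJ2 ▸ inf_le_inf_right _ hH2H
  have hH2J2 : H2 ≤ Subgroup.normalizer (J2 : Set X) :=
    hJ2 ▸ le_normalizer_inf' Subgroup.le_normalizer (le_normalizer_centralizer (hH2H.trans hHY))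
  have hRJ2 : R ≤ Subgroup.normalizer (J2 : Set X) :=
    hJ2 ▸ le_normalizer_inf' hRH2 (le_normalizer_centralizer hRY)
  have hCJ2 : C ≤ Subgroup.normalizer (J2 : Set X) :=
    hJ2 ▸ le_normalizer_inf' hCH2 (le_normalizer_centralizer hCY)
  have hinY : ∀ U ≤ J2, IsPGroup p U → R ≤ Subgroup.normalizer (U : Set X) →
      C ≤ Subgroup.normalizer (U : Set X) → U ≤ Y := fun U hU hUp hUR hUC =>
    (le_inf (hinP U (hU.trans (hJ2H2.trans (hH2H.trans hHG))) hUp hUR hUC) (hU.trans hJ2J)).trans hPJ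
  have hfixB : ∀ w ∈ J2, Commute a w → (orderOf w).Coprime p → w ∈ B := fun w hw hwa hwc =>
    hB ▸ mem_pRes ⟨hJ2J hw, Subgroup.mem_centralizer_singleton_iff.2 hwa.eq.symm⟩ hwc
  have hBcen : ∀ w ∈ B, ∀ y ∈ H2, Commute w y := fun w hw y hy =>
    (Subgroup.mem_centralizer_iff.1 (hH2.le hy).2 w hw)
  have hz : J2 ≤ Subgroup.centralizer ((J2 ⊓ Subgroup.centralizer ({a} : Set X) : Subgroup X) : Set X) := by
    rw [Subgroup.le_centralizer_iff]
    intro d hd
    refine Subgroup.mem_centralizer_iff.2 fun y hy => ?_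
    obtain ⟨c, e, hc, he, hcc, hep, hce⟩ := exists_split (p := p) d
    have hcd := Subgroup.zpowers_le.2 hd hc
    have hed := Subgroup.zpowers_le.2 hd he
    have hBw : ∀ w ∈ J2 ⊓ Subgroup.centralizer ({a} : Set X), (orderOf w).Coprime p → w ∈ B := fun w hw hwc =>
      hfixB w hw.1 (Subgroup.mem_centralizer_singleton_iff.1 hw.2).symm hwc
    have heY : e ∈ Y := by
      refine hinY _ ((opc_le _).trans inf_le_left) (opc_isPGroup _)
        ((le_normalizer_inf' hRJ2 (hRa.trans Subgroup.le_normalizer)).trans (normalizer_le_opc _))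
        ((le_normalizer_inf' hCJ2 (hCa.trans Subgroup.le_normalizer)).trans (normalizer_le_opc _))
        (mem_opc_of_central (fun g hg hgc z hz => hBcen g (hBw g hg hgc) z (hJ2H2 hz.1)) hed hep)
    rw [← hce]
    exact (Commute.mul_left (hBcen c (hBw c hcd hcc) y (hJ2H2 hy))
      (Subgroup.mem_centralizer_iff.1 (hJ2.le hy).2 e heY)).eq.symm
  have hnil : Group.IsNilpotent J2 := isNilpotent_of_fixed_central (hAr a haA) (hRJ2 haR)
    ((hcJ.coprime_dvd_left (Subgroup.card_dvd_of_le (Subgroup.zpowers_le.2 haR))).coprime_dvd_right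
      (Subgroup.card_dvd_of_le hJ2J)) hz
  obtain ⟨W, hW⟩ : ∃ W, W = pRes p J2 := ⟨_, rfl⟩
  have hWJ2 : W ≤ J2 := hW ▸ pRes_le J2
  have hWord : ∀ w ∈ W, (orderOf w).Coprime p := fun w hw => coprime_of_mem_pRes hnil (hW.le hw)
  have hsplit : ∀ h ∈ H2, (∀ x ∈ Y, Commute h x) → ∃ c ∈ W, ∃ e ∈ Y, c * e = h := by
    intro h hh hcomm
    have hJ2h : h ∈ J2 := hJ2 ▸ ⟨hh, Subgroup.mem_centralizer_iff.2 fun x hx => (hcomm x hx).eq.symm⟩
    obtain ⟨c, e, hc, he, hcc, hep, hce⟩ := exists_split (p := p) h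
    exact ⟨c, hW ▸ mem_pRes (Subgroup.zpowers_le.2 hJ2h hc) hcc, e,
      hinY _ (opc_le J2) (opc_isPGroup J2) (hRJ2.trans (normalizer_le_opc J2)) (hCJ2.trans (normalizer_le_opc J2))
        (mem_opc_of_nilpotent hnil (Subgroup.zpowers_le.2 hJ2h he) hep), hce⟩
  have hH2W : H2 ≤ Subgroup.normalizer (W : Set X) := hW ▸ le_normalizer_pRes hH2J2
  have hRW : R ≤ Subgroup.normalizer (W : Set X) := hW ▸ le_normalizer_pRes hRJ2
  have hcop2 : (Nat.card R).Coprime (Nat.card H2) :=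
    hcop.coprime_dvd_right (Subgroup.card_dvd_of_le (hH2H.trans hHG))
  by_cases hPH : P ≤ H
  · have hP2 : P ≤ H2 := (le_inf le_rfl hPH).trans hPH2
    have hWR : W ≤ Subgroup.centralizer (R : Set X) := by
      haveI : IsMulCommutative A := ⟨⟨fun x y => Subtype.ext
        (congrArg (fun z : R => (z : X)) (mul_comm' (⟨x, hAR x.2⟩ : R) ⟨y, hAR y.2⟩))⟩⟩
      rw [← Grp.generated_by_centralizers A W hAnc (hAR.trans hRW)
        (((hcop2.coprime_dvd_right (Subgroup.card_dvd_of_le (hWJ2.trans hJ2H2)))).coprime_dvd_left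
          (Subgroup.card_dvd_of_le hAR))]
      refine iSup₂_le fun b hb => ?_
      have hlb := hloc b hb.1 hb.2
      obtain ⟨hRb, hRMb⟩ := le_normalizer_fixed hab hnorm (hAR hb.1)
      have hWb : R ≤ Subgroup.normalizer ((W ⊓ Subgroup.centralizer ({b} : Set X) : Subgroup X) : Set X) :=
        le_normalizer_inf' hRW (hRb.trans Subgroup.le_normalizer)
      refine Subgroup.commutator_eq_bot_iff_le_centralizer.1 ?_
      rw [← Grp.commutator_commutator_eq R _ hWb (hcop2.coprime_dvd_right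
        (Subgroup.card_dvd_of_le (inf_le_left.trans (hWJ2.trans hJ2H2)))) (Or.inl (Group.isSolvable_of_comm mul_comm'))]
      refine Subgroup.commutator_eq_bot_iff_le_centralizer.2 fun g hg => ?_
      have hgW : g ∈ W := (Grp.commutator_le_left_of_le_normalizer hWb hg).1
      have hgM : g ∈ ⁅G ⊓ Subgroup.centralizer ({b} : Set X), R⁆ :=
        Subgroup.commutator_mono (inf_le_inf_right _ (hWJ2.trans (hJ2H2.trans (hH2H.trans hHG)))) le_rfl hg
      refine (hlb g hgM (hWord g hgW) fun v hv => ?_).1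
      have hvH : v ∈ H2 := hP2 ((hP v).2 (opc_residual_inP hab hnorm hcop (hAR hb.1) hv))
      exact commutatorElement_eq_one_iff_mul_comm.1 (eq_one_of_pgroup_of_coprime (opc_isPGroup _)
        (commutator_mem_right ((Subgroup.le_normalizer.trans (normalizer_le_opc _)) hgM) hv)
        (hWord _ (commutator_mem_left (hH2W hvH) hgW)))
    have hWcen : ∀ w ∈ W, ∀ y ∈ H2, Commute w y := fun w hw =>
      hBcen w (hfixB w (hWJ2 hw) (Subgroup.mem_centralizer_iff.1 (hWR hw) a haR) (hWord w hw))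
    refine ⟨H2, ?_, hM0H2⟩
    exact
      { norm := hRH2
        cop := hcop2
        ppos := fun x hx => ((hP x).1 hx).restrict hnorm hcop (hH2H.trans hHG) hRH2 (hP2 hx)
        pgrp := hPp
        rnorm := hRP
        qdef := rfl
        qle := hinP _ ((opc_le H2).trans (hH2H.trans hHG)) (opc_isPGroup H2) (hRH2.trans (normalizer_le_opc H2))
          (hCH2.trans (normalizer_le_opc H2))
        cent := by
          intro g hg hgc hgq
          refine hWcen g (hW ▸ mem_pRes (hJ2 ▸ ⟨hg, Subgroup.mem_centralizer_iff.2 fun x hx => ?_⟩) hgc)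
          exact (hgq x (le_opc hYH2 hYp (hH2H.trans hHY) hx)).eq.symm
        ne := fun e => hYne (le_bot_iff.1 (e ▸ hYP)) }
  exfalso
  have hRPH : R ≤ Subgroup.normalizer ((P ⊓ H : Subgroup X) : Set X) := le_normalizer_inf' hRP hRH
  have hCPH : C ≤ Subgroup.normalizer ((P ⊓ H : Subgroup X) : Set X) :=
    le_normalizer_inf' hCP (hCH.trans Subgroup.le_normalizer)
  obtain ⟨X3, hX3, hchar, hX3ne, hM0X3, hX3c⟩ := exists_large_subgroup hp (C := C) (M := M0) (W := W)
    (X0 := Y) (P := P ⊓ H) (hH2H.trans hHG) hcop haR (hWJ2.trans hJ2H2) hH2W hRH2 hRW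
    (le_inf hYP hYH) hYne (hH2H.trans hHY) hPH2 (hPp.to_le inf_le_left)
    (fun x hx => ((hP x).1 hx.1).restrict hnorm hcop (hH2H.trans hHG) hRH2 (hPH2 hx)) hRPH hWord
    (fun w hw hwa => hBcen w (hfixB w (hWJ2 hw) hwa (hWord w hw))) hsplit hCR hCH2
    (hW ▸ le_normalizer_pRes hCJ2)
    (fun T hT hTp hTR hTC => le_inf (hinP T (hT.trans (hH2H.trans hHG)) hTp hTR hTC) (hT.trans hH2H))
    hM0H2 (hM0M.trans hMa)
  have hnc := le_normalizer_of_char hX3 hchar
  have hlt : P ⊓ Subgroup.normalizer (Y : Set X) < P ⊓ Subgroup.normalizer (X3 : Set X) := by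
    have e : P ⊓ Subgroup.normalizer (Y : Set X) = P ⊓ H := by
      rw [hH, ← inf_assoc, inf_eq_left.2 hPG]
    rw [e]
    refine lt_of_lt_of_le ?_ (le_inf inf_le_left (inf_le_right.trans hnc) :
      P ⊓ Subgroup.normalizer ((P ⊓ H : Subgroup X) : Set X) ≤ _)
    refine lt_of_le_of_ne (le_inf inf_le_left Subgroup.le_normalizer) fun he => ?_
    have hcond := @Group.normalizerCondition_of_isNilpotent ↥P _ hPp.isNilpotent
    obtain ⟨x, hx, hxP⟩ := Set.exists_of_ssubset (hcond ((P ⊓ H).subgroupOf P)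
      (lt_top_iff_ne_top.2 fun h => hPH ((Subgroup.subgroupOf_eq_top.1 h).trans inf_le_right)))
    refine hxP (?_ : (x : X) ∈ P ⊓ H)
    rw [he]
    refine ⟨x.2, Subgroup.mem_normalizer_fintype fun y hy => ?_⟩
    exact (Subgroup.mem_normalizer_iff.1 hx ⟨y, hy.1⟩).1 hy
  have hle : Nat.card ↥(P ⊓ Subgroup.normalizer (X3 : Set X)) * (Nat.card P + 1) + Nat.card X3 ≤
      Nat.card ↥(P ⊓ Subgroup.normalizer (Y : Set X)) * (Nat.card P + 1) + Nat.card Y :=
    hmax X3 ⟨hX3.trans inf_le_left, hX3ne, hRPH.trans hnc, hCPH.trans hnc, hM0X3,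
      fun v hv => hX3c ⟨⟨hQP hv.1, hM0H (hQM0 hv.1)⟩, hv.2⟩⟩
  have h1 : Nat.card ↥(P ⊓ Subgroup.normalizer (Y : Set X)) + 1 ≤
      Nat.card ↥(P ⊓ Subgroup.normalizer (X3 : Set X)) :=
    Nat.succ_le_of_lt (lt_of_not_ge fun h => hlt.ne (Subgroup.eq_of_le_of_card_ge hlt.le h))
  have h2 : Nat.card Y ≤ Nat.card P := Nat.le_of_dvd Nat.card_pos (Subgroup.card_dvd_of_le hYP)
  have h3 := Nat.mul_le_mul_right (Nat.card P + 1) h1
  rw [Nat.add_mul] at h3
  omega

/-- Flavell's signalizer theorem. -/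
theorem le_centralizer_of_local (hp : 5 ≤ p) {r : ℕ} [Fact r.Prime] (hnorm : R ≤ Subgroup.normalizer (G : Set X))
    (hcop : (Nat.card R).Coprime (Nat.card G)) (hab : IsMulCommutative R) (hAR : A ≤ R)
    (hAr : ∀ a ∈ A, a ^ r = 1) (hAnc : ¬ IsCyclic A) (hcore : opc p G = ⊥)
    (hloc : ∀ a ∈ A, a ≠ 1 → ∀ g ∈ ⁅G ⊓ Subgroup.centralizer ({a} : Set X), R⁆, (orderOf g).Coprime p →
      (∀ v ∈ opc p (G ⊓ Subgroup.centralizer ({a} : Set X)), Commute g v) →
        g ∈ Subgroup.centralizer (R : Set X) ∧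
          ∀ y ∈ ⁅G ⊓ Subgroup.centralizer ({a} : Set X), R⁆, Commute g y) :
    G ≤ Subgroup.centralizer (R : Set X) := by
  have hloc' : ∀ a ∈ A, a ≠ 1 → Local p G R a := by
    intro a ha ha1
    have hl := hloc a ha ha1
    unfold Local
    have hRM := (le_normalizer_fixed hab hnorm (hAR ha)).2
    obtain ⟨M, hM⟩ : ∃ M, M = G ⊓ Subgroup.centralizer ({a} : Set X) := ⟨_, rfl⟩
    rw [← hM] at hl hRM ⊢
    intro g hg hgc hgq
    have hgM : g ∈ M := Grp.commutator_le_left_of_le_normalizer hRM hg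
    have hn : M ≤ Subgroup.normalizer ((⁅M, R⁆ : Subgroup X) : Set X) := Grp.left_le_normalizer_commutator R M
    refine hl g hg hgc (cent_of_series hgc (K := opc p M) (N := opc p M ⊓ ⁅M, R⁆) (opc_isPGroup M) (Subgroup.le_normalizer.trans (normalizer_le_opc M) hgM)
      (fun v hv => (⟨commutator_mem_right (Subgroup.le_normalizer.trans (normalizer_le_opc M) hgM) hv,
        commutator_mem_left (hn (opc_le M hv)) hg⟩ : ⁅g, v⁆ ∈ opc p M ⊓ ⁅M, R⁆)) fun w hw => hgq w ?_)
    exact le_opc inf_le_right ((opc_isPGroup M).to_le inf_le_left)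
      (le_normalizer_inf' ((Grp.commutator_le_left_of_le_normalizer hRM).trans
        (Subgroup.le_normalizer.trans (normalizer_le_opc M))) Subgroup.le_normalizer) hw
  haveI : IsMulCommutative A := ⟨⟨fun x y => Subtype.ext
    (congrArg (fun z : R => (z : X)) (mul_comm' (⟨x, hAR x.2⟩ : R) ⟨y, hAR y.2⟩))⟩⟩
  have hgen := Grp.generated_by_centralizers A G hAnc (hAR.trans hnorm)
    (hcop.coprime_dvd_left (Subgroup.card_dvd_of_le hAR))
  obtain ⟨P, hP⟩ := exists_meet (p := p) (L := G) (A := R)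
  -- a residual with trivial core is trivial
  have htriv : ∀ a ∈ A, a ≠ 1 → opc p ⁅G ⊓ Subgroup.centralizer ({a} : Set X), R⁆ = ⊥ →
      ⁅G ⊓ Subgroup.centralizer ({a} : Set X), R⁆ = ⊥ := by
    intro a ha ha1 hQ
    have hl := hloc' a ha ha1
    unfold Local at hl
    have hRM := (le_normalizer_fixed hab hnorm (hAR ha)).2
    rw [← Grp.commutator_commutator_eq R _ hRM
      (hcop.coprime_dvd_right (Subgroup.card_dvd_of_le inf_le_left)) (Or.inl (Group.isSolvable_of_comm mul_comm'))]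
    refine Subgroup.commutator_eq_bot_iff_le_centralizer.2 fun d hd => ?_
    have hcen : ∀ g ∈ ⁅G ⊓ Subgroup.centralizer ({a} : Set X), R⁆, (orderOf g).Coprime p →
        g ∈ Subgroup.centralizer (R : Set X) ∧
          ∀ y ∈ ⁅G ⊓ Subgroup.centralizer ({a} : Set X), R⁆, Commute g y := fun g hg hgc =>
      hl g hg hgc fun v hv => by rw [hQ, Subgroup.mem_bot] at hv; rw [hv]; exact Commute.one_right g
    obtain ⟨c, e, hc, he, hcc, hep, hce⟩ := exists_split (p := p) d
    have he' := mem_opc_of_central (fun g hg hgc => (hcen g hg hgc).2) (Subgroup.zpowers_le.2 hd he) hep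
    rw [hQ, Subgroup.mem_bot] at he'
    rw [← hce, he', mul_one]
    exact (hcen c (Subgroup.zpowers_le.2 hd hc) hcc).1
  by_cases hall : ∀ a ∈ A, a ≠ 1 → opc p ⁅G ⊓ Subgroup.centralizer ({a} : Set X), R⁆ = ⊥
  · rw [← hgen]
    exact iSup₂_le fun a ha => Subgroup.commutator_eq_bot_iff_le_centralizer.1
      (htriv a ha.1 ha.2 (hall a ha.1 ha.2))
  exfalso
  push Not at hall
  obtain ⟨a0, ha0, ha01, hne0⟩ := hall
  obtain ⟨H0, hH0, -⟩ := exists_setting hp hnorm hcop hab hAR hAr hAnc hloc' hP ha0 ha01 hne0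
  obtain ⟨D, hDP, hchar, hDne, -, hDn⟩ := exists_common hp (R := R) (P := P) ⟨⟨H0, hH0⟩⟩
  have hCD : G ⊓ Subgroup.centralizer (R : Set X) ≤ Subgroup.normalizer (D : Set X) :=
    (le_normalizer_of_forall fun c hc v hv => (hP _).2 (InP.conj hnorm hcop ((hP v).1 hv) hc)).trans
      (le_normalizer_of_char hDP hchar)
  have hGD : G ≤ Subgroup.normalizer (D : Set X) := by
    rw [← hgen]
    refine iSup₂_le fun a ha g hg => ?_
    have hRM := (le_normalizer_fixed hab hnorm (hAR ha.1)).2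
    obtain ⟨m, hm, c, hc, rfl⟩ := Grp.exists_commutator_mul_fixed R _ hRM
      (hcop.coprime_dvd_right (Subgroup.card_dvd_of_le inf_le_left)) (Or.inl (Group.isSolvable_of_comm mul_comm')) hg
    refine mul_mem ?_ (hCD ⟨hc.1.1, hc.2⟩)
    by_cases hQ : opc p ⁅G ⊓ Subgroup.centralizer ({a} : Set X), R⁆ = ⊥
    · rw [htriv a ha.1 ha.2 hQ, Subgroup.mem_bot] at hm
      rw [hm]; exact one_mem _
    obtain ⟨H, hH, hle⟩ := exists_setting hp hnorm hcop hab hAR hAr hAnc hloc' hP ha.1 ha.2 hQ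
    exact hDn H hH (hle hm)
  have hPG : P ≤ G := fun x hx => ((hP x).1 hx).1
  refine hDne (le_bot_iff.1 ?_)
  rw [← hcore]
  exact le_opc (hDP.trans hPG) ((meet_isPGroup hnorm hcop hP).to_le hDP) hGD

end Cfsg.Agent.Spor.Flavell.Signal
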