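import Mathlib
import Cfsg.Prelude
import Cfsg.Agent.Lib.Fus.CaminaPairBasic
import Cfsg.Agent.Lib.Grp.Components
import Cfsg.Agent.Lib.Grp.Cores
import Cfsg.Agent.Lib.Grp.CoprimeAbelian
import Cfsg.Agent.Lib.Transfer.Residual
import Cfsg.Agent.Lib.Spor.FlavellSignal

/-!
A noncyclic abelian coprime group centralising the residuals of the local generalized Fitting subgroups
centralises the residual of the generalized Fitting subgroup.
-/

set_option autoImplicit false
set_option linter.unusedSectionVars false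
set_option linter.style.haveILetI false

namespace Cfsg.Agent.Spor.Flavell.Layers

open Cfsg.Agent Cfsg.Agent.Spor.Flavell
open scoped commutatorElement Pointwise

variable {X : Type*} [Group X] [Finite X] {p : ℕ} [Fact p.Prime]

/-- The generalized Fitting subgroup of a subgroup, in the ambient group. -/
def gfit (M : Subgroup X) : Subgroup X := (Cfsg.generalizedFittingSubgroup M).map M.subtype

/-- The layer of a subgroup, in the ambient group. -/
def lay (M : Subgroup X) : Subgroup X := (Cfsg.layer M).map M.subtype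

theorem map_pResidual (K : Subgroup X) : (Cfsg.pResidual p K).map K.subtype = pRes p K := by
  rw [Cfsg.pResidual, MonoidHom.map_closure, pRes]
  congr 1
  ext x
  constructor
  · rintro ⟨y, hy, rfl⟩
    exact ⟨y.2, by rw [Set.mem_setOf_eq, ← Subgroup.orderOf_coe] at hy; exact hy⟩
  · rintro ⟨hx, hc⟩
    exact ⟨⟨x, hx⟩, by rw [Set.mem_setOf_eq, ← Subgroup.orderOf_coe]; exact hc, rfl⟩

theorem map_pResidual_gfit (M : Subgroup X) :
    ((Cfsg.pResidual p (Cfsg.generalizedFittingSubgroup M)).map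
      (Cfsg.generalizedFittingSubgroup M).subtype).map M.subtype = pRes p (gfit M) := by
  rw [Subgroup.map_map, Cfsg.pResidual, MonoidHom.map_closure, pRes]
  congr 1
  ext x
  constructor
  · rintro ⟨y, hy, rfl⟩
    refine ⟨⟨(y : M), y.2, rfl⟩, ?_⟩
    rw [Set.mem_setOf_eq, ← Subgroup.orderOf_coe, ← Subgroup.orderOf_coe] at hy
    exact hy
  · rintro ⟨⟨y, hy, rfl⟩, hc⟩
    refine ⟨⟨y, hy⟩, ?_, rfl⟩
    rw [Set.mem_setOf_eq, ← Subgroup.orderOf_coe, ← Subgroup.orderOf_coe]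
    exact hc

theorem normalizer_le_map_char {M : Subgroup X} (K : Subgroup M) [hK : K.Characteristic] :
    Subgroup.normalizer (M : Set X) ≤ Subgroup.normalizer ((K.map M.subtype : Subgroup X) : Set X) := by
  refine le_normalizer_of_forall fun g hg v hv => ?_
  obtain ⟨x, hx, rfl⟩ := hv
  exact ⟨M.normalizerMonoidHom ⟨g, hg⟩ x,
    Subgroup.characteristic_iff_map_le.1 hK _ (Subgroup.mem_map_of_mem _ hx), rfl⟩

theorem normalizer_le_gfit (M : Subgroup X) :
    Subgroup.normalizer (M : Set X) ≤ Subgroup.normalizer (gfit M : Set X) := by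
  haveI : (Cfsg.generalizedFittingSubgroup M).Characteristic := by
    refine Subgroup.characteristic_iff_map_le.2 fun e => ?_
    rw [Cfsg.generalizedFittingSubgroup, Subgroup.map_sup]
    exact sup_le_sup (Subgroup.characteristic_iff_map_le.1 inferInstance e)
      (Subgroup.characteristic_iff_map_le.1 inferInstance e)
  exact normalizer_le_map_char _

theorem gfit_le (M : Subgroup X) : gfit M ≤ M := Subgroup.map_subtype_le _

theorem lay_perfect (M : Subgroup X) : ⁅lay M, lay M⁆ = lay M := by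
  rw [lay, ← Subgroup.map_commutator, Grp.layer_perfect]

/-- A perfect group is generated by its elements of order prime to `p`. -/
theorem le_pRes_of_perfect {T : Subgroup X} (h : ⁅T, T⁆ = T) : T ≤ pRes p T := by
  have h1 : ⁅(⊤ : Subgroup T), (⊤ : Subgroup T)⁆ = (⊤ : Subgroup T) := by
    refine Subgroup.map_injective T.subtype_injective ?_
    rw [Subgroup.map_commutator, ← MonoidHom.range_eq_map, Subgroup.range_subtype, h]
  haveI := (Transfer.isPGroup_quotient_pResidual (G := ↥T) p).isNilpotent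
  have h2 : (⊤ : Subgroup (↥T ⧸ Cfsg.pResidual p T)) = ⊥ := by
    refine Grp.eq_bot_of_perfect_of_solvable ?_ inferInstance
    rw [← Subgroup.map_top_of_surjective _ (QuotientGroup.mk'_surjective (Cfsg.pResidual p T)),
      ← Subgroup.map_commutator, h1]
  intro x hx
  rw [← map_pResidual]
  refine ⟨⟨x, hx⟩, (QuotientGroup.eq_one_iff _).1 (Subgroup.mem_bot.1 ?_), rfl⟩
  rw [← h2]
  exact Subgroup.mem_top _

theorem pRes_mono {S T : Subgroup X} (h : S ≤ T) : pRes p S ≤ pRes p T :=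
  Subgroup.closure_mono fun _ hg => ⟨h hg.1, hg.2⟩

/-- A `q`-group with `q ≠ p` lies in the residual of any group containing it. -/
theorem le_pRes_of_isPGroup {q : ℕ} [Fact q.Prime] (hq : q ≠ p) {S T : Subgroup X} (hS : IsPGroup q S)
    (h : S ≤ T) : S ≤ pRes p T := by
  intro x hx
  refine mem_pRes (h hx) ?_
  obtain ⟨k, hk⟩ := IsPGroup.iff_orderOf.1 hS (⟨x, hx⟩ : S)
  rw [← Subgroup.orderOf_coe] at hk
  exact hk ▸ ((Nat.coprime_primes (Fact.out : q.Prime) (Fact.out : p.Prime)).2 hq).pow_left k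

theorem opc_le_gfit (q : ℕ) [Fact q.Prime] (M : Subgroup X) : opc q M ≤ gfit M :=
  Subgroup.map_mono (Grp.pCore_le_fittingSubgroup.trans le_sup_right)

/-- The generalized Fitting subgroup is the residual times the `p`-core. -/
theorem gfit_le_sup (M : Subgroup X) : gfit M ≤ pRes p (gfit M) ⊔ opc p M := by
  have hlay : lay M ≤ pRes p (gfit M) :=
    (le_pRes_of_perfect (lay_perfect M)).trans (pRes_mono (Subgroup.map_mono le_sup_left))
  rw [gfit, Cfsg.generalizedFittingSubgroup, Subgroup.map_sup, Grp.fittingSubgroup_eq_iSup_pCore,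
    Subgroup.map_iSup]
  refine sup_le ?_ (iSup_le fun q => ?_)
  · refine le_sup_of_le_left ?_
    rw [← Subgroup.map_iSup, ← Grp.fittingSubgroup_eq_iSup_pCore, ← Subgroup.map_sup]
    exact hlay
  · by_cases hq : (q : ℕ) = p
    · rw [hq]; exact le_sup_right
    · haveI := Fact.mk q.2
      refine le_sup_of_le_left ?_
      rw [← Subgroup.map_iSup, ← Grp.fittingSubgroup_eq_iSup_pCore, ← Subgroup.map_sup]
      exact le_pRes_of_isPGroup hq (opc_isPGroup M) (opc_le_gfit (q : ℕ) M)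

/-- The elements of the residual of a normal subgroup of a local group centralising its `p`-core. -/
theorem local_of_residual {R M N : Subgroup X} (hNM : N ≤ M) (hMN : M ≤ Subgroup.normalizer (N : Set X))
    (hRN : R ≤ Subgroup.normalizer (N : Set X)) (hFR : R ≤ Subgroup.centralizer (pRes p (gfit M) : Set X))
    {c : X} (hc : c ∈ ⁅N, R⁆) (hcp : (orderOf c).Coprime p) (hcq : ∀ v ∈ opc p N, Commute c v) :
    c ∈ Subgroup.centralizer (R : Set X) ∧ ∀ y ∈ ⁅N, R⁆, Commute c y := by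
  obtain ⟨F, hF⟩ : ∃ F, F = pRes p (gfit M) := ⟨_, rfl⟩
  rw [← hF] at hFR
  have hMF : M ≤ Subgroup.normalizer (F : Set X) :=
    hF ▸ le_normalizer_pRes (Subgroup.le_normalizer.trans (normalizer_le_gfit M))
  have h1 : ⁅⁅R, F⁆, N⁆ = ⊥ := by
    rw [Subgroup.commutator_eq_bot_iff_le_centralizer.2 hFR, Subgroup.commutator_bot_left]
  have h2 : ⁅⁅F, N⁆, R⁆ = ⊥ :=
    le_bot_iff.1 ((Subgroup.commutator_mono (Grp.commutator_le_left_of_le_normalizer (hNM.trans hMF)) le_rfl).trans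
      (Subgroup.commutator_eq_bot_iff_le_centralizer.2 (Subgroup.le_centralizer_iff.1 hFR)).le)
  have h3 := Subgroup.commutator_commutator_eq_bot_of_rotate h1 h2
  rw [Subgroup.commutator_eq_bot_iff_le_centralizer] at h3
  have hcM : c ∈ M := hNM (Grp.commutator_le_left_of_le_normalizer hRN hc)
  have hcN : c ∈ N := Grp.commutator_le_left_of_le_normalizer hRN hc
  have hMo : M ≤ Subgroup.normalizer (opc p M : Set X) := Subgroup.le_normalizer.trans (normalizer_le_opc M)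
  have hcent : ∀ v ∈ opc p M, Commute c v :=
    cent_of_series hcp (K := opc p M) (N := opc p M ⊓ N) (opc_isPGroup M) (hMo hcM)
      (fun v hv => ⟨commutator_mem_right (hMo hcM) hv, commutator_mem_left (hMN (opc_le M hv)) hcN⟩)
      fun w hw => hcq w (le_opc inf_le_right ((opc_isPGroup M).to_le inf_le_left)
        (le_normalizer_inf' (hNM.trans hMo) Subgroup.le_normalizer) hw)
  have hgf : gfit M ≤ Subgroup.centralizer {c} := by
    refine (gfit_le_sup (p := p) M).trans (sup_le (fun f hf => ?_) fun f hf => ?_)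
    · exact Subgroup.mem_centralizer_singleton_iff.2 (Subgroup.mem_centralizer_iff.1 (h3 hc) f (hF ▸ hf))
    · exact Subgroup.mem_centralizer_singleton_iff.2 (hcent f hf).eq.symm
  have hcC : (⟨c, hcM⟩ : M) ∈ Subgroup.centralizer (Cfsg.generalizedFittingSubgroup M : Set M) :=
    Subgroup.mem_centralizer_iff.2 fun y hy =>
      Subtype.ext (Subgroup.mem_centralizer_singleton_iff.1 (hgf ⟨y, hy, rfl⟩))
  have hcF : c ∈ F := hF ▸ mem_pRes ⟨_, Grp.centralizer_gfitting_le hcC, rfl⟩ hcp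
  exact ⟨Subgroup.le_centralizer_iff.1 hFR hcF, fun y hy => Subgroup.mem_centralizer_iff.1 (h3 hy) c hcF⟩

theorem mem_of_coprime_sup {H : Type*} [Group H] [Finite H] (N P : Subgroup H) [N.Normal] (hP : IsPGroup p P)
    {g : H} (hg : g ∈ N ⊔ P) (hc : (orderOf g).Coprime p) : g ∈ N := by
  obtain ⟨n, hn, o, ho, rfl⟩ := Subgroup.mem_sup_of_normal_left.1 hg
  have e : QuotientGroup.mk' N (n * o) = QuotientGroup.mk' N o := by
    rw [map_mul, show QuotientGroup.mk' N n = 1 from (QuotientGroup.eq_one_iff n).2 hn, one_mul]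
  refine (QuotientGroup.eq_one_iff (n * o)).1 (Signal.eq_one_of_pgroup_of_coprime
    (hP.map (QuotientGroup.mk' N)) ?_ (Nat.Coprime.coprime_dvd_left (orderOf_map_dvd (QuotientGroup.mk' N) _) hc))
  show QuotientGroup.mk' N (n * o) ∈ _
  rw [e]
  exact Subgroup.mem_map_of_mem _ ho

/-- It suffices to centralise the layer and the cores for the other primes. -/
theorem pRes_gfit_le {G D : Subgroup X} (hlay : lay G ≤ D)
    (hq : ∀ (q : ℕ) [Fact q.Prime], q ≠ p → opc q G ≤ D) : pRes p (gfit G) ≤ D := by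
  refine (Subgroup.closure_le _).2 ?_
  rintro g ⟨⟨u, hu, rfl⟩, hc⟩
  obtain ⟨N, hN⟩ : ∃ N, N = Cfsg.layer G ⊔ ⨆ (q : Nat.Primes) (_ : (q : ℕ) ≠ p), Cfsg.pCore (q : ℕ) G := ⟨_, rfl⟩
  haveI : N.Normal := hN ▸ (by infer_instance)
  have hle : Cfsg.generalizedFittingSubgroup G ≤ N ⊔ Cfsg.pCore p G := by
    rw [Cfsg.generalizedFittingSubgroup, Grp.fittingSubgroup_eq_iSup_pCore, hN]
    refine sup_le (le_sup_left.trans le_sup_left) (iSup_le fun q => ?_)
    by_cases hq : (q : ℕ) = p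
    · rw [hq]; exact le_sup_right
    · exact le_sup_of_le_left (le_sup_of_le_right (le_iSup₂_of_le q hq le_rfl))
  rw [G.coe_subtype, Subgroup.orderOf_coe] at hc
  have huN := mem_of_coprime_sup N _ Grp.pCore_isPGroup (hle hu) hc
  have hND : N.map G.subtype ≤ D := by
    rw [hN, Subgroup.map_sup, Subgroup.map_iSup]
    refine sup_le hlay (iSup_le fun q => ?_)
    rw [Subgroup.map_iSup]
    refine iSup_le fun hne => ?_
    haveI := Fact.mk q.2
    exact hq (q : ℕ) hne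
  exact hND (Subgroup.mem_map_of_mem _ huN)

variable {G R A : Subgroup X}

/-- The cores for the other primes are centralised. -/
theorem opc_le_centralizer (hnorm : R ≤ Subgroup.normalizer (G : Set X))
    (hcop : (Nat.card R).Coprime (Nat.card G)) (hab : IsMulCommutative R) (hAR : A ≤ R) (hAnc : ¬ IsCyclic A)
    (hloc : ∀ a ∈ A, a ≠ 1 →
      R ≤ Subgroup.centralizer (pRes p (gfit (G ⊓ Subgroup.centralizer ({a} : Set X))) : Set X))
    (q : ℕ) [Fact q.Prime] (hq : q ≠ p) : opc q G ≤ Subgroup.centralizer (R : Set X) := by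
  haveI : IsMulCommutative A := ⟨⟨fun x y => Subtype.ext
    (congrArg (fun z : R => (z : X)) (mul_comm' (⟨x, hAR x.2⟩ : R) ⟨y, hAR y.2⟩))⟩⟩
  rw [← Grp.generated_by_centralizers A (opc q G) hAnc (hAR.trans (hnorm.trans (normalizer_le_opc G)))
    ((hcop.coprime_dvd_right (Subgroup.card_dvd_of_le (opc_le G))).coprime_dvd_left (Subgroup.card_dvd_of_le hAR))]
  refine iSup₂_le fun a ha => ?_
  have h1 : opc q G ⊓ Subgroup.centralizer {a} ≤ opc q (G ⊓ Subgroup.centralizer ({a} : Set X)) :=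
    le_opc (inf_le_inf_right _ (opc_le G)) ((opc_isPGroup G).to_le inf_le_left)
      (le_normalizer_inf' (inf_le_left.trans (Subgroup.le_normalizer.trans (normalizer_le_opc G)))
        (inf_le_right.trans Subgroup.le_normalizer))
  refine (h1.trans ?_).trans (Subgroup.le_centralizer_iff.1 (hloc a ha.1 ha.2))
  exact le_pRes_of_isPGroup hq (opc_isPGroup _) (opc_le_gfit q _)

/-- A solvable subgroup normalised by the layer inside it is centralised by it. -/
theorem lay_le_centralizer {Y : Subgroup X} (hY : Y ≤ lay G) (hYn : lay G ≤ Subgroup.normalizer (Y : Set X))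
    (hYs : Group.IsSolvable Y) : lay G ≤ Subgroup.centralizer (Y : Set X) := by
  rw [lay, Cfsg.layer, Subgroup.map_le_iff_le_comap]
  refine sSup_le fun K hK => ?_
  intro k hk
  have hkL : (k : X) ∈ lay G := Subgroup.mem_map_of_mem _ (Grp.IsComponent.le_layer hK hk)
  have hYG : Y ≤ G := hY.trans (Subgroup.map_subtype_le _)
  haveI := hYs
  have hs : Group.IsSolvable (Y.subgroupOf G) :=
    Grp.isSolvable_of_injective (Subgroup.subgroupOfEquivOfLe hYG).toMonoidHom (MulEquiv.injective _) hYs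
  have hn : K ≤ Subgroup.normalizer ((Y.subgroupOf G : Subgroup G) : Set G) := fun l hl =>
    Subgroup.mem_normalizer_iff.2 fun y => Subgroup.mem_normalizer_iff.1
      (hYn (Subgroup.mem_map_of_mem _ (Grp.IsComponent.le_layer hK hl))) (y : X)
  have h := Subgroup.commutator_eq_bot_iff_le_centralizer.1 (Grp.component_centralizes_solvable hK hs hn)
  refine Subgroup.mem_centralizer_iff.2 fun y hy => ?_
  exact congrArg Subtype.val (Subgroup.mem_centralizer_iff.1 (h hk) ⟨y, hYG hy⟩ hy)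

/-- The layer is centralised. -/
theorem lay_le_centralizer_operators (hp : 5 ≤ p) {r : ℕ} [Fact r.Prime]
    (hnorm : R ≤ Subgroup.normalizer (G : Set X))
    (hcop : (Nat.card R).Coprime (Nat.card G)) (hab : IsMulCommutative R) (hAR : A ≤ R)
    (hAr : ∀ a ∈ A, a ^ r = 1) (hAnc : ¬ IsCyclic A)
    (hloc : ∀ a ∈ A, a ≠ 1 →
      R ≤ Subgroup.centralizer (pRes p (gfit (G ⊓ Subgroup.centralizer ({a} : Set X))) : Set X)) :
    lay G ≤ Subgroup.centralizer (R : Set X) := by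
  obtain ⟨L, hL⟩ : ∃ L, L = lay G := ⟨_, rfl⟩
  rw [← hL]
  have hLG : L ≤ G := hL ▸ Subgroup.map_subtype_le _
  have hNL : Subgroup.normalizer (G : Set X) ≤ Subgroup.normalizer (L : Set X) :=
    hL ▸ normalizer_le_map_char _
  have hRL : R ≤ Subgroup.normalizer (L : Set X) := hnorm.trans hNL
  obtain ⟨Z, hZ⟩ : ∃ Z, Z = L ⊓ Subgroup.centralizer (L : Set X) := ⟨_, rfl⟩
  have hZL : Z ≤ L := hZ ▸ inf_le_left
  obtain ⟨Γ, hΓ⟩ : ∃ Γ, Γ = Subgroup.normalizer (L : Set X) := ⟨_, rfl⟩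
  have hLΓ : L ≤ Γ := hΓ ▸ Subgroup.le_normalizer
  have hRΓ : R ≤ Γ := hΓ ▸ hRL
  have hΓZ : Γ ≤ Subgroup.normalizer (Z : Set X) :=
    hΓ ▸ hZ ▸ le_normalizer_inf' le_rfl (le_normalizer_centralizer le_rfl)
  haveI : (Z.subgroupOf Γ).Normal := Subgroup.normal_subgroupOf_of_le_normalizer hΓZ
  obtain ⟨π, hπ⟩ : ∃ π : ↥Γ →* ↥Γ ⧸ Z.subgroupOf Γ, π = QuotientGroup.mk' _ := ⟨_, rfl⟩
  have hker : ∀ u : ↥Γ, π u = 1 ↔ (u : X) ∈ Z := fun u => by
    rw [hπ, QuotientGroup.mk'_apply, QuotientGroup.eq_one_iff, Subgroup.mem_subgroupOf]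
  obtain ⟨Li, hLi⟩ : ∃ Li, Li = (L.subgroupOf Γ).map π := ⟨_, rfl⟩
  obtain ⟨Ri, hRi⟩ : ∃ Ri, Ri = (R.subgroupOf Γ).map π := ⟨_, rfl⟩
  obtain ⟨Ai, hAi⟩ : ∃ Ai, Ai = (A.subgroupOf Γ).map π := ⟨_, rfl⟩
  have hcL : (Nat.card R).Coprime (Nat.card L) := hcop.coprime_dvd_right (Subgroup.card_dvd_of_le hLG)
  have hRZ : R ⊓ Z = ⊥ :=
    le_bot_iff.1 ((inf_le_inf_left _ hZL).trans (Grp.inf_eq_bot_of_coprime hcL).le)
  have hnormΓ : R.subgroupOf Γ ≤ Subgroup.normalizer ((L.subgroupOf Γ : Subgroup Γ) : Set Γ) := fun u hu =>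
    Subgroup.mem_normalizer_iff.2 fun y => Subgroup.mem_normalizer_iff.1 (hRL hu) (y : X)
  have hcopI : (Nat.card Ri).Coprime (Nat.card Li) := by
    rw [hRi, hLi]
    refine (Nat.Coprime.coprime_dvd_left (Subgroup.card_map_dvd _ _) ?_).coprime_dvd_right (Subgroup.card_map_dvd _ _)
    rwa [Nat.card_congr (Subgroup.subgroupOfEquivOfLe hRΓ).toEquiv,
      Nat.card_congr (Subgroup.subgroupOfEquivOfLe hLΓ).toEquiv]
  have habI : IsMulCommutative Ri := ⟨⟨fun x y => Subtype.ext (by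
    obtain ⟨u, hu, eu⟩ : (x : ↥Γ ⧸ Z.subgroupOf Γ) ∈ (R.subgroupOf Γ).map π := hRi ▸ x.2
    obtain ⟨v, hv, ev⟩ : (y : ↥Γ ⧸ Z.subgroupOf Γ) ∈ (R.subgroupOf Γ).map π := hRi ▸ y.2
    show (x : ↥Γ ⧸ Z.subgroupOf Γ) * y = y * x
    rw [← eu, ← ev, ← map_mul, ← map_mul]
    exact congrArg π (Subtype.ext (congrArg (fun z : R => (z : X)) (mul_comm' (⟨u, hu⟩ : R) ⟨v, hv⟩))))⟩⟩
  have hAncI : ¬ IsCyclic Ai := by
    intro hcyc
    let f : ↥A →* ↥Ai := MonoidHom.mk' (fun x => ⟨π ⟨x, hRΓ (hAR x.2)⟩, hAi ▸ ⟨_, x.2, rfl⟩⟩)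
      fun x y => Subtype.ext (map_mul π ⟨x, hRΓ (hAR x.2)⟩ ⟨y, hRΓ (hAR y.2)⟩)
    refine hAnc (isCyclic_of_injective f ((injective_iff_map_eq_one f).2 fun x hx => Subtype.ext ?_))
    have h1 := (hker _).1 (congrArg Subtype.val hx)
    exact Subgroup.mem_bot.1 (hRZ.le ⟨hAR x.2, h1⟩)
  have hcore : opc p Li = ⊥ := by
    obtain ⟨Y, hY⟩ : ∃ Y, Y = ((opc p Li).comap π ⊓ L.subgroupOf Γ).map Γ.subtype := ⟨_, rfl⟩
    have hYL : Y ≤ L := by
      rw [hY]; rintro _ ⟨u, hu, rfl⟩; exact hu.2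
    have hYn : L ≤ Subgroup.normalizer (Y : Set X) := le_normalizer_of_forall fun g hg v hv => by
      rw [hY] at hv ⊢
      obtain ⟨u, hu, rfl⟩ := hv
      refine ⟨⟨g, hLΓ hg⟩ * u * ⟨g, hLΓ hg⟩⁻¹, ⟨?_, (show g * (u : X) * g⁻¹ ∈ L from mul_mem (mul_mem hg (show (u : X) ∈ L from hu.2)) (inv_mem hg))⟩, rfl⟩
      show π (⟨g, hLΓ hg⟩ * u * ⟨g, hLΓ hg⟩⁻¹) ∈ opc p Li
      rw [map_mul, map_mul, map_inv]
      exact mem_iff_conj (Subgroup.le_normalizer.trans (normalizer_le_opc Li) (hLi ▸ ⟨_, hg, rfl⟩)) hu.1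
    have hYΓ : Y ≤ Γ := hYL.trans hLΓ
    let f : ↥Y →* ↥Γ ⧸ Z.subgroupOf Γ := π.comp (Subgroup.inclusion hYΓ)
    have hrange : f.range ≤ opc p Li := by
      rintro _ ⟨y, rfl⟩
      obtain ⟨u, hu, e⟩ : (y : X) ∈ ((opc p Li).comap π ⊓ L.subgroupOf Γ).map Γ.subtype := hY ▸ y.2
      show π (Subgroup.inclusion hYΓ y) ∈ opc p Li
      rw [show Subgroup.inclusion hYΓ y = u from Subtype.ext e.symm]
      exact hu.1
    haveI : Group.IsSolvable f.range := isSolvable_pGroup ((opc_isPGroup Li).to_le hrange)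
    haveI : Group.IsSolvable f.ker := Group.isSolvable_of_comm fun x y => Subtype.ext (Subtype.ext (by
      have hy : ((y : Y) : X) ∈ Z := (hker _).1 (MonoidHom.mem_ker.1 y.2)
      exact Subgroup.mem_centralizer_iff.1 (hZ.le hy).2 _ (hYL (x : Y).2)))
    have hYs : Group.IsSolvable Y :=
      Group.isSolvable_of_ker_le_range (Subgroup.subtype f.ker) f.rangeRestrict
        (by rw [MonoidHom.ker_rangeRestrict, Subgroup.range_subtype])
    have hcen := lay_le_centralizer (hL ▸ hYL) (hL ▸ hYn) hYs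
    refine (Subgroup.eq_bot_iff_forall _).2 fun z hz => ?_
    obtain ⟨u, hu, rfl⟩ : z ∈ (L.subgroupOf Γ).map π := hLi ▸ opc_le Li hz
    refine (hker u).2 (hZ ▸ ⟨hu, Subgroup.mem_centralizer_iff.2 fun l hl => ?_⟩)
    exact (Subgroup.mem_centralizer_iff.1 (hcen (hL ▸ hl)) u (hY ▸ ⟨u, ⟨hz, hu⟩, rfl⟩)).symm
  have hmain := Signal.le_centralizer_of_local (G := Li) (R := Ri) (A := Ai) hp (r := r)
    (hRi ▸ hLi ▸ (Subgroup.map_mono hnormΓ).trans (Subgroup.le_normalizer_map _)) hcopI habI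
    (hAi ▸ hRi ▸ Subgroup.map_mono fun u hu => hAR hu)
    (by
      rw [hAi]
      rintro _ ⟨u, hu, rfl⟩
      rw [← map_pow, show u ^ r = 1 from Subtype.ext (hAr u hu), map_one]) hAncI hcore ?_
  · refine Subgroup.commutator_eq_bot_iff_le_centralizer.1 ?_
    have hle : ⁅L, R⁆ ≤ Z := Subgroup.commutator_le.2 fun l hl s hs => by
      refine (hker ⁅(⟨l, hLΓ hl⟩ : Γ), (⟨s, hRΓ hs⟩ : Γ)⁆).1 ?_
      rw [map_commutatorElement, commutatorElement_eq_one_iff_mul_comm]
      exact (Subgroup.mem_centralizer_iff.1 (hmain (hLi ▸ ⟨_, hl, rfl⟩)) _ (hRi ▸ ⟨_, hs, rfl⟩)).symm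
    have hZc : ⁅Z, L⁆ = ⊥ := Subgroup.commutator_eq_bot_iff_le_centralizer.2 (hZ ▸ inf_le_right)
    have h1 : ⁅⁅L, R⁆, L⁆ = ⊥ := le_bot_iff.1 ((Subgroup.commutator_mono hle le_rfl).trans hZc.le)
    have h2 := Subgroup.commutator_commutator_eq_bot_of_rotate h1 (by rw [Subgroup.commutator_comm R L]; exact h1)
    have hperf : ⁅L, L⁆ = L := hL ▸ lay_perfect G
    rwa [hperf] at h2
  intro a ha ha1 g hg hgc hgq
  obtain ⟨a0, ha0, rfl⟩ : a ∈ (A.subgroupOf Γ).map π := hAi ▸ ha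
  have ha0R : (a0 : X) ∈ R := hAR ha0
  have ha01 : (a0 : X) ≠ 1 := fun e => ha1 (by rw [show a0 = 1 from Subtype.ext e, map_one])
  obtain ⟨hRa, hRM⟩ := Signal.le_normalizer_fixed hab hnorm ha0R
  obtain ⟨ML, hML⟩ : ∃ ML, ML = L ⊓ Subgroup.centralizer ({(a0 : X)} : Set X) := ⟨_, rfl⟩
  have hMLΓ : ML ≤ Γ := hML ▸ inf_le_left.trans hLΓ
  have hfix : Li ⊓ Subgroup.centralizer {π a0} = (ML.subgroupOf Γ).map π := by
    refine le_antisymm ?_ ?_
    · rintro z ⟨hz, hzc⟩
      obtain ⟨u, hu, rfl⟩ : z ∈ (L.subgroupOf Γ).map π := hLi ▸ hz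
      have hz' : Subgroup.zpowers (a0 : X) ≤ R := Subgroup.zpowers_le.2 ha0R
      obtain ⟨c, hc, hc'⟩ := Grp.exists_fixed_rep (Subgroup.zpowers (a0 : X)) L Z (hz'.trans hRL)
        (le_bot_iff.1 ((inf_le_inf_right _ hz').trans (Grp.inf_eq_bot_of_coprime hcL).le))
        ((hcL.coprime_dvd_left (Subgroup.card_dvd_of_le hz')).coprime_dvd_right (Subgroup.card_dvd_of_le hZL))
        (Or.inl (Group.isSolvable_of_comm mul_comm')) hZL (hLΓ.trans hΓZ) (hz'.trans (hRΓ.trans hΓZ)) hu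
        (fun b hb => by
          obtain ⟨j, rfl⟩ := Subgroup.mem_zpowers_iff.1 hb
          have e : Commute (π (a0 ^ j)) (π u) := by
            rw [map_zpow]
            exact (show Commute (π a0) (π u) from (Subgroup.mem_centralizer_singleton_iff.1 hzc).symm).zpow_left j
          have h1 := (hker (a0 ^ j * u * (a0 ^ j)⁻¹ * u⁻¹)).1 (by
            rw [map_mul, map_mul, map_mul, map_inv, map_inv, e.eq]; group)
          simpa using h1)
      rw [← Grp.centralizer_singleton_eq_zpowers] at hc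
      refine ⟨⟨c, hLΓ hc.1⟩, hML ▸ hc, ?_⟩
      have h1 := (hker (u⁻¹ * ⟨c, hLΓ hc.1⟩)).2 (by simpa using hc')
      rw [map_mul, map_inv, inv_mul_eq_one] at h1
      exact h1.symm
    · rintro _ ⟨u, hu, rfl⟩
      have hu' := hML.le hu
      refine ⟨hLi ▸ ⟨u, hu'.1, rfl⟩, Subgroup.mem_centralizer_singleton_iff.2 ?_⟩
      rw [← map_mul, ← map_mul]
      exact congrArg π (Subtype.ext (Subgroup.mem_centralizer_singleton_iff.1 hu'.2))
  rw [hfix] at hg hgq ⊢
  have hRML : R ≤ Subgroup.normalizer (ML : Set X) :=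
    hML ▸ le_normalizer_inf' hRL (hRa.trans Subgroup.le_normalizer)
  have hcomm : (⁅ML.subgroupOf Γ, R.subgroupOf Γ⁆ : Subgroup Γ).map Γ.subtype = ⁅ML, R⁆ := by
    rw [Subgroup.map_commutator, Subgroup.map_subgroupOf_eq_of_le hMLΓ, Subgroup.map_subgroupOf_eq_of_le hRΓ]
  rw [hRi, ← Subgroup.map_commutator] at hg
  obtain ⟨d, hd, rfl⟩ := hg
  obtain ⟨c, e, hc, he, hcc, hep, hce⟩ := exists_split (p := p) d
  have hπe : π e = 1 := by
    refine Signal.eq_one_of_pgroup_of_coprime (hep.map π) (Subgroup.mem_map_of_mem π (Subgroup.mem_zpowers e)) ?_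
    refine Nat.Coprime.coprime_dvd_left ?_ hgc
    have h1 : π e ∈ Subgroup.zpowers (π d) := MonoidHom.map_zpowers π d ▸ Subgroup.mem_map_of_mem π he
    exact orderOf_dvd_of_mem_zpowers h1
  have hπd : π d = π c := by rw [← hce, map_mul, hπe, mul_one]
  rw [hπd] at hgq ⊢
  have hcX : (c : X) ∈ ⁅ML, R⁆ := hcomm ▸ Subgroup.mem_map_of_mem _ (Subgroup.zpowers_le.2 hd hc)
  have hcML : (c : X) ∈ ML := Grp.commutator_le_left_of_le_normalizer hRML hcX
  have hcc' : (orderOf (c : X)).Coprime p := by rwa [Subgroup.orderOf_coe]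
  have hcL' : (c : X) ∈ L := (hML.le hcML).1
  have hq : ∀ v ∈ opc p ML, Commute (c : X) v := by
    have hO := opc_le (p := p) ML
    refine cent_of_series hcc' (K := opc p ML) (N := Z) (opc_isPGroup ML)
      (Subgroup.le_normalizer.trans (normalizer_le_opc ML) hcML) (fun v hv => ?_)
      fun w hw => (Subgroup.mem_centralizer_iff.1 (hZ.le hw).2 c hcL')
    refine (hker ⁅c, ⟨v, hMLΓ (hO hv)⟩⁆).1 ?_
    rw [map_commutatorElement, commutatorElement_eq_one_iff_mul_comm]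
    refine (hgq _ (le_opc (N := ((opc p ML).subgroupOf Γ).map π) (Subgroup.map_mono fun u hu => hO hu)
      (((opc_isPGroup ML).comap_of_injective Γ.subtype Γ.subtype_injective).map π)
      ((Subgroup.map_mono (f := π) ?_).trans (Subgroup.le_normalizer_map π))
      ⟨⟨v, hMLΓ (hO hv)⟩, hv, rfl⟩)).eq
    exact fun u hu => Subgroup.mem_normalizer_iff.2 fun y =>
      Subgroup.mem_normalizer_iff.1 (Subgroup.le_normalizer.trans (normalizer_le_opc ML) hu) (y : X)
  have hMMLn : G ⊓ Subgroup.centralizer {(a0 : X)} ≤ Subgroup.normalizer (ML : Set X) :=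
    hML ▸ le_normalizer_inf' (inf_le_left.trans (Subgroup.le_normalizer.trans hNL))
      (inf_le_right.trans Subgroup.le_normalizer)
  obtain ⟨h1, h2⟩ := local_of_residual (hML ▸ inf_le_inf_right _ hLG) hMMLn hRML
    (hloc a0 ha0 ha01) hcX hcc' hq
  refine ⟨Subgroup.mem_centralizer_iff.2 ?_, ?_⟩
  · rw [hRi]
    rintro _ ⟨s, hs, rfl⟩
    rw [← map_mul, ← map_mul]
    exact congrArg π (Subtype.ext (Subgroup.mem_centralizer_iff.1 h1 s hs))
  · rw [hRi, ← Subgroup.map_commutator]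
    rintro _ ⟨y, hy, rfl⟩
    show π c * π y = π y * π c
    rw [← map_mul, ← map_mul]
    exact congrArg π (Subtype.ext (h2 y (hcomm ▸ Subgroup.mem_map_of_mem _ hy)).eq)

/-- A noncyclic abelian `r`-group contains such a group of exponent `r`. -/
theorem exists_omega {r : ℕ} [Fact r.Prime] (hR : IsPGroup r R) (hab : IsMulCommutative R)
    (hnc : ¬ IsCyclic R) : ∃ A ≤ R, (∀ a ∈ A, a ^ r = 1) ∧ ¬ IsCyclic A := by
  let A : Subgroup X :=
    { carrier := {x | x ∈ R ∧ x ^ r = 1}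
      one_mem' := ⟨one_mem R, one_pow r⟩
      mul_mem' := fun {a b} ha hb => ⟨mul_mem ha.1 hb.1, by
        rw [(show Commute a b from congrArg (fun z : R => (z : X))
          (mul_comm' (⟨a, ha.1⟩ : R) ⟨b, hb.1⟩)).mul_pow, ha.2, hb.2, one_mul]⟩
      inv_mem' := fun {a} ha => ⟨inv_mem ha.1, by rw [inv_pow, ha.2, inv_one]⟩ }
  refine ⟨A, fun x hx => hx.1, fun x hx => hx.2, fun hc => hnc ?_⟩
  letI : CommGroup R := { (inferInstance : Group R) with mul_comm := fun x y => mul_comm' x y }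
  refine Fus.isCyclic_of_unique_order_prime (q := r) hR fun a b ha hb ha1 => ?_
  obtain ⟨g, hg⟩ := hc
  have hord : orderOf (a : X) = r := orderOf_eq_prime (congrArg Subtype.val ha) fun e => ha1 (Subtype.ext e)
  have hle : Nat.card A ≤ r := by
    rw [← orderOf_eq_card_of_forall_mem_zpowers hg]
    exact Nat.le_of_dvd (Fact.out : r.Prime).pos (orderOf_dvd_of_pow_eq_one (Subtype.ext g.2.2))
  have hzA : Subgroup.zpowers (a : X) ≤ A := Subgroup.zpowers_le.2 ⟨a.2, congrArg Subtype.val ha⟩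
  have he := Subgroup.eq_of_le_of_card_ge hzA (by rw [Nat.card_zpowers, hord]; exact hle)
  obtain ⟨j, hj⟩ := Subgroup.mem_zpowers_iff.1
    (he.ge ⟨b.2, congrArg Subtype.val hb⟩ : (b : X) ∈ Subgroup.zpowers (a : X))
  exact Subgroup.mem_zpowers_iff.2 ⟨j, Subtype.ext hj⟩

end Cfsg.Agent.Spor.Flavell.Layers
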