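import Cfsg.Agent.Lib.Spor.FourGenData

/-! Kernel checks of the tables of `FourGenData`. -/

set_option autoImplicit false
set_option maxRecDepth 100000

namespace Cfsg.Agent.Spor.FourGen

open Cfsg.Agent.Spor.Coset

theorem check2 : c2.check = true := by decide +kernel

theorem check3 : c3.check = true := by decide +kernel

theorem check4 : c4.check = true := by decide +kernel

theorem action_rels :
    ((relsOf pairs).all fun w => (List.range c4.N).all fun a =>
      (w.foldr (fun s x => c4.tgt x s) a) == a) = true := by
  decide +kernel

theorem action_basic :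
    ((List.range c4.N).all fun a => (List.range 4).all fun s =>
      decide (c4.tgt a s < c4.N) && (c4.tgt (c4.tgt a s) s == a)) = true := by
  decide +kernel

theorem action_tree :
    ((List.range c4.N).all fun b => b == 0 ||
      (decide (c4.par b / 4 < b) && (c4.tgt (c4.par b / 4) (c4.par b % 4) == b))) = true := by
  decide +kernel

theorem action_k :
    ((kWords.map fun w => w.foldr (fun s x => c4.tgt x s) 1).Nodup ∧
      (kWords.all fun w => w.foldr (fun s x => c4.tgt x s) 0 == 0) = true ∧
      (kWords.all fun w => w.all fun s => decide (s < 4)) = true ∧ kWords.length = 54) := by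
  decide +kernel

theorem pairs_lt :
    (pairs.all fun p => (p.1 ++ p.2).all fun s => decide (s < 4)) = true := by
  decide +kernel

theorem pairs_sub :
    (∀ w ∈ c4.rels, w ∈ relsOf pairs) ∧ (∀ w ∈ c3.rels, w ∈ relsOf pairs) ∧
      (∀ w ∈ c2.rels, w ∈ relsOf pairs) ∧
      (c4.rels.all fun w => w.all fun s => decide (s < 4)) = true ∧
      (c3.rels.all fun w => w.all fun s => decide (s < 3)) = true ∧
      (c2.rels.all fun w => w.all fun s => decide (s < 2)) = true := by
  decide +kernel

theorem pairs_shape :
    (pairs.all fun p => [p.1, p.2].all fun w =>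
      (w.length == 1) || (w.length == 3 && (w.getD 0 9 == w.getD 2 9))) = true := by
  decide +kernel

end Cfsg.Agent.Spor.FourGen
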