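import Cfsg.Agent.Lib.Spor.AffinePlaneThree
import Cfsg.Agent.Lib.Spor.SteinerTables
import Cfsg.Agent.Lib.Spor.SteinerAut
import Cfsg.Agent.Lib.Spor.SharpSimple

/-! The system S(5,6,12): every five ordered points extend uniquely to coordinates. -/

set_option autoImplicit false
set_option maxRecDepth 100000
set_option maxHeartbeats 1600000

namespace Cfsg.Agent.Spor.S612

open Finset Cfsg AG3

/-- Three points outside an affine plane of order three. -/
abbrev Pt := Fin 3 ⊕ Fin 9

/-- The two kinds of blocks with at least two points outside the plane. -/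
def Upper (s : Finset Pt) : Prop :=
  (∃ l ∈ lines, s = univ.disjSum l) ∨ ∃ i, s = (univ.erase (col i)).disjSum (arc i)

/-- The standard blocks. -/
def Std (s : Finset Pt) : Prop := Upper s ∨ Upper sᶜ

theorem arc_inj : ∀ i j : Fin 54, arc i = arc j → i = j := by decide +kernel

theorem base_meet : (arc 0 ∩ arc 1).card = 3 ∧ (arc 0 ∩ arc 2).card = 3 ∧ (arc 1 ∩ arc 2).card = 3 := by
  decide +kernel

theorem exists_arc {m : Finset (Fin 9)} (hm : m.card = 4) (h : ∀ l ∈ lines, ¬ l ⊆ m) : ∃ i, arc i = m := by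
  set f := m.orderEmbOfFin hm with hf
  have hm' : m = {f 0, f 1, f 2, f 3} := by
    rw [← image_orderEmbOfFin_univ m hm, show (univ : Finset (Fin 4)) = {0, 1, 2, 3} by decide]
    simp only [image_insert, image_singleton, ← hf]
  have := arc_complete (f 0) (f 1) (f 2) (f 3) (f.strictMono (by decide)) (f.strictMono (by decide))
    (f.strictMono (by decide)) (hm' ▸ h)
  rw [← hm', isArc, List.any_eq_true] at this
  obtain ⟨i, -, hi⟩ := this
  exact ⟨i, by simpa using hi⟩

theorem left_part (a : Finset (Fin 3)) (m : Finset (Fin 9)) :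
    (a.disjSum m)ᶜ = aᶜ.disjSum mᶜ := by ext (j | p) <;> simp

theorem std_three {m : Finset (Fin 9)} (h : Std (univ.disjSum m)) : m ∈ lines := by
  rcases h with (⟨l, hl, e⟩ | ⟨i, e⟩) | (⟨l, hl, e⟩ | ⟨i, e⟩)
  · rw [show m = l from by ext p; simpa using congrArg (Sum.inr p ∈ ·) e]; exact hl
  · simpa using congrArg (Sum.inl (col i) ∈ ·) e
  · simpa [left_part] using congrArg (Sum.inl (0 : Fin 3) ∈ ·) e
  · exfalso
    obtain ⟨j, hj⟩ : ∃ j : Fin 3, j ≠ col i := exists_ne _
    simpa [left_part, hj] using congrArg (Sum.inl j ∈ ·) e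

theorem std_two {k : Fin 3} {m : Finset (Fin 9)} (h : Std ((univ.erase k).disjSum m)) :
    ∃ i, m = arc i ∧ col i = k := by
  rcases h with (⟨l, hl, e⟩ | ⟨i, e⟩) | (⟨l, hl, e⟩ | ⟨i, e⟩)
  · simpa using congrArg (Sum.inl k ∈ ·) e
  · exact ⟨i, by ext p; simpa using congrArg (Sum.inr p ∈ ·) e, by
      simpa using congrArg (Sum.inl (col i) ∈ ·) e⟩
  · exfalso
    obtain ⟨j, hj⟩ : ∃ j : Fin 3, j ≠ k := exists_ne _
    simpa [left_part, hj] using congrArg (Sum.inl j ∈ ·) e
  · exfalso
    obtain ⟨j, hj, hj'⟩ : ∃ j : Fin 3, j ≠ k ∧ j ≠ col i := (by decide : ∀ a b : Fin 3, ∃ j, j ≠ a ∧ j ≠ b) k (col i)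
    simpa [left_part, hj, hj'] using congrArg (Sum.inl j ∈ ·) e

theorem thr_map {τ : Fin 9 → Fin 9} (hinj : Function.Injective τ) (hl : ∀ l ∈ lines, l.image τ ∈ lines)
    {p q : Fin 9} (hpq : p ≠ q) : τ (thr p q) = thr (τ p) (τ q) := by
  obtain ⟨h1, h2, h3⟩ := thr_line _ (hl _ (line_thr p q hpq)) (τ p) (mem_image_of_mem _ (by simp))
    (τ q) (mem_image_of_mem _ (by simp)) fun e => hpq (hinj e)
  simp only [image_insert, image_singleton, mem_insert, mem_singleton] at h1
  rcases h1 with h | h | h
  · exact absurd h h2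
  · exact absurd h h3
  · exact h.symm

/-- Only the identity preserves the standard blocks and fixes five special points. -/
theorem rigid (σ : Equiv.Perm Pt) (hσ : ∀ s, Std s → Std (s.image σ)) (hl : ∀ j, σ (Sum.inl j) = Sum.inl j)
    (h0 : σ (Sum.inr 0) = Sum.inr 0) (h1 : σ (Sum.inr 1) = Sum.inr 1) : σ = 1 := by
  have hr : ∀ p, ∃ q, σ (Sum.inr p) = Sum.inr q := fun p => by
    cases h : σ (Sum.inr p) with
    | inl j => exact absurd (σ.injective (h.trans (hl j).symm)) (by simp)
    | inr q => exact ⟨q, rfl⟩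
  choose τ hτ using hr
  have hinj : Function.Injective τ := fun p q e => Sum.inr_injective (σ.injective (by rw [hτ, hτ, e]))
  have t0 : τ 0 = 0 := Sum.inr_injective ((hτ 0).symm.trans h0)
  have t1 : τ 1 = 1 := Sum.inr_injective ((hτ 1).symm.trans h1)
  have himg : ∀ a m, (Finset.disjSum a m).image σ = a.disjSum (m.image τ) := fun a m => by
    ext (j | p)
    · simp only [mem_image, inl_mem_disjSum]
      refine ⟨?_, fun h => ⟨_, inl_mem_disjSum.mpr h, hl j⟩⟩
      rintro ⟨(x | x), hx, e⟩
      · rw [hl] at e; rw [← Sum.inl_injective e]; simpa using hx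
      · rw [hτ] at e; simp at e
    · simp only [mem_image, inr_mem_disjSum]
      refine ⟨?_, fun ⟨q, hq, e⟩ => ⟨_, inr_mem_disjSum.mpr hq, by rw [hτ, e]⟩⟩
      rintro ⟨(x | x), hx, e⟩
      · rw [hl] at e; simp at e
      · rw [hτ] at e; exact ⟨x, by simpa using hx, Sum.inr_injective e⟩
  have hlines : ∀ l ∈ lines, l.image τ ∈ lines := fun l h => by
    have := hσ _ (Or.inl (Or.inl ⟨l, h, rfl⟩))
    rw [himg] at this
    exact std_three this
  have t2 : τ 2 = 2 := by
    have := thr_map hinj hlines (show (0 : Fin 9) ≠ 1 by decide)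
    rwa [t0, t1, thr_facts.1] at this
  obtain ⟨k, hk⟩ := maps_cover (τ 3) (fun e => absurd (hinj (e.trans t0.symm)) (by decide))
    (fun e => absurd (hinj (e.trans t1.symm)) (by decide)) (fun e => absurd (hinj (e.trans t2.symm)) (by decide))
  obtain ⟨m0, m1, minj, mlines⟩ := map_facts k
  obtain ⟨f01, f03, f13, f16, f23, f26⟩ := thr_facts
  have step : ∀ p q r, p ≠ q → thr p q = r → τ p = mapFun k p → τ q = mapFun k q → τ r = mapFun k r := by
    rintro p q r hpq rfl ep eq
    rw [thr_map hinj hlines hpq, thr_map minj mlines hpq, ep, eq]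
  have e0 : τ 0 = mapFun k 0 := t0.trans m0.symm
  have e1 : τ 1 = mapFun k 1 := t1.trans m1.symm
  have e3 : τ 3 = mapFun k 3 := hk.symm
  have e2 := step 0 1 2 (by decide) f01 e0 e1
  have e6 := step 0 3 6 (by decide) f03 e0 e3
  have e8 := step 1 3 8 (by decide) f13 e1 e3
  have e5 := step 1 6 5 (by decide) f16 e1 e6
  have e7 := step 2 3 7 (by decide) f23 e2 e3
  have e4 := step 2 6 4 (by decide) f26 e2 e6
  have hτk : τ = mapFun k := funext fun p => by
    fin_cases p <;> assumption
  have hk0 : k = 0 := map_colour k fun i j e => by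
    have := hσ _ (Or.inl (Or.inr ⟨i, rfl⟩))
    rw [himg, hτk, e] at this
    obtain ⟨i', hi', hc⟩ := std_two this
    rw [arc_inj _ _ hi', hc]
  ext (j | p)
  · exact hl j
  · rw [hτ, hτk, hk0, map_zero]; rfl

variable {α : Type*} [Fintype α] [DecidableEq α] {B : Set (Finset α)}

/-- Coordinates for a system. -/
def Frame (B : Set (Finset α)) (e : Pt ≃ α) : Prop := ∀ s, Std s ↔ s.image e ∈ B

theorem compl_mem (hα : Fintype.card α = 12) (hB : IsSteinerSystem 5 6 B) {b : Finset α} (hb : b ∈ B) : bᶜ ∈ B := by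
  obtain ⟨h0, -⟩ := Steiner.table612 hα hB hb
  obtain ⟨c, hc⟩ := card_eq_one.mp h0
  have hm' := mem_filter.mp (hc.symm ▸ mem_singleton_self c : c ∈ (Steiner.blocks B).filter fun d => #(d ∩ b) = 0)
  have hm : c ∈ B ∧ #(c ∩ b) = 0 := ⟨Steiner.mem_blocks.mp hm'.1, hm'.2⟩
  have : c = bᶜ := eq_of_subset_of_card_le (fun z hz => mem_compl.mpr fun hzb => by
    simpa [card_eq_zero.mp hm.2] using mem_inter.mpr ⟨hz, hzb⟩) (by rw [card_compl, hα, hB.1 b hb, hB.1 c hm.1])
  exact this ▸ hm.1

theorem image_disjSum {x : Fin 3 → α} {c : Fin 9 → α} (a : Finset (Fin 3)) (m : Finset (Fin 9)) :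
    (a.disjSum m).image (Sum.elim x c) = a.image x ∪ m.image c := by
  ext z; simp [Finset.mem_disjSum, or_and_right, exists_or]

/-- Every five ordered points extend to coordinates. -/
theorem exists_frame (hα : Fintype.card α = 12) (hB : IsSteinerSystem 5 6 B) {x : Fin 3 → α}
    (hx : Function.Injective x) {u v : α} (hu : ∀ j, x j ≠ u) (hv : ∀ j, x j ≠ v) (huv : u ≠ v) :
    ∃ e : Pt ≃ α, (∀ j, e (Sum.inl j) = x j) ∧ e (Sum.inr 0) = u ∧ e (Sum.inr 1) = v ∧ Frame B e := by
  classical
  set T := univ.image x with hT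
  set P := Tᶜ with hP
  have hTc : #T = 3 := by rw [card_image_of_injective _ hx]; rfl
  have hPT : ∀ {m : Finset α}, m ⊆ P → Disjoint m T := fun hm =>
    Disjoint.mono_left hm (disjoint_compl_left)
  have pd : ∀ {m : Finset α}, m ⊆ P → (m ∪ T) \ T = m := fun hm => by
    rw [union_sdiff_right]; exact sdiff_eq_self_of_disjoint (hPT hm)
  let Ln : Finset α → Prop := fun l => l ⊆ P ∧ #l = 3 ∧ l ∪ T ∈ B
  have N : Nine P Ln := by
    refine ⟨by rw [hP, card_compl, hTc, hα], fun l h => ⟨h.1, h.2.1⟩, fun p hp q hq hpq => ?_, ?_⟩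
    · have hsub : ({p, q} : Finset α) ⊆ P := by simp [insert_subset_iff, hp, hq]
      obtain ⟨b, ⟨hb, hs⟩, -⟩ := hB.2 ({p, q} ∪ T) (by rw [card_union_of_disjoint (hPT hsub), card_pair hpq, hTc])
      have hTb : T ⊆ b := subset_union_right.trans hs
      exact ⟨b \ T, ⟨fun z hz => mem_compl.mpr (mem_sdiff.mp hz).2, by rw [card_sdiff_of_subset hTb, hB.1 b hb, hTc],
        by rwa [sdiff_union_of_subset hTb]⟩, mem_sdiff.mpr ⟨hs (by simp), mem_compl.mp hp⟩,
        mem_sdiff.mpr ⟨hs (by simp), mem_compl.mp hq⟩⟩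
    · rintro l m p q ⟨lP, -, lB⟩ ⟨mP, -, mB⟩ hpq pl ql pm qm
      have hsub : ({p, q} : Finset α) ⊆ P := by simp [insert_subset_iff, lP pl, lP ql]
      rw [← pd lP, ← pd mP, Steiner.eq_of_common hB lB mB (s := {p, q} ∪ T)
        (union_subset_union (by simp [insert_subset_iff, pl, ql]) Subset.rfl)
        (union_subset_union (by simp [insert_subset_iff, pm, qm]) Subset.rfl)
        (by rw [card_union_of_disjoint (hPT hsub), card_pair hpq, hTc])]
  have huP : u ∈ P := by simpa [hP, hT] using hu
  have hvP : v ∈ P := by simpa [hP, hT] using hv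
  obtain ⟨r, -, -, -, hr⟩ := exists_third N huP hvP huv
  obtain ⟨w, hwP, hw⟩ : ∃ w ∈ P, w ∉ ({u, v, r} : Finset α) :=
    exists_mem_notMem_of_card_lt_card (card_le_three.trans_lt (by rw [N.card]; norm_num))
  simp only [mem_insert, mem_singleton, not_or] at hw
  obtain ⟨c, hc, hcP, c0, c1, -, cl, cl'⟩ := coords N huP hvP hwP huv (Ne.symm hw.1) (Ne.symm hw.2.1)
    fun h => by
      have := N.uniq _ _ u v h hr huv (by simp) (by simp) (by simp) (by simp)
      have : w ∈ ({u, v, r} : Finset α) := this ▸ (by simp)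
      simp [hw] at this
  have cP : ∀ (m : Finset (Fin 9)), m.image c ⊆ P := fun m => hcP ▸ image_subset_image (subset_univ m)
  have xT : ∀ a : Finset (Fin 3), a.image x ⊆ T := fun a => image_subset_image (subset_univ a)
  -- the block of two outer points and a set in the plane
  let S : Fin 3 → Finset (Fin 9) → Finset α := fun k m => (univ.erase k).image x ∪ m.image c
  have Scard : ∀ k m, #(S k m) = 2 + #m := fun k m => by
    rw [card_union_of_disjoint ((hPT (cP m)).symm.mono_left (xT _)), card_image_of_injective _ hx,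
      card_image_of_injective _ hc, card_erase_of_mem (mem_univ _)]; rfl
  have Sx : ∀ k m j, x j ∈ S k m ↔ j ≠ k := fun k m j => by
    have : x j ∉ m.image c := fun h => mem_compl.mp (cP m h) (mem_image_of_mem _ (mem_univ _))
    simp [S, hx.eq_iff, this]
  have Sc : ∀ k m p, c p ∈ S k m ↔ p ∈ m := fun k m p => by
    have : c p ∉ (univ.erase k).image x := fun h =>
      mem_compl.mp (cP {p} (by simp)) (xT _ h)
    simp only [S, mem_union, this, false_or, hc.mem_finset_image]
  have Sinj : ∀ k k' m m', S k m = S k' m' → k = k' ∧ m = m' := by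
    intro k k' m m' h
    refine ⟨?_, ?_⟩
    · by_contra hne
      exact ((Sx k m k).not.mpr (by simp)) (h ▸ (Sx k' m' k).mpr hne)
    · ext p; rw [← Sc k m, h, Sc]
  have Sline : ∀ k m, ∀ l ∈ lines, l ⊆ m → S k m ∉ B := by
    intro k m l hl hlm hb
    have := Steiner.eq_of_common hB hb (cl l hl).2.2 (s := S k l)
      (union_subset_union Subset.rfl (image_subset_image hlm))
      (union_subset ((xT _).trans subset_union_right) subset_union_left) (by rw [Scard, line_card l hl])
    exact ((Sx k m k).not.mpr (by simp)) (this ▸ mem_union_right _ (mem_image_of_mem _ (mem_univ _)))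
  have hex : ∀ i, ∃ k, S k (arc i) ∈ B := by
    intro i
    obtain ⟨a, b, d, h3, hsub, hle⟩ := over_triangle i
    set R : Finset (Fin 9) := {a, b, d} with hR
    have hq : ∀ k, ∃ q, q ∉ R ∧ S k (insert q R) ∈ B := by
      intro k
      obtain ⟨bl, ⟨hbl, hs⟩, -⟩ := hB.2 (S k R) (by rw [Scard, h3])
      obtain ⟨z, hz, hzn⟩ : ∃ z ∈ bl, z ∉ S k R :=
        exists_mem_notMem_of_card_lt_card (by rw [Scard, h3, hB.1 bl hbl]; norm_num)
      have hins : insert z (S k R) = bl := eq_of_subset_of_card_le (insert_subset hz hs)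
        (by rw [card_insert_of_notMem hzn, Scard, h3, hB.1 bl hbl])
      by_cases hzT : z ∈ T
      · exfalso
        obtain ⟨j, -, rfl⟩ := mem_image.mp hzT
        obtain rfl : j = k := not_not.mp ((Sx k R j).not.mp hzn)
        have hLn : Ln (R.image c) := by
          refine ⟨cP R, by rw [card_image_of_injective _ hc, h3], ?_⟩
          rw [← hins] at hbl
          convert hbl using 1
          simp only [S, hT]
          rw [← insert_union, ← image_insert, insert_erase (mem_univ _), union_comm]
        obtain ⟨l, hl, e⟩ := cl' _ hLn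
        exact arc_free i l hl (by rw [image_injective hc e]; exact hsub)
      · obtain ⟨q, -, rfl⟩ := mem_image.mp (hcP.symm ▸ mem_compl.mpr hzT : z ∈ univ.image c)
        refine ⟨q, fun h => hzn ((Sc k R q).mpr h), ?_⟩
        convert hbl using 1
        rw [← hins]
        simp only [S, image_insert, union_insert]
    choose q hq hqB using hq
    let C := univ.filter fun p => p ∉ R ∧ isArc (insert p R) = true
    have hqC : ∀ k, q k ∈ C := fun k => mem_filter.mpr ⟨mem_univ _, hq k, by
      obtain ⟨j, hj⟩ := exists_arc (m := insert (q k) R) (by rw [card_insert_of_notMem (hq k), h3])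
        fun l hl hsub' => Sline k _ l hl hsub' (hqB k)
      rw [isArc, List.any_eq_true]
      exact ⟨j, List.mem_finRange j, by simpa using hj⟩⟩
    have qinj : Function.Injective q := by
      intro k k' e
      by_contra hne
      obtain ⟨j, hj, hj'⟩ := (by decide : ∀ a b : Fin 3, ∃ j, j ≠ a ∧ j ≠ b) k k'
      have h4 : #(insert (x j) ((insert (q k) R).image c)) = 5 := by
        rw [card_insert_of_notMem, card_image_of_injective _ hc, card_insert_of_notMem (hq k), h3]
        exact fun h => mem_compl.mp (cP _ h) (mem_image_of_mem _ (mem_univ _))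
      exact hne (Sinj _ _ _ _ (Steiner.eq_of_common hB (hqB k) (hqB k') (s := insert (x j) ((insert (q k) R).image c))
        (insert_subset ((Sx _ _ _).mpr hj) subset_union_right)
        (insert_subset ((Sx _ _ _).mpr hj') (e ▸ subset_union_right)) h4.ge)).1
    have himg : univ.image q = C := eq_of_subset_of_card_le (fun z hz => by
      obtain ⟨k, -, rfl⟩ := mem_image.mp hz; exact hqC k) (by rw [card_image_of_injective _ qinj]; exact hle)
    obtain ⟨q0, hq0, hq0R⟩ : ∃ q0 ∈ arc i, q0 ∉ R :=
      exists_mem_notMem_of_card_lt_card (by rw [h3, arc_card]; norm_num)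
    have hins : insert q0 R = arc i := eq_of_subset_of_card_le (insert_subset hq0 hsub)
      (by rw [card_insert_of_notMem hq0R, h3, arc_card])
    have : q0 ∈ C := mem_filter.mpr ⟨mem_univ _, hq0R, by
      rw [isArc, List.any_eq_true]; exact ⟨i, List.mem_finRange i, by simpa using hins.symm⟩⟩
    obtain ⟨k, -, rfl⟩ := mem_image.mp (himg ▸ this)
    exact ⟨k, hins ▸ hqB k⟩
  choose f hf using hex
  have proper : ∀ i j, #(arc i ∩ arc j) = 3 → f i ≠ f j := by
    intro i j hij e
    have := Steiner.eq_of_common hB (hf i) (hf j) (s := S (f i) (arc i ∩ arc j))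
      (union_subset_union Subset.rfl (image_subset_image inter_subset_left))
      (e ▸ union_subset_union Subset.rfl (image_subset_image inter_subset_right)) (by rw [Scard, hij])
    rw [(Sinj _ _ _ _ this).2, inter_self, arc_card] at hij
    omega
  have d01 := proper 0 1 base_meet.1
  have d02 := proper 0 2 base_meet.2.1
  have d12 := proper 1 2 base_meet.2.2
  have πinj : Function.Injective ![f 0, f 1, f 2] := by
    intro a b h
    fin_cases a <;> fin_cases b <;>
      first
      | rfl
      | exact absurd h d01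
      | exact absurd h d02
      | exact absurd h d12
      | exact absurd h.symm d01
      | exact absurd h.symm d02
      | exact absurd h.symm d12
  let π : Equiv.Perm (Fin 3) := Equiv.ofBijective _ (Finite.injective_iff_bijective.mp πinj)
  have hπ : ∀ i, f i = π (col i) := forced f π π.injective proper
    (by rw [base_col.1]; rfl) (by rw [base_col.2.1]; rfl) (by rw [base_col.2.2]; rfl)
  obtain ⟨k, hk⟩ := maps_realise π
  obtain ⟨m0, m1, minj, mlines⟩ := map_facts k
  let g : Fin 3 ⊕ Fin 9 → α := Sum.elim x (c ∘ mapFun k)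
  have ginj : Function.Injective g := hx.sumElim (hc.comp minj) fun j p h =>
    mem_compl.mp (cP {mapFun k p} (mem_image_of_mem c (mem_singleton_self _)))
      (mem_image.mpr ⟨j, mem_univ j, h⟩)
  let e : Pt ≃ α := Equiv.ofBijective g ((Fintype.bijective_iff_injective_and_card g).mpr ⟨ginj, by simp [hα]⟩)
  have eimg : ∀ a m, (Finset.disjSum a m).image e = a.image x ∪ (m.image (mapFun k)).image c := fun a m => by
    rw [image_image]; exact image_disjSum a m
  have eS : ∀ kk m, ((univ.erase kk).disjSum m).image e = S kk (m.image (mapFun k)) := fun kk m => eimg _ m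
  have up : ∀ s, Upper s → s.image e ∈ B := by
    rintro s (⟨l, hl, rfl⟩ | ⟨i, rfl⟩)
    · rw [eimg, union_comm, ← hT]; exact (cl _ (mlines l hl)).2.2
    · obtain ⟨j, hj⟩ := map_arc k i
      rw [eS, hj, ← hk i j hj, ← hπ]
      exact hf j
  have big : ∀ a m, 2 ≤ #a → (Finset.disjSum a m).image e ∈ B → Upper (a.disjSum m) := by
    intro a m ha hb
    have hsum : #a + #m = 6 := by
      rw [← card_disjSum, ← card_image_of_injective _ e.injective]; exact hB.1 _ hb
    have hle : #a ≤ 3 := card_le_univ a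
    rcases (show #a = 3 ∨ #a = 2 by omega) with h3 | h2
    · obtain rfl : a = univ := eq_univ_of_card a h3
      obtain ⟨p, hp, q, hq, hpq⟩ := one_lt_card.mp (show 1 < #m by omega)
      have hl := line_thr p q hpq
      have hl3 : #({p, q, thr p q} : Finset (Fin 9)) = 3 := line_card _ hl
      have := Steiner.eq_of_common hB hb (up _ (Or.inl ⟨_, hl, rfl⟩))
        (s := (univ.disjSum {p, q}).image e)
        (image_subset_image (disjSum_mono Subset.rfl (by simp [insert_subset_iff, hp, hq])))
        (image_subset_image (disjSum_mono Subset.rfl (by simp [insert_subset_iff])))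
        (by rw [card_image_of_injective _ e.injective, card_disjSum, card_pair hpq]; rfl)
      exact Or.inl ⟨_, hl, image_injective e.injective this⟩
    · obtain ⟨kk, hkk⟩ := card_eq_one.mp (show #aᶜ = 1 by rw [card_compl, h2]; rfl)
      obtain rfl : a = univ.erase kk := by rw [← compl_compl a, hkk]; ext; simp
      obtain ⟨i, hi⟩ := exists_arc (m := m) (by omega) fun l hl hlm => by
        rw [eS] at hb
        exact Sline kk _ _ (mlines l hl) (image_subset_image hlm) hb
      subst hi
      refine Or.inr ⟨i, ?_⟩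
      suffices kk = col i by rw [this]
      obtain ⟨j, hj⟩ := map_arc k i
      rw [eS, hj] at hb
      rw [← hk i j hj, ← hπ]
      by_contra hne
      obtain ⟨t, ht, ht'⟩ := (by decide : ∀ a b : Fin 3, ∃ j, j ≠ a ∧ j ≠ b) kk (f j)
      exact hne (Sinj _ _ _ _ (Steiner.eq_of_common hB hb (hf j) (s := insert (x t) ((arc j).image c))
        (insert_subset ((Sx _ _ _).mpr ht) subset_union_right)
        (insert_subset ((Sx _ _ _).mpr ht') subset_union_right) (by
          rw [card_insert_of_notMem (fun h => mem_compl.mp (cP _ h) (mem_image_of_mem _ (mem_univ _))),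
            card_image_of_injective _ hc, arc_card]))).1
  have himc : ∀ s : Finset Pt, sᶜ.image e = (s.image e)ᶜ := fun s => by ext z; obtain ⟨t, rfl⟩ := e.surjective z; simp
  refine ⟨e, fun j => rfl, ?_, ?_, fun s => ⟨?_, fun hs => ?_⟩⟩
  · show c (mapFun k 0) = u; rw [m0, c0]
  · show c (mapFun k 1) = v; rw [m1, c1]
  · rintro (h | h)
    · exact up s h
    · have := compl_mem hα hB (up _ h)
      rwa [himc, compl_compl] at this
  · rw [← toLeft_disjSum_toRight (u := s)] at hs ⊢
    by_cases h2 : 2 ≤ #s.toLeft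
    · exact Or.inl (big _ _ h2 hs)
    · refine Or.inr ?_
      have hc' := compl_mem hα hB hs
      rw [← himc, left_part] at hc'
      rw [left_part]
      exact big _ _ (by rw [card_compl]; simp only [Fintype.card_fin]; omega) hc'

/-- A change of coordinates is an isomorphism. -/
theorem frame_iff {β : Type*} [DecidableEq β] {B' : Set (Finset β)} {e : Pt ≃ α} (he : Frame B e) {e' : Pt ≃ β}
    (he' : ∀ s, Std s ↔ s.image e' ∈ B') (b : Finset α) : b.image (e.symm.trans e') ∈ B' ↔ b ∈ B := by
  rw [Equiv.coe_trans, ← image_image, ← he', he, image_image, Equiv.self_comp_symm, image_id]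

theorem five_split (y : Fin 5 ↪ α) (hα : Fintype.card α = 12) (hB : IsSteinerSystem 5 6 B) :
    ∃ e : Pt ≃ α, Frame B e ∧ e (Sum.inl 0) = y 0 ∧ e (Sum.inl 1) = y 1 ∧ e (Sum.inl 2) = y 2 ∧
      e (Sum.inr 0) = y 3 ∧ e (Sum.inr 1) = y 4 := by
  obtain ⟨e, he, e0, e1, hF⟩ := exists_frame hα hB (x := fun j : Fin 3 => y (j.castLE (by norm_num)))
    (fun i j h => Fin.castLE_injective _ (y.injective h)) (u := y 3) (v := y 4)
    (fun j h => by have := congrArg Fin.val (y.injective h); simp at this; omega)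
    (fun j h => by have := congrArg Fin.val (y.injective h); simp at this; omega)
    (fun h => absurd (y.injective h) (by decide))
  exact ⟨e, hF, he 0, he 1, he 2, e0, e1⟩

/-- The automorphism group is sharply five-transitive. -/
theorem sharp (hα : Fintype.card α = 12) (hB : IsSteinerSystem 5 6 B) : Sharp.Is (setSystemAut B) 5 := by
  constructor
  · intro y z
    obtain ⟨e, he, a0, a1, a2, a3, a4⟩ := five_split y hα hB
    obtain ⟨e', he', b0, b1, b2, b3, b4⟩ := five_split z hα hB
    refine ⟨e.symm.trans e', SteinerAut.mem_aut.mpr (frame_iff he he'), fun i => ?_⟩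
    fin_cases i <;> simp only [Fin.isValue] <;> rw [Equiv.trans_apply]
    · show e' (e.symm (y 0)) = z 0; rw [← a0, Equiv.symm_apply_apply, b0]
    · show e' (e.symm (y 1)) = z 1; rw [← a1, Equiv.symm_apply_apply, b1]
    · show e' (e.symm (y 2)) = z 2; rw [← a2, Equiv.symm_apply_apply, b2]
    · show e' (e.symm (y 3)) = z 3; rw [← a3, Equiv.symm_apply_apply, b3]
    · show e' (e.symm (y 4)) = z 4; rw [← a4, Equiv.symm_apply_apply, b4]
  · intro g hg y hy
    obtain ⟨e, he, a0, a1, a2, a3, a4⟩ := five_split y hα hB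
    have h1 : e.symm.permCongr g = 1 := by
      refine rigid _ (fun s hs => ?_) (fun j => ?_) ?_ ?_
      · rw [he] at hs ⊢
        rw [image_image, show ⇑e ∘ ⇑(e.symm.permCongr g) = ⇑g ∘ ⇑e from funext fun x => by simp [Equiv.permCongr_apply],
          ← image_image]
        exact (SteinerAut.mem_aut.mp hg _).mpr hs
      · fin_cases j <;> simp [Equiv.permCongr_apply, a0, a1, a2, hy, Equiv.symm_apply_eq]
      · simp [Equiv.permCongr_apply, a3, hy, Equiv.symm_apply_eq]
      · simp [Equiv.permCongr_apply, a4, hy, Equiv.symm_apply_eq]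
    refine Equiv.ext fun a => ?_
    have := DFunLike.congr_fun h1 (e.symm a)
    simpa [Equiv.permCongr_apply] using this

/-- Uniqueness. -/
theorem iso {β : Type*} [Fintype β] [DecidableEq β] {B' : Set (Finset β)} (hα : Fintype.card α = 12)
    (hB : IsSteinerSystem 5 6 B) (hβ : Fintype.card β = 12) (hB' : IsSteinerSystem 5 6 B') :
    ∃ e : α ≃ β, ∀ b : Finset α, b.image e ∈ B' ↔ b ∈ B := by
  obtain ⟨y⟩ : Nonempty (Fin 5 ↪ α) := Function.Embedding.nonempty_of_card_le (by simp [hα])
  obtain ⟨z⟩ : Nonempty (Fin 5 ↪ β) := Function.Embedding.nonempty_of_card_le (by simp [hβ])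
  obtain ⟨e, he, -⟩ := five_split y hα hB
  obtain ⟨e', he', -⟩ := five_split z hβ hB'
  exact ⟨e.symm.trans e', frame_iff he he'⟩

theorem setIso {β : Type*} [DecidableEq β] {B' : Set (Finset β)} {B : Set (Finset α)} (e : α ≃ β)
    (h : ∀ b : Finset α, b.image e ∈ B' ↔ b ∈ B) : SetSystemIso B B' := by
  refine ⟨e, Set.ext fun c => ⟨?_, fun hc => ⟨c.image e.symm, ?_, ?_⟩⟩⟩
  · rintro ⟨b, hb, rfl⟩; exact (h b).mpr hb
  · rwa [← h, image_image, Equiv.self_comp_symm, image_id]
  · show (c.image e.symm).image e = c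
    rw [image_image, Equiv.self_comp_symm, image_id]

theorem action {G : Subgroup (Equiv.Perm α)} {k : ℕ} (h : Sharp.Is G k) :
    MulAction.IsMultiplyPretransitive G α k ∧ ∀ x : Fin k ↪ α, MulAction.stabilizer G x = ⊥ := by
  refine ⟨⟨fun y z => ?_⟩, fun y => (Subgroup.eq_bot_iff_forall _).mpr fun g hg => ?_⟩
  · obtain ⟨g, hg, he⟩ := h.trans y z
    exact ⟨⟨g, hg⟩, Function.Embedding.ext he⟩
  · exact Subtype.ext (h.fix g g.2 y fun i => DFunLike.congr_fun (MulAction.mem_stabilizer_iff.mp hg) i)

end Cfsg.Agent.Spor.S612
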