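import Mathlib

/-!
Self-dual binary codes of length 24 with minimum weight 8: cosets, octads, doubly evenness.
-/

set_option autoImplicit false

namespace Cfsg.Agent.Spor.GolayAbstract

open Finset

/-- The ambient space. -/
abbrev F := Fin 24 → ZMod 2

/-- The support of a vector. -/
def supp (f : F) : Finset (Fin 24) := univ.filter fun i => f i ≠ 0

/-- The vector with a given support. -/
def ind (s : Finset (Fin 24)) : F := fun i => if i ∈ s then 1 else 0

theorem zcases : ∀ t : ZMod 2, t = 0 ∨ t = 1 := by decide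

theorem mem_supp {f : F} {i : Fin 24} : i ∈ supp f ↔ f i = 1 := by
  rcases zcases (f i) with h | h <;> simp [supp, h]

theorem supp_ind (s : Finset (Fin 24)) : supp (ind s) = s := by
  ext i; rw [mem_supp]; by_cases h : i ∈ s <;> simp [ind, h]

theorem ind_supp (f : F) : ind (supp f) = f := by
  funext i
  rcases zcases (f i) with h | h <;> simp [ind, mem_supp, h]

theorem norm_eq (f : F) : hammingNorm f = (supp f).card := rfl

theorem supp_sub (f g : F) : supp (f - g) = symmDiff (supp f) (supp g) := by
  ext i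
  rw [mem_symmDiff, mem_supp, mem_supp, mem_supp, Pi.sub_apply]
  rcases zcases (f i) with h | h <;> rcases zcases (g i) with h' | h' <;> rw [h, h'] <;> decide

theorem card_supp_sub (f g : F) :
    (supp (f - g)).card + 2 * (supp f ∩ supp g).card = (supp f).card + (supp g).card := by
  have h1 : supp (f - g) = (supp f ∪ supp g) \ (supp f ∩ supp g) := by
    rw [supp_sub, symmDiff_eq_sup_sdiff_inf]; rfl
  rw [h1, card_sdiff_of_subset (inter_subset_union), two_mul]
  have := card_union_add_card_inter (supp f) (supp g)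
  have := card_le_card (inter_subset_union (s := supp f) (t := supp g))
  omega

theorem dot_eq (f g : F) : ∑ i, f i * g i = ((supp f ∩ supp g).card : ZMod 2) := by
  have h : ∀ i, f i * g i = if i ∈ supp f ∩ supp g then 1 else 0 := by
    intro i
    rcases zcases (f i) with h | h <;> rcases zcases (g i) with h' | h' <;> simp [mem_supp, h, h']
  rw [Finset.sum_congr rfl fun i _ => h i, Finset.sum_boole, Finset.filter_univ_mem]

/-- The dot product as a bilinear form. -/
noncomputable def dotForm : LinearMap.BilinForm (ZMod 2) F := Matrix.toBilin' 1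

theorem dotForm_apply (v w : F) : dotForm v w = ∑ i, v i * w i := by
  rw [dotForm, Matrix.toBilin'_apply', Matrix.one_mulVec]; rfl

theorem eq_zero_of_supp_empty {f : F} (h : supp f = ∅) : f = 0 := by
  rw [← ind_supp f, h]; funext i; simp [ind]

variable {C : Submodule (ZMod 2) F}

/-- The standing hypotheses. -/
structure Hyp (C : Submodule (ZMod 2) F) : Prop where
  hdim : Module.finrank (ZMod 2) C = 12
  horth : ∀ v ∈ C, ∀ w ∈ C, ∑ i, v i * w i = 0
  hmin : ∀ w ∈ C, w ≠ 0 → 8 ≤ hammingNorm w

theorem Hyp.eq_of_small (h : Hyp C) {f g : F} (hfg : f - g ∈ C)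
    (hs : (supp f).card + (supp g).card < 8 + 2 * (supp f ∩ supp g).card) : f = g := by
  by_contra hne
  have h8 : 8 ≤ (supp (f - g)).card := h.hmin _ hfg (sub_ne_zero.mpr hne)
  have := card_supp_sub f g
  omega

theorem Hyp.even (h : Hyp C) {f : F} (hf : f ∈ C) : Even (supp f).card := by
  have := h.horth f hf f hf
  rw [dot_eq, Finset.inter_self, ZMod.natCast_eq_zero_iff_even] at this
  exact this

/-- The map from small sets to cosets. -/
def cls (C : Submodule (ZMod 2) F) (s : Finset (Fin 24)) : F ⧸ C := Submodule.Quotient.mk (ind s)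

theorem cls_eq_iff {s t : Finset (Fin 24)} : cls C s = cls C t ↔ ind s - ind t ∈ C :=
  Submodule.Quotient.eq C

theorem Hyp.cls_inj (h : Hyp C) {s t : Finset (Fin 24)} (hst : cls C s = cls C t)
    (hs : s.card + t.card < 8 + 2 * (s ∩ t).card) : s = t := by
  have := h.eq_of_small (cls_eq_iff.mp hst) (by rwa [supp_ind, supp_ind])
  rw [← supp_ind s, this, supp_ind]

theorem Hyp.card_quot (h : Hyp C) : Nat.card (F ⧸ C) = 4096 := by
  have h1 := Submodule.finrank_quotient_add_finrank C
  rw [h.hdim, Module.finrank_fin_fun] at h1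
  rw [Module.natCard_eq_pow_finrank (K := ZMod 2), Nat.card_zmod, show Module.finrank (ZMod 2) (F ⧸ C) = 12 by omega]
  norm_num

/-- The four-sets in one coset. -/
noncomputable def fours (C : Submodule (ZMod 2) F) (q : F ⧸ C) : Finset (Finset (Fin 24)) := by
  classical exact (powersetCard 4 univ).filter fun s => cls C s = q

theorem mem_fours {q : F ⧸ C} {s : Finset (Fin 24)} : s ∈ fours C q ↔ s.card = 4 ∧ cls C s = q := by
  classical
  simp [fours, mem_powersetCard]

theorem Hyp.fours_disjoint (h : Hyp C) {q : F ⧸ C} {s t : Finset (Fin 24)} (hs : s ∈ fours C q) (ht : t ∈ fours C q)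
    (hne : s ≠ t) : Disjoint s t := by
  rw [mem_fours] at hs ht
  by_contra hd
  refine hne (h.cls_inj (hs.2.trans ht.2.symm) ?_)
  have : 0 < (s ∩ t).card := card_pos.mpr (not_disjoint_iff_nonempty_inter.mp hd)
  omega

theorem Hyp.fours_le (h : Hyp C) (q : F ⧸ C) : (fours C q).card ≤ 6 := by
  classical
  have h1 : ((fours C q).biUnion id).card = (fours C q).card * 4 := by
    refine (card_biUnion (t := id) fun s hs t ht hne => h.fours_disjoint hs ht hne).trans ?_
    exact sum_const_nat fun s hs => (mem_fours.mp hs).1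
  have h2 := card_le_univ ((fours C q).biUnion id)
  rw [Fintype.card_fin] at h2
  omega

/-- Every coset has a representative of weight at most three, or exactly six of weight four. -/
theorem Hyp.coset_dichotomy (h : Hyp C) (q : F ⧸ C) :
    (∃ s : Finset (Fin 24), s.card ≤ 3 ∧ cls C s = q) ∨ (fours C q).card = 6 := by
  classical
  haveI : Fintype (F ⧸ C) := Fintype.ofFinite _
  let A : Finset (Finset (Fin 24)) := powersetCard 0 univ ∪ powersetCard 1 univ ∪ powersetCard 2 univ ∪ powersetCard 3 univ
  have hA : ∀ s : Finset (Fin 24), s ∈ A ↔ s.card ≤ 3 := fun s => by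
    simp only [A, mem_union, mem_powersetCard, subset_univ, true_and]; omega
  have hAcard : A.card = 2325 := by
    have hd : ∀ i j, i ≠ j → Disjoint (powersetCard i (univ : Finset (Fin 24))) (powersetCard j univ) := fun i j hij =>
      disjoint_left.mpr fun s h1 h2 => hij (((mem_powersetCard.mp h1).2).symm.trans (mem_powersetCard.mp h2).2)
    simp only [A]
    rw [card_union_of_disjoint, card_union_of_disjoint, card_union_of_disjoint]
    · simp only [card_powersetCard, card_univ, Fintype.card_fin]; decide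
    · exact hd 0 1 (by norm_num)
    · exact disjoint_union_left.mpr ⟨hd 0 2 (by norm_num), hd 1 2 (by norm_num)⟩
    · exact disjoint_union_left.mpr ⟨disjoint_union_left.mpr ⟨hd 0 3 (by norm_num), hd 1 3 (by norm_num)⟩, hd 2 3 (by norm_num)⟩
  set S := A.image (cls C) with hS
  have hScard : S.card = 2325 := by
    rw [card_image_of_injOn, hAcard]
    intro s hs t ht e
    rw [mem_coe, hA] at hs ht
    exact h.cls_inj e (by omega)
  by_cases hq : q ∈ S
  · obtain ⟨s, hs, rfl⟩ := mem_image.mp hq
    exact Or.inl ⟨s, (hA s).mp hs, rfl⟩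
  · right
    have hempty : ∀ r ∈ S, fours C r = ∅ := by
      intro r hr
      obtain ⟨s, hs, rfl⟩ := mem_image.mp hr
      refine eq_empty_of_forall_notMem fun t ht => ?_
      rw [mem_fours] at ht
      have e := h.cls_inj ht.2 (by have := (hA s).mp hs; omega)
      have := (hA s).mp hs
      rw [e] at ht; omega
    have hsum : ∑ r ∈ Sᶜ, (fours C r).card = 10626 := by
      have h1 : (powersetCard 4 (univ : Finset (Fin 24))).card = ∑ r, (fours C r).card := by
        rw [card_eq_sum_card_fiberwise (f := cls C) (t := univ) (fun _ _ => mem_univ _)]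
        exact sum_congr rfl fun r _ => by congr 1
      rw [← sum_add_sum_compl S, sum_eq_zero (fun r hr => by rw [hempty r hr, card_empty]), zero_add,
        card_powersetCard, card_univ, Fintype.card_fin] at h1
      rw [← h1]; decide
    have hc : (Sᶜ).card = 1771 := by
      rw [card_compl, hScard, ← Nat.card_eq_fintype_card, h.card_quot]
    have heq := (sum_eq_sum_iff_of_le (s := Sᶜ) (f := fun r => (fours C r).card) (g := fun _ => 6) fun r _ => h.fours_le r).mp
      (by rw [hsum, sum_const, hc, smul_eq_mul])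
    exact heq q (mem_compl.mpr hq)

/-- Some representative of weight at most four. -/
theorem Hyp.exists_small (h : Hyp C) (w : F) : ∃ u : F, u - w ∈ C ∧ (supp u).card ≤ 4 := by
  rcases h.coset_dichotomy (Submodule.Quotient.mk w) with ⟨s, hs, e⟩ | h6
  · exact ⟨ind s, (Submodule.Quotient.eq C).mp e, by rw [supp_ind]; omega⟩
  · obtain ⟨s, hs⟩ := card_pos.mp (show 0 < (fours C (Submodule.Quotient.mk w)).card by omega)
    obtain ⟨h4, e⟩ := mem_fours.mp hs
    exact ⟨ind s, (Submodule.Quotient.eq C).mp e, by rw [supp_ind, h4]⟩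

theorem Hyp.exists_octad (h : Hyp C) {s : Finset (Fin 24)} (hs : s.card = 5) :
    ∃ f ∈ C, (supp f).card = 8 ∧ s ⊆ supp f := by
  obtain ⟨u, hu, h4⟩ := h.exists_small (ind s)
  have hc := card_supp_sub u (ind s)
  rw [supp_ind, hs] at hc
  have he := h.even hu
  have hne : u - ind s ≠ 0 := fun e => by
    rw [sub_eq_zero] at e; rw [e, supp_ind, hs] at h4; omega
  have h8 : 8 ≤ (supp (u - ind s)).card := h.hmin _ hu hne
  rw [Nat.even_iff] at he
  refine ⟨_, hu, by omega, ?_⟩
  have hi : supp u ∩ s = ∅ := card_eq_zero.mp (by omega)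
  rw [supp_sub, supp_ind]
  intro i hi'
  rw [mem_symmDiff]
  exact Or.inr ⟨hi', fun hu' => by
    have : i ∈ supp u ∩ s := mem_inter.mpr ⟨hu', hi'⟩
    rw [hi] at this; exact absurd this (notMem_empty i)⟩

theorem Hyp.octad_unique (h : Hyp C) {s : Finset (Fin 24)} (hs : s.card = 5) {f g : F} (hf : f ∈ C) (hg : g ∈ C)
    (hf8 : (supp f).card = 8) (hg8 : (supp g).card = 8) (hfs : s ⊆ supp f) (hgs : s ⊆ supp g) : f = g := by
  refine h.eq_of_small (C.sub_mem hf hg) ?_
  have := card_le_card (subset_inter hfs hgs)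
  omega

/-- The span of the octads. -/
def octSpan (C : Submodule (ZMod 2) F) : Submodule (ZMod 2) F :=
  Submodule.span (ZMod 2) {w : F | w ∈ C ∧ hammingNorm w = 8}

theorem Hyp.exists_odd_meet (h : Hyp C) {S : Finset (Fin 24)} (h1 : 1 ≤ S.card) (h4 : S.card ≤ 4) :
    ∃ f ∈ C, (supp f).card = 8 ∧ Odd (supp f ∩ S).card := by
  rcases Nat.even_or_odd S.card with he | ho
  · obtain ⟨A, hSA, -, hA⟩ := exists_subsuperset_card_eq (S.subset_univ) h4 (by simp)
    obtain ⟨i, hi⟩ := card_pos.mp h1
    -- a four-set containing `S \ {i}` and avoiding `i`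
    obtain ⟨B, hSB, hBi, hB⟩ := exists_subsuperset_card_eq (show S.erase i ⊆ univ.erase i from erase_subset_erase i (subset_univ S))
      (show (S.erase i).card ≤ 4 by rw [card_erase_of_mem hi]; omega) (by rw [card_erase_of_mem (mem_univ i), card_univ, Fintype.card_fin]; norm_num)
    have hiB : i ∉ B := fun hh => notMem_erase i univ (hBi hh)
    obtain ⟨f, hf, hf8, hfs⟩ := h.exists_octad (s := insert i B) (by rw [card_insert_of_notMem hiB, hB])
    obtain ⟨q, hq⟩ : ∃ q, q ∉ supp f := by
      by_contra hall; push Not at hall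
      have := card_le_card (fun x (_ : x ∈ (univ : Finset (Fin 24))) => hall x)
      rw [card_univ, Fintype.card_fin] at this; omega
    have hqB : q ∉ B := fun hh => hq (hfs (mem_insert_of_mem hh))
    obtain ⟨g, hg, hg8, hgs⟩ := h.exists_octad (s := insert q B) (by rw [card_insert_of_notMem hqB, hB])
    have hig : i ∉ supp g := fun hh => by
      have e := h.octad_unique (s := insert i B) (by rw [card_insert_of_notMem hiB, hB]) hg hf hg8 hf8
        (insert_subset hh fun x hx => hgs (mem_insert_of_mem hx)) hfs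
      exact hq (e ▸ hgs (mem_insert_self q B))
    refine ⟨g, hg, hg8, ?_⟩
    have : supp g ∩ S = S.erase i := by
      ext x; rw [mem_inter, mem_erase]
      exact ⟨fun ⟨a, b⟩ => ⟨fun e => hig (e ▸ a), b⟩, fun ⟨a, b⟩ => ⟨hgs (mem_insert_of_mem (hSB (mem_erase.mpr ⟨a, b⟩))), b⟩⟩
    rw [this, card_erase_of_mem hi]
    obtain ⟨r, hr⟩ := he
    exact ⟨r - 1, by omega⟩
  · obtain ⟨B, hSB, -, hB⟩ := exists_subsuperset_card_eq (S.subset_univ) (show S.card ≤ 5 by omega) (by simp)
    obtain ⟨f, hf, hf8, hfs⟩ := h.exists_octad hB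
    exact ⟨f, hf, hf8, by rwa [inter_eq_right.mpr (hSB.trans hfs)]⟩

theorem Hyp.octSpan_eq (h : Hyp C) : octSpan C = C := by
  have hle : octSpan C ≤ C := Submodule.span_le.mpr fun w hw => hw.1
  refine Submodule.eq_of_le_of_finrank_le hle ?_
  let b : LinearMap.BilinForm (ZMod 2) F := dotForm
  have hb : ∀ v w, b v w = ∑ i, v i * w i := dotForm_apply
  have key : ∀ v : F, (∀ w, b v w = 0) → v = 0 := fun v hv => funext fun i => by
    have h' := hv (Pi.single i 1)
    rw [hb] at h'
    simpa [Pi.single_apply, mul_ite] using h'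
  have hsym : ∀ v w, b v w = b w v := fun v w => by
    rw [hb, hb]; exact sum_congr rfl fun i _ => mul_comm _ _
  have hnd : b.Nondegenerate := ⟨key, fun v hv => key v fun w => by rw [hsym]; exact hv w⟩
  have horth : b.orthogonal (octSpan C) ≤ C := by
    intro x hx
    obtain ⟨u, hu, hu4⟩ := h.exists_small x
    suffices u = 0 by rw [this, zero_sub] at hu; simpa using C.neg_mem hu
    by_contra hu0
    have h1 : 1 ≤ (supp u).card := card_pos.mpr (nonempty_iff_ne_empty.mpr fun e => hu0 (eq_zero_of_supp_empty e))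
    obtain ⟨f, hf, hf8, hodd⟩ := h.exists_odd_meet h1 hu4
    have h2 : b f x = 0 := hx f (Submodule.subset_span ⟨hf, hf8⟩)
    have h3 : b f (u - x) = 0 := by rw [hb]; exact h.horth f hf _ hu
    rw [map_sub, h2, sub_zero, hb, dot_eq, ZMod.natCast_eq_zero_iff_even, ← Nat.not_odd_iff_even] at h3
    exact h3 hodd
  have h1 := LinearMap.BilinForm.finrank_orthogonal hnd (octSpan C)
  have h2 := Submodule.finrank_mono horth
  rw [h1, h.hdim, Module.finrank_fin_fun] at h2
  rw [h.hdim]; omega

theorem Hyp.doubly_even (h : Hyp C) {f : F} (hf : f ∈ C) : 4 ∣ (supp f).card := by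
  rw [← h.octSpan_eq, octSpan] at hf
  suffices f ∈ C ∧ 4 ∣ (supp f).card from this.2
  induction hf using Submodule.span_induction with
  | mem w hw => exact ⟨hw.1, ⟨2, hw.2⟩⟩
  | zero => exact ⟨C.zero_mem, by rw [show supp (0 : F) = ∅ by simp [supp]]; simp⟩
  | add x y _ _ hx hy =>
      refine ⟨C.add_mem hx.1 hy.1, ?_⟩
      have he : Even (supp x ∩ supp y).card := by
        have := h.horth x hx.1 y hy.1
        rwa [dot_eq, ZMod.natCast_eq_zero_iff_even] at this
      have hc := card_supp_sub x y
      rw [show x + y = x - y from funext fun i => by rw [Pi.add_apply, Pi.sub_apply, sub_eq_add_neg, ZMod.neg_eq_self_mod_two]]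
      obtain ⟨r, hr⟩ := he
      have := hx.2; have := hy.2
      omega
  | smul a x _ hx =>
      rcases zcases a with rfl | rfl
      · rw [zero_smul]; exact ⟨C.zero_mem, by rw [show supp (0 : F) = ∅ by simp [supp]]; simp⟩
      · rwa [one_smul]

end Cfsg.Agent.Spor.GolayAbstract
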