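import Cfsg.Agent.Lib.Spor.GolayUniqueRM
import Cfsg.Agent.Lib.Spor.GolayAbstract

/-!
Uniqueness of the self-dual code of length 24 and minimum weight 8: coordinates are built from an
octad and from the code vanishing on it.
-/

set_option autoImplicit false
set_option maxRecDepth 100000

namespace Cfsg.Agent.Spor.GolayUniq

open GolayAbstract Finset

/-- A word from its parts on the octad and on the other points. -/
def word (e : Fin 8 ⊕ Fin 16 ≃ Fin 24) (a : Fin 8 → ZMod 2) (b : Fin 16 → ZMod 2) : GolayAbstract.F :=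
  fun x => Sum.elim a b (e.symm x)

theorem word_add (e : Fin 8 ⊕ Fin 16 ≃ Fin 24) (a a' : Fin 8 → ZMod 2) (b b' : Fin 16 → ZMod 2) :
    word e (a + a') (b + b') = word e a b + word e a' b' := by
  funext x; simp only [word, Pi.add_apply]; cases e.symm x <;> rfl

theorem word_zero (e : Fin 8 ⊕ Fin 16 ≃ Fin 24) : word e 0 0 = 0 := by
  funext x; simp only [word]; cases e.symm x <;> rfl

theorem word_smul (e : Fin 8 ⊕ Fin 16 ≃ Fin 24) (t : ZMod 2) (a : Fin 8 → ZMod 2) (b : Fin 16 → ZMod 2) :
    word e (t • a) (t • b) = t • word e a b := by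
  funext x; simp only [word, Pi.smul_apply]; cases e.symm x <;> rfl

theorem word_parts (e : Fin 8 ⊕ Fin 16 ≃ Fin 24) (w : GolayAbstract.F) :
    word e (fun i => w (e (Sum.inl i))) (fun i => w (e (Sum.inr i))) = w := by
  funext x
  obtain ⟨y, rfl⟩ := e.surjective x
  simp only [word, Equiv.symm_apply_apply]
  cases y <;> rfl

theorem sum_word (e : Fin 8 ⊕ Fin 16 ≃ Fin 24) (a a' : Fin 8 → ZMod 2) (b b' : Fin 16 → ZMod 2) :
    ∑ x, word e a b x * word e a' b' x = ∑ i, a i * a' i + ∑ i, b i * b' i := by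
  rw [← e.sum_comp, Fintype.sum_sum_type]
  simp [word]

theorem norm_word (e : Fin 8 ⊕ Fin 16 ≃ Fin 24) (a : Fin 8 → ZMod 2) (b : Fin 16 → ZMod 2) :
    hammingNorm (word e a b) = hammingNorm a + hammingNorm b := by
  simp only [hammingNorm, card_filter]
  rw [← e.sum_comp, Fintype.sum_sum_type]
  simp [word]

theorem norm_le (n : ℕ) (b : Fin n → ZMod 2) : hammingNorm b ≤ n := by
  have := hammingNorm_le_card_fintype (x := b)
  simpa using this

theorem norm_add_one (b : Fin 16 → ZMod 2) : hammingNorm (b + 1) + hammingNorm b = 16 := by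
  simp only [hammingNorm]
  have h := card_filter_add_card_filter_not (s := (univ : Finset (Fin 16))) (fun i => b i ≠ 0)
  rw [card_univ, Fintype.card_fin] at h
  rw [add_comm]
  convert h using 3
  refine filter_congr fun i _ => ?_
  rcases GolayAbstract.zcases (b i) with e | e <;> simp [e, CharTwo.add_self_eq_zero]

theorem hyp_of {C : Submodule (ZMod 2) GolayAbstract.F} (hdim : Module.finrank (ZMod 2) C = 12)
    (horth : ∀ v ∈ C, ∀ w ∈ C, ∑ i, v i * w i = 0) (h4 : ∀ w ∈ C, 4 ∣ hammingNorm w)
    (hno4 : ∀ w ∈ C, hammingNorm w ≠ 4) : Hyp C :=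
  ⟨hdim, horth, fun w hw hne => by
    have h1 := hammingNorm_pos_iff.mpr hne
    have h2 := h4 w hw
    have h3 := hno4 w hw
    omega⟩

variable {C : Submodule (ZMod 2) GolayAbstract.F}

theorem one_mem (h : Hyp C) : (1 : GolayAbstract.F) ∈ C := by
  obtain ⟨u, hu, hu4⟩ := h.exists_small 1
  suffices u = 0 by rw [this, zero_sub] at hu; simpa using C.neg_mem hu
  by_contra hu0
  have h1 : 1 ≤ (supp u).card := card_pos.mpr (nonempty_iff_ne_empty.mpr fun e => hu0 (eq_zero_of_supp_empty e))
  obtain ⟨f, hf, hf8, hodd⟩ := h.exists_odd_meet h1 hu4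
  have e1 : ∑ i, f i * (u - 1) i = 0 := h.horth f hf _ hu
  have e2 : ∑ i, f i * (1 : GolayAbstract.F) i = 0 := by
    rw [dot_eq, show supp (1 : GolayAbstract.F) = univ from eq_univ_of_forall fun i => mem_supp.mpr rfl,
      inter_univ, hf8]
    decide
  have e3 : ∑ i, f i * u i = 0 := by
    have : ∀ i, f i * u i = f i * (u - 1) i + f i * (1 : GolayAbstract.F) i := fun i => by
      simp only [Pi.sub_apply]; ring
    rw [sum_congr rfl fun i _ => this i, sum_add_distrib, e1, e2, add_zero]
  rw [dot_eq, ZMod.natCast_eq_zero_iff_even, ← Nat.not_odd_iff_even] at e3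
  exact e3 hodd

/-- Coordinates with an octad as the first eight positions. -/
theorem exists_octad_coords (h : Hyp C) : ∃ e : Fin 8 ⊕ Fin 16 ≃ Fin 24, word e 1 0 ∈ C := by
  classical
  obtain ⟨f, hf, hf8, -⟩ := h.exists_octad (s := univ.filter fun i : Fin 24 => i.val < 5) (by decide)
  have h16 : Fintype.card {i : Fin 24 // i ∉ supp f} = 16 := by
    rw [Fintype.card_subtype_compl, Fintype.card_coe, hf8, Fintype.card_fin]
  let ea : Fin 8 ≃ {i : Fin 24 // i ∈ supp f} := ((supp f).equivFinOfCardEq hf8).symm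
  let eb : Fin 16 ≃ {i : Fin 24 // i ∉ supp f} := (Fintype.equivFinOfCardEq h16).symm
  refine ⟨(Equiv.sumCongr ea eb).trans (Equiv.sumCompl _), ?_⟩
  suffices word ((Equiv.sumCongr ea eb).trans (Equiv.sumCompl _)) 1 0 = f by rw [this]; exact hf
  funext x
  obtain ⟨y, rfl⟩ := ((Equiv.sumCongr ea eb).trans (Equiv.sumCompl _)).surjective x
  simp only [word, Equiv.symm_apply_apply]
  rcases y with i | i
  · exact (mem_supp.mp (ea i).2).symm
  · rcases GolayAbstract.zcases (f (eb i : Fin 24)) with e0 | e0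
    · exact e0.symm
    · exact absurd (mem_supp.mpr e0) (eb i).2

/-- The words vanishing on the octad. -/
def inner (C : Submodule (ZMod 2) GolayAbstract.F) (e : Fin 8 ⊕ Fin 16 ≃ Fin 24) :
    Submodule (ZMod 2) (Fin 16 → ZMod 2) where
  carrier := {b | word e 0 b ∈ C}
  zero_mem' := by show word e 0 0 ∈ C; rw [word_zero]; exact C.zero_mem
  add_mem' {b b'} hb hb' := by
    show word e 0 (b + b') ∈ C
    rw [show (0 : Fin 8 → ZMod 2) = 0 + 0 by simp, word_add]
    exact C.add_mem hb hb'
  smul_mem' t b hb := by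
    show word e 0 (t • b) ∈ C
    rw [← smul_zero (A := Fin 8 → ZMod 2) t, word_smul]
    exact C.smul_mem t hb

theorem mem_inner {e : Fin 8 ⊕ Fin 16 ≃ Fin 24} {b : Fin 16 → ZMod 2} : b ∈ inner C e ↔ word e 0 b ∈ C := Iff.rfl

/-- The projection on the octad. -/
def proj (C : Submodule (ZMod 2) GolayAbstract.F) (e : Fin 8 ⊕ Fin 16 ≃ Fin 24) :
    C →ₗ[ZMod 2] (Fin 8 → ZMod 2) where
  toFun w := fun i => (w : GolayAbstract.F) (e (Sum.inl i))
  map_add' _ _ := rfl
  map_smul' _ _ := rfl

/-- The vectors of even weight. -/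
def evenSub : Submodule (ZMod 2) (Fin 8 → ZMod 2) :=
  LinearMap.ker (∑ i, LinearMap.proj (R := ZMod 2) (φ := fun _ : Fin 8 => ZMod 2) i)

theorem mem_evenSub {a : Fin 8 → ZMod 2} : a ∈ evenSub ↔ ∑ i, a i = 0 := by simp [evenSub]

theorem finrank_evenSub : Module.finrank (ZMod 2) evenSub = 7 := by
  have h := LinearMap.finrank_range_add_finrank_ker
    (∑ i, LinearMap.proj (R := ZMod 2) (φ := fun _ : Fin 8 => ZMod 2) i)
  have hs : LinearMap.range (∑ i, LinearMap.proj (R := ZMod 2) (φ := fun _ : Fin 8 => ZMod 2) i) = ⊤ :=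
    LinearMap.range_eq_top.mpr fun t => ⟨Pi.single 0 t, by simp⟩
  rw [hs, finrank_top, Module.finrank_self, Module.finrank_fin_fun] at h
  rw [evenSub]; omega

theorem proj_mem_even (h : Hyp C) {e : Fin 8 ⊕ Fin 16 ≃ Fin 24} (he : word e 1 0 ∈ C) :
    LinearMap.range (proj C e) ≤ evenSub := by
  rintro _ ⟨⟨w, hw⟩, rfl⟩
  rw [mem_evenSub]
  have := h.horth w hw _ he
  rw [← word_parts e w, sum_word] at this
  simpa [proj] using this

theorem inner_facts (h : Hyp C) {e : Fin 8 ⊕ Fin 16 ≃ Fin 24} (he : word e 1 0 ∈ C) :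
    Nat.card (inner C e) = 32 ∧ (∀ r r', (∀ g ∈ inner C e, g r = g r') → r = r') ∧
      (1 : Fin 16 → ZMod 2) ∈ inner C e ∧ ∀ a ∈ evenSub, ∃ b, word e a b ∈ C := by
  classical
  have h1 : (1 : Fin 16 → ZMod 2) ∈ inner C e := by
    rw [mem_inner]
    have : word e 0 1 = 1 + word e 1 0 := by
      funext x
      simp only [word, Pi.add_apply, Pi.one_apply]
      cases e.symm x <;> simp [CharTwo.add_self_eq_zero]
    rw [this]; exact C.add_mem (one_mem h) he
  set K := univ.filter fun g : Fin 16 → ZMod 2 => g ∈ inner C e with hK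
  have hmK : ∀ g, g ∈ K ↔ g ∈ inner C e := fun g => by simp [hK]
  have hwt : ∀ g ∈ K, g ≠ 0 → g ≠ 1 → hammingNorm g = 8 := by
    intro g hg hg0 hg1
    rw [hmK] at hg
    have key : ∀ g : Fin 16 → ZMod 2, g ∈ inner C e → g ≠ 0 → 4 ∣ hammingNorm g ∧ 8 ≤ hammingNorm g := by
      intro g hg hg0
      have hn : hammingNorm (word e 0 g) = hammingNorm g := by rw [norm_word, hammingNorm_zero, zero_add]
      refine ⟨hn ▸ h.doubly_even (mem_inner.mp hg), hn ▸ h.hmin _ (mem_inner.mp hg) fun e0 => hg0 ?_⟩
      funext i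
      have := congrFun e0 (e (Sum.inr i))
      simpa [word] using this
    have a := key g hg hg0
    have b := key (g + 1) ((inner C e).add_mem hg h1) fun e0 => hg1 (CharTwo.add_eq_zero.mp e0)
    have := norm_add_one g
    omega
  have hagree : ∀ g ∈ K, ∀ r : Fin 16, g ≠ 0 → g ≠ 1 → (univ.filter fun x => g x = g r).card = 8 := by
    intro g hg r hg0 hg1
    have h8 := hwt g hg hg0 hg1
    have := norm_add_one g
    rcases GolayAbstract.zcases (g r) with e0 | e0
    · have e' : (univ.filter fun x => g x = g r) = univ.filter fun x => (g + 1) x ≠ 0 :=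
        filter_congr fun x _ => by rw [e0]; rcases GolayAbstract.zcases (g x) with e | e <;> simp [e, CharTwo.add_self_eq_zero]
      rw [e']; show hammingNorm (g + 1) = 8; omega
    · have e' : (univ.filter fun x => g x = g r) = univ.filter fun x => g x ≠ 0 :=
        filter_congr fun x _ => by rw [e0]; rcases GolayAbstract.zcases (g x) with e | e <;> simp [e]
      rw [e']; exact h8
  have hone : (1 : Fin 16 → ZMod 2) ≠ 0 := fun e0 => one_ne_zero (congrFun e0 0 : (1 : ZMod 2) = 0)
  have hcount : ∀ r : Fin 16, (univ.filter fun x => ∀ g ∈ K, g x = g r).card * K.card = 32 := by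
    intro r
    set S := univ.filter fun x => ∀ g ∈ K, g x = g r with hS
    have hhalf : ∀ x ∉ S, 2 * (K.filter fun g => g x = g r).card = K.card := by
      intro x hx
      simp only [hS, mem_filter, mem_univ, true_and, not_forall] at hx
      obtain ⟨g0, hg0, hne⟩ := hx
      have hbij : (K.filter fun g => g x = g r).card = (K.filter fun g => ¬ g x = g r).card := by
        refine card_bij (fun g _ => g + g0) (fun g hg => ?_) (fun a _ b _ e => add_right_cancel e) (fun g hg => ?_)
        · rw [mem_filter] at hg ⊢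
          refine ⟨(hmK _).mpr ((inner C e).add_mem ((hmK g).mp hg.1) ((hmK g0).mp hg0)), fun e1 => hne ?_⟩
          simpa [hg.2] using e1
        · rw [mem_filter] at hg
          refine ⟨g + g0, mem_filter.mpr ⟨(hmK _).mpr ((inner C e).add_mem ((hmK g).mp hg.1) ((hmK g0).mp hg0)), ?_⟩, ?_⟩
          · rcases GolayAbstract.zcases (g x) with a | a <;> rcases GolayAbstract.zcases (g r) with b | b <;>
              rcases GolayAbstract.zcases (g0 x) with c | c <;> rcases GolayAbstract.zcases (g0 r) with d | d <;>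
              simp [a, b, c, d, CharTwo.add_self_eq_zero] at hg hne ⊢
          · rw [add_assoc, show g0 + g0 = 0 from funext fun i => CharTwo.add_self_eq_zero _, add_zero]
      have := card_filter_add_card_filter_not (s := K) (fun g => g x = g r)
      omega
    have hleft : 2 * ∑ x, (K.filter fun g => g x = g r).card = 2 * (S.card * K.card) + (Sᶜ).card * K.card := by
      rw [← sum_add_sum_compl S, mul_add, mul_sum, mul_sum (s := Sᶜ)]
      congr 1
      · rw [sum_congr rfl fun x hx => by
          rw [filter_true_of_mem fun g hg => (mem_filter.mp hx).2 g hg], sum_const, smul_eq_mul]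
        ring
      · rw [sum_congr rfl fun x hx => hhalf x (mem_compl.mp hx), sum_const, smul_eq_mul]
    have hswap : ∑ x, (K.filter fun g => g x = g r).card = ∑ g ∈ K, (univ.filter fun x => g x = g r).card := by
      simp only [card_filter]; exact sum_comm
    have hright : ∑ g ∈ K, (univ.filter fun x => g x = g r).card = 16 + 16 + 8 * (K.card - 2) := by
      have h0K : (0 : Fin 16 → ZMod 2) ∈ K := (hmK 0).mpr (inner C e).zero_mem
      have h1K : (1 : Fin 16 → ZMod 2) ∈ K.erase 0 := mem_erase.mpr ⟨hone, (hmK 1).mpr h1⟩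
      rw [← add_sum_erase K _ h0K, ← add_sum_erase (K.erase 0) _ h1K, sum_congr rfl (fun g hg => by
        simp only [mem_erase] at hg
        exact hagree g hg.2.2 r hg.2.1 hg.1), sum_const, smul_eq_mul, card_erase_of_mem h1K, card_erase_of_mem h0K]
      simp
      omega
    have hSc : (Sᶜ).card + S.card = 16 := by
      rw [card_compl_add_card, Fintype.card_fin]
    have h2K : 2 ≤ K.card := one_lt_card.mpr ⟨0, (hmK 0).mpr (inner C e).zero_mem, 1, (hmK 1).mpr h1, hone.symm⟩
    rw [hswap, hright] at hleft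
    have h16 : (Sᶜ).card * K.card + S.card * K.card = 16 * K.card := by rw [← add_mul, hSc]
    omega
  have hKc : K.card = Nat.card (inner C e) := by
    rw [Nat.card_eq_fintype_card]
    exact (Fintype.card_of_subtype K hmK).symm
  have hpow : Nat.card (inner C e) = 2 ^ Module.finrank (ZMod 2) (inner C e) := by
    rw [Module.natCard_eq_pow_finrank (K := ZMod 2), Nat.card_zmod]
  -- dimensions
  have hker : Module.finrank (ZMod 2) (LinearMap.ker (proj C e)) = Module.finrank (ZMod 2) (inner C e) := by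
    refine LinearEquiv.finrank_eq (LinearEquiv.ofBijective
      (LinearMap.codRestrict (inner C e)
        ({ toFun := fun w i => ((w : C) : GolayAbstract.F) (e (Sum.inr i))
           map_add' := fun _ _ => rfl
           map_smul' := fun _ _ => rfl } : LinearMap.ker (proj C e) →ₗ[ZMod 2] (Fin 16 → ZMod 2)) fun w => ?_) ⟨?_, ?_⟩)
    · rw [mem_inner]
      have h0 : (0 : Fin 8 → ZMod 2) = fun i => ((w : C) : GolayAbstract.F) (e (Sum.inl i)) :=
        (LinearMap.mem_ker.mp w.2).symm
      show word e 0 (fun i => ((w : C) : GolayAbstract.F) (e (Sum.inr i))) ∈ C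
      rw [h0, word_parts]; exact (w : C).2
    · intro v w hvw
      refine Subtype.ext (Subtype.ext ?_)
      rw [← word_parts e ((v : C) : GolayAbstract.F), ← word_parts e ((w : C) : GolayAbstract.F)]
      have hv : (fun i => ((v : C) : GolayAbstract.F) (e (Sum.inl i))) = 0 := LinearMap.mem_ker.mp v.2
      have hw : (fun i => ((w : C) : GolayAbstract.F) (e (Sum.inl i))) = 0 := LinearMap.mem_ker.mp w.2
      have hr : (fun i => ((v : C) : GolayAbstract.F) (e (Sum.inr i))) = fun i => ((w : C) : GolayAbstract.F) (e (Sum.inr i)) :=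
        congrArg Subtype.val hvw
      rw [hv, hw, hr]
    · rintro ⟨b, hb⟩
      refine ⟨⟨⟨word e 0 b, hb⟩, LinearMap.mem_ker.mpr (funext fun i => ?_)⟩, Subtype.ext (funext fun i => ?_)⟩
      · simp [proj, word]
      · simp [word]
  have hdim := LinearMap.finrank_range_add_finrank_ker (proj C e)
  rw [h.hdim, hker] at hdim
  have hle := Submodule.finrank_mono (proj_mem_even h he)
  rw [finrank_evenSub] at hle
  have hm : Module.finrank (ZMod 2) (inner C e) = 5 := by
    have h32 := hcount 0
    rw [hKc, hpow] at h32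
    have hp : 2 ^ Module.finrank (ZMod 2) (inner C e) ≤ 2 ^ 5 := Nat.le_of_dvd (by norm_num) (Dvd.intro_left _ h32)
    have := (Nat.pow_le_pow_iff_right (by norm_num : 1 < 2)).mp hp
    omega
  have hcard : Nat.card (inner C e) = 32 := by rw [hpow, hm]; rfl
  refine ⟨hcard, fun r r' hrr => ?_, h1, fun a ha => ?_⟩
  · have h32 := hcount r'
    rw [hKc, hcard] at h32
    have hS1 : (univ.filter fun x => ∀ g ∈ K, g x = g r').card ≤ 1 := by omega
    exact card_le_one.mp hS1 r (mem_filter.mpr ⟨mem_univ _, fun g hg => hrr g ((hmK g).mp hg)⟩) r'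
      (mem_filter.mpr ⟨mem_univ _, fun g _ => rfl⟩)
  · have heq : LinearMap.range (proj C e) = evenSub :=
      Submodule.eq_of_le_of_finrank_le (proj_mem_even h he) (by rw [finrank_evenSub]; omega)
    rw [← heq] at ha
    obtain ⟨w, rfl⟩ := ha
    exact ⟨fun i => (w : GolayAbstract.F) (e (Sum.inr i)), by
      show word e (fun i => (w : GolayAbstract.F) (e (Sum.inl i))) _ ∈ C
      rw [word_parts]; exact w.2⟩

end Cfsg.Agent.Spor.GolayUniq

namespace Cfsg.Agent.Spor.GolayUniq

open GolayAbstract Finset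

set_option maxHeartbeats 1600000

variable {C : Submodule (ZMod 2) GolayAbstract.F}

theorem poly_affine : ∀ a < 32, a = (a % 2) ^^^ (a / 2 % 2 * 2) ^^^ (a / 4 % 2 * 4) ^^^ (a / 8 % 2 * 8) ^^^ (a / 16 % 2 * 16) := by
  decide +kernel

theorem poly_inj_small : ∀ a < 32, ∀ b < 32, (∀ v : Fin 16, polyB a v.val = polyB b v.val) → a = b := by
  decide +kernel

theorem poly_pow : ∀ i < 5, ∀ v : Fin 16, poly (2 ^ i) v = z (monoB v.val i) := by decide +kernel

theorem poly_one : poly 1 = 1 := funext fun v => by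
  rw [show (1 : ℕ) = 2 ^ 0 from rfl, poly_pow 0 (by norm_num)]; rfl

/-- Coordinates in which the code vanishing on the octad is the code of affine functions. -/
theorem exists_affine_coords (h : Hyp C) : ∃ e : Fin 8 ⊕ Fin 16 ≃ Fin 24, word e 1 0 ∈ C ∧
    (∀ g, word e 0 g ∈ C ↔ ∃ a < 32, g = poly a) ∧ ∀ a : Fin 8 → ZMod 2, ∑ i, a i = 0 → ∃ b, word e a b ∈ C := by
  classical
  obtain ⟨e, he⟩ := exists_octad_coords h
  obtain ⟨hcard, hsep, h1, hproj⟩ := inner_facts h he
  let H0 : Submodule (ZMod 2) (Fin 16 → ZMod 2) :=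
    inner C e ⊓ LinearMap.ker (LinearMap.proj (R := ZMod 2) (φ := fun _ : Fin 16 => ZMod 2) 0)
  have hm0 : ∀ g, g ∈ H0 ↔ g ∈ inner C e ∧ g 0 = 0 := fun g => Iff.rfl
  have hH : Nat.card H0 * 2 = 32 := by
    have e2 : Nat.card (H0 × ZMod 2) = Nat.card H0 * 2 := by rw [Nat.card_prod, Nat.card_zmod]
    rw [← hcard, ← e2]
    refine Nat.card_congr
      { toFun := fun p => ⟨(p.1 : Fin 16 → ZMod 2) + p.2 • 1, (inner C e).add_mem ((hm0 _).mp p.1.2).1 ((inner C e).smul_mem _ h1)⟩
        invFun := fun g => (⟨(g : Fin 16 → ZMod 2) + (g : Fin 16 → ZMod 2) 0 • 1, (hm0 _).mpr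
          ⟨(inner C e).add_mem g.2 ((inner C e).smul_mem _ h1), by simp [CharTwo.add_self_eq_zero]⟩⟩, (g : Fin 16 → ZMod 2) 0)
        left_inv := fun p => ?_
        right_inv := fun g => ?_ }
    · obtain ⟨⟨g, hg⟩, t⟩ := p
      have h0 := ((hm0 _).mp hg).2
      refine Prod.ext (Subtype.ext (funext fun i => ?_)) ?_
      · simp [h0, add_assoc, CharTwo.add_self_eq_zero]
      · simp [h0]
    · refine Subtype.ext (funext fun i => ?_)
      simp [add_assoc, CharTwo.add_self_eq_zero]
  have hfr : Module.finrank (ZMod 2) H0 = 4 := by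
    have h16 : 2 ^ Module.finrank (ZMod 2) H0 = 2 ^ 4 := by
      have hp : Nat.card H0 = 2 ^ Module.finrank (ZMod 2) H0 := by
        rw [Module.natCard_eq_pow_finrank (K := ZMod 2), Nat.card_zmod]
      rw [← hp]; omega
    exact Nat.pow_right_injective (le_refl 2) h16
  let b := Module.finBasisOfFinrankEq (ZMod 2) H0 hfr
  let bits : Fin 16 → ℕ → Bool := fun r n =>
    if hn : n < 4 then decide ((b ⟨n, hn⟩ : Fin 16 → ZMod 2) r = 1) else false
  let κ : Fin 16 → Fin 16 := fun r => ⟨ofBits (bits r) 4, (ofBits_spec (bits r) 4).1.trans_eq (by norm_num)⟩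
  have hκbit : ∀ r (i : Fin 4), z ((κ r).val.testBit i.val) = (b i : Fin 16 → ZMod 2) r := fun r i => by
    show z ((ofBits (bits r) 4).testBit i.val) = _
    rw [(ofBits_spec (bits r) 4).2 i.val i.2]
    simp only [bits, dif_pos i.2]
    rcases GolayAbstract.zcases ((b i : Fin 16 → ZMod 2) r) with q | q <;> simp [q, z]
  have hκinj : Function.Injective κ := by
    intro r r' hrr
    refine hsep r r' fun g hg => ?_
    have hg' : g + g 0 • 1 ∈ H0 :=
      (hm0 _).mpr ⟨(inner C e).add_mem hg ((inner C e).smul_mem _ h1), by simp [CharTwo.add_self_eq_zero]⟩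
    have hval : ∀ x : Fin 16, g x + g 0 = ∑ i, (b.repr ⟨_, hg'⟩ i) * (b i : Fin 16 → ZMod 2) x := fun x => by
      have hh := congrArg (fun u : H0 => (u : Fin 16 → ZMod 2) x) (b.sum_repr ⟨_, hg'⟩)
      simp only [Submodule.coe_sum, Finset.sum_apply, SetLike.val_smul, Pi.smul_apply, smul_eq_mul] at hh
      rw [hh]; simp
    have : g r + g 0 = g r' + g 0 := by
      rw [hval, hval]
      refine sum_congr rfl fun i _ => ?_
      rw [← hκbit r i, ← hκbit r' i, hrr]
    exact add_right_cancel this
  let σ : Fin 16 ≃ Fin 16 := Equiv.ofBijective κ ⟨hκinj, Finite.injective_iff_surjective.mp hκinj⟩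
  let e2 : Fin 8 ⊕ Fin 16 ≃ Fin 24 := (Equiv.sumCongr (Equiv.refl _) σ.symm).trans e
  have hword : ∀ a g, word e2 a g = word e a (g ∘ κ) := fun a g => by
    funext x
    obtain ⟨y, rfl⟩ := e.surjective x
    simp only [word, e2, Equiv.symm_trans_apply, Equiv.symm_apply_apply, Equiv.sumCongr_symm]
    cases y <;> rfl
  have hinner : ∀ g, word e2 0 g ∈ C ↔ g ∈ inner C e2 := fun g => Iff.rfl
  have hcard2 : Nat.card (inner C e2) = 32 := by
    rw [← hcard]
    refine Nat.card_congr
      { toFun := fun g => ⟨(g : Fin 16 → ZMod 2) ∘ κ, by rw [mem_inner, ← hword]; exact g.2⟩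
        invFun := fun g => ⟨(g : Fin 16 → ZMod 2) ∘ σ.symm, by
          rw [mem_inner, hword, show ((g : Fin 16 → ZMod 2) ∘ σ.symm) ∘ κ = g from
            funext fun r => congrArg _ (σ.symm_apply_apply r)]; exact g.2⟩
        left_inv := fun g => Subtype.ext (funext fun r => congrArg (g : Fin 16 → ZMod 2) (σ.apply_symm_apply r))
        right_inv := fun g => Subtype.ext (funext fun r => congrArg (g : Fin 16 → ZMod 2) (σ.symm_apply_apply r)) }
  have hgen : ∀ i < 5, poly (2 ^ i) ∈ inner C e2 := by
    intro i hi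
    rw [mem_inner, hword]
    rcases i with _ | i
    · rw [show poly (2 ^ 0) ∘ κ = 1 from funext fun r => by rw [Function.comp_apply, poly_pow 0 (by norm_num)]; rfl]
      exact h1
    · have hi4 : i < 4 := by omega
      rw [show poly (2 ^ (i + 1)) ∘ κ = (b ⟨i, hi4⟩ : Fin 16 → ZMod 2) from funext fun r => by
        rw [Function.comp_apply, poly_pow (i + 1) hi, ← hκbit r ⟨i, hi4⟩]
        interval_cases i <;> rfl]
      exact ((hm0 _).mp (b ⟨i, hi4⟩).2).1
  have hall : ∀ a < 32, poly a ∈ inner C e2 := by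
    intro a ha
    have key : ∀ t k, k < 5 → t < 2 → poly (t * 2 ^ k) ∈ inner C e2 := fun t k hk ht => by
      interval_cases t
      · rw [zero_mul, poly_zero]; exact (inner C e2).zero_mem
      · rw [one_mul]; exact hgen k hk
    rw [poly_affine a ha]
    simp only [poly_xor]
    refine (inner C e2).add_mem ((inner C e2).add_mem ((inner C e2).add_mem ((inner C e2).add_mem ?_ ?_) ?_) ?_) ?_
    · simpa using key (a % 2) 0 (by norm_num) (by omega)
    · simpa using key (a / 2 % 2) 1 (by norm_num) (by omega)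
    · simpa using key (a / 4 % 2) 2 (by norm_num) (by omega)
    · simpa using key (a / 8 % 2) 3 (by norm_num) (by omega)
    · simpa using key (a / 16 % 2) 4 (by norm_num) (by omega)
  refine ⟨e2, ?_, fun g => ?_, fun a ha => ?_⟩
  · rw [hword]; exact he
  · rw [hinner]
    refine ⟨fun hg => ?_, fun ⟨a, ha, e0⟩ => e0 ▸ hall a ha⟩
    set T := (univ : Finset (Fin 32)).image (fun a => poly a.val) with hT
    set K := univ.filter fun g : Fin 16 → ZMod 2 => g ∈ inner C e2 with hK
    have hTK : T = K := by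
      refine eq_of_subset_of_card_le (fun g hg => ?_) ?_
      · obtain ⟨a, -, rfl⟩ := mem_image.mp hg
        exact mem_filter.mpr ⟨mem_univ _, hall a.val a.2⟩
      · have hKc : K.card = 32 := by
          rw [← hcard2, Nat.card_eq_fintype_card]
          exact (Fintype.card_of_subtype K fun g => by simp [hK]).symm
        rw [hKc, hT, card_image_of_injective]
        · rfl
        · intro a a' haa
          refine Fin.ext (poly_inj_small a.val a.2 a'.val a'.2 fun v => ?_)
          have := congrFun haa v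
          simp only [poly_eq_polyB] at this
          revert this
          cases polyB a.val v.val <;> cases polyB a'.val v.val <;> decide
    have : g ∈ T := by rw [hTK]; exact mem_filter.mpr ⟨mem_univ _, hg⟩
    obtain ⟨a, -, e0⟩ := mem_image.mp this
    exact ⟨a.val, a.2, e0.symm⟩
  · obtain ⟨g, hg⟩ := hproj a (mem_evenSub.mpr ha)
    exact ⟨g ∘ σ.symm, by
      rw [hword, show (g ∘ σ.symm) ∘ κ = g from funext fun r => congrArg g (σ.symm_apply_apply r)]; exact hg⟩

theorem decompose : ∀ c < 2048, c = (32 * (c / 32)) ^^^ (c % 32) := by decide +kernel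

theorem shift_xor : ∀ x < 64, ∀ y < 64, 32 * (x ^^^ y) = (32 * x) ^^^ (32 * y) := by decide +kernel

theorem star_lt : ∀ j : Fin 8, star j.val < 64 := by decide

theorem char_cancel : ∀ p q r : ZMod 2, p + q + (p + r) = q + r := by decide

/-- The weight of a pair. -/
def pairVec (k j : Fin 8) : Fin 8 → ZMod 2 := Pi.single k 1 + Pi.single j 1

theorem pair_add (k a b : Fin 8) : pairVec k a + pairVec k b = pairVec a b :=
  funext fun _ => char_cancel _ _ _

theorem norm_pair : ∀ k j : Fin 8, k ≠ j → hammingNorm (pairVec k j) = 2 := by decide +kernel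

/-- Normal form of the code. -/
theorem normal_form (h : Hyp C) : ∃ e : Fin 8 ⊕ Fin 16 ≃ Fin 24, ∀ a b, word e a b ∈ C ↔
    (∑ i, a i = 0 ∧ ∃ c < 32, b = ∑ j, a j • poly (32 * star j.val) + poly c) := by
  classical
  obtain ⟨e, he, hin, hsurj⟩ := exists_affine_coords h
  have hex : ∀ a, ∑ i, a i = 0 → ∃ c < 2048, word e a (poly c) ∈ C := by
    intro a ha
    obtain ⟨b, hb⟩ := hsurj a ha
    obtain ⟨c, hc, rfl⟩ := exists_poly b fun t ht => by
      have := h.horth _ hb _ ((hin _).mpr ⟨t, ht, rfl⟩)
      rw [sum_word] at this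
      simpa using this
    exact ⟨c, hc, hb⟩
  have hpv : ∀ k j : Fin 8, ∑ i, pairVec k j i = 0 := fun k j => by
    simp [pairVec, sum_add_distrib, CharTwo.add_self_eq_zero]
  choose c hc hcC using fun i : Fin 7 => hex (pairVec 0 i.succ) (hpv 0 i.succ)
  have hpf : ∀ a g, word e a (poly g) ∈ C → g < 2048 → hammingNorm a = 2 → pf (g / 32) = true := by
    intro a g hg hg2 ha
    have hd : 4 ∣ hammingNorm (word e a (poly g)) := h.doubly_even hg
    rw [norm_word, ha] at hd
    exact pf_of_wt hg2 (by omega)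
  obtain ⟨k, hk⟩ := exists_star (fun i => c i / 32) (fun i => by have := hc i; omega)
    (fun i => hpf _ _ (hcC i) (hc i) (norm_pair 0 i.succ (Fin.succ_ne_zero i).symm))
    (fun i j hij => by
      have hadd := C.add_mem (hcC i) (hcC j)
      rw [← word_add, ← poly_xor] at hadd
      have e2 : pairVec 0 i.succ + pairVec 0 j.succ = pairVec i.succ j.succ := pair_add _ _ _
      rw [e2] at hadd
      have := hpf _ _ hadd (Nat.xor_lt_two_pow (n := 11) (hc i) (hc j))
        (norm_pair _ _ fun h => hij (Fin.succ_injective _ h))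
      rwa [show (c i ^^^ c j) / 32 = c i / 32 ^^^ c j / 32 from Nat.xor_div_two_pow (n := 5) ..] at this)
  choose jf hjk hjf using hk
  have hcinj : ∀ i i', jf i = jf i' → i = i' := fun i i' hii => by
    by_contra hne
    have hadd := C.add_mem (hcC i) (hcC i')
    rw [← word_add, ← poly_xor] at hadd
    have e2 : pairVec 0 i.succ + pairVec 0 i'.succ = pairVec i.succ i'.succ := pair_add _ _ _
    rw [e2] at hadd
    have := hpf _ _ hadd (Nat.xor_lt_two_pow (n := 11) (hc i) (hc i'))
      (norm_pair _ _ fun h => hne (Fin.succ_injective _ h))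
    rw [show (c i ^^^ c i') / 32 = c i / 32 ^^^ c i' / 32 from Nat.xor_div_two_pow (n := 5) .., ← hjf i,
      ← hjf i', hii, Nat.xor_self] at this
    exact absurd this (by decide)
  let π : Fin 8 → Fin 8 := Fin.cons k jf
  have hπ : Function.Injective π :=
    Fin.cons_injective_iff.mpr ⟨fun ⟨i, hi⟩ => hjk i hi, fun i i' h => hcinj i i' h⟩
  let σ : Fin 8 ≃ Fin 8 := Equiv.ofBijective π ⟨hπ, Finite.injective_iff_surjective.mp hπ⟩
  let e3 : Fin 8 ⊕ Fin 16 ≃ Fin 24 := (Equiv.sumCongr σ.symm (Equiv.refl _)).trans e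
  have hword : ∀ a g, word e3 a g = word e (a ∘ π) g := fun a g => by
    funext x
    obtain ⟨y, rfl⟩ := e.surjective x
    simp only [word, e3, Equiv.symm_trans_apply, Equiv.symm_apply_apply, Equiv.sumCongr_symm]
    cases y <;> rfl
  have hpoly : ∀ t < 32, word e3 0 (poly t) ∈ C := fun t ht => by
    rw [hword]; exact (hin _).mpr ⟨t, ht, rfl⟩
  let S : Fin 8 → Fin 16 → ZMod 2 := fun j => poly (32 * star j.val)
  have hpair : ∀ j, word e3 (pairVec k j) (S k + S j) ∈ C := by
    intro j
    obtain ⟨y, rfl⟩ := σ.surjective j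
    have hk0 : σ 0 = k := rfl
    have hcomp : pairVec k (σ y) ∘ π = pairVec 0 y := by
      funext x
      rw [Function.comp_apply, show π x = σ x from rfl, ← hk0]
      simp [pairVec, Pi.single_apply, σ.injective.eq_iff]
    rw [hword, hcomp]
    refine Fin.cases ?_ (fun i => ?_) y
    · rw [hk0]
      have e1 : pairVec 0 0 = 0 := funext fun x => CharTwo.add_self_eq_zero _
      have e2 : S k + S k = 0 := funext fun x => CharTwo.add_self_eq_zero _
      rw [e1, e2, word_zero]; exact C.zero_mem
    · have hji : σ i.succ = jf i := by show π i.succ = jf i; simp [π]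
      rw [hji]
      have e1 : S k + S (jf i) = poly (c i) + poly (c i % 32) := by
        show poly (32 * star k.val) + poly (32 * star (jf i).val) = _
        rw [← poly_xor, ← shift_xor _ (star_lt k) _ (star_lt (jf i)), show star k.val ^^^ star (jf i).val = c i / 32 from hjf i]
        conv_rhs => enter [1]; rw [decompose (c i) (hc i), poly_xor]
        rw [add_assoc, show poly (c i % 32) + poly (c i % 32) = 0 from funext fun x => CharTwo.add_self_eq_zero _, add_zero]
      have e2 := C.add_mem (hcC i) ((hin (poly (c i % 32))).mpr ⟨_, Nat.mod_lt _ (by norm_num), rfl⟩)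
      rw [← word_add, add_zero, ← e1] at e2
      exact e2
  have hzero : ∀ j, word e3 (pairVec 0 j) (S j) ∈ C := fun j => by
    have := C.add_mem (hpair 0) (hpair j)
    rw [← word_add] at this
    have e1 : pairVec k 0 + pairVec k j = pairVec 0 j := pair_add _ _ _
    have e2 : S k + S 0 + (S k + S j) = S j := by
      have h0 : S 0 = 0 := by show poly (32 * star 0) = 0; exact poly_zero
      rw [h0, add_zero, ← add_assoc, show S k + S k = 0 from funext fun x => CharTwo.add_self_eq_zero _, zero_add]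
    rwa [e1, e2] at this
  have hcomb : ∀ a : Fin 8 → ZMod 2, ∑ i, a i = 0 → word e3 a (∑ j, a j • S j) ∈ C := by
    intro a ha
    have key : ∀ s : Finset (Fin 8), word e3 (∑ j ∈ s, a j • pairVec 0 j) (∑ j ∈ s, a j • S j) ∈ C := by
      intro s
      induction s using Finset.induction_on with
      | empty => rw [sum_empty, sum_empty, word_zero]; exact C.zero_mem
      | insert j s hj ih => rw [sum_insert hj, sum_insert hj, word_add, word_smul]; exact C.add_mem (C.smul_mem _ (hzero j)) ih
    have := key univ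
    rwa [show ∑ j, a j • pairVec 0 j = a from funext fun x => by
      simp only [Finset.sum_apply, Pi.smul_apply, pairVec, Pi.add_apply, smul_eq_mul, mul_add, sum_add_distrib, ← sum_mul]
      rw [ha, zero_mul, zero_add]
      simp [Pi.single_apply]] at this
  refine ⟨e3, fun a b => ⟨fun hab => ?_, ?_⟩⟩
  · have ha : ∑ i, a i = 0 := by
      have := h.horth _ hab _ he
      rw [hword, sum_word] at this
      simp only [Pi.one_apply, mul_one, Pi.zero_apply, mul_zero, sum_const_zero, add_zero, Function.comp_apply] at this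
      rw [← σ.sum_comp]; exact this
    refine ⟨ha, ?_⟩
    have := C.add_mem hab (hcomb a ha)
    rw [← word_add, show a + a = 0 from funext fun x => CharTwo.add_self_eq_zero _, hword] at this
    obtain ⟨t, ht, e0⟩ := (hin _).mp this
    refine ⟨t, ht, ?_⟩
    rw [← e0, add_comm b, ← add_assoc,
      show ∀ u : Fin 16 → ZMod 2, u + u = 0 from fun u => funext fun x => CharTwo.add_self_eq_zero _, zero_add]
  · rintro ⟨ha, t, ht, rfl⟩
    have := C.add_mem (hcomb a ha) (hpoly t ht)
    rwa [← word_add, add_zero] at this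

/-- Any two such codes differ by a permutation of the coordinates. -/
theorem unique {C' : Submodule (ZMod 2) GolayAbstract.F} (h : Hyp C) (h' : Hyp C') :
    ∃ τ : Equiv.Perm (Fin 24), ∀ w, w ∈ C' ↔ w ∘ τ ∈ C := by
  obtain ⟨e, he⟩ := normal_form h
  obtain ⟨e', he'⟩ := normal_form h'
  refine ⟨e.symm.trans e', fun w => ?_⟩
  conv_lhs => rw [← word_parts e' w]
  conv_rhs => rw [← word_parts e (w ∘ ⇑(e.symm.trans e'))]
  rw [he', he]
  simp

end Cfsg.Agent.Spor.GolayUniq
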