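import Mathlib

/-!
Finite facts on the functions of degree at most two on `F₂⁴`: the Pfaffian decides the weight
modulo four, and the seven-element cliques of forms of rank four are the eight stars.
-/

set_option autoImplicit false
set_option maxRecDepth 100000

namespace Cfsg.Agent.Spor.GolayUniq

/-- The eleven monomials at the point with number `v`. -/
def monoB (v : ℕ) : ℕ → Bool
  | 0 => true
  | 1 => v.testBit 0
  | 2 => v.testBit 1
  | 3 => v.testBit 2
  | 4 => v.testBit 3
  | 5 => v.testBit 0 && v.testBit 1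
  | 6 => v.testBit 0 && v.testBit 2
  | 7 => v.testBit 0 && v.testBit 3
  | 8 => v.testBit 1 && v.testBit 2
  | 9 => v.testBit 1 && v.testBit 3
  | 10 => v.testBit 2 && v.testBit 3
  | _ => false

/-- A bit as a scalar. -/
def z (b : Bool) : ZMod 2 := if b then 1 else 0

/-- The function with packed coefficients `c`. -/
def poly (c : ℕ) (v : Fin 16) : ZMod 2 :=
  ∑ k ∈ Finset.range 11, z (c.testBit k) * z (monoB v.val k)

theorem z_xor : ∀ a b : Bool, z (a ^^ b) = z a + z b := by decide

theorem poly_xor (a b : ℕ) : poly (a ^^^ b) = poly a + poly b := by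
  funext v
  simp only [poly, Pi.add_apply, Nat.testBit_xor, z_xor, add_mul, Finset.sum_add_distrib]

theorem poly_zero : poly 0 = 0 := by
  funext v
  simp [poly, z]

/-- The Pfaffian of the quadratic part. -/
def pf (a : ℕ) : Bool :=
  ((a.testBit 0 && a.testBit 5) ^^ (a.testBit 1 && a.testBit 4)) ^^ (a.testBit 2 && a.testBit 3)

/-- The value as a bit, for evaluation. -/
def polyB (c v : ℕ) : Bool :=
  (List.range 11).foldl (fun acc k => acc ^^ (c.testBit k && monoB v k)) false

theorem poly_eq_polyB (c : ℕ) (v : Fin 16) : poly c v = z (polyB c v.val) := by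
  have key : ∀ n, ∑ k ∈ Finset.range n, z (c.testBit k) * z (monoB v.val k) =
      z ((List.range n).foldl (fun acc k => acc ^^ (c.testBit k && monoB v.val k)) false) := by
    intro n
    induction n with
    | zero => simp [z]
    | succ n ih =>
      rw [Finset.sum_range_succ, ih, List.range_succ, List.foldl_append, List.foldl_cons, List.foldl_nil, z_xor]
      congr 1
      cases c.testBit n <;> cases monoB v.val n <;> simp [z]
  exact key 11

/-- The weight. -/
def wt (c : ℕ) : ℕ := ((List.range 16).filter fun v => polyB c v).length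

theorem wt_check : (List.range 2048).all (fun c => !(wt c % 4 == 2) || pf (c / 32)) = true := by
  decide +kernel

theorem hammingNorm_poly (c : ℕ) : hammingNorm (poly c) = wt c := by
  rw [hammingNorm, wt, ← List.toFinset_card_of_nodup (List.nodup_range.filter _)]
  refine Finset.card_bij (fun v _ => v.val) (fun v hv => ?_) (fun a _ b _ e => Fin.ext e) (fun n hn => ?_)
  · rw [Finset.mem_filter] at hv
    rw [List.mem_toFinset, List.mem_filter, List.mem_range]
    refine ⟨v.2, ?_⟩
    have h := hv.2
    rw [poly_eq_polyB] at h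
    cases e : polyB c v.val with
    | true => rfl
    | false => rw [e] at h; exact absurd rfl h
  · rw [List.mem_toFinset, List.mem_filter, List.mem_range] at hn
    refine ⟨⟨n, hn.1⟩, Finset.mem_filter.mpr ⟨Finset.mem_univ _, ?_⟩, rfl⟩
    rw [poly_eq_polyB, hn.2]
    decide

theorem pf_of_wt {c : ℕ} (hc : c < 2048) (h : hammingNorm (poly c) % 4 = 2) : pf (c / 32) = true := by
  have := List.all_eq_true.mp wt_check c (List.mem_range.mpr hc)
  rw [hammingNorm_poly] at h
  simpa [h] using this

/-- The forms of rank four. -/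
def good : List ℕ := (List.range 64).filter pf

/-- The cliques of size `n` among a list of candidates. -/
def cliques : ℕ → List ℕ → List (List ℕ)
  | 0, _ => [[]]
  | n + 1, l => l.tails.flatMap fun t =>
      match t with
      | [] => []
      | a :: r => (cliques n (r.filter fun b => pf (a ^^^ b))).map (a :: ·)

/-- The reference star. -/
def star : ℕ → ℕ
  | 1 => 12 | 2 => 22 | 3 => 27 | 4 => 39 | 5 => 41 | 6 => 53 | 7 => 58 | _ => 0

/-- The form of a pair. -/
def pairForm (a b : Fin 8) : ℕ := star a.val ^^^ star b.val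

theorem mem_cliques : ∀ (n : ℕ) (l : List ℕ) (S : Finset ℕ), S ⊆ l.toFinset → S.card = n →
    (∀ a ∈ S, ∀ b ∈ S, a ≠ b → pf (a ^^^ b) = true) → ∃ L ∈ cliques n l, L.toFinset = S := by
  classical
  intro n
  induction n with
  | zero =>
    intro l S _ hc _
    rw [Finset.card_eq_zero] at hc
    exact ⟨[], by simp [cliques], by simp [hc]⟩
  | succ n ih =>
    intro l
    induction l with
    | nil =>
      intro S hS hc _
      rw [List.toFinset_nil, Finset.subset_empty] at hS
      simp [hS] at hc
    | cons a l ihl =>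
      intro S hS hc hp
      by_cases ha : a ∈ S
      · obtain ⟨L, hL, e⟩ := ih (l.filter fun b => pf (a ^^^ b)) (S.erase a) (fun b hb => by
            rw [Finset.mem_erase] at hb
            have := hS hb.2
            rw [List.mem_toFinset, List.mem_cons] at this
            rw [List.mem_toFinset, List.mem_filter]
            exact ⟨this.resolve_left hb.1, hp a ha b hb.2 (Ne.symm hb.1)⟩)
          (by rw [Finset.card_erase_of_mem ha, hc]; rfl)
          (fun x hx y hy => hp x (Finset.mem_of_mem_erase hx) y (Finset.mem_of_mem_erase hy))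
        refine ⟨a :: L, ?_, by rw [List.toFinset_cons, e, Finset.insert_erase ha]⟩
        rw [cliques, List.mem_flatMap]
        exact ⟨a :: l, by simp [List.tails], List.mem_map.mpr ⟨L, hL, rfl⟩⟩
      · obtain ⟨L, hL, e⟩ := ihl S (fun b hb => by
            have := hS hb
            rw [List.mem_toFinset, List.mem_cons] at this
            rw [List.mem_toFinset]
            exact this.resolve_left fun h => ha (h ▸ hb)) hc hp
        refine ⟨L, ?_, e⟩
        rw [cliques, List.mem_flatMap] at hL ⊢
        obtain ⟨t, ht, hLt⟩ := hL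
        exact ⟨t, by rw [List.tails_cons]; exact List.mem_cons_of_mem _ ht, hLt⟩

/-- Whether a list is one of the stars. -/
def isStar (L : List ℕ) : Bool :=
  (List.finRange 8).any fun k => L.all fun x => (List.finRange 8).any fun j => (j != k) && (pairForm k j == x)

theorem cliques_check : (cliques 7 good).all isStar = true := by decide +kernel

/-- Seven forms of rank four with sums of rank four form a star. -/
theorem exists_star (B : Fin 7 → ℕ) (h64 : ∀ i, B i < 64) (hg : ∀ i, pf (B i) = true)
    (hp : ∀ i j, i ≠ j → pf (B i ^^^ B j) = true) : ∃ k : Fin 8, ∀ i, ∃ j, j ≠ k ∧ pairForm k j = B i := by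
  classical
  have hinj : Function.Injective B := fun i j e => by
    by_contra h
    have := hp i j h
    rw [e, Nat.xor_self] at this
    exact absurd this (by decide)
  obtain ⟨L, hL, e⟩ := mem_cliques 7 good (Finset.univ.image B)
    (fun b hb => by
      obtain ⟨i, -, rfl⟩ := Finset.mem_image.mp hb
      rw [List.mem_toFinset, good, List.mem_filter, List.mem_range]
      exact ⟨h64 i, hg i⟩)
    (by rw [Finset.card_image_of_injective _ hinj]; rfl)
    (fun a ha b hb hab => by
      obtain ⟨i, -, rfl⟩ := Finset.mem_image.mp ha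
      obtain ⟨j, -, rfl⟩ := Finset.mem_image.mp hb
      exact hp i j fun h => hab (by rw [h]))
  have := List.all_eq_true.mp cliques_check L hL
  rw [isStar, List.any_eq_true] at this
  obtain ⟨k, -, hk⟩ := this
  refine ⟨k, fun i => ?_⟩
  have hmem : B i ∈ L := by rw [← List.mem_toFinset, e]; exact Finset.mem_image_of_mem _ (Finset.mem_univ i)
  have h2 := List.all_eq_true.mp hk (B i) hmem
  rw [List.any_eq_true] at h2
  obtain ⟨j, -, hj⟩ := h2
  simp only [Bool.and_eq_true, bne_iff_ne, ne_eq, beq_iff_eq] at hj
  exact ⟨j, hj.1, hj.2⟩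

/-- The affine functions are `poly a` with `a < 32`, and their orthogonal is spanned by the `poly c`. -/
def coef (f : ℕ → Bool) : ℕ → Bool
  | 0 => f 0
  | 1 => f 1 ^^ f 0
  | 2 => f 2 ^^ f 0
  | 3 => f 4 ^^ f 0
  | 4 => f 8 ^^ f 0
  | 5 => f 3 ^^ f 1 ^^ f 2 ^^ f 0
  | 6 => f 5 ^^ f 1 ^^ f 4 ^^ f 0
  | 7 => f 9 ^^ f 1 ^^ f 8 ^^ f 0
  | 8 => f 6 ^^ f 2 ^^ f 4 ^^ f 0
  | 9 => f 10 ^^ f 2 ^^ f 8 ^^ f 0
  | 10 => f 12 ^^ f 4 ^^ f 8 ^^ f 0
  | _ => false

/-- Assemble a number from bits. -/
def ofBits (f : ℕ → Bool) : ℕ → ℕ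
  | 0 => 0
  | n + 1 => ofBits f n + (f n).toNat * 2 ^ n

theorem ofBits_spec (f : ℕ → Bool) : ∀ n, ofBits f n < 2 ^ n ∧ ∀ k < n, (ofBits f n).testBit k = f k
  | 0 => ⟨by norm_num [ofBits], fun k hk => absurd hk (Nat.not_lt_zero k)⟩
  | n + 1 => by
    obtain ⟨h1, h2⟩ := ofBits_spec f n
    have hb : (f n).toNat ≤ 1 := Bool.toNat_le _
    have e : ofBits f (n + 1) = 2 ^ n * (f n).toNat + ofBits f n := by rw [ofBits]; ring
    refine ⟨?_, fun k hk => ?_⟩
    · rw [e, pow_succ]
      have : 2 ^ n * (f n).toNat ≤ 2 ^ n * 1 := Nat.mul_le_mul_left _ hb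
      omega
    · rw [e, Nat.testBit_two_pow_mul_add _ h1]
      by_cases hkn : k < n
      · rw [if_pos hkn, h2 k hkn]
      · obtain rfl : k = n := by omega
        rw [if_neg hkn, Nat.sub_self]
        cases f k <;> rfl

end Cfsg.Agent.Spor.GolayUniq
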