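import Cfsg.Agent.Lib.Spor.GolayUniqueData

/-! The orthogonal of the affine functions on `F₂⁴` consists of the functions of degree at most two. -/

set_option autoImplicit false
set_option maxRecDepth 100000
set_option maxHeartbeats 1000000

namespace Cfsg.Agent.Spor.GolayUniq

theorem five_zero : ∀ a b c d e : ZMod 2, a + b + c + d + e = 0 → a + b + c + e = 0 → a + b + d + e = 0 →
    a + c + d + e = 0 → b + c + d + e = 0 → a = 0 ∧ b = 0 ∧ c = 0 ∧ d = 0 ∧ e = 0 := by decide

theorem zmod_two_cases : ∀ t : ZMod 2, t = 0 ∨ t = 1 := by decide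

theorem two_eq : (2 : ZMod 2) = 0 := rfl

theorem mono_orth : ∀ k < 11, ∀ i < 5, ∑ v : Fin 16, z (monoB v.val k) * z (monoB v.val i) = 0 := by
  decide +kernel

theorem poly_orth {c a : ℕ} (ha : a < 32) : ∑ v, poly c v * poly a v = 0 := by
  simp only [poly, Finset.sum_mul_sum]
  rw [Finset.sum_comm]
  refine Finset.sum_eq_zero fun k hk => ?_
  rw [Finset.sum_comm]
  refine Finset.sum_eq_zero fun i _ => ?_
  by_cases hb : a.testBit i
  · have hi5 : i < 5 := by
      by_contra h5
      have := Nat.testBit_lt_two_pow (Nat.lt_of_lt_of_le ha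
        (show 2 ^ 5 ≤ 2 ^ i from Nat.pow_le_pow_right (by norm_num) (by omega)))
      rw [hb] at this
      exact Bool.noConfusion this
    have e := mono_orth k (Finset.mem_range.mp hk) i hi5
    calc ∑ v : Fin 16, z (c.testBit k) * z (monoB v.val k) * (z (a.testBit i) * z (monoB v.val i))
        = z (c.testBit k) * z (a.testBit i) * ∑ v : Fin 16, z (monoB v.val k) * z (monoB v.val i) := by
          rw [Finset.mul_sum]; exact Finset.sum_congr rfl fun v _ => by ring
      _ = 0 := by rw [e, mul_zero]
  · simp [hb, z]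

/-- The five points not determined by the coefficients. -/
def rest : Finset (Fin 16) := {7, 11, 13, 14, 15}

theorem interp (f : ℕ → Bool) : ∀ v : Fin 16, v ∉ rest →
    ∑ k ∈ Finset.range 11, z (coef f k) * z (monoB v.val k) = z (f v.val) := by
  intro v hv
  fin_cases v <;> first
    | (exfalso; exact hv (by decide))
    | (simp [Finset.sum_range_succ, monoB, coef, z_xor]
       generalize f 0 = b0; generalize f 1 = b1; generalize f 2 = b2; generalize f 3 = b3
       generalize f 4 = b4; generalize f 5 = b5; generalize f 6 = b6; generalize f 8 = b8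
       generalize f 9 = b9; generalize f 10 = b10; generalize f 12 = b12
       revert b0 b1 b2 b3 b4 b5 b6 b8 b9 b10 b12
       decide +kernel)

theorem exists_poly (g : Fin 16 → ZMod 2) (h : ∀ a < 32, ∑ v, g v * poly a v = 0) :
    ∃ c < 2048, poly c = g := by
  let f : ℕ → Bool := fun n => decide (g ⟨n % 16, Nat.mod_lt _ (by norm_num)⟩ = 1)
  have hf : ∀ v : Fin 16, z (f v.val) = g v := fun v => by
    have e : (⟨v.val % 16, Nat.mod_lt _ (by norm_num)⟩ : Fin 16) = v := Fin.ext (Nat.mod_eq_of_lt v.2)
    show z (decide (g ⟨v.val % 16, Nat.mod_lt _ (by norm_num)⟩ = 1)) = g v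
    rw [e]
    rcases zmod_two_cases (g v) with e' | e' <;> rw [e'] <;> decide
  obtain ⟨hc, hbit⟩ := ofBits_spec (coef f) 11
  refine ⟨ofBits (coef f) 11, lt_of_lt_of_eq hc (by norm_num), ?_⟩
  generalize hcdef : ofBits (coef f) 11 = c at hc hbit
  have h11 : ∀ v : Fin 16, v ∉ rest → poly c v = g v := by
    intro v hv
    rw [← hf v, ← interp f v hv, poly]
    exact Finset.sum_congr rfl fun k hk => by rw [hbit k (Finset.mem_range.mp hk)]
  have hsum : ∀ a < 32, ∑ v ∈ rest, (g v + poly c v) * poly a v = 0 := by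
    intro a ha
    rw [Finset.sum_subset (Finset.subset_univ rest) (fun v _ hv => by
      rw [h11 v hv, CharTwo.add_self_eq_zero, zero_mul])]
    simp only [add_mul, Finset.sum_add_distrib, h a ha, poly_orth ha, add_zero]
  have hm : ∀ i < 5, ∀ v : Fin 16, poly (2 ^ i) v = z (monoB v.val i) := by decide +kernel
  have he : ∀ i, i < 5 → ∑ v ∈ rest, (g v + poly c v) * z (monoB v.val i) = 0 := fun i hi => by
    rw [← hsum (2 ^ i) (lt_of_lt_of_le (Nat.pow_lt_pow_right (by norm_num) hi) (by norm_num))]
    exact Finset.sum_congr rfl fun v _ => by rw [hm i hi v]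
  have hex : ∀ F : Fin 16 → ZMod 2, ∑ v ∈ rest, F v = F 7 + F 11 + F 13 + F 14 + F 15 := fun F => by
    simp [rest, Finset.sum_insert, add_assoc]
  have e0 := he 0 (by norm_num)
  have e1 := he 1 (by norm_num)
  have e2 := he 2 (by norm_num)
  have e3 := he 3 (by norm_num)
  have e4 := he 4 (by norm_num)
  rw [hex] at e0 e1 e2 e3 e4
  simp (config := {decide := true}) [monoB, z] at e0 e1 e2 e3 e4
  obtain ⟨z7, z11, z13, z14, z15⟩ := five_zero (g 7 + poly c 7) (g 11 + poly c 11) (g 13 + poly c 13)
    (g 14 + poly c 14) (g 15 + poly c 15) (by linear_combination e0) (by linear_combination e1)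
    (by linear_combination e2) (by linear_combination e3) (by linear_combination e4)
  funext v
  by_cases hv : v ∈ rest
  · have hz : g v + poly c v = 0 := by
      simp only [rest, Finset.mem_insert, Finset.mem_singleton] at hv
      rcases hv with rfl | rfl | rfl | rfl | rfl <;> assumption
    exact (CharTwo.add_eq_zero.mp hz).symm
  · exact h11 v hv

end Cfsg.Agent.Spor.GolayUniq
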