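import Cfsg.Agent.Lib.Spor.HallWidthOneQuot
import Cfsg.Agent.Lib.Spor.SUFieldCongr
import Cfsg.Agent.Lib.Grp.Cores

/-! A complement to the 2-core when the quotient is the derived group of `SU(3,2)`. -/

set_option autoImplicit false
set_option linter.style.haveILetI false

namespace Cfsg.Agent.Spor.HallOne

open Cfsg

universe u

variable {G : Type u} [Group G] [Finite G] {D : Set G}

theorem exists_complement (hD : IsThreeTranspositionClass D) (hD2 : ∃ a ∈ D, ∃ b ∈ D, a ≠ b)
    (hF : generalizedFittingSubgroup G = pCore 2 G) [(pCore 2 G).Normal]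
    (hcard : Nat.card (G ⧸ pCore 2 G) = 54) : ∃ K : Subgroup G, (pCore 2 G).IsComplement' K := by
  classical
  haveI : Fact (Nat.Prime 2) := ⟨Nat.prime_two⟩
  haveI : Fact (Nat.Prime 3) := ⟨Nat.prime_three⟩
  set V := pCore 2 G with hVdef
  have hV2 : IsPGroup 2 V := Grp.pCore_isPGroup
  have hVn : V.Normal := inferInstance
  let π := QuotientGroup.mk' V
  have hπs : Function.Surjective π := QuotientGroup.mk'_surjective V
  have hπ1 : ∀ x, π x = 1 ↔ x ∈ V := fun x => QuotientGroup.eq_one_iff x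
  obtain ⟨d, hd, -⟩ := hD.2.1
  have hdd : d * d = 1 := ThreeTrans.mul_self hD.1 hd
  have hdV : d ∉ V := by
    intro h
    have htop : (⊤ : Subgroup G) ≤ V := by
      rw [← hD.2.2, Subgroup.closure_le]
      intro e he
      obtain ⟨g, rfl⟩ := FischerStr.exists_conj hD hd he
      exact hVn.conj_mem d h g
    have hone : Nat.card (G ⧸ V) = 1 := by
      rw [← Subgroup.index_eq_card, Subgroup.index_eq_one]; exact eq_top_iff.mpr htop
    omega
  have hsylow : ∀ Pb : Sylow 3 (G ⧸ V), Nat.card (Pb : Subgroup (G ⧸ V)) = 27 ∧ (Pb : Subgroup (G ⧸ V)).index = 2 := by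
    intro Pb
    have h1 := Pb.card_eq_multiplicity
    rw [hcard, show Nat.factorization 54 3 = 3 from by
      rw [show (54 : ℕ) = 2 * 3 ^ 3 from rfl, Nat.factorization_mul (by norm_num) (by norm_num),
        Nat.prime_two.factorization, Nat.factorization_pow, Nat.prime_three.factorization]
      simp] at h1
    have h2 := Subgroup.card_mul_index (Pb : Subgroup (G ⧸ V))
    rw [hcard, h1] at h2
    exact ⟨h1, by omega⟩
  obtain ⟨Pb⟩ : Nonempty (Sylow 3 (G ⧸ V)) := Sylow.nonempty
  have hPbn : (Pb : Subgroup (G ⧸ V)).Normal := Subgroup.normal_of_index_eq_two (hsylow Pb).2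
  have hcomap : ∀ P : Sylow 3 G, (P : Subgroup G) ⊔ V = (Pb : Subgroup (G ⧸ V)).comap π := by
    intro P
    haveI := Sylow.unique_of_normal Pb hPbn
    have : P.mapSurjective hπs = Pb := Subsingleton.elim _ _
    rw [← this, Sylow.coe_mapSurjective, Subgroup.comap_map_eq, QuotientGroup.ker_mk']
  obtain ⟨Ps, hPs⟩ := InvolSylow.exists_normalized_sylow _ G rfl d hdd V hVn hV2
    (fun P => by rw [hcomap]; exact hPbn.comap π) (fun x hx => by
      have hm : d * (x * d * x⁻¹) ∈ V :=
        ThreeTrans.mul_symm_mem hD (FischerStr.conj_mem hD x hd) hd hx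
      obtain ⟨u, hu, e⟩ := ThreeTrans.exists_conj_core_two hD hD2
        (ThreeTrans.perpTwo_of_core hD hd (FischerStr.conj_mem hD x hd) hm)
      refine ⟨u⁻¹ * x, ?_, ?_⟩
      · show u⁻¹ * x * d = d * (u⁻¹ * x)
        calc u⁻¹ * x * d = u⁻¹ * (x * d * x⁻¹) * x := by group
          _ = _ := by rw [e]; group
      · rw [show (u⁻¹ * x)⁻¹ * x = x⁻¹ * u * x⁻¹⁻¹ by group]
        exact hVn.conj_mem u hu x⁻¹)
  set P : Subgroup G := (Ps : Subgroup G) with hPdef
  have hP : IsPGroup 3 P := Ps.isPGroup'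
  obtain ⟨K, eK⟩ : ∃ K : Subgroup G, K = P ⊔ Subgroup.zpowers d := ⟨_, rfl⟩
  have hnorm : Subgroup.zpowers d ≤ Subgroup.normalizer (P : Set G) := Subgroup.zpowers_le.mpr hPs
  have hmem : ∀ x, x ∈ K → ∃ p ∈ P, x = p ∨ x = p * d := by
    intro x hx
    have hx' : x ∈ ((P ⊔ Subgroup.zpowers d : Subgroup G) : Set G) := by rw [← eK]; exact hx
    rw [Subgroup.coe_mul_of_right_le_normalizer_left _ _ hnorm] at hx'
    obtain ⟨p, hp, c, hc, rfl⟩ := hx'
    refine ⟨p, hp, ?_⟩
    obtain ⟨i, rfl⟩ := Subgroup.mem_zpowers_iff.mp hc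
    have h2 : d ^ (2 : ℤ) = 1 := by rw [zpow_ofNat, pow_two, hdd]
    rcases Int.even_or_odd' i with ⟨j, rfl | rfl⟩
    · left; show p * d ^ (2 * j) = p; rw [zpow_mul, h2, one_zpow, mul_one]
    · right; show p * d ^ (2 * j + 1) = p * d; rw [zpow_add, zpow_mul, h2, one_zpow, one_mul, zpow_one]
  refine ⟨K, Subgroup.isComplement'_of_disjoint_and_mul_eq_univ ?_ ?_⟩
  · rw [Subgroup.disjoint_def]
    intro x hxV hxK
    obtain ⟨p, hp, rfl | rfl⟩ := hmem x hxK
    · exact InvolSylow.eq_one_of_two_three hV2 hP hxV hp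
    · exfalso
      apply hdV
      have e : π p = π d := by
        have h1 : π p * π d = 1 := by rw [← map_mul]; exact (hπ1 _).mpr hxV
        rw [mul_eq_one_iff_eq_inv.mp h1, ← map_inv, ThreeTrans.inv_eq hD.1 hd]
      obtain ⟨j, hj⟩ := hP ⟨p, hp⟩
      rw [← hπ1]
      refine FischerStr.eq_one_of_coprime (Nat.Coprime.pow_right j (by norm_num : Nat.Coprime 2 3)) ?_ ?_
      · rw [pow_two, ← map_mul, hdd, map_one]
      · rw [← e, ← map_pow, show p ^ 3 ^ j = 1 from congrArg Subtype.val hj, map_one]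
  · rw [← Subgroup.normal_mul]
    have htop : V ⊔ K = ⊤ := by
      rw [eq_top_iff]
      have hle : (Pb : Subgroup (G ⧸ V)).comap π ≤ V ⊔ K := by
        rw [← hcomap Ps, sup_comm]; exact sup_le_sup_left (eK ▸ le_sup_left) V
      intro g _
      have hdK : d ∈ V ⊔ K := Subgroup.mem_sup_right (eK ▸ Subgroup.mem_sup_right (Subgroup.mem_zpowers d))
      by_cases hg : π g ∈ (Pb : Subgroup (G ⧸ V))
      · exact hle hg
      · have hdn : π d ∉ (Pb : Subgroup (G ⧸ V)) := fun h => by
          obtain ⟨j, hj⟩ := Pb.isPGroup' ⟨π d, h⟩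
          exact hdV ((hπ1 d).mp (FischerStr.eq_one_of_coprime (Nat.Coprime.pow_right j (by norm_num : Nat.Coprime 2 3))
            (by rw [pow_two, ← map_mul, hdd, map_one]) (congrArg Subtype.val hj)))
        have := hle (show π (g * d) ∈ (Pb : Subgroup (G ⧸ V)) by
          rw [map_mul, Subgroup.mul_mem_iff_of_index_two (hsylow Pb).2]; exact iff_of_false hg hdn)
        simpa [mul_assoc, hdd] using mul_mem this hdK
    rw [htop]; rfl

theorem complement_of_unit (hD : IsThreeTranspositionClass D) (hZ : Subgroup.center G = ⊥)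
    (hF : generalizedFittingSubgroup G = pCore 2 G)
    (hq : ∃ (F : Type) (_ : Field F) (_ : Fintype F), Fintype.card F = 4 ∧
      Nonempty (G ⧸ pCore 2 G ≃* ↥(commutator ↥(SU 3 F 2)))) : ∃ K : Subgroup G, (pCore 2 G).IsComplement' K := by
  haveI : (pCore 2 G).Normal := Grp.pCore_isNormal
  obtain ⟨F, hf, hfin, h4, ⟨e⟩⟩ := hq
  refine exists_complement hD ?_ hF ?_
  · by_contra h
    push Not at h
    obtain ⟨d, hd, -⟩ := hD.2.1
    have hsub : D ⊆ {d} := fun a ha => h a ha d hd
    have hc : d ∈ Subgroup.center G := FischerStr.mem_center_of hD.2.2 fun a ha => by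
      rw [hsub ha]
    rw [hZ, Subgroup.mem_bot] at hc
    have := hD.1.1 d hd
    rw [hc, orderOf_one] at this
    omega
  · obtain ⟨a⟩ := SUCongr.commutator_equiv (SUCongr.equiv (n := 3) 2 (FiniteField.ringEquivOfCardEq (K := F) (K' := SU32.F4) (h4.trans SU32.card_F4.symm)))
    obtain ⟨B⟩ := SU32.data
    rw [Nat.card_congr (e.trans a).toEquiv, B.card]

end Cfsg.Agent.Spor.HallOne
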