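import Mathlib

/-! Groups of order 54: Heisenberg group of order 27 with an inverting involution. -/

set_option autoImplicit false
set_option linter.style.haveILetI false

namespace Cfsg.Agent.Spor.Heis54

/-- The parameters. -/
abbrev Par : Type := ZMod 3 × ZMod 3 × ZMod 3 × ZMod 2

/-- Generators and relations. -/
structure Rel (G : Type*) [Group G] where
  m : G
  b : G
  z : G
  d : G
  m3 : m ^ 3 = 1
  b3 : b ^ 3 = 1
  z3 : z ^ 3 = 1
  d2 : d * d = 1
  bm : b * m = m * b * z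
  zm : Commute z m
  zb : Commute z b
  zd : Commute z d
  dm : d * m * d = m⁻¹
  db : d * b * d = b⁻¹

variable {G : Type*} [Group G] (h : Rel G)

/-- The normal form. -/
def Rel.nf (p : Par) : G := h.m ^ p.1.val * h.b ^ p.2.1.val * h.z ^ p.2.2.1.val * h.d ^ p.2.2.2.val

/-- The sign of the last coordinate. -/
def sgn (s : ZMod 2) : ZMod 3 := if s = 0 then 1 else -1

/-- Right multiplication by the four generators. -/
def stepD (p : Par) : Par := (p.1, p.2.1, p.2.2.1, p.2.2.2 + 1)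
def stepZ (p : Par) : Par := (p.1, p.2.1, p.2.2.1 + 1, p.2.2.2)
def stepB (p : Par) : Par := (p.1, p.2.1 + sgn p.2.2.2, p.2.2.1, p.2.2.2)
def stepM (p : Par) : Par := (p.1 + sgn p.2.2.2, p.2.1, p.2.2.1 + sgn p.2.2.2 * p.2.1, p.2.2.2)

theorem pow_val_add {x : G} (hx : x ^ 3 = 1) (i j : ZMod 3) : x ^ (i + j).val = x ^ i.val * x ^ j.val := by
  rw [← pow_add, ZMod.val_add, ← pow_eq_pow_mod (i.val + j.val) hx]

theorem pow_val_mul {x : G} (hx : x ^ 3 = 1) (i j : ZMod 3) : x ^ (i * j).val = x ^ (i.val * j.val) := by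
  rw [ZMod.val_mul, ← pow_eq_pow_mod _ hx]

theorem pow_val_neg_one {x : G} (hx : x ^ 3 = 1) : x ^ (-1 : ZMod 3).val = x⁻¹ := by
  rw [show (-1 : ZMod 3).val = 2 from rfl]
  exact eq_inv_of_mul_eq_one_left (by rw [← pow_succ, hx])

theorem pow_val_one (x : G) : x ^ (1 : ZMod 3).val = x := pow_one x

theorem dpow (s : ZMod 2) : h.d ^ s.val * h.d = h.d ^ (s + 1).val := by
  revert s
  have : ∀ s : ZMod 2, s = 0 ∨ s = 1 := by decide
  intro s
  rcases this s with rfl | rfl
  · rw [show (0 : ZMod 2).val = 0 from rfl, show ((0 : ZMod 2) + 1).val = 1 from rfl, pow_zero, one_mul, pow_one]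
  · rw [show (1 : ZMod 2).val = 1 from rfl, show ((1 : ZMod 2) + 1).val = 0 from rfl, pow_one, pow_zero, h.d2]

theorem dconj {x : G} (hx : x ^ 3 = 1) (hd : h.d * x * h.d = x⁻¹) (s : ZMod 2) :
    h.d ^ s.val * x = x ^ (sgn s).val * h.d ^ s.val := by
  have : ∀ s : ZMod 2, s = 0 ∨ s = 1 := by decide
  rcases this s with rfl | rfl
  · rw [show (0 : ZMod 2).val = 0 from rfl, pow_zero, one_mul, mul_one, show sgn 0 = 1 from rfl, pow_val_one]
  · rw [show (1 : ZMod 2).val = 1 from rfl, pow_one, show sgn 1 = -1 from rfl, pow_val_neg_one hx, ← hd, mul_assoc _ h.d h.d, h.d2, mul_one]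

theorem bswap (a c : ℕ) : h.b ^ a * h.m ^ c = h.m ^ c * h.b ^ a * h.z ^ (c * a) := by
  have h1 : ∀ a : ℕ, h.b ^ a * h.m = h.m * h.b ^ a * h.z ^ a := by
    intro a
    induction a with
    | zero => simp
    | succ a ih =>
      rw [pow_succ' h.b a, mul_assoc, ih, ← mul_assoc, ← mul_assoc, h.bm]
      rw [show h.m * h.b * h.z * h.b ^ a = h.m * (h.b * h.b ^ a) * h.z by
        rw [mul_assoc (h.m * h.b), (h.zb.pow_right a).eq]; group]
      rw [mul_assoc _ h.z, ← pow_succ' h.z a]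
  induction c with
  | zero => simp
  | succ c ih =>
    rw [pow_succ h.m c, ← mul_assoc, ih, mul_assoc (h.m ^ c * h.b ^ a), (h.zm.pow_left (c * a)).eq,
      ← mul_assoc, mul_assoc (h.m ^ c), h1, ← mul_assoc, ← mul_assoc, mul_assoc _ (h.z ^ a), ← pow_add]
    congr 2
    ring

theorem nf_stepD (p : Par) : h.nf p * h.d = h.nf (stepD p) := by
  obtain ⟨i, j, k, s⟩ := p
  show _ * _ * _ * h.d ^ s.val * h.d = h.m ^ i.val * h.b ^ j.val * h.z ^ k.val * h.d ^ (s + 1).val
  rw [mul_assoc _ (h.d ^ s.val), dpow]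

theorem nf_stepZ (p : Par) : h.nf p * h.z = h.nf (stepZ p) := by
  obtain ⟨i, j, k, s⟩ := p
  show _ * _ * _ * h.d ^ s.val * h.z = h.m ^ i.val * h.b ^ j.val * h.z ^ (k + 1).val * h.d ^ s.val
  rw [mul_assoc _ (h.d ^ s.val), ← (h.zd.pow_right s.val).eq, pow_val_add h.z3, pow_val_one]
  simp only [mul_assoc]

theorem nf_stepB (p : Par) : h.nf p * h.b = h.nf (stepB p) := by
  obtain ⟨i, j, k, s⟩ := p
  show _ * _ * _ * h.d ^ s.val * h.b = h.m ^ i.val * h.b ^ (j + sgn s).val * h.z ^ k.val * h.d ^ s.val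
  rw [mul_assoc _ (h.d ^ s.val), dconj h h.b3 h.db, pow_val_add h.b3, ← mul_assoc,
    mul_assoc _ (h.z ^ k.val), (h.zb.pow_pow k.val (sgn s).val).eq]
  simp only [mul_assoc]

theorem nf_stepM (p : Par) : h.nf p * h.m = h.nf (stepM p) := by
  obtain ⟨i, j, k, s⟩ := p
  show _ * _ * _ * h.d ^ s.val * h.m =
    h.m ^ (i + sgn s).val * h.b ^ j.val * h.z ^ (k + sgn s * j).val * h.d ^ s.val
  rw [mul_assoc _ (h.d ^ s.val), dconj h h.m3 h.dm, ← mul_assoc, mul_assoc _ (h.z ^ k.val),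
    (h.zm.pow_pow k.val (sgn s).val).eq, ← mul_assoc, mul_assoc (h.m ^ i.val), bswap, pow_val_add h.m3,
    add_comm k, pow_val_add h.z3, pow_val_mul h.z3]
  simp only [mul_assoc]

theorem nf_zero : h.nf 0 = 1 := by simp [Rel.nf]

/-- Everything generated by the generators is in normal form. -/
theorem exists_nf {g : G} (hg : g ∈ Subgroup.closure ({h.m, h.b, h.z, h.d} : Set G)) : ∃ p, g = h.nf p := by
  induction hg using Subgroup.closure_induction_right with
  | one => exact ⟨0, (nf_zero h).symm⟩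
  | mul_right x hx y hy ih =>
    obtain ⟨p, rfl⟩ := ih
    rcases hy with rfl | rfl | rfl | rfl
    · exact ⟨_, nf_stepM h p⟩
    · exact ⟨_, nf_stepB h p⟩
    · exact ⟨_, nf_stepZ h p⟩
    · exact ⟨_, nf_stepD h p⟩
  | mul_inv_cancel x hx y hy ih =>
    obtain ⟨p, rfl⟩ := ih
    have e3 : ∀ (w : G) (f : Par → Par), w ^ 3 = 1 → (∀ p, h.nf p * w = h.nf (f p)) → ∃ q, h.nf p * w⁻¹ = h.nf q :=
      fun w f hw hf => ⟨f (f p), by rw [← hf, ← hf, mul_assoc, inv_eq_of_mul_eq_one_right (show w * (w * w) = 1 by rw [← pow_three, hw])]⟩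
    rcases hy with rfl | rfl | rfl | rfl
    · exact e3 _ _ h.m3 (nf_stepM h)
    · exact e3 _ _ h.b3 (nf_stepB h)
    · exact e3 _ _ h.z3 (nf_stepZ h)
    · exact ⟨stepD p, by rw [inv_eq_of_mul_eq_one_right h.d2, nf_stepD]⟩

/-- The relations with generation and order. -/
structure Data (G : Type*) [Group G] extends Rel G where
  gen : Subgroup.closure ({m, b, z, d} : Set G) = ⊤
  card : Nat.card G = 54

theorem Data.bij [Finite G] (D : Data G) : Function.Bijective D.toRel.nf :=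
  (Nat.bijective_iff_surjective_and_card _).mpr ⟨fun g =>
    (exists_nf D.toRel (show g ∈ _ from D.gen.symm ▸ Subgroup.mem_top g)).imp fun _ h => h.symm, by
      simp [Nat.card_prod, D.card]⟩

/-- Two such groups are isomorphic. -/
theorem Data.iso {H : Type*} [Group H] [Finite G] [Finite H] (A : Data G) (B : Data H) : Nonempty (G ≃* H) := by
  let eA := Equiv.ofBijective _ (Data.bij A)
  let eB := Equiv.ofBijective _ (Data.bij B)
  let f : G → H := fun g => eB (eA.symm g)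
  have key : ∀ (x : G) (y : H) (st : Par → Par), (∀ p, A.toRel.nf p * x = A.toRel.nf (st p)) →
      (∀ p, B.toRel.nf p * y = B.toRel.nf (st p)) → ∀ (n : ℕ) (g : G), f (g * x ^ n) = f g * y ^ n := by
    intro x y st hA hB n
    induction n with
    | zero => simp
    | succ n ih =>
      intro g
      obtain ⟨p, hp⟩ := eA.surjective (g * x ^ n)
      rw [pow_succ x, pow_succ y, ← mul_assoc, ← mul_assoc, ← ih g]
      show eB (eA.symm (g * x ^ n * x)) = eB (eA.symm (g * x ^ n)) * y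
      rw [← hp, eA.symm_apply_apply, show eA p * x = eA (st p) from hA p, eA.symm_apply_apply]
      exact (hB p).symm
  refine ⟨MulEquiv.mk' (eA.symm.trans eB) fun g g' => ?_⟩
  show f (g * g') = f g * f g'
  obtain ⟨⟨i, j, k, s⟩, rfl⟩ := eA.surjective g'
  rw [show f (eA (i, j, k, s)) = B.toRel.nf (i, j, k, s) from congrArg eB (eA.symm_apply_apply _)]
  show f (g * (A.m ^ i.val * A.b ^ j.val * A.z ^ k.val * A.d ^ s.val)) =
    f g * (B.m ^ i.val * B.b ^ j.val * B.z ^ k.val * B.d ^ s.val)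
  simp only [← mul_assoc]
  rw [key _ _ stepD (nf_stepD _) (nf_stepD _), key _ _ stepZ (nf_stepZ _) (nf_stepZ _),
    key _ _ stepB (nf_stepB _) (nf_stepB _), key _ _ stepM (nf_stepM _) (nf_stepM _)]

end Cfsg.Agent.Spor.Heis54
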