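import Cfsg.Agent.Lib.Grp.Coprime
import Cfsg.Agent.Lib.Transfer.Cores

/-! An involution normalizing some Sylow 3-subgroup above a normal 2-subgroup. -/

set_option autoImplicit false
set_option linter.style.haveILetI false

namespace Cfsg.Agent.Spor.InvolSylow

open scoped Pointwise

universe u

variable {G : Type u} [Group G] [Finite G]

theorem eq_one_of_two_three {W P : Subgroup G} (hW : IsPGroup 2 W) (hP : IsPGroup 3 P) {x : G}
    (h1 : x ∈ W) (h2 : x ∈ P) : x = 1 := by
  obtain ⟨i, hi⟩ := hW ⟨x, h1⟩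
  obtain ⟨j, hj⟩ := hP ⟨x, h2⟩
  exact orderOf_eq_one_iff.mp (Nat.eq_one_of_dvd_coprimes (Nat.Coprime.pow i j (by norm_num : Nat.Coprime 2 3))
    (orderOf_dvd_of_pow_eq_one (congrArg Subtype.val hi)) (orderOf_dvd_of_pow_eq_one (congrArg Subtype.val hj)))

/-- The abelian layer. -/
theorem layer {W : Subgroup G} [hWn : W.Normal] (hW : IsPGroup 2 W)
    (hcomm : ∀ a ∈ W, ∀ b ∈ W, a * b = b * a) {e : G} (he : e * e = 1) (P : Sylow 3 G)
    (hK : e ∈ Subgroup.normalizer (((P : Subgroup G) ⊔ W : Subgroup G) : Set G))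
    (hfix : ∀ R : Subgroup G, IsPGroup 3 R → (∀ x ∈ R, x * e * x⁻¹ * e ∈ W) →
      ∃ m : G, m * e * m⁻¹ * e ∈ W ∧ ∀ x ∈ R, Commute x (m * e * m⁻¹)) :
    ∃ Q : Sylow 3 G, e ∈ Subgroup.normalizer ((Q : Subgroup G) : Set G) := by
  classical
  haveI : Fact (Nat.Prime 3) := ⟨Nat.prime_three⟩
  have hei : e⁻¹ = e := inv_eq_of_mul_eq_one_right he
  -- a correction normalizing the given Sylow subgroup
  obtain ⟨u0, hu0, h0⟩ : ∃ u ∈ W, ∀ x, x ∈ (P : Subgroup G) ↔
      (u⁻¹ * e) * x * (u⁻¹ * e)⁻¹ ∈ (P : Subgroup G) := by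
    set K := (P : Subgroup G) ⊔ W with hKd
    have hX : Grp.IsSylowIn 3 (P : Subgroup G) K := by
      refine ⟨le_sup_left, P.isPGroup', fun hd => P.not_dvd_index ?_⟩
      rw [← Subgroup.relIndex_mul_index (le_sup_left : (P : Subgroup G) ≤ K)]
      exact dvd_mul_of_dvd_left hd _
    have hY : Grp.IsSylowIn 3 (MulAut.conj e • (P : Subgroup G)) K := by
      refine hX.smul ?_
      ext x
      rw [Subgroup.mem_pointwise_smul_iff_inv_smul_mem, MulAut.smul_def, MulAut.conj_inv_apply, hei]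
      have := Subgroup.mem_normalizer_iff.mp hK x
      rw [hei] at this
      exact this.symm
    obtain ⟨k, hk, hkk⟩ := hX.conj hY
    obtain ⟨w, hw, p, hp, rfl⟩ := Subgroup.mem_sup_of_normal_left.mp (show k ∈ W ⊔ (P : Subgroup G) by rwa [sup_comm])
    refine ⟨w, hw, fun x => ?_⟩
    have h1 : e * x * e⁻¹ ∈ MulAut.conj e • (P : Subgroup G) ↔ x ∈ (P : Subgroup G) := by
      rw [Subgroup.mem_pointwise_smul_iff_inv_smul_mem, MulAut.smul_def, MulAut.conj_inv_apply,
        show e⁻¹ * (e * x * e⁻¹) * e = x by group]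
    rw [← h1, ← hkk, Subgroup.mem_pointwise_smul_iff_inv_smul_mem, MulAut.smul_def, MulAut.conj_inv_apply]
    rw [show (w * p)⁻¹ * (e * x * e⁻¹) * (w * p) = p⁻¹ * (w⁻¹ * e * x * (w⁻¹ * e)⁻¹) * p by group]
    constructor
    · intro h
      have := mul_mem (mul_mem hp h) (inv_mem hp)
      simpa [mul_assoc] using this
    · intro h
      exact mul_mem (mul_mem (inv_mem hp) h) hp
  set e1 := u0⁻¹ * e with he1
  -- the centralized part
  let R : Subgroup G := (P : Subgroup G) ⊓ Subgroup.centralizer ({e1} : Set G)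
  have hR : IsPGroup 3 R := P.isPGroup'.to_le inf_le_left
  obtain ⟨m, hm, hmR⟩ := hfix R hR fun x hx => by
    have hc : x * e1 = e1 * x := Subgroup.mem_centralizer_singleton_iff.mp hx.2
    have e2 : x * e * x⁻¹ = x * u0 * x⁻¹ * e1 := by
      calc x * e * x⁻¹ = x * u0 * x⁻¹ * (x * e1) * x⁻¹ := by rw [he1]; group
        _ = x * u0 * x⁻¹ * (e1 * x) * x⁻¹ := by rw [hc]
        _ = _ := by group
    rw [e2, he1, mul_assoc, mul_assoc u0⁻¹, he, mul_one]
    exact mul_mem (hWn.conj_mem _ hu0 x) (inv_mem hu0)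
  set e' := m * e * m⁻¹ with he'
  have he'2 : e' * e' = 1 := by rw [he', show m * e * m⁻¹ * (m * e * m⁻¹) = m * (e * e) * m⁻¹ by group, he]; group
  have he'i : e'⁻¹ = e' := inv_eq_of_mul_eq_one_right he'2
  set u := e' * e1⁻¹ with hu
  have huW : u ∈ W := by
    rw [hu, he1, mul_inv_rev, inv_inv, hei, ← mul_assoc]
    exact mul_mem hm hu0
  have hee : e1 = u⁻¹ * e' := by rw [hu]; group
  have hcu : ∀ x ∈ R, Commute x u := fun x hx =>
    (hmR x hx).mul_right (Commute.inv_right (Subgroup.mem_centralizer_singleton_iff.mp hx.2))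
  -- conjugation by e' inside W
  let τ : G → G := fun w => e' * w * e'
  have hτW : ∀ w ∈ W, τ w ∈ W := fun w hw => by
    have := hWn.conj_mem w hw e'
    rwa [he'i] at this
  set c0 := u * τ u with hc0
  have hc0W : c0 ∈ W := mul_mem huW (hτW u huW)
  have he11 : e1 * e1 = c0⁻¹ := by
    calc e1 * e1 = u⁻¹ * (e' * u⁻¹ * e'⁻¹) := by rw [hee, he'i]; group
      _ = u⁻¹ * (τ u)⁻¹ := by simp only [τ, he'i, mul_inv_rev, mul_assoc]
      _ = c0⁻¹ := by rw [hcomm _ (inv_mem huW) _ (inv_mem (hτW u huW)), ← mul_inv_rev]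
  have hc0P : ∀ x ∈ (P : Subgroup G), c0 * x * c0⁻¹ = x := by
    intro x hx
    have hmem : c0 * x * c0⁻¹ ∈ (P : Subgroup G) := by
      rw [h0, h0, show e1 * (e1 * (c0 * x * c0⁻¹) * e1⁻¹) * e1⁻¹ = (e1 * e1) * (c0 * x * c0⁻¹) * (e1 * e1)⁻¹ by group,
        he11]
      simpa [mul_assoc] using hx
    have h1 : c0 * x * c0⁻¹ * x⁻¹ = 1 := eq_one_of_two_three hW P.isPGroup'
      (by rw [show c0 * x * c0⁻¹ * x⁻¹ = c0 * (x * c0⁻¹ * x⁻¹) by group]
          exact mul_mem hc0W (hWn.conj_mem _ (inv_mem hc0W) x))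
      (mul_mem hmem (inv_mem hx))
    exact mul_inv_eq_one.mp h1
  -- the subgroup L
  letI : IsMulCommutative W := ⟨⟨fun a b => Subtype.ext (hcomm a a.2 b b.2)⟩⟩
  let θ : W →* W := MonoidHom.mk' (fun w => ⟨(w : G) * (τ w)⁻¹, mul_mem w.2 (inv_mem (hτW w w.2))⟩)
    fun a b => Subtype.ext <| by
      show (a : G) * b * (τ (a * b))⁻¹ = a * (τ a)⁻¹ * (b * (τ b)⁻¹)
      have e3 : τ (a * b) = τ a * τ b := by
        simp only [τ]
        calc e' * ((a : G) * b) * e' = e' * a * (e' * e') * b * e' := by rw [he'2]; group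
          _ = _ := by group
      rw [e3, mul_inv_rev, hcomm _ (inv_mem (hτW b b.2)) _ (inv_mem (hτW a a.2))]
      rw [← mul_assoc, ← mul_assoc, mul_assoc (a : G) b, hcomm b b.2 _ (inv_mem (hτW a a.2))]
      group
  let Cw : Subgroup W := (Subgroup.centralizer ((P : Subgroup G) : Set G)).subgroupOf W
  let L : Subgroup W := θ.range ⊔ Cw
  have hLn : L.Normal := by
    refine ⟨fun n hn g => ?_⟩
    have : g * n * g⁻¹ = n := Subtype.ext (by
      show (g : G) * n * (g : G)⁻¹ = n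
      rw [hcomm g g.2 n n.2, mul_inv_cancel_right])
    rwa [this]
  let π := QuotientGroup.mk' L
  letI : CommGroup (W ⧸ L) := { (inferInstance : Group (W ⧸ L)) with
    mul_comm := fun a b => by
      obtain ⟨a, rfl⟩ := QuotientGroup.mk'_surjective L a
      obtain ⟨b, rfl⟩ := QuotientGroup.mk'_surjective L b
      rw [← map_mul, ← map_mul]
      exact congrArg _ (Subtype.ext (hcomm a a.2 b b.2)) }
  have hθ : ∀ w : W, π (θ w) = 1 := fun w => (QuotientGroup.eq_one_iff _).mpr (Subgroup.mem_sup_left ⟨w, rfl⟩)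
  have hCw : ∀ w : W, (w : G) ∈ Subgroup.centralizer ((P : Subgroup G) : Set G) → π w = 1 := fun w hw =>
    (QuotientGroup.eq_one_iff _).mpr (Subgroup.mem_sup_right hw)
  let wu : W := ⟨u, huW⟩
  let cW : W := ⟨c0, hc0W⟩
  have hc0C : π cW = 1 := hCw _ (Subgroup.mem_centralizer_iff.mpr fun x hx => by
    have := hc0P x hx
    exact (mul_inv_eq_iff_eq_mul.mp this).symm)
  have hsq : π wu * π wu = 1 := by
    have e4 : wu * wu = θ wu * cW := Subtype.ext (by
      show u * u = u * (τ u)⁻¹ * (u * τ u)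
      rw [hcomm u huW _ (hτW u huW)]; group)
    rw [← map_mul, e4, map_mul, hθ, hc0C, one_mul]
  -- the orbit product
  have : Fintype ↥(P : Subgroup G) := Fintype.ofFinite _
  let cx : ↥(P : Subgroup G) → W := fun x => ⟨(x : G) * u * (x : G)⁻¹, hWn.conj_mem u huW x⟩
  let f : ↥(P : Subgroup G) → W ⧸ L := fun x => π (cx x)
  have htot : ∏ x, f x = 1 := by
    letI : CommGroup W := { (inferInstance : Group W) with mul_comm := fun a b => Subtype.ext (hcomm a a.2 b b.2) }
    show ∏ x, π (cx x) = 1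
    rw [← map_prod]
    refine hCw _ (Subgroup.mem_centralizer_iff.mpr fun p hp => ?_)
    let φ : W →* W := MonoidHom.mk' (fun w => ⟨p * w * p⁻¹, hWn.conj_mem w w.2 p⟩) fun a b => Subtype.ext (by
      show p * ((a : G) * b) * p⁻¹ = p * a * p⁻¹ * (p * b * p⁻¹); group)
    have e5 : φ (∏ x, cx x) = ∏ x, cx x := by
      rw [map_prod]
      exact Fintype.prod_equiv (Equiv.mulLeft (⟨p, hp⟩ : ↥(P : Subgroup G))) _ _ fun x => Subtype.ext (by
        show p * ((x : G) * u * (x : G)⁻¹) * p⁻¹ = p * (x : G) * u * (p * (x : G))⁻¹; group)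
    have e6 : p * ((∏ x, cx x : W) : G) * p⁻¹ = ((∏ x, cx x : W) : G) := congrArg Subtype.val e5
    exact mul_inv_eq_iff_eq_mul.mp e6
  let σ : ↥(P : Subgroup G) → ↥(P : Subgroup G) := fun x => ⟨e1 * x * e1⁻¹, (h0 x).mp x.2⟩
  have hσσ : ∀ x, σ (σ x) = x := fun x => Subtype.ext (by
    show e1 * (e1 * (x : G) * e1⁻¹) * e1⁻¹ = x
    rw [show e1 * (e1 * (x : G) * e1⁻¹) * e1⁻¹ = (e1 * e1) * x * (e1 * e1)⁻¹ by group, he11, inv_inv]
    conv_lhs => rw [← hc0P x x.2]
    group)
  have hpair : ∀ x, f x * f (σ x) = 1 := by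
    intro x
    have e7 : cx (σ x) = ⟨τ (cx x : G), hτW _ (cx x).2⟩⁻¹ * cW := Subtype.ext (by
      show e1 * x * e1⁻¹ * u * (e1 * x * e1⁻¹)⁻¹ = (τ ((x : G) * u * (x : G)⁻¹))⁻¹ * c0
      have hτu : e1⁻¹ * u * e1 = u⁻¹ * c0 := by
        rw [hee, hc0]
        simp only [τ, mul_inv_rev, inv_inv, he'i]
        group
      have hτc : τ c0 = c0 := by
        calc τ c0 = τ u * u := by
              simp only [hc0, τ]
              calc e' * (u * (e' * u * e')) * e' = e' * u * e' * u * (e' * e') := by group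
                _ = _ := by rw [he'2, mul_one]
          _ = c0 := hcomm _ (hτW u huW) _ huW
      have hcx : (x : G) * c0 * (x : G)⁻¹ = c0 := by
        have := hc0P x x.2
        rw [mul_inv_eq_iff_eq_mul, eq_comm] at this
        rw [this, mul_inv_cancel_right]
      calc e1 * x * e1⁻¹ * u * (e1 * x * e1⁻¹)⁻¹ = e1 * ((x : G) * (e1⁻¹ * u * e1) * (x : G)⁻¹) * e1⁻¹ := by group
        _ = e1 * (((x : G) * u * (x : G)⁻¹)⁻¹ * ((x : G) * c0 * (x : G)⁻¹)) * e1⁻¹ := by rw [hτu]; group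
        _ = u⁻¹ * (e' * (((x : G) * u * (x : G)⁻¹)⁻¹ * c0) * e'⁻¹) * u := by rw [hcx, hee]; group
        _ = u⁻¹ * ((τ ((x : G) * u * (x : G)⁻¹))⁻¹ * τ c0) * u := by
            have hce : c0 * e' = e' * c0 := by
              calc c0 * e' = τ c0 * e' := by rw [hτc]
                _ = e' * c0 * (e' * e') := by simp only [τ]; group
                _ = _ := by rw [he'2, mul_one]
            rw [hτc]
            simp only [τ, mul_inv_rev, he'i, inv_inv, mul_assoc, hce]
        _ = (τ ((x : G) * u * (x : G)⁻¹))⁻¹ * c0 := by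
            rw [hτc, mul_assoc, hcomm _ (mul_mem (inv_mem (hτW _ (hWn.conj_mem u huW x))) hc0W) u huW]
            group)
    show π (cx x) * π (cx (σ x)) = 1
    rw [e7, map_mul, hc0C, mul_one, ← map_mul]
    exact hθ (cx x)
  have hfix' : ∀ x, σ x = x → f x = π wu := by
    intro x hx
    have hxR : (x : G) ∈ R := ⟨x.2, Subgroup.mem_centralizer_singleton_iff.mpr
      (mul_inv_eq_iff_eq_mul.mp (congrArg Subtype.val hx)).symm⟩
    refine congrArg π (Subtype.ext ?_)
    show (x : G) * u * (x : G)⁻¹ = u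
    rw [(hcu _ hxR).eq, mul_inv_cancel_right]
  let F := Finset.univ.filter fun x : ↥(P : Subgroup G) => σ x = x
  have hrest : ∏ x ∈ Finset.univ.filter (fun x : ↥(P : Subgroup G) => ¬ σ x = x), f x = 1 := by
    refine Finset.prod_involution (fun x _ => σ x) (fun x _ => hpair x) (fun x hx _ => (Finset.mem_filter.mp hx).2)
      (fun x hx => Finset.mem_filter.mpr ⟨Finset.mem_univ _, fun h => (Finset.mem_filter.mp hx).2 (by
        rw [hσσ] at h; exact h.symm)⟩) (fun x _ => hσσ x)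
  have hFR : Odd F.card := by
    have e8 : F.card = Nat.card R := by
      rw [← Nat.card_eq_finsetCard]
      refine Nat.card_congr
        { toFun := fun x => ⟨(x.1 : G), x.1.2, Subgroup.mem_centralizer_singleton_iff.mpr
            (mul_inv_eq_iff_eq_mul.mp (congrArg Subtype.val (Finset.mem_filter.mp x.2).2)).symm⟩
          invFun := fun x => ⟨⟨x.1, x.2.1⟩, Finset.mem_filter.mpr ⟨Finset.mem_univ _, Subtype.ext (by
            show e1 * x.1 * e1⁻¹ = x.1
            rw [← Subgroup.mem_centralizer_singleton_iff.mp x.2.2, mul_inv_cancel_right])⟩⟩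
          left_inv := fun x => rfl
          right_inv := fun x => rfl }
    obtain ⟨k, hk⟩ := IsPGroup.iff_card.mp hR
    rw [e8, hk]
    exact Odd.pow (by decide)
  have hu1 : π wu = 1 := by
    rw [← Finset.prod_filter_mul_prod_filter_not Finset.univ (fun x => σ x = x), hrest, mul_one,
      Finset.prod_congr rfl (fun x hx => hfix' x (Finset.mem_filter.mp hx).2), Finset.prod_const] at htot
    obtain ⟨k, hk⟩ := hFR
    rw [hk, pow_succ, pow_mul, pow_two, hsq, one_pow, one_mul] at htot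
    exact htot
  obtain ⟨_, ⟨w, rfl⟩, c, hc, hwc⟩ := Subgroup.mem_sup_of_normal_right.mp
    (show wu ∈ θ.range ⊔ Cw from (QuotientGroup.eq_one_iff _).mp hu1)
  have huwc : u = (w : G) * (τ w)⁻¹ * c := congrArg Subtype.val hwc.symm
  have hcP : ∀ x ∈ (P : Subgroup G), (c : G) * x * (c : G)⁻¹ = x := fun x hx => by
    rw [← Subgroup.mem_centralizer_iff.mp (Subgroup.mem_subgroupOf.mp hc) x hx, mul_inv_cancel_right]
  refine ⟨(m⁻¹ * (w : G)) • P, ?_⟩
  rw [Subgroup.mem_normalizer_iff]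
  intro y
  have key : ∀ z, z ∈ (((m⁻¹ * (w : G)) • P : Sylow 3 G) : Subgroup G) ↔
      (w : G)⁻¹ * (m * z * m⁻¹) * w ∈ (P : Subgroup G) := fun z => by
    rw [Sylow.coe_subgroup_smul, Subgroup.mem_pointwise_smul_iff_inv_smul_mem, MulAut.smul_def,
      MulAut.conj_inv_apply, show (m⁻¹ * (w : G))⁻¹ * z * (m⁻¹ * w) = (w : G)⁻¹ * (m * z * m⁻¹) * w by group]
  rw [key, key]
  set y' := (w : G)⁻¹ * (m * y * m⁻¹) * w with hy'
  have hgoal : (w : G)⁻¹ * (m * (e * y * e⁻¹) * m⁻¹) * w = (c : G) * (e1 * y' * e1⁻¹) * (c : G)⁻¹ := by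
    have h9 : (w : G)⁻¹ * e' * w = (c : G) * e1 := by
      rw [hee, huwc, mul_inv_rev, mul_inv_rev, inv_inv]
      calc (w : G)⁻¹ * e' * w = (w : G)⁻¹ * τ w * e' := by
            simp only [τ]; rw [show (w : G)⁻¹ * (e' * w * e') * e' = (w : G)⁻¹ * e' * w * (e' * e') by group, he'2, mul_one]
        _ = τ w * (w : G)⁻¹ * e' := by rw [hcomm _ (inv_mem w.2) _ (hτW w w.2)]
        _ = (c : G) * ((c : G)⁻¹ * (τ w * (w : G)⁻¹) * e') := by group
        _ = _ := by group
    calc (w : G)⁻¹ * (m * (e * y * e⁻¹) * m⁻¹) * w = ((w : G)⁻¹ * e' * w) * y' * ((w : G)⁻¹ * e' * w)⁻¹ := by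
          rw [hy', he']; group
      _ = _ := by rw [h9]; group
  rw [hgoal]
  constructor
  · intro h
    rw [hcP _ ((h0 _).mp h)]
    exact (h0 _).mp h
  · intro h
    refine (h0 _).mpr ?_
    have h2 := hcP _ h
    have e10 : (c : G) * (e1 * y' * e1⁻¹) * (c : G)⁻¹ = e1 * y' * e1⁻¹ :=
      mul_left_cancel (mul_right_cancel h2)
    rwa [e10] at h

/-- An involution whose centraliser covers its centraliser modulo a normal 2-subgroup, in a group with normal
Sylow 3-subgroups modulo that subgroup, normalizes a Sylow 3-subgroup. -/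
theorem exists_normalized_sylow : ∀ (n : ℕ) (G : Type u) [Group G] [Finite G], Nat.card G = n →
    ∀ e : G, e * e = 1 → ∀ (M : Subgroup G), M.Normal → IsPGroup 2 M →
    (∀ P : Sylow 3 G, ((P : Subgroup G) ⊔ M).Normal) →
    (∀ x : G, x * e * x⁻¹ * e ∈ M → ∃ c : G, Commute c e ∧ c⁻¹ * x ∈ M) →
    ∃ Q : Sylow 3 G, e ∈ Subgroup.normalizer ((Q : Subgroup G) : Set G) := by
  intro n
  induction n using Nat.strong_induction_on with
  | _ n ih =>
    intro G _ _ hn e he M hMn hM2 hPM hC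
    haveI : Fact (Nat.Prime 3) := ⟨Nat.prime_three⟩
    haveI : Fact (Nat.Prime 2) := ⟨Nat.prime_two⟩
    by_cases hbot : M = ⊥
    · obtain ⟨P⟩ : Nonempty (Sylow 3 G) := Sylow.nonempty
      have := hPM P
      rw [hbot, sup_bot_eq] at this
      exact ⟨P, by rw [Subgroup.normalizer_eq_top_iff.mpr this]; trivial⟩
    haveI : Nontrivial M := (Subgroup.nontrivial_iff_ne_bot M).mpr hbot
    haveI := hMn
    let W : Subgroup G := (Subgroup.center M).map M.subtype
    have hWM : W ≤ M := Subgroup.map_subtype_le _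
    have hWn : W.Normal := ConjAct.normal_of_characteristic_of_normal
    have hWne : W ≠ ⊥ := by
      intro h
      have := hM2.center_nontrivial
      rw [Subgroup.map_eq_bot_iff_of_injective _ M.subtype_injective] at h
      exact (Subgroup.nontrivial_iff_ne_bot _).mp this h
    have hW2 : IsPGroup 2 W := hM2.to_le hWM
    have hWcomm : ∀ a ∈ W, ∀ b ∈ W, a * b = b * a := by
      rintro _ ⟨a, ha, rfl⟩ _ ⟨b, hb, rfl⟩
      exact congrArg Subtype.val (Subgroup.mem_center_iff.mp hb a)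
    let π := QuotientGroup.mk' W
    have hπs : Function.Surjective π := QuotientGroup.mk'_surjective W
    have hmemM : ∀ z : G, π z ∈ M.map π ↔ z ∈ M := fun z => by
      rw [← Subgroup.mem_comap, Subgroup.comap_map_eq, QuotientGroup.ker_mk', sup_eq_left.mpr hWM]
    have hlt : Nat.card (G ⧸ W) < n := by
      rw [← hn, Subgroup.card_eq_card_quotient_mul_card_subgroup W]
      exact lt_mul_of_one_lt_right Nat.card_pos ((Subgroup.one_lt_card_iff_ne_bot W).mpr hWne)
    obtain ⟨Qb, hQb⟩ := ih _ hlt (G ⧸ W) rfl (π e) (by rw [← map_mul, he, map_one]) (M.map π) (hMn.map π hπs)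
      (hM2.map π)
      (fun P => by
        obtain ⟨Q, rfl⟩ := Sylow.mapSurjective_surjective hπs 3 P
        rw [Sylow.coe_mapSurjective, ← Subgroup.map_sup]
        exact (hPM Q).map π hπs)
      (fun y hy => by
        obtain ⟨x, rfl⟩ := hπs y
        rw [← map_inv, ← map_mul, ← map_mul, ← map_mul, hmemM] at hy
        obtain ⟨c, hc, hcx⟩ := hC x hy
        exact ⟨π c, hc.map π, by rw [← map_inv, ← map_mul, hmemM]; exact hcx⟩)
    obtain ⟨P, rfl⟩ := Sylow.mapSurjective_surjective hπs 3 Qb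
    have hK : e ∈ Subgroup.normalizer (((P : Subgroup G) ⊔ W : Subgroup G) : Set G) := by
      rw [Subgroup.mem_normalizer_iff] at hQb ⊢
      intro x
      have h := hQb (π x)
      rw [Sylow.coe_mapSurjective, ← map_inv, ← map_mul, ← map_mul, ← Subgroup.mem_comap, ← Subgroup.mem_comap,
        Subgroup.comap_map_eq, QuotientGroup.ker_mk'] at h
      exact h
    refine layer hW2 hWcomm he P hK fun R hR hRe => ?_
    -- a conjugate congruent to `e` centralised by R
    let Me : Subgroup G := (Subgroup.centralizer ({π e} : Set (G ⧸ W))).comap π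
    have hMe : ∀ z, z ∈ Me ↔ z * e * z⁻¹ * e ∈ W := fun z => by
      show π z ∈ Subgroup.centralizer ({π e} : Set (G ⧸ W)) ↔ _
      rw [Subgroup.mem_centralizer_singleton_iff, ← QuotientGroup.eq_one_iff]
      show π z * π e = π e * π z ↔ π (z * e * z⁻¹ * e) = 1
      have hee : π e * π e = 1 := by rw [← map_mul, he, map_one]
      rw [map_mul, map_mul, map_mul, map_inv]
      constructor
      · intro h; rw [h, mul_inv_cancel_right, hee]
      · intro h
        have := eq_inv_of_mul_eq_one_left h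
        rw [inv_eq_of_mul_eq_one_right hee, mul_inv_eq_iff_eq_mul] at this
        exact this
    let S : Set G := {y | ∃ x ∈ Me, y = x * e * x⁻¹}
    letI act : MulAction Me S :=
      { smul := fun g y => ⟨(g : G) * y.1 * (g : G)⁻¹, by
          obtain ⟨x, hx, hxy⟩ := y.2
          exact ⟨g * x, mul_mem g.2 hx, by rw [hxy]; group⟩⟩
        one_smul := fun y => Subtype.ext (by show (1 : G) * y.1 * (1 : G)⁻¹ = y.1; group)
        mul_smul := fun g g' y => Subtype.ext (by
          show ((g * g' : Me) : G) * y.1 * ((g * g' : Me) : G)⁻¹ = (g : G) * ((g' : G) * y.1 * (g' : G)⁻¹) * (g : G)⁻¹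
          rw [Subgroup.coe_mul]; group) }
    let N : Subgroup Me := M.subgroupOf Me
    have hN : IsPGroup 2 N := hM2.comap_of_injective Me.subtype Me.subtype_injective
    let y0 : S := ⟨e, 1, one_mem _, by group⟩
    have horb : MulAction.orbit N y0 = Set.univ := Set.eq_univ_of_forall fun ⟨y, x, hx, hy⟩ => by
      obtain ⟨c, hc, hcx⟩ := hC x (hWM ((hMe x).mp hx))
      have hmem : x * c⁻¹ ∈ M := by
        have := hMn.conj_mem _ hcx c
        rwa [mul_inv_cancel_left] at this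
      have hcMe : c ∈ Me := (hMe c).mpr (by rw [hc.eq, mul_inv_cancel_right, he]; exact one_mem _)
      refine ⟨⟨⟨x * c⁻¹, mul_mem hx (inv_mem hcMe)⟩, hmem⟩, Subtype.ext ?_⟩
      show x * c⁻¹ * e * (x * c⁻¹)⁻¹ = y
      rw [hy, show x * c⁻¹ * e * (x * c⁻¹)⁻¹ = x * (c⁻¹ * (e * c)) * x⁻¹ by group, ← hc.eq, inv_mul_cancel_left]
    obtain ⟨k, hk⟩ := hN.card_orbit y0
    rw [horb, Nat.card_congr (Equiv.Set.univ _)] at hk
    have hRMe : R ≤ Me := fun x hx => (hMe x).mpr (hRe x hx)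
    have hR' : IsPGroup 3 (R.subgroupOf Me) := hR.comap_of_injective Me.subtype Me.subtype_injective
    obtain ⟨⟨y, x, hx, rfl⟩, hfx⟩ := hR'.nonempty_fixed_point_of_prime_not_dvd_card S (by
      rw [hk]
      intro h
      exact absurd (Nat.prime_three.dvd_of_dvd_pow h) (by norm_num))
    refine ⟨x, (hMe x).mp hx, fun r hr => ?_⟩
    have := congrArg Subtype.val (hfx ⟨⟨r, hRMe hr⟩, hr⟩)
    exact mul_inv_eq_iff_eq_mul.mp this

end Cfsg.Agent.Spor.InvolSylow
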