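import Cfsg.Agent.Lib.Spor.FischerTrichotomy
import Cfsg.Agent.Lib.Spor.ThreeTransPerp
import Cfsg.Agent.Lib.Spor.InvolSylow
import Cfsg.Agent.Lib.Spor.HeisFiftyFour
import Cfsg.Agent.Lib.Grp.CoprimeAbelian

/-! Width one 3-transposition quotients acting faithfully on a normal 2-subgroup. -/

set_option autoImplicit false
set_option linter.style.haveILetI false
set_option linter.unusedSectionVars false

namespace Cfsg.Agent.Spor.HallOne

open Cfsg

universe u

variable {H : Type u} [Group H] [Finite H] {E : Set H}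

theorem pGroup_class_eq {X : Type*} [Group X] [Finite X] {p : ℕ} [Fact p.Prime] (hX : IsPGroup p X) {S : Set X} {a : X}
    (ha : a ∈ S) (hS : ∀ b ∈ S, IsConj a b) (hgen : Subgroup.closure S = ⊤) : ∀ b ∈ S, b = a := by
  have := hX.isNilpotent
  rcases eq_top_or_exists_le_coatom (Subgroup.zpowers a) with e | ⟨M, hM, hle⟩
  · intro b hb
    obtain ⟨g, rfl⟩ := isConj_iff.mp (hS b hb)
    obtain ⟨k, rfl⟩ := Subgroup.mem_zpowers_iff.mp (e.symm ▸ Subgroup.mem_top g)
    group
  · exfalso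
    haveI := Subgroup.NormalizerCondition.normal_of_coatom M Group.normalizerCondition_of_isNilpotent hM
    refine hM.1 ?_
    rw [eq_top_iff, ← hgen, Subgroup.closure_le]
    intro b hb
    obtain ⟨g, rfl⟩ := isConj_iff.mp (hS b hb)
    exact (inferInstance : M.Normal).conj_mem a (hle (Subgroup.mem_zpowers a)) g

theorem perm_three_two_kernel : ∀ σ : Equiv.Perm (Fin 3), σ ≠ 1 →
    ∃ g : Equiv.Perm (Fin 3), g * σ * g⁻¹ * σ⁻¹ ≠ 1 ∧ (g * σ * g⁻¹ * σ⁻¹) ^ 3 = 1 := by decide +kernel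

/-- The elements inverted by `d` in `P`. -/
def Inv (P : Subgroup H) (d x : H) : Prop := x ∈ P ∧ d * x * d = x⁻¹

/-- The commutator with the involution. -/
def cd (d p : H) : H := p * d * p⁻¹ * d

section setup

variable (hE : IsThreeTranspositionClass E) (hV : Subgroup.centralizer (pCore 2 H : Set H) ≤ pCore 2 H)
  {d : H} (hd : d ∈ E) (hdV : d ∉ pCore 2 H) {P : Subgroup H} (hP : IsPGroup 3 P)
  (hn : ∀ p ∈ P, d * p * d ∈ P)

include hE hd in
theorem d_sq : d * d = 1 := ThreeTrans.mul_self hE.1 hd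

include hE hd in
theorem d_inv : d⁻¹ = d := ThreeTrans.inv_eq hE.1 hd

include hE hd hP in
theorem inv_mem_class {x : H} (hx : Inv P d x) : x * d ∈ E := by
  obtain ⟨k, hk⟩ := hP ⟨x, hx.1⟩
  have hk' : x ^ 3 ^ k = 1 := congrArg Subtype.val hk
  obtain ⟨r, hr⟩ : Odd (3 ^ k) := Odd.pow (by decide)
  obtain ⟨y, ey⟩ : ∃ y, y = x ^ (r + 1) := ⟨_, rfl⟩
  have hyy : y * y = x := by
    rw [ey, ← pow_add, show r + 1 + (r + 1) = 3 ^ k + 1 by omega, pow_succ, hk', one_mul]
  have hy : d * y⁻¹ * d = y := by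
    have h1 : d * x ^ (r + 1) * d⁻¹ = (d * x * d⁻¹) ^ (r + 1) := conj_pow.symm
    rw [d_inv hE hd, hx.2, inv_pow, ← ey] at h1
    have h2 := congrArg (·⁻¹) h1
    simpa [mul_assoc, d_inv hE hd] using h2
  have e : y * d * y⁻¹ = x * d := by
    calc y * d * y⁻¹ = y * (d * y⁻¹ * d) * d := by simp only [mul_assoc, d_sq hE hd, mul_one]
      _ = x * d := by rw [hy, hyy]
  exact e ▸ FischerStr.conj_mem hE y hd

include hE hd hP in
theorem inv_cube {x : H} (hx : Inv P d x) : x ^ 3 = 1 := by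
  have h := hE.1.2 _ (inv_mem_class hE hd hP hx) d hd
  rw [mul_assoc, d_sq hE hd, mul_one] at h
  rcases h with h | h
  · obtain ⟨k, hk⟩ := hP ⟨x, hx.1⟩
    rw [FischerStr.eq_one_of_coprime (Nat.Coprime.pow_right k (by norm_num : Nat.Coprime 2 3)) h (congrArg Subtype.val hk),
      one_pow]
  · exact h

include hE hd hn in
theorem cd_inv {p : H} (hp : p ∈ P) : Inv P d (cd d p) := by
  refine ⟨?_, ?_⟩
  · rw [cd, show p * d * p⁻¹ * d = p * (d * p⁻¹ * d) by group]
    exact mul_mem hp (hn _ (inv_mem hp))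
  · simp only [cd, mul_inv_rev, inv_inv, d_inv hE hd, mul_assoc, d_sq hE hd, mul_one]

include hE hd hP in
/-- Fixed points of inverted elements are fixed by the involution. -/
theorem fix {x v : H} (hx : Inv P d x) (hx1 : x ≠ 1) (hv : v ∈ pCore 2 H) (hc : Commute x v) : Commute d v := by
  haveI : (pCore 2 H).Normal := Grp.pCore_isNormal
  by_contra hne
  have hdv : Commute d (v * d * v⁻¹) := FischerStr.commute_two hE hd hv
  have hxc : Commute x (d * v⁻¹ * d) := by
    have h1 := hc.inv_inv.map (MulAut.conj d)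
    simp only [MulAut.conj_apply, d_inv hE hd, hx.2] at h1
    have h2 : d * x⁻¹ * d = x := by
      have := congrArg (·⁻¹) hx.2
      simpa [mul_assoc, d_inv hE hd] using this
    rwa [h2] at h1
  refine FischerStr.six (u := v * d * v⁻¹ * d) (v := x⁻¹) ?_ ?_ ?_ ?_ (inv_ne_one.mpr hx1) ?_
  · rw [show v * d * v⁻¹ * d = v * (d * v⁻¹ * d) by group]
    exact (hc.mul_right hxc).symm.inv_right
  · rw [hdv.symm.mul_pow, pow_two, pow_two, ThreeTrans.mul_self hE.1 (FischerStr.conj_mem hE v hd), d_sq hE hd, one_mul]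
  · intro e
    refine hne ?_
    have := eq_inv_of_mul_eq_one_left e
    rw [d_inv hE hd, mul_inv_eq_iff_eq_mul] at this
    exact this.symm
  · rw [inv_pow, inv_cube hE hd hP hx, inv_one]
  · rw [show v * d * v⁻¹ * d * x⁻¹ = (v * d * v⁻¹) * (x * d) by
      rw [mul_assoc _ d, ← hx.2]; simp only [mul_assoc, ThreeTrans.mul_self_mul hE.1 hd]]
    exact hE.1.2 _ (FischerStr.conj_mem hE v hd) _ (inv_mem_class hE hd hP hx)

include hE hd hP in
/-- Two inverted elements commuting modulo a central element. -/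
theorem span {x y z : H} (hx : Inv P d x) (hy : Inv P d y) (hz : z ∈ P) (czx : Commute z x) (czy : Commute z y)
    (czd : Commute z d) (hxy : x * y * x⁻¹ * y⁻¹ ∈ Subgroup.zpowers z) (hxz : x ∉ Subgroup.zpowers z)
    (hyxz : y ∉ Subgroup.closure ({x, z} : Set H)) {w : H} (hw : w ∈ pCore 2 H) (hwz : Commute w z) : Commute w d := by
  classical
  haveI hVn : (pCore 2 H).Normal := Grp.pCore_isNormal
  let T : Subgroup H := Subgroup.centralizer ({z} : Set H)
  have memT : ∀ g, g ∈ T ↔ Commute g z := fun g => Subgroup.mem_centralizer_singleton_iff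
  let z' : T := ⟨z, (memT z).mpr (Commute.refl z)⟩
  let x' : T := ⟨x, (memT x).mpr czx.symm⟩
  let y' : T := ⟨y, (memT y).mpr czy.symm⟩
  let d' : T := ⟨d, (memT d).mpr czd.symm⟩
  let Z : Subgroup T := Subgroup.zpowers z'
  haveI : Z.Normal := ⟨fun n hn g => by
    obtain ⟨k, rfl⟩ := Subgroup.mem_zpowers_iff.mp hn
    have : Commute g z' := Subtype.ext ((memT g).mp g.2).eq
    rw [(this.zpow_right k).eq, mul_inv_cancel_right]; exact hn⟩
  let q := QuotientGroup.mk' Z
  have hq : ∀ g : T, q g = 1 ↔ (g : H) ∈ Subgroup.zpowers z := fun g => by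
    rw [show q g = 1 ↔ g ∈ Z from QuotientGroup.eq_one_iff g, Subgroup.mem_zpowers_iff, Subgroup.mem_zpowers_iff]
    exact exists_congr fun k => ⟨fun h => by rw [← h]; simp [z'], fun h => Subtype.ext (by simpa [z'] using h)⟩
  have hqeq : ∀ g g' : T, q g = q g' ↔ (g : H)⁻¹ * g' ∈ Subgroup.zpowers z := fun g g' => by
    rw [← inv_mul_eq_one, ← map_inv, ← map_mul, hq]; rfl
  let A : Subgroup (T ⧸ Z) := Subgroup.closure {q x', q y'}
  have hcomm : Commute (q x') (q y') := by
    have h1 : q (x' * y' * x'⁻¹ * y'⁻¹) = 1 := (hq _).mpr (by simpa [x', y'] using hxy)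
    simp only [map_mul, map_inv] at h1
    exact mul_inv_eq_iff_eq_mul.mp (mul_inv_eq_one.mp h1)
  haveI : IsMulCommutative A := Subgroup.isMulCommutative_closure (by
    rintro a (rfl | rfl) b (rfl | rfl) <;> first | rfl | exact hcomm.eq | exact hcomm.eq.symm)
  have hA : ∀ a ∈ A, a ^ 3 = 1 ∧ q d' * a * q d' = a⁻¹ := by
    have hqd : q d' * q d' = 1 := by rw [← map_mul, show d' * d' = 1 from Subtype.ext (d_sq hE hd), map_one]
    intro a ha
    induction ha using Subgroup.closure_induction with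
    | mem a ha =>
      rcases ha with rfl | rfl
      · exact ⟨by rw [← map_pow, show x' ^ 3 = 1 from Subtype.ext (inv_cube hE hd hP hx), map_one],
          by rw [← map_mul, ← map_mul, ← map_inv]; exact congrArg q (Subtype.ext hx.2)⟩
      · exact ⟨by rw [← map_pow, show y' ^ 3 = 1 from Subtype.ext (inv_cube hE hd hP hy), map_one],
          by rw [← map_mul, ← map_mul, ← map_inv]; exact congrArg q (Subtype.ext hy.2)⟩
    | one => exact ⟨one_pow 3, by rw [mul_one, hqd, inv_one]⟩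
    | mul a b ha hb iha ihb =>
      have hab : Commute a b := congrArg Subtype.val ((IsMulCommutative.is_comm (M := A)).comm ⟨a, ha⟩ ⟨b, hb⟩)
      refine ⟨by rw [hab.mul_pow, iha.1, ihb.1, one_mul], ?_⟩
      calc q d' * (a * b) * q d' = (q d' * a * q d') * (q d' * b * q d') := by
            simp only [mul_assoc]; rw [← mul_assoc (q d') (q d'), hqd, one_mul]
        _ = (a * b)⁻¹ := by rw [iha.2, ihb.2, hab.eq, mul_inv_rev]
    | inv a _ iha =>
      refine ⟨by rw [inv_pow, iha.1, inv_one], ?_⟩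
      have h := congrArg (·⁻¹) iha.2
      simp only [mul_inv_rev, inv_eq_of_mul_eq_one_right hqd] at h
      simpa [mul_assoc] using h
  have hnc : ¬ IsCyclic A := fun hc => by
    haveI : Fintype A := Fintype.ofFinite _
    let a : A := ⟨q x', Subgroup.subset_closure (by simp)⟩
    let b : A := ⟨q y', Subgroup.subset_closure (by simp)⟩
    have hcard := IsCyclic.card_pow_eq_one_le (α := A) (n := 3) (by norm_num)
    have hsub : ({1, a, a⁻¹, b} : Finset A) ⊆ Finset.univ.filter fun g => g ^ 3 = 1 := fun g _ =>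
      Finset.mem_filter.mpr ⟨Finset.mem_univ _, Subtype.ext (hA g g.2).1⟩
    have ha1 : a ≠ 1 := fun h => hxz ((hq x').mp (congrArg Subtype.val h))
    have ha2 : a ≠ a⁻¹ := fun h => ha1 (by
      have h2 : a ^ 2 = 1 := by rw [pow_two]; nth_rewrite 2 [h]; rw [mul_inv_cancel]
      exact orderOf_eq_one_iff.mp (Nat.eq_one_of_dvd_coprimes (by norm_num : Nat.Coprime 3 2)
        (orderOf_dvd_of_pow_eq_one (Subtype.ext (hA a a.2).1)) (orderOf_dvd_of_pow_eq_one h2)))
    have hclos : ∀ g : T, q g = q y' → (g : H) ∈ Subgroup.closure ({x, z} : Set H) → False := fun g e hg => by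
      refine hyxz ?_
      rw [show y = (g : H) * ((g : H)⁻¹ * y) by group]
      exact mul_mem hg (Subgroup.zpowers_le.mpr (Subgroup.subset_closure (by simp)) ((hqeq g y').mp e))
    have hb1 : b ≠ 1 := fun h => hclos 1 (by rw [map_one]; exact (congrArg Subtype.val h).symm) (one_mem _)
    have hb2 : b ≠ a := fun h => hclos x' (congrArg Subtype.val h).symm (Subgroup.subset_closure (by simp [x']))
    have hb3 : b ≠ a⁻¹ := fun h => hclos x'⁻¹ (by rw [map_inv]; exact (congrArg Subtype.val h).symm)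
      (inv_mem (Subgroup.subset_closure (by simp [x'])))
    have h4 : ({1, a, a⁻¹, b} : Finset A).card = 4 := by
      rw [Finset.card_insert_of_notMem (by simp [ha1.symm, hb1.symm, (inv_ne_one.mpr ha1).symm]),
        Finset.card_insert_of_notMem (by simp [ha2, hb2.symm]), Finset.card_insert_of_notMem (by simp [hb3.symm]),
        Finset.card_singleton]
    have := (Finset.card_le_card hsub).trans hcard
    omega
  let K : Subgroup (T ⧸ Z) := ((pCore 2 H).subgroupOf T).map q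
  haveI : K.Normal := (hVn.subgroupOf T).map q (QuotientGroup.mk'_surjective _)
  haveI : Fact (Nat.Prime 2) := ⟨Nat.prime_two⟩
  haveI : Fact (Nat.Prime 3) := ⟨Nat.prime_three⟩
  have hle : Subgroup.closure ({x', y', z'} : Set T) ≤ P.subgroupOf T := (Subgroup.closure_le _).mpr (by
    rintro g (rfl | rfl | rfl)
    · exact hx.1
    · exact hy.1
    · exact hz)
  have hAle : A ≤ (Subgroup.closure ({x', y', z'} : Set T)).map q := (Subgroup.closure_le _).mpr (by
    rintro g (rfl | rfl)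
    · exact ⟨x', Subgroup.subset_closure (by simp), rfl⟩
    · exact ⟨y', Subgroup.subset_closure (by simp), rfl⟩)
  have hA3 : IsPGroup 3 A :=
    (((hP.comap_of_injective T.subtype T.subtype_injective).to_le hle).map q).to_le hAle
  have hK2 : IsPGroup 2 K := ((Grp.pCore_isPGroup (p := 2) (G := H)).comap_of_injective T.subtype T.subtype_injective).map q
  have hgen := Grp.generated_by_centralizers A K hnc (by rw [Subgroup.normalizer_eq_top_iff.mpr inferInstance]; exact le_top)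
    (IsPGroup.coprime_card_of_ne 3 2 (by norm_num) _ _ hA3 hK2)
  let w' : T := ⟨w, (memT w).mpr hwz⟩
  have hmain : K ≤ ((Subgroup.centralizer ({d} : Set H)).subgroupOf T).map q := by
    rw [← hgen]
    refine iSup₂_le fun a ha => ?_
    rintro _ ⟨⟨v, hv, rfl⟩, hvC⟩
    refine ⟨v, ?_, rfl⟩
    obtain ⟨p, hp, rfl⟩ := hAle ha.1
    have hvp : Commute (v : H) p := by
      have h1 : q (v * p * v⁻¹ * p⁻¹) = 1 := by
        simp only [map_mul, map_inv]
        rw [Subgroup.mem_centralizer_singleton_iff.mp hvC, mul_inv_cancel_right, mul_inv_cancel]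
      have h2 : (v : H) * p * (v : H)⁻¹ * (p : H)⁻¹ = 1 := InvolSylow.eq_one_of_two_three
        (Grp.pCore_isPGroup (p := 2) (G := H)) hP
        (by rw [show (v : H) * p * (v : H)⁻¹ * (p : H)⁻¹ = v * (p * (v : H)⁻¹ * (p : H)⁻¹) by group]
            exact mul_mem hv (hVn.conj_mem _ (inv_mem hv) p))
        (Subgroup.zpowers_le.mpr hz (by simpa using (hq _).mp h1))
      exact mul_inv_eq_iff_eq_mul.mp (mul_inv_eq_one.mp h2)
    have hpd : q (d' * p⁻¹ * d') = q p := by
      simp only [map_mul, map_inv]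
      have := (hA _ (inv_mem ha.1)).2
      rwa [inv_inv] at this
    obtain ⟨i, hi⟩ := Subgroup.mem_zpowers_iff.mp ((hqeq p (d' * p⁻¹ * d')).mp hpd.symm)
    have hi' : d * (p : H)⁻¹ * d = p * z ^ i := by
      rw [hi]; simp only [Subgroup.coe_mul, InvMemClass.coe_inv, d', mul_inv_cancel_left]
    obtain ⟨t, et⟩ : ∃ t, t = (p : H) * (p * z ^ i) := ⟨_, rfl⟩
    have ht : Inv P d t := by
      refine ⟨et ▸ mul_mem (hle hp) (mul_mem (hle hp) (zpow_mem hz i)), ?_⟩
      rw [et, ← hi']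
      simp only [mul_inv_rev, inv_inv, d_inv hE hd, mul_assoc, d_sq hE hd, mul_one]
    have ht1 : t ≠ 1 := fun e => by
      have h1 : q p * (q p * 1) = 1 := by
        have : q (p * (p * z' ^ i)) = 1 := (hq _).mpr (by
          rw [show ((p * (p * z' ^ i) : T) : H) = t by rw [et]; simp [z'], e]; exact one_mem _)
        rwa [map_mul, map_mul, map_zpow, show q z' = 1 from (hq z').mpr (Subgroup.mem_zpowers z), one_zpow] at this
      rw [mul_one, ← pow_two] at h1
      exact ha.2 (orderOf_eq_one_iff.mp (Nat.eq_one_of_dvd_coprimes (by norm_num : Nat.Coprime 3 2)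
        (orderOf_dvd_of_pow_eq_one (hA _ ha.1).1) (orderOf_dvd_of_pow_eq_one h1)))
    have hvz : Commute (v : H) z := (memT v).mp v.2
    have hvt : Commute (v : H) t := by rw [et]; exact hvp.mul_right (hvp.mul_right (hvz.zpow_right i))
    exact Subgroup.mem_centralizer_singleton_iff.mpr (fix hE hd hP ht ht1 hv hvt.symm).eq.symm
  obtain ⟨c, hc, hcw⟩ := hmain ⟨w', hw, rfl⟩
  have hcd : Commute (c : H) d := Subgroup.mem_centralizer_singleton_iff.mp hc
  obtain ⟨i, hi⟩ := Subgroup.mem_zpowers_iff.mp ((hqeq c w').mp hcw)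
  have : w = (c : H) * z ^ i := by rw [hi]; simp [w']
  rw [this]
  exact hcd.mul_left (czd.zpow_left i)

include hE hV hd hP hdV in
/-- Commuting inverted elements are dependent. -/
theorem commuting {x y : H} (hx : Inv P d x) (hy : Inv P d y) (hx1 : x ≠ 1) (hc : Commute x y) :
    y ∈ Subgroup.zpowers x := by
  by_contra h
  refine hdV (hV (Subgroup.mem_centralizer_iff.mpr fun w hw => ?_))
  refine (span hE hd hP hx hy (z := 1) (one_mem P) (Commute.one_left _) (Commute.one_left _) (Commute.one_left _)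
    ?_ ?_ ?_ hw (Commute.one_right _)).eq
  · rw [hc.eq, mul_inv_cancel_right, mul_inv_cancel]; exact one_mem _
  · rw [Subgroup.zpowers_one_eq_bot, Subgroup.mem_bot]; exact hx1
  · intro hm
    refine h ((Subgroup.closure_le _).mpr ?_ hm)
    rintro g (rfl | rfl)
    · exact Subgroup.mem_zpowers g
    · exact one_mem _

include hE hV hd hP hdV hn in
theorem structure_P (hgenP : P ≤ Subgroup.closure (cd d '' (P : Set H))) (hPne : P ≠ ⊥) :
    (∃ u, Inv P d u ∧ u ≠ 1 ∧ P = Subgroup.zpowers u) ∨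
    (∃ m b z, Inv P d m ∧ Inv P d b ∧ b * m = m * b * z ∧ z ∈ P ∧ z ^ 3 = 1 ∧ Commute z m ∧ Commute z b ∧
      Commute z d ∧ P = Subgroup.closure {m, b, z} ∧ ¬ Commute m b) := by
  haveI hVn : (pCore 2 H).Normal := Grp.pCore_isNormal
  haveI : Fact (Nat.Prime 3) := ⟨Nat.prime_three⟩
  haveI : Fact (Nat.Prime 2) := ⟨Nat.prime_two⟩
  have hgen_le : ∀ S : Subgroup H, (∀ t, Inv P d t → t ∈ S) → P ≤ S := fun S hS =>
    hgenP.trans ((Subgroup.closure_le _).mpr (by rintro _ ⟨p, hp, rfl⟩; exact hS _ (cd_inv hE hd hn hp)))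
  by_cases h1 : ∃ u, Inv P d u ∧ u ≠ 1 ∧ ∀ p ∈ P, Commute u p
  · obtain ⟨u, hu, hu1, huc⟩ := h1
    exact Or.inl ⟨u, hu, hu1, le_antisymm (hgen_le _ fun t ht => commuting hE hV hd hdV hP hu ht hu1 (huc t ht.1))
      (Subgroup.zpowers_le.mpr hu.1)⟩
  simp only [not_exists, not_and] at h1
  right
  have hZd : ∀ p ∈ P, (∀ q ∈ P, Commute p q) → Commute d p := by
    intro p hp hpc
    have hc : cd d p = 1 := by
      by_contra hne
      refine h1 _ (cd_inv hE hd hn hp) hne fun q hq => ?_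
      rw [cd, show p * d * p⁻¹ * d = p * (d * p⁻¹ * d) by group]
      refine (hpc q hq).mul_left ?_
      have := ((hpc (d * q * d) (hn q hq)).inv_left).map (MulAut.conj d)
      simp only [MulAut.conj_apply, d_inv hE hd] at this
      rwa [show d * (d * q * d) * d = q by simp only [mul_assoc, ThreeTrans.mul_self_mul hE.1 hd, d_sq hE hd, mul_one]] at this
    rw [cd, mul_eq_one_iff_eq_inv, d_inv hE hd, mul_inv_eq_iff_eq_mul] at hc
    exact hc.symm
  -- the second centre
  let S2 : H → Prop := fun p => p ∈ P ∧ ∀ q ∈ P, ∀ r ∈ P, Commute (p * q * p⁻¹ * q⁻¹) r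
  have cm_mem : ∀ {p q : H}, p ∈ P → q ∈ P → p * q * p⁻¹ * q⁻¹ ∈ P := fun hp hq =>
    mul_mem (mul_mem (mul_mem hp hq) (inv_mem hp)) (inv_mem hq)
  have S2mul : ∀ p p', S2 p → S2 p' → S2 (p * p') := by
    intro p p' hp hp'
    refine ⟨mul_mem hp.1 hp'.1, fun q hq r hr => ?_⟩
    have e : p * p' * q * (p * p')⁻¹ * q⁻¹ = p * (p' * q * p'⁻¹ * q⁻¹) * p⁻¹ * (p * q * p⁻¹ * q⁻¹) := by group
    rw [e, ← (hp'.2 q hq p hp.1).eq, mul_inv_cancel_right]
    exact (hp'.2 q hq r hr).mul_left (hp.2 q hq r hr)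
  have S2d : ∀ p, S2 p → S2 (d * p⁻¹ * d) := by
    intro p hp
    refine ⟨hn _ (inv_mem hp.1), fun q hq r hr => ?_⟩
    have h2 := hp.2 _ (hn q hq) (p * (d * r * d) * p⁻¹) (mul_mem (mul_mem hp.1 (hn r hr)) (inv_mem hp.1))
    have h3 := (h2.inv_left.map (MulAut.conj p⁻¹)).map (MulAut.conj d)
    simp only [MulAut.conj_apply, inv_inv, mul_inv_rev, d_inv hE hd, mul_assoc, inv_mul_cancel_left,
      ThreeTrans.mul_self_mul hE.1 hd, d_sq hE hd, mul_one, inv_mul_cancel] at h3
    show _ * _ = _ * _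
    simp only [mul_inv_rev, inv_inv, d_inv hE hd, mul_assoc] at *
    simpa [mul_assoc, ThreeTrans.mul_self_mul hE.1 hd] using h3.eq
  obtain ⟨m0, hm0, hm0d⟩ : ∃ m0, S2 m0 ∧ ¬ Commute d m0 := by
    by_contra hcon
    simp only [not_exists, not_and, not_not] at hcon
    obtain ⟨a, ha, hac⟩ : ∃ a, S2 a ∧ ¬ ∀ q ∈ P, Commute a q := by
      haveI hPp : IsPGroup 3 (P ⧸ Subgroup.center P) := hP.to_quotient _
      haveI : Nontrivial (P ⧸ Subgroup.center P) := by
        rw [← not_subsingleton_iff_nontrivial, QuotientGroup.subsingleton_iff]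
        intro htop
        obtain ⟨p, hp, hne⟩ : ∃ p ∈ P, cd d p ≠ 1 := by
          by_contra hcon'
          refine hPne (le_bot_iff.mp (hgenP.trans ((Subgroup.closure_le _).mpr ?_)))
          rintro _ ⟨p, hp, rfl⟩
          by_contra h
          exact hcon' ⟨p, hp, h⟩
        exact h1 _ (cd_inv hE hd hn hp) hne fun q hq => by
          have h9 := Subgroup.mem_center_iff.mp (show (⟨q, hq⟩ : P) ∈ Subgroup.center P by rw [htop]; trivial)
            ⟨_, (cd_inv hE hd hn hp).1⟩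
          exact congrArg Subtype.val h9
      obtain ⟨c, hc, hc1⟩ := (Subgroup.nontrivial_iff_exists_ne_one _).mp hPp.center_nontrivial
      obtain ⟨a, rfl⟩ := QuotientGroup.mk'_surjective _ c
      refine ⟨a, ⟨a.2, fun q hq r hr => ?_⟩, fun hall => hc1 ((QuotientGroup.eq_one_iff a).mpr
        (Subgroup.mem_center_iff.mpr fun q => Subtype.ext (hall q q.2).eq.symm))⟩
      have h2 : a * ⟨q, hq⟩ * a⁻¹ * ⟨q, hq⟩⁻¹ ∈ Subgroup.center P := by
        rw [← QuotientGroup.eq_one_iff]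
        show QuotientGroup.mk' _ (_ * _ * _ * _) = 1
        simp only [map_mul, map_inv, ← Subgroup.mem_center_iff.mp hc (QuotientGroup.mk' _ ⟨q, hq⟩), mul_inv_cancel_right,
          mul_inv_cancel]
      exact (congrArg Subtype.val (Subgroup.mem_center_iff.mp h2 ⟨r, hr⟩)).symm
    refine hac ?_
    have hS2conj : ∀ p ∈ P, S2 (p⁻¹ * a * p) := fun p hp => by
      refine ⟨mul_mem (mul_mem (inv_mem hp) ha.1) hp, fun q hq r hr => ?_⟩
      have h2 := ha.2 (p * q * p⁻¹) (mul_mem (mul_mem hp hq) (inv_mem hp)) (p * r * p⁻¹) (mul_mem (mul_mem hp hr) (inv_mem hp))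
      have h3 := h2.map (MulAut.conj p⁻¹)
      simpa [MulAut.conj_apply, mul_assoc] using h3
    intro q hq
    have hle : P ≤ Subgroup.centralizer ({a} : Set H) := hgenP.trans ((Subgroup.closure_le _).mpr (by
      rintro _ ⟨p, hp, rfl⟩
      have h2 := (hcon _ (hS2conj p hp)).map (MulAut.conj p)
      simp only [MulAut.conj_apply, show p * (p⁻¹ * a * p) * p⁻¹ = a by group] at h2
      exact Subgroup.mem_centralizer_singleton_iff.mpr (h2.mul_left (hcon a ha)).eq))
    exact (Subgroup.mem_centralizer_singleton_iff.mp (hle hq)).symm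
  obtain ⟨m, em⟩ : ∃ m, m = cd d m0 := ⟨_, rfl⟩
  have hm : Inv P d m := em ▸ cd_inv hE hd hn hm0.1
  have hm2 : S2 m := by
    rw [em, cd, show m0 * d * m0⁻¹ * d = m0 * (d * m0⁻¹ * d) by group]
    exact S2mul _ _ hm0 (S2d _ hm0)
  have hm1 : m ≠ 1 := fun e => hm0d (by
    rw [em, cd, mul_eq_one_iff_eq_inv, d_inv hE hd, mul_inv_eq_iff_eq_mul] at e
    exact e.symm)
  obtain ⟨ψ, eψ⟩ : ∃ ψ : H → H, ψ = fun q => m * q * m⁻¹ * q⁻¹ := ⟨_, rfl⟩
  have ψmem : ∀ q ∈ P, ψ q ∈ P := fun q hq => by rw [eψ]; exact cm_mem hm.1 hq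
  have ψc : ∀ q ∈ P, ∀ r ∈ P, Commute (ψ q) r := fun q hq => by rw [eψ]; exact hm2.2 q hq
  have ψd : ∀ q ∈ P, Commute d (ψ q) := fun q hq => hZd _ (ψmem q hq) (ψc q hq)
  have ψmul : ∀ q ∈ P, ∀ q' ∈ P, ψ (q * q') = ψ q * ψ q' := by
    intro q hq q' hq'
    have e : ψ (q * q') = ψ q * (q * ψ q' * q⁻¹) := by rw [eψ]; group
    rw [e, ← (ψc q' hq' q hq).eq, mul_inv_cancel_right]
  have ψone : ψ 1 = 1 := by rw [eψ]; group
  have ψpow : ∀ q ∈ P, ∀ n : ℕ, ψ (q ^ n) = ψ q ^ n := by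
    intro q hq n
    induction n with
    | zero => simpa using ψone
    | succ n ih => rw [pow_succ, ψmul _ (pow_mem hq n) _ hq, ih, pow_succ]
  have mq : ∀ q ∈ P, ∀ n : ℕ, m ^ n * q = ψ q ^ n * (q * m ^ n) := by
    intro q hq n
    induction n with
    | zero => simp
    | succ n ih =>
      have h0 : m * q = ψ q * (q * m) := by rw [eψ]; group
      rw [pow_succ' m n, mul_assoc, ih, ← mul_assoc, ← ((ψc q hq m hm.1).pow_left n).eq, mul_assoc,
        ← mul_assoc m q, h0]
      simp only [mul_assoc]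
      rw [← mul_assoc (ψ q ^ n) (ψ q), ← pow_succ]
  have ψ3 : ∀ q ∈ P, ψ q ^ 3 = 1 := fun q hq => by
    have h := mq q hq 3
    rw [inv_cube hE hd hP hm, one_mul, mul_one] at h
    exact mul_eq_right.mp h.symm
  have ψcd : ∀ q ∈ P, ψ (cd d q) = ψ q ^ 2 := by
    intro q hq
    have e1 : ψ (d * q⁻¹ * d) = ψ q := by
      have hz := ψc q hq
      calc ψ (d * q⁻¹ * d) = d * (m⁻¹ * q⁻¹ * m * q) * d := by
            rw [eψ]
            show m * (d * q⁻¹ * d) * m⁻¹ * (d * q⁻¹ * d)⁻¹ = _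
            rw [show m⁻¹ = d * m * d from hm.2.symm]
            simp only [mul_inv_rev, inv_inv, d_inv hE hd, mul_assoc, ThreeTrans.mul_self_mul hE.1 hd]
        _ = d * ψ q * d := by
            congr 2
            have e2 : m⁻¹ * q⁻¹ * m * q = (m⁻¹ * q⁻¹) * ψ q * (q * m) := by rw [eψ]; group
            rw [e2, ← (hz _ (mul_mem (inv_mem hm.1) (inv_mem hq))).eq]; group
        _ = ψ q := by rw [(ψd q hq).eq, mul_assoc, d_sq hE hd, mul_one]
    rw [cd, show q * d * q⁻¹ * d = q * (d * q⁻¹ * d) by group, ψmul q hq _ (hn _ (inv_mem hq)), e1, pow_two]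
  have hcent : ∀ q ∈ P, ψ q ≠ 1 → ∀ w ∈ pCore 2 H, Commute w (ψ q) → ∀ p ∈ P, Commute w p := by
    intro q hq hne w hw hwz p hp
    have hzd := ψd q hq
    have base : ∀ w ∈ pCore 2 H, Commute w (ψ q) → Commute w d := by
      intro w hw hwz
      have ht := cd_inv hE hd hn hq
      refine span hE hd hP hm ht (ψmem q hq) (ψc q hq m hm.1) (ψc q hq _ ht.1) hzd.symm ?_ ?_ ?_ hw hwz
      · rw [show m * cd d q * m⁻¹ * (cd d q)⁻¹ = ψ (cd d q) by rw [eψ], ψcd q hq]
        exact pow_mem (Subgroup.mem_zpowers _) 2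
      · intro hmem
        obtain ⟨k, hk⟩ := Subgroup.mem_zpowers_iff.mp hmem
        exact h1 m hm hm1 fun r hr => hk ▸ (ψc q hq r hr).zpow_left k
      · intro hmem
        have hc : Commute m (cd d q) := by
          have : Subgroup.closure ({m, ψ q} : Set H) ≤ Subgroup.centralizer ({m} : Set H) := (Subgroup.closure_le _).mpr (by
            rintro g (rfl | rfl) <;> refine Subgroup.mem_centralizer_singleton_iff.mpr ?_
            · rfl
            · exact (ψc q hq m hm.1).eq)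
          exact (Subgroup.mem_centralizer_singleton_iff.mp (this hmem)).symm
        refine hne ?_
        have h2 : ψ q ^ 2 = 1 := by rw [← ψcd q hq, eψ]; show m * _ * m⁻¹ * _ = 1; rw [hc.eq, mul_inv_cancel_right, mul_inv_cancel]
        exact FischerStr.eq_one_of_coprime (by norm_num : Nat.Coprime 2 3) h2 (ψ3 q hq)
    have hall : P ≤ Subgroup.centralizer ({w} : Set H) := hgenP.trans ((Subgroup.closure_le _).mpr (by
      rintro _ ⟨r, hr, rfl⟩
      have h2 : Commute (r⁻¹ * w * r) (ψ q) := by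
        have := hwz.map (MulAut.conj r⁻¹)
        simp only [MulAut.conj_apply, inv_inv] at this
        rwa [mul_assoc r⁻¹ (ψ q), (ψc q hq r hr).eq, inv_mul_cancel_left] at this
      have h3 := base _ (hVn.conj_mem' w hw r) h2
      have h4 := h3.map (MulAut.conj r)
      simp only [MulAut.conj_apply, show r * (r⁻¹ * w * r) * r⁻¹ = w by group] at h4
      exact Subgroup.mem_centralizer_singleton_iff.mpr (h4.mul_right (base w hw hwz)).eq.symm))
    exact (Subgroup.mem_centralizer_singleton_iff.mp (hall hp)).symm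
  obtain ⟨q0, hq0, hq01⟩ : ∃ q ∈ P, ψ q ≠ 1 := by
    by_contra hcon
    simp only [not_exists, not_and, not_not] at hcon
    refine h1 m hm hm1 fun r hr => ?_
    have h := hcon r hr
    rw [eψ] at h
    exact mul_inv_eq_iff_eq_mul.mp (mul_inv_eq_one.mp h)
  have himg : ∀ q ∈ P, ψ q ∈ Subgroup.zpowers (ψ q0) := by
    intro q hq
    by_contra hnot
    have hcomm : Commute (ψ q0) (ψ q) := ψc q0 hq0 _ (ψmem q hq)
    let A : Subgroup H := Subgroup.closure {ψ q0, ψ q}
    haveI : IsMulCommutative A := Subgroup.isMulCommutative_closure (by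
      rintro a (rfl | rfl) b (rfl | rfl) <;> first | rfl | exact hcomm.eq | exact hcomm.eq.symm)
    have hA : ∀ a ∈ A, ∃ r ∈ P, a = ψ r := by
      intro a ha
      induction ha using Subgroup.closure_induction with
      | mem a ha =>
        rcases ha with rfl | rfl
        · exact ⟨q0, hq0, rfl⟩
        · exact ⟨q, hq, rfl⟩
      | one => exact ⟨1, one_mem P, ψone.symm⟩
      | mul a b _ _ ha hb =>
        obtain ⟨r, hr, rfl⟩ := ha
        obtain ⟨s, hs, rfl⟩ := hb
        exact ⟨r * s, mul_mem hr hs, (ψmul r hr s hs).symm⟩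
      | inv a _ ha =>
        obtain ⟨r, hr, rfl⟩ := ha
        refine ⟨r⁻¹, inv_mem hr, inv_eq_of_mul_eq_one_right ?_⟩
        rw [← ψmul r hr _ (inv_mem hr), mul_inv_cancel, ψone]
    have hAP : A ≤ P := (Subgroup.closure_le _).mpr (by rintro a (rfl | rfl) <;> [exact ψmem q0 hq0; exact ψmem q hq])
    have hnc : ¬ IsCyclic A := by
      intro hc
      haveI : Fintype A := Fintype.ofFinite _
      classical
      let a : A := ⟨ψ q0, Subgroup.subset_closure (by simp)⟩
      let b : A := ⟨ψ q, Subgroup.subset_closure (by simp)⟩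
      have hcard := IsCyclic.card_pow_eq_one_le (α := A) (n := 3) (by norm_num)
      have hsub : ({1, a, a⁻¹, b} : Finset A) ⊆ Finset.univ.filter fun g => g ^ 3 = 1 := fun g _ =>
        Finset.mem_filter.mpr ⟨Finset.mem_univ _, Subtype.ext (by
          obtain ⟨r, hr, e⟩ := hA g g.2
          show (g : H) ^ 3 = 1
          rw [e]; exact ψ3 r hr)⟩
      have ha1 : a ≠ 1 := fun h => hq01 (congrArg Subtype.val h)
      have ha2 : a ≠ a⁻¹ := fun h => hq01 (FischerStr.eq_one_of_coprime (by norm_num : Nat.Coprime 2 3)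
        (by rw [pow_two]; exact congrArg Subtype.val (mul_eq_one_iff_eq_inv.mpr h : a * a = 1)) (ψ3 q0 hq0))
      have hb : ∀ k : ℤ, b ≠ a ^ k := fun k h => hnot (Subgroup.mem_zpowers_iff.mpr ⟨k, (congrArg Subtype.val h).symm⟩)
      have h4 : ({1, a, a⁻¹, b} : Finset A).card = 4 := by
        rw [Finset.card_insert_of_notMem (by simp [ha1.symm, (inv_ne_one.mpr ha1).symm, show (1 : A) ≠ b from fun h => hb 0 (by simp [← h])]),
          Finset.card_insert_of_notMem (by simp [ha2, show a ≠ b from fun h => hb 1 (by simp [← h])]),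
          Finset.card_insert_of_notMem (by simp [show a⁻¹ ≠ b from fun h => hb (-1) (by simp [← h])]), Finset.card_singleton]
      have := (Finset.card_le_card hsub).trans hcard
      omega
    have hgen := Grp.generated_by_centralizers A (pCore 2 H) hnc
      (by rw [Subgroup.normalizer_eq_top_iff.mpr hVn]; exact le_top)
      (IsPGroup.coprime_card_of_ne 3 2 (by norm_num) _ _ (hP.to_le hAP) (Grp.pCore_isPGroup (p := 2) (G := H)))
    have hle : pCore 2 H ≤ Subgroup.centralizer (P : Set H) := by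
      rw [← hgen]
      refine iSup₂_le fun a ha => ?_
      rintro w ⟨hw, hwa⟩
      obtain ⟨r, hr, rfl⟩ := hA a ha.1
      exact Subgroup.mem_centralizer_iff.mpr fun p hp =>
        (hcent r hr ha.2 w hw (Subgroup.mem_centralizer_singleton_iff.mp hwa) p hp).eq.symm
    exact hq01 (InvolSylow.eq_one_of_two_three (Grp.pCore_isPGroup (p := 2) (G := H)) hP
      (hV (Subgroup.le_centralizer_iff.mp hle (ψmem q0 hq0))) (ψmem q0 hq0))
  obtain ⟨b, eb⟩ : ∃ b, b = cd d q0 := ⟨_, rfl⟩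
  have hb : Inv P d b := eb ▸ cd_inv hE hd hn hq0
  have hb3 := inv_cube hE hd hP hb
  have hbq : ψ q0 ∈ Subgroup.zpowers (ψ b) := by
    refine Subgroup.mem_zpowers_iff.mpr ⟨2, ?_⟩
    rw [eb, ψcd q0 hq0, zpow_ofNat, ← pow_mul, pow_succ, ψ3 q0 hq0, one_mul]
  have hz1 : ψ b ≠ 1 := fun e => hq01 (by
    obtain ⟨k, hk⟩ := Subgroup.mem_zpowers_iff.mp hbq
    rw [← hk, e, one_zpow])
  have himb : ∀ q ∈ P, ψ q ∈ Subgroup.zpowers (ψ b) := fun q hq => Subgroup.zpowers_le.mpr hbq (himg q hq)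
  obtain ⟨z, ez⟩ : ∃ z, z = (ψ b)⁻¹ := ⟨_, rfl⟩
  refine ⟨m, b, z, hm, hb, ?_, ez ▸ inv_mem (ψmem b hb.1), by rw [ez, inv_pow, ψ3 b hb.1, inv_one],
    ez ▸ (ψc b hb.1 m hm.1).inv_left, ez ▸ (ψc b hb.1 b hb.1).inv_left, ez ▸ (ψd b hb.1).symm.inv_left, ?_, ?_⟩
  · rw [ez, ← ((ψc b hb.1 (m * b) (mul_mem hm.1 hb.1)).inv_left).eq, eψ]; group
  · obtain ⟨Q, eQ⟩ : ∃ Q : Subgroup H, Q = Subgroup.closure {m, b, z} := ⟨_, rfl⟩
    rw [← eQ]
    refine le_antisymm (hgen_le _ fun t ht => ?_) (eQ ▸ (Subgroup.closure_le _).mpr (by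
      rintro g (rfl | rfl | rfl)
      · exact hm.1
      · exact hb.1
      · exact ez ▸ inv_mem (ψmem b hb.1)))
    have hmQ : m ∈ Q := eQ ▸ Subgroup.subset_closure (by simp)
    have hbQ : b ∈ Q := eQ ▸ Subgroup.subset_closure (by simp)
    have hzQ : ∀ q ∈ P, ψ q ∈ Q := fun q hq => by
      refine Subgroup.zpowers_le.mpr ?_ (himb q hq)
      have : z⁻¹ ∈ Q := inv_mem (eQ ▸ Subgroup.subset_closure (by simp))
      rwa [ez, inv_inv] at this
    obtain ⟨i, hi⟩ : ∃ i : ℕ, ψ b ^ i = ψ t := by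
      have := himb t ht.1
      rwa [← mem_powers_iff_mem_zpowers, Submonoid.mem_powers_iff] at this
    obtain ⟨r, er⟩ : ∃ r, r = t * b ^ (2 * i) := ⟨_, rfl⟩
    have hrP : r ∈ P := er ▸ mul_mem ht.1 (pow_mem hb.1 _)
    have hψr : ψ r = 1 := by
      rw [er, ψmul _ ht.1 _ (pow_mem hb.1 _), ψpow _ hb.1, ← hi, ← pow_add,
        show i + 2 * i = 3 * i by ring, pow_mul, ψ3 b hb.1, one_pow]
    have hcr : Commute m (cd d r) := by
      have hrc := cd_inv hE hd hn hrP
      have h2 : ψ (cd d r) = 1 := by rw [ψcd r hrP, hψr, one_pow]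
      rw [eψ] at h2
      exact mul_inv_eq_iff_eq_mul.mp (mul_inv_eq_one.mp h2)
    obtain ⟨j, hj⟩ : ∃ j : ℕ, m ^ j = cd d r := by
      have := commuting hE hV hd hdV hP hm (cd_inv hE hd hn hrP) hm1 hcr
      rwa [← mem_powers_iff_mem_zpowers, Submonoid.mem_powers_iff] at this
    have hbd : d * (b ^ (2 * i))⁻¹ * d = b ^ (2 * i) := by
      have h1 : d * b ^ (2 * i) * d⁻¹ = (d * b * d⁻¹) ^ (2 * i) := conj_pow.symm
      rw [d_inv hE hd, hb.2, inv_pow] at h1
      have := congrArg (·⁻¹) h1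
      simpa [mul_assoc, d_inv hE hd] using this
    have hdt : d * t⁻¹ * d = t := by
      have := congrArg (·⁻¹) ht.2
      simpa [mul_assoc, d_inv hE hd] using this
    have e1 : m ^ j = t * b ^ i * t := by
      rw [hj, cd, show r * d * r⁻¹ * d = r * ((d * (b ^ (2 * i))⁻¹ * d) * (d * t⁻¹ * d)) by
        rw [er]; simp only [mul_inv_rev, mul_assoc, ThreeTrans.mul_self_mul hE.1 hd], hbd, hdt, er, ← mul_assoc,
        mul_assoc t, ← pow_add, show 2 * i + 2 * i = 3 * i + i by ring, pow_add, pow_mul, hb3, one_pow, one_mul]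
    have htt : t⁻¹ * t⁻¹ = t := by
      rw [← mul_inv_rev]
      refine inv_eq_of_mul_eq_one_right ?_
      rw [mul_assoc, ← pow_three, inv_cube hE hd hP ht]
    have e2 : b ^ i = ψ t⁻¹ ^ j * (t * m ^ j) := by
      calc b ^ i = t⁻¹ * (m ^ j * t⁻¹) := by rw [e1]; group
        _ = t⁻¹ * (ψ t⁻¹ ^ j * (t⁻¹ * m ^ j)) := by rw [mq t⁻¹ (inv_mem ht.1) j]
        _ = ψ t⁻¹ ^ j * (t⁻¹ * (t⁻¹ * m ^ j)) := by
          rw [← mul_assoc, ← ((ψc t⁻¹ (inv_mem ht.1) t⁻¹ (inv_mem ht.1)).pow_left j).eq, mul_assoc]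
        _ = _ := by rw [← mul_assoc t⁻¹, htt]
    have e3 : t = (ψ t⁻¹ ^ j)⁻¹ * b ^ i * (m ^ j)⁻¹ := by rw [e2]; group
    rw [e3]
    exact mul_mem (mul_mem (inv_mem (pow_mem (hzQ _ (inv_mem ht.1)) j)) (pow_mem hbQ i)) (inv_mem (pow_mem hmQ j))
  · intro hc
    refine hz1 ?_
    rw [eψ]
    show m * b * m⁻¹ * b⁻¹ = 1
    rw [hc.eq, mul_inv_cancel_right, mul_inv_cancel]

end setup

end Cfsg.Agent.Spor.HallOne
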