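import Cfsg.Agent.Lib.Spor.Golay.Hexacode

/-! The monomial automorphisms of the hexacode. -/

set_option autoImplicit false
set_option maxRecDepth 100000

namespace Cfsg.Agent.Spor.Hexa

open Equiv

/-- The parity checks. -/
def chk (x : Fin 6 → Q) : Prop :=
  x 3 = qadd (qadd (x 0) (x 1)) (x 2) ∧ x 4 = qadd (qadd (qmul (true, true) (x 0)) (qmul (false, true) (x 1))) (x 2) ∧
    x 5 = qadd (qadd (qmul (false, true) (x 0)) (qmul (true, true) (x 1))) (x 2)

instance (x : Fin 6 → Q) : Decidable (chk x) := inferInstanceAs (Decidable (_ ∧ _ ∧ _))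

/-- The coefficients from the first three places. -/
def coef (a b c : Q) : Q × Q × Q :=
  (qadd (qmul (false, true) a) (qmul (true, true) b), qadd (qadd (qmul (true, true) a) (qmul (true, true) b)) c, qadd b c)

theorem word_chk : ∀ k, chk (word k) := by decide +kernel

theorem chk_word : ∀ a b c : Q,
    word (coef a b c) 0 = a ∧ word (coef a b c) 1 = b ∧ word (coef a b c) 2 = c := by decide +kernel

theorem chk_iff (x : Fin 6 → Q) : chk x ↔ ∃ k, x = word k := by
  refine ⟨fun h => ⟨coef (x 0) (x 1) (x 2), ?_⟩, fun ⟨k, hk⟩ => hk ▸ word_chk k⟩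
  obtain ⟨e0, e1, e2⟩ := chk_word (x 0) (x 1) (x 2)
  obtain ⟨f3, f4, f5⟩ := word_chk (coef (x 0) (x 1) (x 2))
  rw [e0, e1, e2] at f3 f4 f5
  funext i
  fin_cases i
  exacts [e0.symm, e1.symm, e2.symm, h.1.trans f3.symm, h.2.1.trans f4.symm, h.2.2.trans f5.symm]

/-- The three nonzero scalars. -/
def sc : Fin 3 → Q := ![(true, false), (false, true), (true, true)]

/-- The scaled, permuted generator. -/
def img (τ : Fin 6 → Fin 6) (c : Fin 6 → Fin 3) (j : Fin 3) (i : Fin 6) : Q := qmul (sc (c i)) (gen j (τ i))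

/-- The monomial map keeps the generators in the code. -/
def ok (τ : Fin 6 → Fin 6) (c : Fin 6 → Fin 3) : Prop := ∀ j, chk (img τ c j)

instance (τ : Fin 6 → Fin 6) (c : Fin 6 → Fin 3) : Decidable (ok τ c) := inferInstanceAs (Decidable (∀ _, _))

theorem diag_const : ∀ a b c d e f : Fin 3, ok id ![a, b, c, d, e, f] →
    a = b ∧ a = c ∧ a = d ∧ a = e ∧ a = f := by decide +kernel

theorem no_swap : ∀ a b c d e f : Fin 3, ¬ ok (Equiv.swap (0 : Fin 6) 1) ![a, b, c, d, e, f] := by decide +kernel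

theorem pairs : ∀ x y : Fin 6, x ≠ y →
    (∃ a b c d e f : Fin 3, ok (fun i => Equiv.swap x y (Equiv.swap 0 1 i)) ![a, b, c, d, e, f]) ∧
    (∃ a b c d e f : Fin 3, ok (fun i => Equiv.swap 0 1 (Equiv.swap x y i)) ![a, b, c, d, e, f]) := by decide +kernel

theorem scalar_ok : ∀ a : Fin 3, ok id ![a, a, a, a, a, a] := by decide +kernel

variable {F : Type*} [Field F] [Fintype F] (hF : Fintype.card F = 4) (ω : F) (hω : ω ^ 2 + ω + 1 = 0)

/-- A monomial map fixing the code. -/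
def Pres (σ : Perm (Fin 6)) (c : Fin 6 → Fˣ) : Prop :=
  ∀ x ∈ hexacode F ω, monomialMap σ c x ∈ hexacode F ω

theorem monomialMap_mul {F : Type*} [Field F] (σ τ : Perm (Fin 6)) (c d : Fin 6 → Fˣ) (x : Fin 6 → F) :
    monomialMap σ c (monomialMap τ d x) = monomialMap (σ * τ) (fun i => c i * d (σ.symm i)) x := by
  funext i
  simp only [monomialMap, Units.val_mul, mul_assoc]
  rfl

include hF hω

theorem gen_mem (j : Fin 3) : (fun i => φ ω (gen j i)) ∈ hexacode F ω := by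
  refine (mem_iff hF ω hω _).2 ?_
  have h : ∀ j : Fin 3, ∃ k, gen j = word k := by decide +kernel
  obtain ⟨k, hk⟩ := h j
  exact ⟨k, by rw [hk]⟩

theorem pres_iff (σ : Perm (Fin 6)) (c : Fin 6 → Fin 3) (u : Fin 6 → Fˣ) (hu : ∀ i, (u i : F) = φ ω (sc (c i))) :
    Pres ω σ u ↔ ok σ.symm c := by
  have h2 := two_eq_zero hF
  have himg : ∀ j, monomialMap σ u (fun i => φ ω (gen j i)) = fun i => φ ω (img σ.symm c j i) := fun j => by
    funext i
    simp only [monomialMap, img, hu, φ_mul h2 ω hω]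
  constructor
  · intro h j
    have := h _ (gen_mem hF ω hω j)
    rw [himg] at this
    obtain ⟨k, hk⟩ := (mem_iff hF ω hω _).1 this
    exact (chk_iff _).2 ⟨k, funext fun i => (φ_bijective hF ω hω).1 (congrFun hk i)⟩
  · intro h x hx
    obtain ⟨k, rfl⟩ := (mem_iff hF ω hω x).1 hx
    have hk : (monomialMap σ u fun i => φ ω (word k i)) = φ ω k.1 • monomialMap σ u (fun i => φ ω (gen 0 i)) +
        φ ω k.2.1 • monomialMap σ u (fun i => φ ω (gen 1 i)) + φ ω k.2.2 • monomialMap σ u (fun i => φ ω (gen 2 i)) := by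
      funext i
      simp only [monomialMap, word, φ_add h2, φ_mul h2 ω hω, Pi.add_apply, Pi.smul_apply, smul_eq_mul]
      ring
    rw [hk]
    have hm : ∀ j, monomialMap σ u (fun i => φ ω (gen j i)) ∈ hexacode F ω := fun j => by
      rw [himg, mem_iff hF ω hω]
      obtain ⟨k, hk⟩ := (chk_iff _).1 (h j)
      exact ⟨k, by rw [hk]⟩
    exact add_mem (add_mem (Submodule.smul_mem _ _ (hm 0)) (Submodule.smul_mem _ _ (hm 1))) (Submodule.smul_mem _ _ (hm 2))

theorem exists_index (u : Fˣ) : ∃ t : Fin 3, (u : F) = φ ω (sc t) := by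
  obtain ⟨x, hx⟩ := (φ_bijective hF ω hω).2 (u : F)
  have h : ∀ x : Q, x = (false, false) ∨ ∃ t, x = sc t := by decide
  rcases h x with rfl | ⟨t, rfl⟩
  · exact absurd (hx.symm.trans (φ_zero ω)) u.ne_zero
  · exact ⟨t, hx.symm⟩

theorem exists_units (c : Fin 6 → Fin 3) : ∃ u : Fin 6 → Fˣ, ∀ i, (u i : F) = φ ω (sc (c i)) :=
  ⟨fun i => Units.mk0 _ (φ_ne_zero (two_eq_zero hF) ω hω _ ((by decide : ∀ t, sc t ≠ (false, false)) (c i))), fun _ => rfl⟩

theorem const_of_pres {u : Fin 6 → Fˣ} (h : Pres ω 1 u) : ∀ i j, u i = u j := by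
  choose c hc using fun i => exists_index hF ω hω (u i)
  have hok := (pres_iff hF ω hω 1 c u hc).1 h
  have e : c = ![c 0, c 1, c 2, c 3, c 4, c 5] := by funext i; fin_cases i <;> rfl
  rw [e] at hok
  obtain ⟨h1, h2, h3, h4, h5⟩ := diag_const _ _ _ _ _ _ hok
  have h0 : ∀ i, c i = c 0 := by
    intro i; fin_cases i
    exacts [rfl, h1.symm, h2.symm, h3.symm, h4.symm, h5.symm]
  exact fun i j => Units.ext (by rw [hc, hc, h0 i, h0 j])

theorem pres_const (a : Fˣ) : Pres ω 1 (fun _ => a) := by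
  intro x hx
  have e : monomialMap (1 : Perm (Fin 6)) (fun _ => a) x = (a : F) • x := by
    funext i; simp [monomialMap, Perm.one_def]
  rw [e]; exact Submodule.smul_mem _ _ hx

omit [Fintype F] hF hω in
theorem pres_mul {σ τ : Perm (Fin 6)} {c d : Fin 6 → Fˣ} (h : Pres ω σ c) (h' : Pres ω τ d) :
    Pres ω (σ * τ) (fun i => c i * d (σ.symm i)) := fun x hx => by
  rw [← monomialMap_mul]; exact h _ (h' x hx)

/-- Exactly the even permutations occur. -/
theorem perms (σ : Perm (Fin 6)) : (∃ c, Pres ω σ c) ↔ σ ∈ alternatingGroup (Fin 6) := by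
  let T : Submonoid (Perm (Fin 6)) :=
    { carrier := {σ | ∃ c, Pres ω σ c}
      one_mem' := ⟨_, pres_const hF ω hω 1⟩
      mul_mem' := fun ⟨c, hc⟩ ⟨d, hd⟩ => ⟨_, pres_mul ω hc hd⟩ }
  have hpair : ∀ x y : Fin 6, x ≠ y → swap (0 : Fin 6) 1 * swap x y ∈ T ∧ swap x y * swap (0 : Fin 6) 1 ∈ T := by
    intro x y hxy
    obtain ⟨⟨a, b, c, d, e, f, h⟩, a', b', c', d', e', f', h'⟩ := pairs x y hxy
    obtain ⟨u, hu⟩ := exists_units hF ω hω ![a, b, c, d, e, f]
    obtain ⟨u', hu'⟩ := exists_units hF ω hω ![a', b', c', d', e', f']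
    exact ⟨⟨u, (pres_iff hF ω hω _ _ u hu).2 h⟩, ⟨u', (pres_iff hF ω hω _ _ u' hu').2 h'⟩⟩
  have hs1 : Perm.sign (swap (0 : Fin 6) 1) = -1 := Perm.sign_swap (by decide)
  have heven : ∀ σ : Perm (Fin 6), (Perm.sign σ = 1 → σ ∈ T) ∧ (Perm.sign σ = -1 → swap (0 : Fin 6) 1 * σ ∈ T) := by
    intro σ
    induction σ using Perm.swap_induction_on with
    | one => exact ⟨fun _ => T.one_mem, fun h => absurd h (by simp)⟩
    | swap_mul σ x y hxy ih =>
      rw [map_mul, Perm.sign_swap hxy, neg_one_mul]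
      refine ⟨fun h => ?_, fun h => ?_⟩
      · rw [neg_eq_iff_eq_neg] at h
        have := T.mul_mem (hpair x y hxy).2 (ih.2 h)
        rwa [mul_assoc, ← mul_assoc (swap (0 : Fin 6) 1), swap_mul_self, one_mul] at this
      · rw [neg_inj] at h
        rw [← mul_assoc]
        exact T.mul_mem (hpair x y hxy).1 (ih.1 h)
  refine ⟨fun hσ => ?_, fun hσ => (heven σ).1 (Perm.mem_alternatingGroup.1 hσ)⟩
  rw [Perm.mem_alternatingGroup]
  by_contra hne
  have hodd := (Int.units_eq_one_or (Perm.sign σ)).resolve_left hne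
  -- an odd element would put a transposition in the set
  have h1 : swap (0 : Fin 6) 1 * σ ∈ T := (heven σ).2 hodd
  have h2 : (swap (0 : Fin 6) 1 * σ)⁻¹ ∈ T := (heven _).1 (by rw [map_inv, map_mul, hs1, hodd]; decide)
  have h3 : swap (0 : Fin 6) 1 ∈ T := by
    have := T.mul_mem (show σ ∈ T from hσ) h2
    rwa [mul_inv_rev, ← mul_assoc, mul_inv_cancel, one_mul, swap_inv] at this
  obtain ⟨u, hu⟩ := h3
  choose c hc using fun i => exists_index hF ω hω (u i)
  have hok := (pres_iff hF ω hω _ c u hc).1 hu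
  have e : c = ![c 0, c 1, c 2, c 3, c 4, c 5] := by funext i; fin_cases i <;> rfl
  rw [e, symm_swap] at hok
  exact no_swap _ _ _ _ _ _ hok

theorem card_pres : Nat.card {f : Perm (Fin 6) × (Fin 6 → Fˣ) // Pres ω f.1 f.2} = 1080 := by
  classical
  let S := {σ : Perm (Fin 6) // σ ∈ alternatingGroup (Fin 6)}
  choose c0 hc0 using fun σ : S => (perms hF ω hω σ.1).2 σ.2
  let e : S × Fˣ → {f : Perm (Fin 6) × (Fin 6 → Fˣ) // Pres ω f.1 f.2} := fun p =>
    ⟨(p.1.1, fun i => p.2 * c0 p.1 i), by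
      have := pres_mul ω (pres_const hF ω hω p.2) (hc0 p.1)
      rw [one_mul] at this
      simpa [Perm.one_def] using this⟩
  have hb : Function.Bijective e := by
    constructor
    · rintro ⟨σ, a⟩ ⟨τ, b⟩ h
      have h' := congrArg Subtype.val h
      simp only [e, Prod.mk.injEq] at h'
      obtain rfl : σ = τ := Subtype.ext h'.1
      rw [mul_right_cancel (congrFun h'.2 0)]
    · rintro ⟨⟨σ, d⟩, hd⟩
      have hσ : σ ∈ alternatingGroup (Fin 6) := (perms hF ω hω σ).1 ⟨d, hd⟩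
      -- an inverse pair for the chosen representative
      obtain ⟨d', hd'⟩ := (perms hF ω hω σ⁻¹).2 (inv_mem hσ)
      have k1 := const_of_pres hF ω hω (u := fun i => d i * d' (σ.symm i)) (by simpa using pres_mul ω hd hd')
      have k2 := const_of_pres hF ω hω (u := fun i => c0 ⟨σ, hσ⟩ i * d' (σ.symm i))
        (by simpa using pres_mul ω (hc0 ⟨σ, hσ⟩) hd')
      refine ⟨(⟨σ, hσ⟩, d 0 * (c0 ⟨σ, hσ⟩ 0)⁻¹), Subtype.ext (Prod.ext rfl (funext fun i => ?_))⟩
      have h1 := k1 i 0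
      have h2 := k2 i 0
      show d 0 * (c0 ⟨σ, hσ⟩ 0)⁻¹ * c0 ⟨σ, hσ⟩ i = d i
      rw [eq_mul_inv_iff_mul_eq.2 h1, eq_mul_inv_iff_mul_eq.2 h2]
      simp [mul_assoc, mul_left_comm]
  rw [← Nat.card_congr (Equiv.ofBijective e hb), Nat.card_prod, nat_card_alternatingGroup, Nat.card_units,
    Nat.card_eq_fintype_card, Fintype.card_fin, Nat.card_eq_fintype_card, hF]
  rfl

end Cfsg.Agent.Spor.Hexa
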