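import Cfsg.Agent.Lib.Spor.Golay.CensusClasses
import Cfsg.Agent.Lib.Spor.Golay.CensusParts

/-! The normalizer of a subgroup of order seven of the largest Mathieu group. -/

set_option autoImplicit false
set_option maxRecDepth 100000

namespace Cfsg.Agent.Spor.M24Seven

open Golay Golay.Census
open scoped Pointwise

/-- An element of order seven. -/
def g7 : ℕ := 646012715481899000335856336619310145

/-- Its powers. -/
def pw : ℕ → ℕ
  | 0 => idP
  | k + 1 => comp g7 (pw k)

/-- Compatibility on the positions fixed so far. -/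
def test (gk Q : ℕ) (cs : List ℕ) : Bool :=
  cs.all fun b => !Nat.blt b 24 || !(cs.any fun c => Nat.beq c (get g7 b)) || Nat.beq (get Q (get g7 b)) (get gk (get Q b))

/-- The elements conjugating `g7` to its power `gk`. -/
def conjList (gk : ℕ) : List ℕ :=
  (cands table (test gk) idP [] chainA).filter fun R => Nat.beq (comp R g7) (comp gk R)

/-- The normalizer. -/
def normList : List ℕ := (List.range 6).flatMap fun k => conjList (pw (k + 1))

/-- The centralizer. -/
def centList7 : List ℕ := conjList (pw 1)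

/-- Three octads. -/
def trio7 : List ℕ := [1852256, 5279, 14919680]

theorem g7_checks : inM24 g7 = true ∧ valid g7 = true ∧ Nat.beq (pw 7) idP = true ∧ get g7 0 = 1 ∧
    validAll [pw 0, pw 1, pw 2, pw 3, pw 4, pw 5, pw 6, pw 7] = true := by decide +kernel

theorem norm_checks : normList.all inM24 = true ∧ normList.length = 126 ∧
    (normList.map fun R => (List.range 24).map (get R)).Nodup := by decide +kernel

theorem cent_checks7 : centList7.all inM24 = true ∧ centList7.length = 42 ∧
    (centList7.map fun R => (List.range 24).map (get R)).Nodup ∧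
    (centList7.any fun a => centList7.any fun b => !Nat.beq (comp a b) (comp b a)) = true := by decide +kernel

theorem trio_checks : (trio7.all fun m => octList.contains m) = true ∧
    (normList.all fun R => trio7.all fun m => trio7.contains (imgMask (get R) m)) = true ∧
    (trio7.map fun m => pop m) = [8, 8, 8] ∧
    (trio7.all fun m => trio7.all fun m' => Nat.beq m m' || Nat.beq (m &&& m') 0) = true ∧ trio7.Nodup := by
  decide +kernel

theorem valid_of_inM24 {R : ℕ} (h : inM24 R = true) : valid R = true := by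
  simp only [inM24, Bool.and_eq_true] at h; exact h.1

/-- The generator. -/
noncomputable def gen : Equiv.Perm GolayPt := permOf g7

theorem gen_mem : gen ∈ M24 := permOf_mem_M24 g7_checks.1

theorem pw_spec : ∀ k, valid (pw k) = true ∧ permOf (pw k) = gen ^ k
  | 0 => ⟨valid_idP, by rw [pow_zero]; exact permOf_idP⟩
  | k + 1 => by
    obtain ⟨h1, h2⟩ := pw_spec k
    exact ⟨valid_comp g7_checks.2.1 h1, by rw [pw, permOf_comp g7_checks.2.1 h1, h2, pow_succ']; rfl⟩

theorem order_gen : orderOf gen = 7 := by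
  haveI : Fact (Nat.Prime 7) := ⟨by norm_num⟩
  refine orderOf_eq_prime ?_ fun e => ?_
  · rw [← (pw_spec 7).2, Nat.eq_of_beq_eq_true g7_checks.2.2.1, permOf_idP]
  · have h := idx_permOf g7_checks.2.1 (pt 0)
    rw [show permOf g7 = 1 from e, Equiv.Perm.one_apply, idx_pt (by norm_num), g7_checks.2.2.2.1] at h
    omega

theorem permOf_inj {R R' : ℕ} (hR : valid R = true) (hR' : valid R' = true) (e : permOf R = permOf R') :
    (List.range 24).map (get R) = (List.range 24).map (get R') := by
  refine List.map_congr_left fun i hi => ?_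
  rw [List.mem_range] at hi
  have := congrArg (fun p : Equiv.Perm GolayPt => idx (p (pt i))) e
  rwa [idx_permOf hR, idx_permOf hR', idx_pt hi] at this

theorem card_image {L : List ℕ} (hall : L.all inM24 = true) (hnd : (L.map fun R => (List.range 24).map (get R)).Nodup) :
    {p : Equiv.Perm GolayPt | ∃ R ∈ L, permOf R = p}.ncard = L.length := by
  classical
  have : {p : Equiv.Perm GolayPt | ∃ R ∈ L, permOf R = p} = ↑(L.map permOf).toFinset := by ext p; simp
  rw [this, Set.ncard_coe_finset, List.toFinset_card_of_nodup, List.length_map]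
  refine List.Nodup.map_on (fun R hR R' hR' e => ?_) hnd.of_map
  exact List.inj_on_of_nodup_map hnd hR hR'
    (permOf_inj (valid_of_inM24 (List.all_eq_true.mp hall R hR)) (valid_of_inM24 (List.all_eq_true.mp hall R' hR')) e)

theorem mem_conjList {k : ℕ} {n : Equiv.Perm GolayPt} (hn : n ∈ M24) (e : n * gen = gen ^ k * n) :
    ∃ R ∈ conjList (pw k), permOf R = n := by
  obtain ⟨hkv, hkp⟩ := pw_spec k
  have hgv := g7_checks.2.1
  have hap : ∀ p, n (gen p) = permOf (pw k) (n p) := fun p => by
    rw [hkp]; exact Equiv.congr_fun e p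
  obtain ⟨R, hR, hv, eR⟩ := mem_cands tableOk (test (pw k)) (g := n) (fun Q cs hQ hag => by
      simp only [test, List.all_eq_true, Bool.or_eq_true, Bool.not_eq_true', List.any_eq_false]
      intro b hb
      by_cases hb24 : b < 24
      · by_cases hm : get g7 b ∈ cs
        · refine Or.inr ?_
          have e2 := hag b hb
          have e3 := hag _ hm
          have hgb : gen (pt b) = pt (get g7 b) := idx_injective (by
            rw [gen, idx_permOf hgv, idx_pt hb24, idx_pt ((valid_iff.mp hgv).2 b hb24)])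
          have := congrArg idx (hap (pt b))
          rw [hgb, ← e3, ← e2, idx_permOf hQ, idx_permOf hkv, idx_permOf hQ, idx_pt hb24,
            idx_pt ((valid_iff.mp hgv).2 b hb24)] at this
          rw [this]; simp
        · exact Or.inl (Or.inr fun c hc he => hm (Nat.eq_of_beq_eq_true he ▸ hc))
      · refine Or.inl (Or.inl ?_)
        cases hbl : Nat.blt b 24
        · rfl
        · exact absurd (lt_of_blt hbl) hb24) chainA [] idP valid_idP lowA upA idx_ok.1
    (by rw [permOf_idP, inv_one, one_mul, Fix_nil]; exact hn)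
  refine ⟨R, List.mem_filter.mpr ⟨hR, ?_⟩, eR⟩
  have h2 : permOf (comp R g7) = permOf (comp (pw k) R) := by
    rw [permOf_comp hv hgv, permOf_comp hkv hv, eR, hkp]; exact e
  have h3 : comp R g7 = comp (pw k) R := pack_ext 24 _ _ fun i hi => by
    have := congrArg (fun p : Equiv.Perm GolayPt => idx (p (pt i))) h2
    rwa [idx_permOf (valid_comp hv hgv), idx_permOf (valid_comp hkv hv), idx_pt hi, get_comp _ _ hi,
      get_comp _ _ hi] at this
  rw [h3]; simp

theorem of_conjList {k : ℕ} {R : ℕ} (h : R ∈ conjList (pw k)) (hM : inM24 R = true) :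
    permOf R * gen = gen ^ k * permOf R := by
  have e := Nat.eq_of_beq_eq_true (List.mem_filter.mp h).2
  rw [gen, ← permOf_comp (valid_of_inM24 hM) g7_checks.2.1, e, permOf_comp (pw_spec k).1 (valid_of_inM24 hM),
    (pw_spec k).2, gen]

/-- The generated subgroup. -/
noncomputable def sub : Subgroup ↥M24 := Subgroup.zpowers ⟨gen, gen_mem⟩

theorem card_sub : Nat.card sub = 7 := by
  rw [sub, Nat.card_zpowers, ← Subgroup.orderOf_coe, order_gen]

theorem mem_sub {p : ↥M24} : p ∈ sub ↔ ∃ k < 7, (p : Equiv.Perm GolayPt) = gen ^ k := by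
  classical
  rw [sub, (isOfFinOrder_of_finite _).mem_zpowers_iff_mem_range_orderOf]
  simp only [Finset.mem_image, Finset.mem_range, ← Subgroup.orderOf_coe, order_gen, Subtype.ext_iff,
    SubgroupClass.coe_pow]
  exact exists_congr fun k => and_congr_right fun _ => eq_comm

theorem conj_iff {n : ↥M24} (k : ℕ) :
    ((n * ⟨gen, gen_mem⟩ * n⁻¹ : ↥M24) : Equiv.Perm GolayPt) = gen ^ k ↔
      (n : Equiv.Perm GolayPt) * gen = gen ^ k * n := by
  simp only [Subgroup.coe_mul, Subgroup.coe_inv]
  exact mul_inv_eq_iff_eq_mul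

theorem norm_eq : ((↑) '' (Subgroup.normalizer (sub : Set ↥M24) : Set ↥M24) : Set (Equiv.Perm GolayPt)) =
    {p | ∃ R ∈ normList, permOf R = p} := by
  ext p
  constructor
  · rintro ⟨n, hn, rfl⟩
    have hmem := (Subgroup.mem_normalizer_iff.mp hn ⟨gen, gen_mem⟩).mp (Subgroup.mem_zpowers _)
    obtain ⟨k, hk, e⟩ := mem_sub.mp hmem
    rw [conj_iff] at e
    have hk0 : k ≠ 0 := fun h => by
      rw [h, pow_zero, one_mul, mul_eq_left] at e
      have := order_gen
      rw [e, orderOf_one] at this
      omega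
    obtain ⟨j, rfl⟩ : ∃ j, k = j + 1 := ⟨k - 1, by omega⟩
    obtain ⟨R, hR, eR⟩ := mem_conjList n.2 e
    exact ⟨R, List.mem_flatMap.mpr ⟨j, List.mem_range.mpr (by omega), hR⟩, eR⟩
  · rintro ⟨R, hR, rfl⟩
    have hM := List.all_eq_true.mp norm_checks.1 R hR
    obtain ⟨j, -, hR'⟩ := List.mem_flatMap.mp hR
    refine ⟨⟨permOf R, permOf_mem_M24 hM⟩, ?_, rfl⟩
    have hc : ⟨permOf R, permOf_mem_M24 hM⟩ * (⟨gen, gen_mem⟩ : ↥M24) * ⟨permOf R, permOf_mem_M24 hM⟩⁻¹ =
        (⟨gen, gen_mem⟩ : ↥M24) ^ (j + 1) :=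
      Subtype.ext ((conj_iff (j + 1)).mpr (of_conjList hR' hM))
    refine (Subgroup.mem_normalizer_iff_map_conj_eq).mpr ?_
    rw [sub, MonoidHom.map_zpowers]
    refine Subgroup.eq_of_le_of_card_ge ?_ ?_
    · rw [Subgroup.zpowers_le]
      show MulAut.conj _ _ ∈ _
      rw [MulAut.conj_apply, hc]
      exact pow_mem (Subgroup.mem_zpowers _) _
    · rw [Nat.card_zpowers, Nat.card_zpowers]
      exact le_of_eq ((MulAut.conj _).orderOf_eq _).symm

theorem cent_eq : ((↑) '' (Subgroup.centralizer (sub : Set ↥M24) : Set ↥M24) : Set (Equiv.Perm GolayPt)) =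
    {p | ∃ R ∈ centList7, permOf R = p} := by
  ext p
  constructor
  · rintro ⟨n, hn, rfl⟩
    refine mem_conjList n.2 ?_
    rw [pow_one]
    exact (congrArg Subtype.val (Subgroup.mem_centralizer_iff.mp hn _ (Subgroup.mem_zpowers (⟨gen, gen_mem⟩ : ↥M24)))).symm
  · rintro ⟨R, hR, rfl⟩
    have hM := List.all_eq_true.mp cent_checks7.1 R hR
    have := of_conjList hR hM
    rw [pow_one] at this
    refine ⟨⟨permOf R, permOf_mem_M24 hM⟩, Subgroup.mem_centralizer_iff.mpr fun s hs => ?_, rfl⟩
    obtain ⟨k, -, e⟩ := mem_sub.mp hs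
    refine Subtype.ext ?_
    show (s : Equiv.Perm GolayPt) * permOf R = permOf R * s
    rw [e]
    exact ((show Commute (permOf R) gen from this).pow_right k).eq.symm

theorem card_norm : Nat.card ↥(Subgroup.normalizer (sub : Set ↥M24)) = 126 := by
  rw [← SetLike.coe_sort_coe, Nat.card_coe_set_eq, ← Set.ncard_image_of_injective _ Subtype.val_injective, norm_eq,
    card_image norm_checks.1 norm_checks.2.2, norm_checks.2.1]

theorem card_cent : Nat.card ↥(Subgroup.centralizer (sub : Set ↥M24)) = 42 := by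
  rw [← SetLike.coe_sort_coe, Nat.card_coe_set_eq, ← Set.ncard_image_of_injective _ Subtype.val_injective, cent_eq,
    card_image cent_checks7.1 cent_checks7.2.2.1, cent_checks7.2.1]

theorem not_comm : ∃ x ∈ Subgroup.centralizer (sub : Set ↥M24), ∃ y ∈ Subgroup.centralizer (sub : Set ↥M24),
    x * y ≠ y * x := by
  obtain ⟨hall, -, -, h⟩ := cent_checks7
  simp only [List.any_eq_true, Bool.not_eq_true'] at h
  obtain ⟨a, ha, b, hb, hab⟩ := h
  obtain ⟨x, hx, ex⟩ : permOf a ∈ ((↑) '' (Subgroup.centralizer (sub : Set ↥M24) : Set ↥M24) : Set (Equiv.Perm GolayPt)) := by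
    rw [cent_eq]; exact ⟨a, ha, rfl⟩
  obtain ⟨y, hy, ey⟩ : permOf b ∈ ((↑) '' (Subgroup.centralizer (sub : Set ↥M24) : Set ↥M24) : Set (Equiv.Perm GolayPt)) := by
    rw [cent_eq]; exact ⟨b, hb, rfl⟩
  refine ⟨x, hx, y, hy, fun e => ?_⟩
  have hva := valid_of_inM24 (List.all_eq_true.mp hall a ha)
  have hvb := valid_of_inM24 (List.all_eq_true.mp hall b hb)
  have h2 : permOf (comp a b) = permOf (comp b a) := by
    rw [permOf_comp hva hvb, permOf_comp hvb hva, ← ex, ← ey]; exact congrArg Subtype.val e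
  have h3 : comp a b = comp b a := pack_ext 24 _ _ fun i hi => by
    have := congrArg (fun p : Equiv.Perm GolayPt => idx (p (pt i))) h2
    rwa [idx_permOf (valid_comp hva hvb), idx_permOf (valid_comp hvb hva), idx_pt hi, get_comp _ _ hi,
      get_comp _ _ hi] at this
  rw [h3] at hab
  simp at hab

theorem exists_trio : ∃ T ∈ trios, ∀ n ∈ Subgroup.normalizer (sub : Set ↥M24), (n : Equiv.Perm GolayPt) • T = T := by
  classical
  obtain ⟨hoct, hfix, hpop, hdis, hnd⟩ := trio_checks
  have hinj : ∀ m ∈ trio7, ∀ m' ∈ trio7, pts m = pts m' → m = m' := fun m hm m' hm' e => by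
    have ho : ∀ a ∈ trio7, a ∈ octList := fun a ha => by simpa using List.all_eq_true.mp hoct a ha
    exact pts_injOn (codeList_lt (mem_weightList.mp (ho m hm)).1) (codeList_lt (mem_weightList.mp (ho m' hm')).1) e
  have hcard : (trio7.toFinset.image pts).card = 3 := by
    rw [Finset.card_image_of_injOn fun m hm m' hm' e => hinj m (List.mem_toFinset.mp hm) m' (List.mem_toFinset.mp hm') e,
      List.toFinset_card_of_nodup hnd]
    rfl
  refine ⟨trio7.toFinset.image pts, ⟨hcard, fun o ho => ?_, fun o ho o' ho' hne => ?_⟩, fun n hn => ?_⟩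
  · obtain ⟨m, hm, rfl⟩ := Finset.mem_image.mp ho
    exact mem_octads.mpr ⟨m, by simpa using List.all_eq_true.mp hoct m (List.mem_toFinset.mp hm), rfl⟩
  · obtain ⟨m, hm, rfl⟩ := Finset.mem_image.mp ho
    obtain ⟨m', hm', rfl⟩ := Finset.mem_image.mp ho'
    rcases Bool.or_eq_true _ _ ▸ List.all_eq_true.mp (List.all_eq_true.mp hdis m (List.mem_toFinset.mp hm)) m'
      (List.mem_toFinset.mp hm') with h | h
    · exact absurd (congrArg pts (Nat.eq_of_beq_eq_true h)) hne
    · rw [Finset.disjoint_iff_inter_eq_empty, pts_inter, Nat.eq_of_beq_eq_true h, ← Finset.card_eq_zero, card_pts]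
      decide +kernel
  · obtain ⟨R, hR, e⟩ : (n : Equiv.Perm GolayPt) ∈ {p | ∃ R ∈ normList, permOf R = p} := by
      rw [← norm_eq]; exact ⟨n, hn, rfl⟩
    have hv := valid_of_inM24 (List.all_eq_true.mp norm_checks.1 R hR)
    refine Finset.eq_of_subset_of_card_le (fun o ho => ?_) (by rw [Finset.card_smul_finset])
    obtain ⟨o', ho', rfl⟩ := Finset.mem_smul_finset.mp ho
    obtain ⟨m, hm, rfl⟩ := Finset.mem_image.mp ho'
    refine Finset.mem_image.mpr ⟨imgMask (get R) m, ?_, ?_⟩
    · rw [List.mem_toFinset]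
      simpa using List.all_eq_true.mp (List.all_eq_true.mp hfix R hR) m (List.mem_toFinset.mp hm)
    · rw [← e, permOf_smul_pts hv]

/-- All subgroups of order seven. -/
theorem seven (S : Subgroup ↥M24) (hS : Nat.card S = 7) :
    Nat.card ↥(Subgroup.normalizer (S : Set ↥M24)) = 126 ∧ Nat.card ↥(Subgroup.centralizer (S : Set ↥M24)) = 42 ∧
      (∃ x ∈ Subgroup.centralizer (S : Set ↥M24), ∃ y ∈ Subgroup.centralizer (S : Set ↥M24), x * y ≠ y * x) ∧
      ∃ T ∈ trios, ∀ n ∈ Subgroup.normalizer (S : Set ↥M24), ((n : ↥M24) : Equiv.Perm GolayPt) • T = T := by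
  haveI : Fact (Nat.Prime 7) := ⟨by norm_num⟩
  have hfac : (Nat.card ↥M24).factorization 7 = 1 := by
    rw [card_M24, Nat.factorization_def _ (by norm_num : Nat.Prime 7)]
    have h1 : (244823040 : ℕ) = 7 * 34974720 := by norm_num
    rw [h1, padicValNat.mul (by norm_num) (by norm_num), padicValNat_self,
      padicValNat.eq_zero_of_not_dvd (by norm_num)]
  obtain ⟨k, hk⟩ := MulAction.exists_smul_eq ↥M24 (Sylow.ofCard sub (by rw [card_sub, hfac, pow_one]))
    (Sylow.ofCard S (by rw [hS, hfac, pow_one]))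
  have hS' : S = sub.map (MulAut.conj k).toMonoidHom := by
    have := congrArg Sylow.toSubgroup hk
    exact this.symm
  have hN : Subgroup.normalizer (S : Set ↥M24) =
      (Subgroup.normalizer (sub : Set ↥M24)).map (MulAut.conj k).toMonoidHom := by
    rw [hS', Subgroup.map_equiv_normalizer_eq]
  have hC : Subgroup.centralizer (S : Set ↥M24) =
      (Subgroup.centralizer (sub : Set ↥M24)).map (MulAut.conj k).toMonoidHom := by
    ext y
    obtain ⟨x, rfl⟩ := (MulAut.conj k).surjective y
    rw [Subgroup.mem_map_equiv, MulEquiv.symm_apply_apply, Subgroup.mem_centralizer_iff, Subgroup.mem_centralizer_iff, hS']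
    constructor
    · intro h s hs
      exact (MulAut.conj k).injective (by rw [map_mul, map_mul]; exact h _ (Subgroup.mem_map_of_mem _ hs))
    · rintro h _ ⟨s, hs, rfl⟩
      show (MulAut.conj k) s * (MulAut.conj k) x = (MulAut.conj k) x * (MulAut.conj k) s
      rw [← map_mul, ← map_mul, h s hs]
  refine ⟨?_, ?_, ?_, ?_⟩
  · rw [hN, ← Nat.card_congr ((Subgroup.normalizer (sub : Set ↥M24)).equivMapOfInjective _ (MulAut.conj k).injective).toEquiv,
      card_norm]
  · rw [hC, ← Nat.card_congr ((Subgroup.centralizer (sub : Set ↥M24)).equivMapOfInjective _ (MulAut.conj k).injective).toEquiv,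
      card_cent]
  · obtain ⟨x, hx, y, hy, hne⟩ := not_comm
    rw [hC]
    exact ⟨_, Subgroup.mem_map_of_mem _ hx, _, Subgroup.mem_map_of_mem _ hy,
      fun e => hne ((MulAut.conj k).injective (by rw [map_mul, map_mul]; exact e))⟩
  · obtain ⟨T, hT, hfix⟩ := exists_trio
    refine ⟨(k : Equiv.Perm GolayPt) • T, smul_trio k.2 hT, fun n hn => ?_⟩
    rw [hN] at hn
    obtain ⟨m, hm, rfl⟩ := hn
    show ((k * m * k⁻¹ : ↥M24) : Equiv.Perm GolayPt) • _ = _
    rw [Subgroup.coe_mul, Subgroup.coe_mul, Subgroup.coe_inv, mul_smul, mul_smul, inv_smul_smul, hfix m hm]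

end Cfsg.Agent.Spor.M24Seven
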