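import Cfsg.Agent.Lib.Spor.CycleSum
import Cfsg.Agent.Lib.Spor.M23TriplesData
import Cfsg.Agent.Lib.Spor.Golay.Psl23Max
import Cfsg.Agent.Lib.Spor.Cos.Tree

/-!
Which triples of prime orders generate the group on 23 points with product one.
-/

set_option autoImplicit false
set_option maxRecDepth 100000
set_option maxHeartbeats 1000000

namespace Cfsg.Agent.Spor.M23Triples

open Cfsg.Agent.Spor.Golay Cfsg.Agent.Spor.Golay.Census Cfsg.Agent.Spor.Golay.Psl23Max

/-- The product of a word. -/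
def wv (X Y : ℕ) : List ℕ → ℕ
  | [] => idP
  | i :: w => Cos.force (wv X Y w) fun P => comp (bif Nat.beq i 0 then X else Y) P

theorem wv_spec {X Y : ℕ} (hX : valid X = true) (hY : valid Y = true) {H : Subgroup (Equiv.Perm GolayPt)}
    (mX : permOf X ∈ H) (mY : permOf Y ∈ H) : ∀ w, valid (wv X Y w) = true ∧ permOf (wv X Y w) ∈ H
  | [] => ⟨valid_idP, by rw [wv, permOf_idP]; exact one_mem _⟩
  | i :: w => by
    obtain ⟨hv, hm⟩ := wv_spec hX hY mX mY w
    rw [wv, Cos.force_eq]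
    cases Nat.beq i 0 <;> simp only [Bool.cond_true, Bool.cond_false]
    · exact ⟨valid_comp hY hv, by rw [permOf_comp hY hv]; exact mul_mem mY hm⟩
    · exact ⟨valid_comp hX hv, by rw [permOf_comp hX hv]; exact mul_mem mX hm⟩

/-- A packed power. -/
def pwr (X : ℕ) : ℕ → ℕ
  | 0 => idP
  | k + 1 => Cos.force (pwr X k) fun P => comp X P

theorem pwr_spec {X : ℕ} (hX : valid X = true) : ∀ k, valid (pwr X k) = true ∧ permOf (pwr X k) = permOf X ^ k
  | 0 => ⟨valid_idP, by rw [pwr, permOf_idP, pow_zero]⟩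
  | k + 1 => by
    obtain ⟨hv, e⟩ := pwr_spec hX k
    rw [pwr, Cos.force_eq]
    exact ⟨valid_comp hX hv, by rw [permOf_comp hX hv, e, pow_succ']⟩

/-- The order is the given prime. -/
def ordOk (X p : ℕ) : Bool := Nat.beq (pwr X p) idP && !(Nat.beq (get X 0) 0 && (List.range 24).all fun i => Nat.beq (get X i) i)

theorem orderOf_of_ordOk {X p : ℕ} (hX : valid X = true) (hp : p.Prime) (h : ordOk X p = true) :
    orderOf (permOf X) = p := by
  simp only [ordOk, Bool.and_eq_true, Bool.not_eq_true'] at h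
  haveI : Fact p.Prime := ⟨hp⟩
  refine orderOf_eq_prime ?_ fun e => ?_
  · rw [← (pwr_spec hX p).2, Nat.eq_of_beq_eq_true h.1, permOf_idP]
  · have key : ∀ i < 24, Nat.beq (get X i) i = true := fun i hi => by
      have := idx_permOf hX (pt i)
      rw [e, Equiv.Perm.one_apply, idx_pt hi] at this
      rw [← this]
      exact Nat.beq_refl i
    have : (Nat.beq (get X 0) 0 && (List.range 24).all fun i => Nat.beq (get X i) i) = true := by
      rw [Bool.and_eq_true, List.all_eq_true]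
      exact ⟨key 0 (by norm_num), fun i hi => key i (List.mem_range.1 hi)⟩
    rw [h.2] at this
    exact Bool.noConfusion this

/-- The checks of a witness. -/
def chkWit (o : ℕ × ℕ × ℕ × ℕ × ℕ × List (List ℕ)) : Bool :=
  match o with
  | (p, q, r, X, Y, ws) =>
    inM24 X && Nat.beq (get X 23) 23 && inM24 Y && Nat.beq (get Y 23) 23 && ordOk X p && ordOk Y q &&
      ordOk (comp X Y) r && Nat.beq (wv X Y (ws.getD 0 [])) (affP 0 1) &&
      Nat.beq (wv X Y (ws.getD 1 [])) (affP 1 0) && Nat.beq (wv X Y (ws.getD 2 [])) tgtT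

theorem wit_ok : wit.all chkWit = true := by decide +kernel

theorem tgtT_ok : (valid tgtT && ordOk tgtT 2) = true := by decide +kernel

/-- The list covers all triples not excluded. -/
theorem wit_cover : ∀ p ∈ [2, 3, 5, 7, 11, 23], ∀ q ∈ [2, 3, 5, 7, 11, 23], ∀ r ∈ [2, 3, 5, 7, 11, 23],
    p ≤ q → q ≤ r → ¬ (p = 2 ∧ q = 2) →
    ¬ ((p = 2 ∧ q = 3) ∨ (p = 2 ∧ q = 5 ∧ r = 5) ∨ (p = 2 ∧ q = 5 ∧ r = 7) ∨ (p = 3 ∧ q = 3 ∧ r ≤ 7)) →
    (wit.any fun o => Nat.beq o.1 p && Nat.beq o.2.1 q && Nat.beq o.2.2.1 r) = true := by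
  decide +kernel

theorem exists_gen {p q r : ℕ} (hp : p.Prime) (hq : q.Prime) (hr : r.Prime)
    (h : (wit.any fun o => Nat.beq o.1 p && Nat.beq o.2.1 q && Nat.beq o.2.2.1 r) = true) :
    ∃ x y z : Spor.M23, orderOf x = p ∧ orderOf y = q ∧ orderOf z = r ∧ x * y * z = 1 ∧
      Subgroup.closure {x, y} = ⊤ := by
  obtain ⟨⟨p', q', r', X, Y, ws⟩, ho, e⟩ := List.any_eq_true.1 h
  simp only [Bool.and_eq_true] at e
  obtain rfl := Nat.eq_of_beq_eq_true e.1.1
  obtain rfl := Nat.eq_of_beq_eq_true e.1.2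
  obtain rfl := Nat.eq_of_beq_eq_true e.2
  have hc := List.all_eq_true.1 wit_ok _ ho
  simp only [chkWit, Bool.and_eq_true] at hc
  obtain ⟨⟨⟨⟨⟨⟨⟨⟨⟨hX, hX0⟩, hY⟩, hY0⟩, oX⟩, oY⟩, oZ⟩, w0⟩, w1⟩, w2⟩ := hc
  have vX := valid_of_inM24 hX
  have vY := valid_of_inM24 hY
  let x : Spor.M23 := ⟨permOf X, mem_M23.2 ⟨permOf_mem_M24 hX, fix_none vX (Nat.eq_of_beq_eq_true hX0)⟩⟩
  let y : Spor.M23 := ⟨permOf Y, mem_M23.2 ⟨permOf_mem_M24 hY, fix_none vY (Nat.eq_of_beq_eq_true hY0)⟩⟩
  have hxy : orderOf (x * y) = r' := by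
    rw [← Subgroup.orderOf_coe, Subgroup.coe_mul]
    show orderOf (permOf X * permOf Y) = r'
    rw [← permOf_comp vX vY]
    exact orderOf_of_ordOk (valid_comp vX vY) hr oZ
  refine ⟨x, y, (x * y)⁻¹, ?_, ?_, by rw [orderOf_inv, hxy], by rw [mul_inv_cancel], ?_⟩
  · rw [← Subgroup.orderOf_coe]; exact orderOf_of_ordOk vX hp oX
  · rw [← Subgroup.orderOf_coe]; exact orderOf_of_ordOk vY hq oY
  set H := (Subgroup.closure {x, y}).map Spor.M23.subtype with hH
  have mX : permOf X ∈ H := ⟨x, Subgroup.subset_closure (by simp), rfl⟩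
  have mY : permOf Y ∈ H := ⟨y, Subgroup.subset_closure (by simp), rfl⟩
  have hle : H ≤ Spor.M23 := Subgroup.map_subtype_le _
  have haff : affGrp ≤ H := by
    refine (Subgroup.closure_le _).2 ?_
    rintro g (rfl | rfl)
    · show permOf (affP 0 1) ∈ H
      rw [← Nat.eq_of_beq_eq_true w0]
      exact (wv_spec vX vY mX mY _).2
    · show permOf (affP 1 0) ∈ H
      rw [← Nat.eq_of_beq_eq_true w1]
      exact (wv_spec vX vY mX mY _).2
  obtain ⟨hvT, hoT⟩ := Bool.and_eq_true_iff.1 tgtT_ok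
  have hT : permOf tgtT ∈ H := by
    rw [← Nat.eq_of_beq_eq_true w2]
    exact (wv_spec vX vY mX mY _).2
  have hev : 2 ∣ Nat.card H := by
    have h2 : orderOf (⟨permOf tgtT, hT⟩ : H) = 2 := by
      rw [← Subgroup.orderOf_coe]; exact orderOf_of_ordOk hvT Nat.prime_two hoT
    exact h2 ▸ orderOf_dvd_natCard _
  refine top_le_iff.1 fun g _ => ?_
  obtain ⟨g', hg', e⟩ := eq_of_even haff hle hev g.2
  rwa [Subtype.ext e] at hg'

/-- The 23 points. -/
abbrev Pt23 : Type := {a : GolayPt // a ≠ none}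

/-- The action on the 23 points. -/
noncomputable def res : Spor.M23 →* Equiv.Perm Pt23 where
  toFun g := g.1.subtypePerm fun a => by
    have h := (mem_M23.1 g.2).2
    constructor
    · intro ha e; exact ha (e ▸ h)
    · intro ha e; exact ha (g.1.injective (e.trans h.symm))
  map_one' := rfl
  map_mul' _ _ := rfl

theorem res_injective : Function.Injective res := by
  intro g h e
  refine Subtype.ext (Equiv.ext fun a => ?_)
  by_cases ha : a = none
  · subst ha; rw [(mem_M23.1 g.2).2, (mem_M23.1 h.2).2]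
  · exact congrArg Subtype.val (Equiv.congr_fun e ⟨a, ha⟩)

theorem card_pt23 : Fintype.card Pt23 = 23 := by decide +kernel

theorem card_fix (g : Spor.M23) : (Finset.univ.filter fun a => res g a = a).card + 1 =
    (Finset.univ.filter fun a => g.1 a = a).card := by
  have h : (Finset.univ.filter fun a => g.1 a = a) =
      insert none ((Finset.univ.filter fun a => res g a = a).map ⟨Subtype.val, Subtype.val_injective⟩) := by
    ext a
    simp only [Finset.mem_filter, Finset.mem_univ, true_and, Finset.mem_insert, Finset.mem_map,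
      Function.Embedding.coeFn_mk]
    constructor
    · intro ha
      by_cases h0 : a = none
      · exact Or.inl h0
      · exact Or.inr ⟨⟨a, h0⟩, Subtype.ext ha, rfl⟩
    · rintro (rfl | ⟨b, hb, rfl⟩)
      · exact (mem_M23.1 g.2).2
      · exact congrArg Subtype.val hb
  rw [h, Finset.card_insert_of_notMem, Finset.card_map]
  simp

/-- The least orbit number for the prime orders. -/
theorem fixed_ge {p : ℕ} (hp : p.Prime) (g : Spor.M23) (hg : orderOf g = p) :
    (p = 2 → 15 ≤ Module.finrank ℚ (CycleSum.fixedPart (res g))) ∧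
    (p = 3 → 11 ≤ Module.finrank ℚ (CycleSum.fixedPart (res g))) ∧
    (p = 5 → 7 ≤ Module.finrank ℚ (CycleSum.fixedPart (res g))) ∧
    (p = 7 → 5 ≤ Module.finrank ℚ (CycleSum.fixedPart (res g))) ∧
    1 ≤ Module.finrank ℚ (CycleSum.fixedPart (res g)) := by
  haveI : Nonempty Pt23 := ⟨⟨some 0, by simp⟩⟩
  have ho : orderOf (res g) = p := by rw [orderOf_injective res res_injective, hg]
  have h := CycleSum.fixedPart_ge hp ho
  rw [card_pt23] at h
  have hc := card_fix g
  have hmod : ∀ {k : ℕ}, k.Prime → p = k → (Finset.univ.filter fun a => res g a = a).card % k = 23 % k := by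
    intro k hk e
    haveI : Fact k.Prime := ⟨hk⟩
    let F : Function.End Pt23 := ⇑(res g)
    have := Equiv.Perm.card_fixedPoints_modEq (p := k) (n := 1) (f := F) (by
      have e1 : res g ^ k = 1 := by rw [← e, ← ho, pow_orderOf_eq_one]
      rw [pow_one]
      funext a
      have e2 : ∀ (m : ℕ) (a : Pt23), (F ^ m) a = (res g ^ m) a := by
        intro m
        induction m with
        | zero => intro a; rfl
        | succ m ih => intro a; rw [pow_succ', pow_succ']; exact congrArg (res g) (ih a)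
      rw [e2, e1]
      rfl)
    rw [card_pt23] at this
    rw [this]
    congr 1
    rw [← Fintype.card_subtype]
    exact Fintype.card_congr (Equiv.subtypeEquivRight fun a => Iff.rfl)
  have hord : orderOf g.1 = p := (Subgroup.orderOf_coe g).trans hg
  refine ⟨?_, ?_, ?_, ?_, ?_⟩
  · rintro rfl
    obtain ⟨k, -, ⟨e, -⟩ | ⟨e, -⟩⟩ := two_classes (mem_M23.1 g.2).1 hord <;> rw [e] at hc <;> omega
  · rintro rfl
    obtain ⟨k, -, ⟨e, -⟩ | ⟨e, -⟩⟩ := three_classes (mem_M23.1 g.2).1 hord <;> rw [e] at hc <;> omega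
  · rintro rfl
    have := hmod (by norm_num) rfl
    omega
  · rintro rfl
    have := hmod (by norm_num) rfl
    omega
  · rcases Nat.eq_zero_or_pos (Module.finrank ℚ (CycleSum.fixedPart (res g))) with e | e
    · rw [e, Nat.mul_zero] at h; omega
    · exact e

theorem shift_arith (i j : ℕ) (hi : i < 23) (hj : j < 23) : (2 ^ 0 * i + (j + 23 - i) % 23) % 23 = j := by
  rw [pow_zero, Nat.one_mul]; omega

theorem get_shift (i j : ℕ) (hi : i < 23) (hj : j < 23) : get (affP 0 ((j + 23 - i) % 23)) i = j :=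
  ((get_affP (Nat.lt_succ_of_lt hi)).trans (if_pos hi)).trans (shift_arith i j hi hj)

theorem exists_coe_apply {α : Type} {G : Subgroup (Equiv.Perm α)} {σ : Equiv.Perm α} {a c : α} (h : σ ∈ G)
    (e : σ a = c) : ∃ g : G, g.1 a = c := ⟨⟨σ, h⟩, e⟩

theorem shiftElt_apply {i j b : ℕ} (hb : b < 23) (e : permOf (affP 0 b) (pt i) = pt j) :
    ∃ g : Spor.M23, g.1 (pt i) = pt j :=
  exists_coe_apply (affGrp_le (aff_mem (Nat.succ_pos 10) hb)) e

theorem res_transitive {x y : Spor.M23} (h : Subgroup.closure {x, y} = ⊤) :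
    MulAction.IsPretransitive (Subgroup.closure ({res x, res y} : Set (Equiv.Perm Pt23))) Pt23 := by
  have htr : ∀ i : ℕ, i < 23 → ∀ j : ℕ, j < 23 → ∃ g : Spor.M23, g.1 (pt i) = pt j := by
    intro i hi j hj
    obtain ⟨b, hb, e⟩ : ∃ b, b < 23 ∧ permOf (affP 0 b) (pt i) = pt j :=
      ⟨(j + 23 - i) % 23, Nat.mod_lt _ (Nat.succ_pos 22),
        apply_pt (aff_valid (Nat.succ_pos 10) (Nat.mod_lt _ (Nat.succ_pos 22))) (Nat.lt_succ_of_lt hi)
          (get_shift i j hi hj)⟩
    exact shiftElt_apply hb e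
  refine ⟨fun a b => ?_⟩
  have hi : ∀ a : Pt23, idx a.1 < 23 := by
    intro a
    rcases Nat.lt_or_ge (idx a.1) 23 with h' | h'
    · exact h'
    · refine absurd ?_ a.2
      rw [← pt_idx a.1, show idx a.1 = 23 by have := idx_lt a.1; omega, pt_last]
  obtain ⟨g, hg⟩ := htr _ (hi a) _ (hi b)
  rw [pt_idx, pt_idx] at hg
  have hm : res g ∈ Subgroup.closure ({res x, res y} : Set (Equiv.Perm Pt23)) := by
    rw [show ({res x, res y} : Set (Equiv.Perm Pt23)) = res '' {x, y} by rw [Set.image_pair],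
      ← MonoidHom.map_closure, h]
    exact ⟨g, Subgroup.mem_top _, rfl⟩
  exact ⟨⟨res g, hm⟩, Subtype.ext hg⟩

theorem not_gen {p q r : ℕ} (hp : p.Prime) (hq : q.Prime) (hr : r.Prime) (hqr : q ≤ r) {x y z : Spor.M23}
    (hx : orderOf x = p) (hy : orderOf y = q) (hz : orderOf z = r) (he : x * y * z = 1)
    (hg : Subgroup.closure {x, y} = ⊤) :
    ¬ ((p = 2 ∧ q = 3) ∨ (p = 2 ∧ q = 5 ∧ r = 5) ∨ (p = 2 ∧ q = 5 ∧ r = 7) ∨ (p = 3 ∧ q = 3 ∧ r ≤ 7)) := by
  intro hex
  have hxy : orderOf (x * y) = r := by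
    rw [← hz, eq_inv_of_mul_eq_one_right he, orderOf_inv]
  have hm := CycleSum.main (res_transitive hg)
  rw [← map_mul, card_pt23] at hm
  obtain ⟨a2, a3, -, -, -⟩ := fixed_ge hp x hx
  obtain ⟨-, b3, b5, -, -⟩ := fixed_ge hq y hy
  obtain ⟨-, c3, c5, c7, c1⟩ := fixed_ge hr (x * y) hxy
  rcases hex with ⟨hP, hQ⟩ | ⟨hP, hQ, hR⟩ | ⟨hP, hQ, hR⟩ | ⟨hP, hQ, hR⟩
  · have := a2 hP; have := b3 hQ; omega
  · have := a2 hP; have := b5 hQ; have := c5 hR; omega
  · have := a2 hP; have := b5 hQ; have := c7 hR; omega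
  · have := a3 hP; have := b3 hQ
    have hr3 : r = 3 ∨ r = 5 ∨ r = 7 := by
      have key : ∀ r ≤ 7, 3 ≤ r → r.Prime → r = 3 ∨ r = 5 ∨ r = 7 := by decide
      exact key r hR (hQ ▸ hqr) hr
    rcases hr3 with e | e | e
    · have := c3 e; omega
    · have := c5 e; omega
    · have := c7 e; omega

theorem prime_mem {p : ℕ} (hp : p.Prime) (h : p ∣ 10200960) : p ∈ [2, 3, 5, 7, 11, 23] := by
  rw [show (10200960 : ℕ) = 2 ^ 7 * 3 ^ 2 * 5 * 7 * 11 * 23 by norm_num] at h
  have e : ∀ {k : ℕ}, k.Prime → p ∣ k → p = k := fun hk hd => (Nat.prime_dvd_prime_iff_eq hp hk).1 hd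
  rcases (hp.dvd_mul.1 h) with h | h
  rcases (hp.dvd_mul.1 h) with h | h
  rcases (hp.dvd_mul.1 h) with h | h
  rcases (hp.dvd_mul.1 h) with h | h
  rcases (hp.dvd_mul.1 h) with h | h
  · simp [e Nat.prime_two (hp.dvd_of_dvd_pow h)]
  · simp [e Nat.prime_three (hp.dvd_of_dvd_pow h)]
  · simp [e Nat.prime_five h]
  · simp [e (by norm_num) h]
  · simp [e (by norm_num) h]
  · simp [e (by norm_num) h]

end Cfsg.Agent.Spor.M23Triples
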