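import Mathlib.GroupTheory.Sylow
import Mathlib.GroupTheory.QuotientGroup.Basic
import Mathlib.GroupTheory.Index
import Mathlib.Tactic.DeriveFintype
import Cfsg.Prelude.Def_Transfer

/-! Unitriangular 5 by 5 matrices over the field of two elements, modulo the centre. -/

set_option autoImplicit false
set_option maxRecDepth 100000
set_option linter.style.longLine false

namespace Cfsg.Agent.Spor.M24Quot

/-- The middle block. -/
structure Mid where
  a23 : Bool
  a24 : Bool
  a34 : Bool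
deriving DecidableEq, Fintype

/-- The outer positions. -/
structure Outer where
  a12 : Bool
  a13 : Bool
  a14 : Bool
  a25 : Bool
  a35 : Bool
  a45 : Bool
deriving DecidableEq, Fintype

/-- Nine coordinates. -/
structure T9 where
  u : Mid
  v : Outer
deriving DecidableEq, Fintype

def umul (a b : Mid) : Mid := ⟨a.a23 ^^ b.a23, a.a24 ^^ b.a24 ^^ (a.a23 && b.a34), a.a34 ^^ b.a34⟩

def mul (x y : T9) : T9 :=
  ⟨umul x.u y.u,
    ⟨x.v.a12 ^^ y.v.a12, x.v.a13 ^^ y.v.a13 ^^ (x.v.a12 && y.u.a23),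
      x.v.a14 ^^ y.v.a14 ^^ (x.v.a12 && y.u.a24) ^^ (x.v.a13 && y.u.a34),
      x.v.a25 ^^ y.v.a25 ^^ (x.u.a23 && y.v.a35) ^^ (x.u.a24 && y.v.a45),
      x.v.a35 ^^ y.v.a35 ^^ (x.u.a34 && y.v.a45),
      x.v.a45 ^^ y.v.a45⟩⟩

def u0 : Mid := ⟨false, false, false⟩
def v0 : Outer := ⟨false, false, false, false, false, false⟩
def o : T9 := ⟨u0, v0⟩

def top15 (x y : Bool × T9) : Bool :=
  x.1 ^^ y.1 ^^ (x.2.v.a12 && y.2.v.a25) ^^ (x.2.v.a13 && y.2.v.a35) ^^ (x.2.v.a14 && y.2.v.a45)

def mul10 (x y : Bool × T9) : Bool × T9 := (top15 x y, mul x.2 y.2)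

def e12 : T9 := ⟨u0, ⟨true, false, false, false, false, false⟩⟩
def e13 : T9 := ⟨u0, ⟨false, true, false, false, false, false⟩⟩
def e14 : T9 := ⟨u0, ⟨false, false, true, false, false, false⟩⟩
def e25 : T9 := ⟨u0, ⟨false, false, false, true, false, false⟩⟩
def e35 : T9 := ⟨u0, ⟨false, false, false, false, true, false⟩⟩
def e45 : T9 := ⟨u0, ⟨false, false, false, false, false, true⟩⟩
def e23 : T9 := ⟨⟨true, false, false⟩, v0⟩
def e24 : T9 := ⟨⟨false, true, false⟩, v0⟩
def e34 : T9 := ⟨⟨false, false, true⟩, v0⟩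

def pick (b : Bool) (e : T9) : T9 := if b then e else o

def prodForm (t : T9) : T9 :=
  mul (pick t.v.a45 e45) (mul (pick t.v.a35 e35) (mul (pick t.u.a34 e34) (mul (pick t.v.a25 e25) (mul (pick t.u.a24 e24)
    (mul (pick t.u.a23 e23) (mul (pick t.v.a14 e14) (mul (pick t.v.a13 e13) (pick t.v.a12 e12))))))))

theorem prodForm_eq : ∀ t : T9, prodForm t = t := by decide +kernel

theorem idem : ∀ t : T9, mul t t = t → t = o := by decide +kernel
theorem mul_o : ∀ t : T9, mul t o = t ∧ mul o t = t := by decide +kernel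

theorem ucancel : ∀ a b : Mid, umul a b = a → b = u0 := by decide +kernel

theorem squares : mul (mul e12 e23) (mul e12 e23) = e13 ∧ mul (mul e12 e24) (mul e12 e24) = e14 ∧
    mul (mul e23 e34) (mul e23 e34) = e24 ∧ mul (mul e23 e35) (mul e23 e35) = e25 ∧
    mul (mul e34 e45) (mul e34 e45) = e35 := by decide +kernel

def inK (a b c d : Bool) (t : T9) : Bool :=
  ((t.v.a12 && a) ^^ (t.u.a23 && b) ^^ (t.u.a34 && c) ^^ (t.v.a45 && d)) == false

def simples : List T9 :=
  [e12, e23, e34, e45, mul e12 e23, mul e12 e34, mul e12 e45, mul e23 e34, mul e23 e45, mul e34 e45,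
    mul e12 (mul e23 e34), mul e12 (mul e23 e45), mul e12 (mul e34 e45), mul e23 (mul e34 e45),
    mul (mul e12 e23) (mul e34 e45), e13, e14, e24, e25, e35]

theorem maxCheck : ∀ a b c d : Bool, (a || b || c || d) = true →
    ((Finset.univ : Finset T9).filter fun x => inK a b c d x = true ∧
      ((simples.filter (inK a b c d)).all fun y => mul x y == mul y x) = true).card ≤ 8 := by decide +kernel

def isV (t : T9) : Bool := t.u == u0
def lift (u : Mid) : T9 := ⟨u, v0⟩

theorem vCheck : ∀ x v : Outer, mul ⟨u0, x⟩ ⟨u0, v⟩ = mul ⟨u0, v⟩ ⟨u0, x⟩ ∧ mul ⟨u0, x⟩ ⟨u0, x⟩ = o := by decide +kernel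

theorem liftCheck : ∀ (x : T9) (v : Outer),
    (mul x ⟨u0, v⟩ == mul ⟨u0, v⟩ x) = (mul (lift x.u) ⟨u0, v⟩ == mul ⟨u0, v⟩ (lift x.u)) := by decide +kernel

theorem oneCheck : ∀ u : Mid, u ≠ u0 →
    ((Finset.univ : Finset Outer).filter fun v => mul (lift u) ⟨u0, v⟩ = mul ⟨u0, v⟩ (lift u)).card ≤ 16 := by
  decide +kernel

theorem twoCheck : ∀ u w : Mid, u ≠ u0 → w ≠ u0 → u ≠ w → umul u w = umul w u →
    ((Finset.univ : Finset Outer).filter fun v =>
      mul (lift u) ⟨u0, v⟩ = mul ⟨u0, v⟩ (lift u) ∧ mul (lift w) ⟨u0, v⟩ = mul ⟨u0, v⟩ (lift w)).card ≤ 8 ∧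
    ((Finset.univ : Finset Mid).filter fun s => umul u s = umul s u ∧ umul w s = umul s w).card ≤ 4 := by decide +kernel

theorem centerCheck : ∀ x : Bool × T9, (∀ y ∈ [e12, e23, e34, e45], mul10 x (false, y) = mul10 (false, y) x) →
    x.2 = o := by decide +kernel

theorem centerConv (c : Bool) (y : Bool × T9) : mul10 (c, o) y = mul10 y (c, o) := by
  obtain ⟨d, t⟩ := y
  simp only [mul10, Prod.mk.injEq]
  exact ⟨by cases c <;> cases d <;> simp [top15, o, v0], (mul_o t).2.trans (mul_o t).1.symm⟩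

section Group

variable {Q : Type*} [Group Q] [Finite Q] (ψ : Q ≃ T9) (hψ : ∀ x y : Q, ψ (x * y) = mul (ψ x) (ψ y))

include hψ

theorem psi_one : ψ 1 = o := idem _ (by rw [← hψ, one_mul])

theorem card64_bound (A : Subgroup Q) (hA : IsMulCommutative ↥A) (h64 : Nat.card ↥A = 64) :
    ∀ x ∈ A, (ψ x).u = u0 := by
  classical
  haveI : Fintype Q := Fintype.ofFinite Q
  by_contra hcon
  push Not at hcon
  obtain ⟨x, hxA, hx⟩ := hcon
  have hcomm : ∀ a ∈ A, ∀ b ∈ A, mul (ψ a) (ψ b) = mul (ψ b) (ψ a) := fun a ha b hb => by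
    rw [← hψ, ← hψ]
    exact congrArg ψ (congrArg Subtype.val (hA.is_comm.comm ⟨a, ha⟩ ⟨b, hb⟩))
  let S : Finset Q := Finset.univ.filter (· ∈ A)
  let K : Finset Q := S.filter fun a => (ψ a).u = u0
  have hS : S.card = 64 := by
    rw [← h64, Nat.card_eq_fintype_card]
    exact (Fintype.card_subtype _).symm
  let Us : Finset Mid := S.image fun a => (ψ a).u
  have hmemS : ∀ {a}, a ∈ S ↔ a ∈ A := fun {a} => by simp [S]
  have hfib : S.card ≤ K.card * Us.card := by
    refine Finset.card_le_mul_card_image S K.card fun b hb => ?_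
    obtain ⟨a0, ha0, rfl⟩ := Finset.mem_image.mp hb
    refine Finset.card_le_card_of_injOn (fun a => a0⁻¹ * a) (fun a ha => ?_) fun a _ b _ h => mul_left_cancel h
    obtain ⟨haS, hau⟩ := Finset.mem_filter.mp (Finset.mem_coe.mp ha)
    refine Finset.mem_coe.mpr (Finset.mem_filter.mpr ⟨hmemS.mpr (A.mul_mem (A.inv_mem (hmemS.mp ha0)) (hmemS.mp haS)), ?_⟩)
    refine ucancel (ψ a0).u _ ?_
    have := congrArg T9.u (hψ a0 (a0⁻¹ * a))
    rw [mul_inv_cancel_left] at this
    exact this.symm.trans hau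
  have hKv : ∀ (w : Finset Mid) (f : Finset Outer), (∀ s ∈ w, ∃ a ∈ A, (ψ a).u = s) →
      (∀ v : Outer, (∀ s ∈ w, mul (lift s) ⟨u0, v⟩ = mul ⟨u0, v⟩ (lift s)) → v ∈ f) → K.card ≤ f.card := by
    intro w f hw hf
    refine Finset.card_le_card_of_injOn (fun a => (ψ a).v) (fun a ha => ?_) fun a ha b hb h => ?_
    · obtain ⟨haS, hau⟩ := Finset.mem_filter.mp (Finset.mem_coe.mp ha)
      refine Finset.mem_coe.mpr (hf _ fun s hs => ?_)
      obtain ⟨c, hc, rfl⟩ := hw s hs
      have he : (⟨u0, (ψ a).v⟩ : T9) = ψ a := by rw [← hau]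
      have h1 := liftCheck (ψ c) (ψ a).v
      rw [he, hcomm c hc a (hmemS.mp haS), beq_self_eq_true] at h1
      rw [he]
      exact beq_iff_eq.mp h1.symm
    · have hau := (Finset.mem_filter.mp (Finset.mem_coe.mp ha)).2
      have hbu := (Finset.mem_filter.mp (Finset.mem_coe.mp hb)).2
      refine ψ.injective ?_
      calc ψ a = ⟨(ψ a).u, (ψ a).v⟩ := rfl
        _ = ⟨(ψ b).u, (ψ b).v⟩ := by rw [hau, hbu]; exact congrArg (T9.mk u0) h
  by_cases h3 : ∀ a ∈ A, (ψ a).u = u0 ∨ (ψ a).u = (ψ x).u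
  · have hU : Us.card ≤ 2 := by
      refine le_trans (Finset.card_le_card (t := {u0, (ψ x).u}) fun s hs => ?_) Finset.card_le_two
      obtain ⟨a, ha, rfl⟩ := Finset.mem_image.mp hs
      simpa using h3 a (hmemS.mp ha)
    have hK : K.card ≤ 16 := by
      refine le_trans (hKv {(ψ x).u} _ (fun s hs => ⟨x, hxA, (Finset.mem_singleton.mp hs).symm⟩) fun v hv => ?_)
        (oneCheck _ hx)
      exact Finset.mem_filter.mpr ⟨Finset.mem_univ v, hv _ (Finset.mem_singleton_self _)⟩
    have := Nat.mul_le_mul hK hU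
    omega
  · push Not at h3
    obtain ⟨y, hyA, hy, hyx⟩ := h3
    have huc : umul (ψ x).u (ψ y).u = umul (ψ y).u (ψ x).u := congrArg T9.u (hcomm x hxA y hyA)
    obtain ⟨hv8, hu4⟩ := twoCheck (ψ x).u (ψ y).u hx hy (Ne.symm hyx) huc
    have hU : Us.card ≤ 4 := by
      refine le_trans (Finset.card_le_card fun s hs => ?_) hu4
      obtain ⟨a, ha, rfl⟩ := Finset.mem_image.mp hs
      exact Finset.mem_filter.mpr ⟨Finset.mem_univ _, congrArg T9.u (hcomm x hxA a (hmemS.mp ha)),
        congrArg T9.u (hcomm y hyA a (hmemS.mp ha))⟩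
    have hK : K.card ≤ 8 := by
      refine le_trans (hKv {(ψ x).u, (ψ y).u} _ (fun s hs => ?_) fun v hv => ?_) hv8
      · rcases Finset.mem_insert.mp hs with rfl | hs
        · exact ⟨x, hxA, rfl⟩
        · exact ⟨y, hyA, (Finset.mem_singleton.mp hs).symm⟩
      · exact Finset.mem_filter.mpr ⟨Finset.mem_univ v, hv _ (Finset.mem_insert_self _ _),
          hv _ (Finset.mem_insert_of_mem (Finset.mem_singleton_self _))⟩
    have := Nat.mul_le_mul hK hU
    omega

theorem center_le_eight (hp : IsPGroup 2 Q) (M : Subgroup Q) (hM : IsCoatom M) :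
    Nat.card ↥(Subgroup.center ↥M) ≤ 8 := by
  classical
  haveI : Fintype Q := Fintype.ofFinite Q
  haveI : Fact (Nat.Prime 2) := ⟨Nat.prime_two⟩
  have hidx : M.index = 2 := by
    haveI : Group.IsNilpotent Q := hp.isNilpotent
    haveI hn : M.Normal := Subgroup.NormalizerCondition.normal_of_coatom M normalizerCondition_of_isNilpotent hM
    obtain ⟨y, hy⟩ : ∃ y, y ∉ M := by
      by_contra h
      push Not at h
      exact hM.1 (eq_top_iff.mpr fun y _ => h y)
    haveI : Nontrivial (Q ⧸ M) := ⟨⟨(y : Q ⧸ M), 1, fun h => hy ((QuotientGroup.eq_one_iff y).mp h)⟩⟩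
    obtain ⟨k, hk0, hk⟩ := (hp.to_quotient M).nontrivial_iff_card.mp inferInstance
    obtain ⟨q, hq⟩ := exists_prime_orderOf_dvd_card' (G := Q ⧸ M) 2 (hk ▸ dvd_pow_self 2 hk0.ne')
    have htop : (Subgroup.zpowers q).comap (QuotientGroup.mk' M) = ⊤ := by
      refine hM.2 _ (lt_of_le_of_ne (fun m hm => ?_) fun h => ?_)
      · show QuotientGroup.mk' M m ∈ Subgroup.zpowers q
        rw [QuotientGroup.mk'_apply, (QuotientGroup.eq_one_iff m).mpr hm]; exact one_mem _
      · obtain ⟨r, rfl⟩ := QuotientGroup.mk'_surjective M q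
        have hr : r ∈ M := h ▸ (Subgroup.mem_zpowers (QuotientGroup.mk' M r))
        rw [QuotientGroup.mk'_apply, (QuotientGroup.eq_one_iff r).mpr hr, orderOf_one] at hq
        omega
    have : Subgroup.zpowers q = ⊤ := Subgroup.comap_injective (QuotientGroup.mk'_surjective M) (by rw [htop, Subgroup.comap_top])
    rw [Subgroup.index_eq_card, ← Subgroup.card_top (G := Q ⧸ M), ← this, Nat.card_zpowers, hq]
  let d : T9 → Bool := fun t => !decide (ψ.symm t ∈ M)
  have hsym : ∀ s t, ψ.symm (mul s t) = ψ.symm s * ψ.symm t := fun s t =>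
    ψ.injective (by rw [hψ]; simp)
  have hd : ∀ s t, d (mul s t) = (d s ^^ d t) := fun s t => by
    simp only [d, hsym, Subgroup.mul_mem_iff_of_index_two hidx]
    by_cases h1 : ψ.symm s ∈ M <;> by_cases h2 : ψ.symm t ∈ M <;> simp [h1, h2]
  have hdo : d o = false := by
    have := hd o o
    rw [(mul_o o).1] at this
    simpa using this
  have hsq : ∀ s, d (mul s s) = false := fun s => by rw [hd]; simp
  obtain ⟨q13, q14, q24, q25, q35⟩ := squares
  have hz : d e13 = false ∧ d e14 = false ∧ d e24 = false ∧ d e25 = false ∧ d e35 = false := by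
    refine ⟨?_, ?_, ?_, ?_, ?_⟩
    · rw [← q13]; exact hsq _
    · rw [← q14]; exact hsq _
    · rw [← q24]; exact hsq _
    · rw [← q25]; exact hsq _
    · rw [← q35]; exact hsq _
  obtain ⟨z13, z14, z24, z25, z35⟩ := hz
  have hpick : ∀ b e, d (pick b e) = (b && d e) := fun b e => by cases b <;> simp [pick, hdo]
  have hform : ∀ t : T9, inK (d e12) (d e23) (d e34) (d e45) t = !d t := fun t => by
    conv_rhs => rw [← prodForm_eq t]
    simp only [prodForm, hd, hpick, z13, z14, z24, z25, z35, Bool.and_false, Bool.xor_false, Bool.false_xor, inK]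
    cases t.v.a12 <;> cases t.u.a23 <;> cases t.u.a34 <;> cases t.v.a45 <;>
      cases d e12 <;> cases d e23 <;> cases d e34 <;> cases d e45 <;> rfl
  have hne : (d e12 || d e23 || d e34 || d e45) = true := by
    by_contra h
    rw [Bool.not_eq_true] at h
    simp only [Bool.or_eq_false_iff] at h
    refine hM.1 (eq_top_iff.mpr fun y _ => ?_)
    have h1 := hform (ψ y)
    rw [h.1.1.1, h.1.1.2, h.1.2, h.2] at h1
    have h2 : d (ψ y) = false := by
      cases hy : d (ψ y)
      · rfl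
      · rw [hy] at h1; simp [inK] at h1
    simpa [d] using h2
  refine le_trans ?_ (maxCheck _ _ _ _ hne)
  rw [Nat.card_eq_fintype_card, ← Finset.card_univ]
  refine Finset.card_le_card_of_injOn (fun c => ψ ((c : ↥M) : Q)) (fun c _ => ?_) fun a _ b _ h =>
    Subtype.ext (Subtype.ext (ψ.injective h))
  refine Finset.mem_coe.mpr (Finset.mem_filter.mpr ⟨Finset.mem_univ _, ?_, ?_⟩)
  · rw [hform]
    simp [d]
  · refine List.all_eq_true.mpr fun y hy => ?_
    obtain ⟨-, hyK⟩ := List.mem_filter.mp hy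
    rw [hform] at hyK
    have hyM : ψ.symm y ∈ M := by simpa [d] using hyK
    have h1 := congrArg (fun m : ↥M => ψ (m : Q)) (Subgroup.mem_center_iff.mp c.2 ⟨_, hyM⟩)
    simp only [Subgroup.coe_mul, hψ, Equiv.apply_symm_apply] at h1
    exact beq_iff_eq.mpr h1.symm

theorem main (hp : IsPGroup 2 Q) :
    (∀ M : Subgroup Q, IsCoatom M → Nat.card ↥(Subgroup.center ↥M) ≤ 8) ∧
      (∃ A : Subgroup Q, Cfsg.IsElementaryAbelian 2 A ∧ Nat.card ↥A = 64) ∧
      ∀ A B : Subgroup Q, IsMulCommutative ↥A → Nat.card ↥A = 64 → IsMulCommutative ↥B → Nat.card ↥B = 64 → A = B := by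
  have h1 := psi_one ψ hψ
  let V : Subgroup Q :=
    { carrier := {x | (ψ x).u = u0}
      one_mem' := by simp only [Set.mem_setOf_eq, h1]; rfl
      mul_mem' := fun {a b} ha hb => by
        simp only [Set.mem_setOf_eq, hψ] at ha hb ⊢
        show umul (ψ a).u (ψ b).u = u0
        rw [ha, hb]; rfl
      inv_mem' := fun {a} ha => by
        simp only [Set.mem_setOf_eq] at ha ⊢
        have := congrArg T9.u (hψ a a⁻¹)
        rw [mul_inv_cancel, h1] at this
        refine ucancel u0 _ ?_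
        rw [← ha]
        exact this.symm.trans ha.symm }
  have hV : Nat.card ↥V = 64 := by
    let e : ↥V ≃ Outer :=
      { toFun := fun x => (ψ x).v
        invFun := fun v => ⟨ψ.symm ⟨u0, v⟩, by show (ψ (ψ.symm ⟨u0, v⟩)).u = u0; rw [Equiv.apply_symm_apply]⟩
        left_inv := fun x => Subtype.ext (ψ.injective (by
          show ψ (ψ.symm ⟨u0, (ψ x).v⟩) = ψ x
          rw [Equiv.apply_symm_apply, ← (x.2 : (ψ (x : Q)).u = u0)]))
        right_inv := fun v => by show (ψ (ψ.symm ⟨u0, v⟩)).v = v; rw [Equiv.apply_symm_apply] }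
    rw [Nat.card_congr e, Nat.card_eq_fintype_card]
    decide +kernel
  have hVe : ∀ x : Q, x ∈ V → ψ x = ⟨u0, (ψ x).v⟩ := fun x hx => by rw [← (hx : (ψ x).u = u0)]
  have hVea : Cfsg.IsElementaryAbelian 2 V := by
    refine ⟨⟨⟨fun a b => Subtype.ext (ψ.injective ?_)⟩⟩, fun x hx => ψ.injective ?_⟩
    · rw [Subgroup.coe_mul, Subgroup.coe_mul, hψ, hψ, hVe _ a.2, hVe _ b.2]
      exact (vCheck _ _).1
    · rw [pow_two, hψ, h1, hVe x hx]
      exact (vCheck _ (ψ x).v).2
  refine ⟨center_le_eight ψ hψ hp, ⟨V, hVea, hV⟩, ?_⟩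
  have key : ∀ A : Subgroup Q, IsMulCommutative ↥A → Nat.card ↥A = 64 → A = V := fun A hA h64 =>
    Subgroup.eq_of_le_of_card_ge (fun x hx => card64_bound ψ hψ A hA h64 x hx) (by rw [hV, h64])
  exact fun A B hA ha hB hb => (key A hA ha).trans (key B hB hb).symm

end Group

/-- Coordinates modulo the centre. -/
theorem quot_coord {P : Type*} [Group P] [Finite P] (φ : P ≃ Bool × T9)
    (hφ : ∀ x y, φ (x * y) = mul10 (φ x) (φ y)) :
    ∃ ψ : P ⧸ Subgroup.center P ≃ T9, ∀ x y, ψ (x * y) = mul (ψ x) (ψ y) := by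
  have h2 : ∀ x y, (φ (x * y)).2 = mul (φ x).2 (φ y).2 := fun x y => by rw [hφ]; rfl
  have h1 : (φ 1).2 = o := idem _ (by rw [← h2, one_mul])
  have hc : ∀ x, x ∈ Subgroup.center P ↔ (φ x).2 = o := fun x => by
    refine ⟨fun h => centerCheck _ fun y _ => ?_, fun h => Subgroup.mem_center_iff.mpr fun g => φ.injective ?_⟩
    · have := congrArg φ (Subgroup.mem_center_iff.mp h (φ.symm (false, y)))
      rw [hφ, hφ, Equiv.apply_symm_apply] at this
      exact this.symm
    · rw [hφ, hφ, ← Prod.mk.eta (p := φ x), h, centerConv]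
  have hinv : ∀ x, mul (φ x⁻¹).2 (φ x).2 = o := fun x => by rw [← h2, inv_mul_cancel, h1]
  let f : P ⧸ Subgroup.center P → T9 := Quotient.lift (fun x => (φ x).2) fun a b hab => by
    have h := (hc _).mp (QuotientGroup.leftRel_apply.mp hab)
    show (φ a).2 = (φ b).2
    conv_rhs => rw [show b = a * (a⁻¹ * b) by group, h2, h, (mul_o _).1]
  have hf : Function.Bijective f := by
    refine ⟨fun a b h => ?_, fun t => ⟨(φ.symm (false, t) : P), by show (φ (φ.symm (false, t))).2 = t; simp⟩⟩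
    induction a using QuotientGroup.induction_on with
    | H a =>
      induction b using QuotientGroup.induction_on with
      | H b =>
        refine QuotientGroup.eq.mpr ((hc _).mpr ?_)
        have h' : (φ a).2 = (φ b).2 := h
        rw [h2, ← h', hinv]
  refine ⟨Equiv.ofBijective f hf, fun a b => ?_⟩
  induction a using QuotientGroup.induction_on with
  | H a =>
    induction b using QuotientGroup.induction_on with
    | H b => exact h2 a b

end Cfsg.Agent.Spor.M24Quot
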