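import Cfsg.Prelude.Def_AxialAlgebras

/-! The two commuting types of a pair of Majorana axes. -/

set_option autoImplicit false
set_option linter.unusedSectionVars false

namespace Cfsg.Agent.Spor.Majorana

open Cfsg Cfsg.Axial

variable {V : Type*} [AddCommGroup V] [Module ℝ V]
variable {mul : V →ₗ[ℝ] V →ₗ[ℝ] V} {B : LinearMap.BilinForm ℝ V}

theorem mem_eigen {a v : V} {c : ℝ} : v ∈ eigen mul a c ↔ mul a v = c • v := by
  rw [eigen, Module.End.mem_eigenspace_iff]

theorem eigenSum_singleton (a : V) (c : ℝ) : eigenSum mul a {c} = eigen mul a c := by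
  rw [eigenSum, iSup_singleton]

theorem eigenSum_pair (a : V) (c d : ℝ) : eigenSum mul a {c, d} = eigen mul a c ⊔ eigen mul a d := by
  rw [eigenSum, iSup_insert, iSup_singleton]

theorem le_eigenSum {a : V} {S : Set ℝ} {c : ℝ} (hc : c ∈ S) : eigen mul a c ≤ eigenSum mul a S :=
  le_iSup₂_of_le c hc le_rfl

theorem law00 : monsterLaw (1 / 4 : ℝ) (1 / 32) 0 0 = {0} := by
  unfold monsterLaw; norm_num

theorem law04 : monsterLaw (1 / 4 : ℝ) (1 / 32) 0 (1 / 4) = {1 / 4} := by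
  unfold monsterLaw; norm_num

theorem law44 : monsterLaw (1 / 4 : ℝ) (1 / 32) (1 / 4) (1 / 4) = {1, 0} := by
  unfold monsterLaw; norm_num

/-- Comparing components. -/
theorem components {a u v : V} {p : ℝ} (ha : mul a a = a) (ha0 : a ≠ 0) (hu : mul a u = 0)
    (hv : mul a v = (1 / 4 : ℝ) • v) (e : p • a + u + v = 0) : p = 0 ∧ u = 0 ∧ v = 0 := by
  have e1 : p • a + (1 / 4 : ℝ) • v = 0 := by
    have := congrArg (mul a) e
    rwa [map_add, map_add, map_smul, ha, hu, hv, map_zero, add_zero] at this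
  have e2 : p • a + (1 / 16 : ℝ) • v = 0 := by
    have := congrArg (mul a) e1
    rw [map_add, map_smul, map_smul, ha, hv, map_zero, smul_smul] at this
    rwa [show (1 / 4 : ℝ) * (1 / 4) = 1 / 16 by norm_num] at this
  have hv0 : v = 0 := by
    have : (3 / 16 : ℝ) • v = 0 := by
      have : (p • a + (1 / 4 : ℝ) • v) - (p • a + (1 / 16 : ℝ) • v) = 0 := by rw [e1, e2, sub_zero]
      rw [← this]; module
    exact (smul_eq_zero.mp this).resolve_left (by norm_num)
  subst hv0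
  rw [smul_zero, add_zero, smul_eq_zero] at e1
  have hp := e1.resolve_right ha0
  subst hp
  refine ⟨rfl, ?_, rfl⟩
  rwa [zero_smul, zero_add, add_zero] at e

/-- Transport of a Majorana pair along a symmetry commuting with the involution. -/
theorem pair_map {μ g : V ≃ₗ[ℝ] V} {a : V} (h : IsMajoranaPair mul B μ a)
    (hg : ∀ u v : V, g (mul u v) = mul (g u) (g v)) (hc : ∀ x, μ (g x) = g (μ x)) :
    IsMajoranaPair mul B μ (g a) := by
  obtain ⟨h1, h2, ⟨⟨ha0, haa, htop, hfus⟩, hprim⟩, hfix, hneg⟩ := h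
  have he : ∀ c, eigen mul (g a) c = (eigen mul a c).map (g : V →ₗ[ℝ] V) := fun c => by
    ext x
    rw [Submodule.mem_map_equiv, mem_eigen, mem_eigen]
    conv_lhs => rw [← g.apply_symm_apply x, ← hg, ← map_smul, g.injective.eq_iff]
  have hs : ∀ S, eigenSum mul (g a) S = (eigenSum mul a S).map (g : V →ₗ[ℝ] V) := fun S => by
    simp only [eigenSum, Submodule.map_iSup, he]
  refine ⟨h1, h2, ⟨⟨fun e => ha0 (g.injective (e.trans (map_zero g).symm)), by rw [← hg, haa], ?_, ?_⟩, ?_⟩, ?_, ?_⟩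
  · rw [hs, htop, Submodule.map_top, LinearEquiv.range]
  · intro c hc' d hd u hu v hv
    rw [he] at hu hv
    obtain ⟨u, hu, rfl⟩ := hu
    obtain ⟨v, hv, rfl⟩ := hv
    rw [hs]
    exact ⟨mul u v, hfus c hc' d hd u hu v hv, hg u v⟩
  · rw [he, hprim, Submodule.map_span, Set.image_singleton]; rfl
  · intro v hv
    rw [hs] at hv
    obtain ⟨v, hv, rfl⟩ := hv
    show μ (g v) = g v
    rw [hc]; exact congrArg g (hfix v hv)
  · intro v hv
    rw [he] at hv
    obtain ⟨v, hv, rfl⟩ := hv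
    show μ (g v) = -(g v)
    rw [hc, ← map_neg]; exact congrArg g (hneg v hv)

/-- The decomposition of a fixed vector. -/
theorem decompose {μ : V ≃ₗ[ℝ] V} {a x : V} (h : IsMajoranaPair mul B μ a) (hx : μ x = x) :
    ∃ (p : ℝ) (u v : V), x = p • a + u + v ∧ mul a u = 0 ∧ mul a v = (1 / 4 : ℝ) • v := by
  obtain ⟨-, -, ⟨⟨ha0, haa, htop, -⟩, hprim⟩, hfix, hneg⟩ := h
  have hxm : x ∈ eigenSum mul a majoranaSpectrum := htop ▸ Submodule.mem_top
  rw [eigenSum, majoranaSpectrum, iSup_insert, iSup_insert, iSup_insert, iSup_singleton, hprim] at hxm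
  obtain ⟨y, hy, w₁, hw₁, rfl⟩ := Submodule.mem_sup.mp hxm
  obtain ⟨u, hu, w₂, hw₂, rfl⟩ := Submodule.mem_sup.mp hw₁
  obtain ⟨v, hv, r, hr, rfl⟩ := Submodule.mem_sup.mp hw₂
  have f1 : μ y = y := hfix y (le_eigenSum (by simp) (hprim ▸ hy))
  have f2 : μ u = u := hfix u (le_eigenSum (by simp) hu)
  have f3 : μ v = v := hfix v (le_eigenSum (by simp) hv)
  have f4 : μ r = -r := hneg r hr
  rw [map_add, map_add, map_add, f1, f2, f3, f4, add_right_inj, add_right_inj, add_right_inj] at hx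
  have hr0 : r = 0 := by
    have : (2 : ℝ) • r = 0 := by rw [two_smul]; nth_rw 1 [← hx]; exact neg_add_cancel r
    exact (smul_eq_zero.mp this).resolve_left two_ne_zero
  obtain ⟨p, rfl⟩ := Submodule.mem_span_singleton.mp hy
  refine ⟨p, u, v, by rw [hr0, add_zero, add_assoc], ?_, mem_eigen.mp hv⟩
  rw [mem_eigen.mp hu, zero_smul]

theorem main (hV : IsMajoranaAmbient mul B) (μ₀ μ₁ : V ≃ₗ[ℝ] V) (a₀ a₁ : V) (h₀ : IsMajoranaPair mul B μ₀ a₀)
    (h₁ : IsMajoranaPair mul B μ₁ a₁) (hu₀ : ∀ a : V, IsMajoranaPair mul B μ₀ a → a = a₀)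
    (hu₁ : ∀ a : V, IsMajoranaPair mul B μ₁ a → a = a₁) (hn₀ : B a₀ a₀ = 1) (hn₁ : B a₁ a₁ = 1)
    (hc : μ₀ * μ₁ = μ₁ * μ₀) (hne : a₀ ≠ a₁) :
    (B a₀ a₁ = 0 ∧ mul a₀ a₁ = 0) ∨ (B a₀ a₁ = 1 / 8 ∧
      mul (a₀ + a₁ - (8 : ℝ) • mul a₀ a₁) (a₀ + a₁ - (8 : ℝ) • mul a₀ a₁) = a₀ + a₁ - (8 : ℝ) • mul a₀ a₁ ∧
      mul a₀ (a₀ + a₁ - (8 : ℝ) • mul a₀ a₁) = (1 / 8 : ℝ) • (a₀ + (a₀ + a₁ - (8 : ℝ) • mul a₀ a₁) - a₁) ∧
      mul a₁ (a₀ + a₁ - (8 : ℝ) • mul a₀ a₁) = (1 / 8 : ℝ) • (a₁ + (a₀ + a₁ - (8 : ℝ) • mul a₀ a₁) - a₀)) := by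
  obtain ⟨hcm, hsy, hpos, hass, -⟩ := hV
  have hc' : ∀ x, μ₀ (μ₁ x) = μ₁ (μ₀ x) := fun x => by
    rw [← LinearEquiv.mul_apply, ← LinearEquiv.mul_apply, hc]
  have f0 : μ₁ a₀ = a₀ := hu₀ _ (pair_map h₀ h₁.1 hc')
  have f1 : μ₀ a₁ = a₁ := hu₁ _ (pair_map h₁ h₀.1 fun x => (hc' x).symm)
  obtain ⟨p, u, v, e0, hu, hv⟩ := decompose h₁ f0
  obtain ⟨q, y, w, e1, hy, hw⟩ := decompose h₀ f1
  obtain ⟨ha1, hfus⟩ : mul a₁ a₁ = a₁ ∧ ∀ c ∈ majoranaSpectrum, ∀ d ∈ majoranaSpectrum, ∀ x ∈ eigen mul a₁ c,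
      ∀ z ∈ eigen mul a₁ d, mul x z ∈ eigenSum mul a₁ (monsterLaw (1 / 4) (1 / 32) c d) :=
    ⟨h₁.2.2.1.1.2.1, h₁.2.2.1.1.2.2.2⟩
  have ha0 : mul a₀ a₀ = a₀ := h₀.2.2.1.1.2.1
  have hne1 : a₁ ≠ 0 := h₁.2.2.1.1.1
  have hne0 : a₀ ≠ 0 := h₀.2.2.1.1.1
  have orth : ∀ a, mul a a = a → ∀ x (c : ℝ), c ≠ 1 → mul a x = c • x → B a x = 0 := fun a ha x c hc1 hx => by
    have := hass a a x
    rw [ha, hx, map_smul, smul_eq_mul] at this
    have h' : (c - 1) * B a x = 0 := by linarith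
    exact (mul_eq_zero.mp h').resolve_left (sub_ne_zero.mpr hc1)
  have Bu : B a₁ u = 0 := orth a₁ ha1 u 0 (by norm_num) (by rw [hu, zero_smul])
  have Bv : B a₁ v = 0 := orth a₁ ha1 v (1 / 4) (by norm_num) hv
  have By : B a₀ y = 0 := orth a₀ ha0 y 0 (by norm_num) (by rw [hy, zero_smul])
  have Bw : B a₀ w = 0 := orth a₀ ha0 w (1 / 4) (by norm_num) hw
  have Buv : B u v = 0 := by
    have := hass u a₁ v
    rw [hv, map_smul, smul_eq_mul, hcm u a₁, hu, map_zero, LinearMap.zero_apply] at this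
    linarith
  have hBp : B a₀ a₁ = p := by
    rw [hsy, e0, map_add, map_add, map_smul, hn₁, Bu, Bv]; simp
  have hBq : B a₀ a₁ = q := by
    rw [e1, map_add, map_add, map_smul, hn₀, By, Bw]; simp
  have hpq : q = p := hBq.symm.trans hBp
  rw [hpq] at e1
  have hu' : u ∈ eigen mul a₁ 0 := mem_eigen.mpr (by rw [hu, zero_smul])
  have hv' : v ∈ eigen mul a₁ (1 / 4) := mem_eigen.mpr hv
  have m0 : (0 : ℝ) ∈ majoranaSpectrum := by simp [majoranaSpectrum]
  have m4 : (1 / 4 : ℝ) ∈ majoranaSpectrum := by simp [majoranaSpectrum]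
  have huu : mul a₁ (mul u u) = 0 := by
    have := hfus 0 m0 0 m0 u hu' u hu'
    rw [law00, eigenSum_singleton, mem_eigen, zero_smul] at this
    exact this
  have huv : mul a₁ (mul u v) = (1 / 4 : ℝ) • mul u v := by
    have := hfus 0 m0 _ m4 u hu' v hv'
    rw [law04, eigenSum_singleton, mem_eigen] at this
    exact this
  obtain ⟨r, s, hs, hvv⟩ : ∃ r : ℝ, ∃ s, mul a₁ s = 0 ∧ mul v v = r • a₁ + s := by
    have := hfus _ m4 _ m4 v hv' v hv'
    rw [law44, eigenSum_pair, Submodule.mem_sup, h₁.2.2.1.2] at this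
    obtain ⟨x, hx, s, hs, e⟩ := this
    obtain ⟨r, rfl⟩ := Submodule.mem_span_singleton.mp hx
    exact ⟨r, s, by rw [mem_eigen.mp hs, zero_smul], e.symm⟩
  -- idempotency of `a₀`
  have hid : (p * p + r - p) • a₁ + (mul u u + s - u) + ((p / 2 - 1) • v + (2 : ℝ) • mul u v) = 0 := by
    have e := ha0
    rw [e0] at e
    simp only [map_add, map_smul, LinearMap.add_apply, LinearMap.smul_apply, ha1, hu, hv, hvv,
      hcm u a₁, hcm v a₁, hcm v u, smul_zero, add_zero] at e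
    rw [← sub_eq_zero] at e
    rw [← e]
    module
  obtain ⟨hr, hq0, hq4⟩ := components ha1 hne1
    (by rw [map_sub, map_add, huu, hs, hu, add_zero, sub_zero])
    (by rw [map_add, map_smul, map_smul, hv, huv]; module) hid
  have hw' : w = (4 * p * (1 - p)) • a₁ + (-(4 * p)) • u + (1 - 4 * p) • v := by
    have h01 : mul a₀ a₁ = p • a₁ + (1 / 4 : ℝ) • v := by
      rw [hcm, e0, map_add, map_add, map_smul, ha1, hu, hv, add_zero]
    have h10 : mul a₀ a₁ = p • a₀ + (1 / 4 : ℝ) • w := by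
      rw [e1, map_add, map_add, map_smul, ha0, hy, hw, add_zero]
    have : p • a₁ + (1 / 4 : ℝ) • v - (p • a₀ + (1 / 4 : ℝ) • w) = 0 := sub_eq_zero.mpr (h01.symm.trans h10)
    rw [e0] at this
    rw [← sub_eq_zero, ← smul_zero (-4 : ℝ), ← this]
    module
  have key : (p * (1 - p) * 4 * p + (1 - 4 * p) * r - p * (1 - p)) • a₁ + ((-(4 * p)) • mul u u + (1 - 4 * p) • s + p • u)
      + (((4 * p * (1 - p)) / 4 + (1 - 4 * p) * p / 4 - (1 - 4 * p) / 4) • v + (1 - 8 * p) • mul u v) = 0 := by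
    have e := hw
    rw [hw', e0] at e
    simp only [map_add, map_smul, LinearMap.add_apply, LinearMap.smul_apply, ha1, hu, hv, hvv,
      hcm u a₁, hcm v a₁, hcm v u, smul_zero, add_zero] at e
    rw [← sub_eq_zero] at e
    rw [← e]
    module
  obtain ⟨-, -, k4⟩ := components ha1 hne1
    (by rw [map_add, map_add, map_smul, map_smul, map_smul, huu, hs, hu]; simp)
    (by rw [map_add, map_smul, map_smul, hv, huv]; module) key
  have h8 : (1 - 8 * p) • v = 0 := by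
    have e2 : mul u v = (-(1 / 2 : ℝ) * (p / 2 - 1)) • v := by
      have : (1 / 2 : ℝ) • ((p / 2 - 1) • v + (2 : ℝ) • mul u v) = 0 := by rw [hq4, smul_zero]
      rw [← sub_eq_zero, ← this]; module
    rw [e2] at k4
    have h4 := congrArg (fun x => (4 : ℝ) • x) k4
    simp only [smul_zero] at h4
    rw [← h4]; module
  have hrv : r = B v v / 4 := by
    have h1 : B a₁ (mul v v) = r := by
      rw [hvv, map_add, map_smul, hn₁, orth a₁ ha1 s 0 (by norm_num) (by rw [hs, zero_smul])]; simp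
    rw [hass, hv] at h1
    simp at h1
    linarith
  by_cases h8' : p = 1 / 8
  · right
    refine ⟨hBp.trans h8', ?_, ?_, ?_⟩
    · have e : a₀ + a₁ - (8 : ℝ) • mul a₀ a₁ = p • a₁ + u - v := by
        rw [hcm, e0, map_add, map_add, map_smul, ha1, hu, hv, h8']; module
      rw [e, ← sub_eq_zero]
      simp only [map_add, map_sub, map_smul, LinearMap.add_apply, LinearMap.sub_apply, LinearMap.smul_apply, ha1, hu, hv,
        hvv, hcm u a₁, hcm v a₁, hcm v u, smul_zero, add_zero, sub_zero]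
      have hq4' : -((p / 2 - 1) • v + (2 : ℝ) • mul u v) = 0 := by rw [hq4, neg_zero]
      calc _ = (p * p + r - p) • a₁ + (mul u u + s - u) + -((p / 2 - 1) • v + (2 : ℝ) • mul u v) := by module
        _ = 0 := by rw [hr, hq0, hq4', zero_smul, add_zero, add_zero]
    · have h1 : mul a₀ a₁ = p • a₀ + (1 / 4 : ℝ) • w := by
        rw [e1, map_add, map_add, map_smul, ha0, hy, hw, add_zero]
      simp only [map_add, map_sub, map_smul, h1, ha0, hw, h8']
      module
    · simp only [map_add, map_sub, map_smul, hcm a₀ a₁, ha1]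
      rw [e0]
      simp only [map_add, map_smul, ha1, hu, hv, h8', smul_zero, add_zero]
      module
  · left
    have hv0 : v = 0 := (smul_eq_zero.mp h8).resolve_left (by intro e; exact h8' (by linarith))
    subst hv0
    have hr0 : r = 0 := by rw [hrv]; simp
    subst hr0
    have hp : p * (p - 1) = 0 := by linarith
    rcases mul_eq_zero.mp hp with rfl | hp1
    · refine ⟨hBp, ?_⟩
      rw [hcm, e0, map_add, map_add, map_smul, hu, hv]; simp
    · exfalso
      have hp1' : p = 1 := by linarith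
      subst hp1'
      have : B u u = 0 := by
        have h' := hn₀
        rw [e0] at h'
        simp only [map_add, map_smul, map_zero, LinearMap.add_apply, LinearMap.smul_apply, add_zero, hn₁, Bu,
          hsy u a₁, one_smul, zero_add] at h'
        linarith
      have hu0 : u = 0 := by
        by_contra hu0
        exact (hpos u hu0).ne' this
      exact hne (by rw [e0, hu0, one_smul, add_zero, add_zero])

end Cfsg.Agent.Spor.Majorana
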