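import Cfsg.Agent.Lib.Spor.MultPerm

/-!
Odd primes for the multiplier of a subgroup of the group on 24 points, and the assembly of all primes.
-/

set_option autoImplicit false
set_option linter.style.haveILetI false
set_option linter.unusedSectionVars false

open scoped commutatorElement

namespace Cfsg.Agent.Spor.Mult

open Cfsg.Agent.Spor

variable {M : Subgroup (Equiv.Perm Cfsg.GolayPt)}

/-- An element of `M` from a packed permutation. -/
theorem exists_el (inM : ℕ → Bool) (hM : ∀ P, inM P = true → Golay.permOf P ∈ M ∧ Golay.valid P = true) {P : ℕ}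
    (h : inM P = true) : ∃ x : M, (x : Equiv.Perm Cfsg.GolayPt) = Golay.permOf P :=
  ⟨⟨_, (hM P h).1⟩, rfl⟩

theorem el_inj {x y : M} {P : ℕ} (hx : (x : Equiv.Perm Cfsg.GolayPt) = Golay.permOf P)
    (hy : (y : Equiv.Perm Cfsg.GolayPt) = Golay.permOf P) : x = y := Subtype.ext (hx.trans hy.symm)

/-- The order of a subgroup of `M` with a certified table. -/
theorem card_gen (T : PTbl) (hT : T.check = true) (S : Set M)
    (hS : (Subtype.val '' S) = {x | ∃ P ∈ T.gens, Golay.permOf P = x}) :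
    Nat.card ↥(Subgroup.closure S) = T.N := by
  rw [← T.card_closure hT, ← hS, show (Subtype.val : M → Equiv.Perm Cfsg.GolayPt) = M.subtype from rfl,
    ← MonoidHom.map_closure, Subgroup.card_map_of_injective M.subtype_injective]

/-- Comparison of elements of `M` through packed permutations. -/
def sameP (P Q : ℕ) : Bool := Golay.valid P && Golay.valid Q && (P == Q)

variable {Δ : Type*} [Group Δ] [Finite Δ] {σ : Δ →* M}

/-- A prime with a cyclic Sylow subgroup. -/
theorem cyclic_part (hσ : Function.Surjective σ) (hker : σ.ker ≤ Subgroup.center Δ) (inM : ℕ → Bool)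
    (hM : ∀ P, inM P = true → Golay.permOf P ∈ M ∧ Golay.valid P = true) {p : ℕ} (hp : p.Prime) {P : ℕ}
    (hP : inM P = true) (T : PTbl) (hT : T.check = true) (hTg : T.gens = [P]) (hdiv : ¬ p ∣ Nat.card M / T.N) :
    ∃ Q : Subgroup M, ¬ p ∣ Q.index ∧ ∀ z ∈ σ.ker, orderOf z = p → z ∈ ⁅Q.comap σ, Q.comap σ⁆ → False := by
  obtain ⟨x, hx⟩ := exists_el inM hM hP
  obtain ⟨a, ha⟩ := hσ x
  refine ⟨Subgroup.closure (σ '' {a}), ?_, fun z _ hzo hmem => ?_⟩
  · have hc : Nat.card ↥(Subgroup.closure (σ '' {a})) = T.N := card_gen T hT _ (by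
      rw [Set.image_singleton, Set.image_singleton, ha, hx, hTg]; ext y; simp [eq_comm])
    intro hd
    refine hdiv ?_
    have hmul := (Subgroup.closure (σ '' {a})).card_mul_index
    rw [hc] at hmul
    rwa [← hmul, Nat.mul_div_cancel_left]
    exact hc ▸ Nat.card_pos
  · refine no_elt_of_comm _ (comm_of_gens σ hker _ ?_) hp hzo hmem
    intro u hu v hv
    rw [Set.mem_singleton_iff.1 hu, Set.mem_singleton_iff.1 hv]

/-- The relations of an elementary abelian group of order nine with a suitable normalising involution. -/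
def abCheck (inM : ℕ → Bool) (X Y G : ℕ) : Bool :=
  inM X && inM Y && inM G && (Golay.comp X (Golay.comp X X) == Golay.idP) &&
    (Golay.comp X Y == Golay.comp Y X) && (Golay.comp G G == Golay.idP) &&
    (Golay.comp Y (Golay.comp Y Y) == Golay.idP) && (Golay.comp (Golay.comp G X) G == X) &&
    (Golay.comp (Golay.comp G Y) G == Golay.comp Y Y)

/-- The relations of an extraspecial group of order 27 with a normalising involution inverting the generators. -/
def exCheck (inM : ℕ → Bool) (X Y G : ℕ) : Bool :=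
  let c := Golay.comp (Golay.comp (Golay.comp X Y) (Golay.comp X X)) (Golay.comp Y Y)
  inM X && inM Y && inM G && (Golay.comp X (Golay.comp X X) == Golay.idP) &&
    (Golay.comp Y (Golay.comp Y Y) == Golay.idP) && (Golay.comp G G == Golay.idP) &&
    canon c && !(c == Golay.idP) && (Golay.comp c (Golay.comp c c) == Golay.idP) &&
    (Golay.comp X c == Golay.comp c X) && (Golay.comp Y c == Golay.comp c Y) &&
    (Golay.comp (Golay.comp G X) G == Golay.comp X X) && (Golay.comp (Golay.comp G Y) G == Golay.comp Y Y)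

theorem pair_image {x y : M} {X Y : ℕ} (hx : (x : Equiv.Perm Cfsg.GolayPt) = Golay.permOf X)
    (hy : (y : Equiv.Perm Cfsg.GolayPt) = Golay.permOf Y) :
    Subtype.val '' ({x, y} : Set M) = {z | ∃ P ∈ [X, Y], Golay.permOf P = z} := by
  rw [Set.image_pair, hx, hy]; ext z; simp [eq_comm]

/-- An elementary abelian Sylow 3-subgroup. -/
theorem three_part_ab (hσ : Function.Surjective σ) (hker : σ.ker ≤ Subgroup.center Δ) (inM : ℕ → Bool)
    (hM : ∀ P, inM P = true → Golay.permOf P ∈ M ∧ Golay.valid P = true) {X Y G : ℕ}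
    (hc : abCheck inM X Y G = true) (T : PTbl) (hT : T.check = true) (hTg : T.gens = [X, Y])
    (hdiv : ¬ 3 ∣ Nat.card M / T.N) :
    ∃ Q : Subgroup M, ¬ 3 ∣ Q.index ∧ ∀ z ∈ σ.ker, orderOf z = 3 → z ∈ ⁅Q.comap σ, Q.comap σ⁆ → False := by
  simp only [abCheck, Bool.and_eq_true, beq_iff_eq] at hc
  obtain ⟨⟨⟨⟨⟨⟨⟨⟨hX, hY⟩, hG⟩, x3⟩, xy⟩, g2⟩, y3⟩, gx⟩, gy⟩ := hc
  obtain ⟨x, hx⟩ := exists_el inM hM hX
  obtain ⟨y, hy⟩ := exists_el inM hM hY
  obtain ⟨g, hg⟩ := exists_el inM hM hG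
  have vX := (hM X hX).2
  have vY := (hM Y hY).2
  have vG := (hM G hG).2
  have ex : x ^ 3 = 1 := Subtype.ext (by
    rw [Subgroup.coe_pow, hx, pow_succ', sq, ← Golay.permOf_comp vX vX, ← Golay.permOf_comp vX (Golay.valid_comp vX vX),
      x3, Golay.permOf_idP]; rfl)
  have ey : y * (y * y) = 1 := Subtype.ext (by
    rw [Subgroup.coe_mul, Subgroup.coe_mul, hy, ← Golay.permOf_comp vY vY,
      ← Golay.permOf_comp vY (Golay.valid_comp vY vY), y3, Golay.permOf_idP]; rfl)
  have exy : Commute x y := Subtype.ext (by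
    rw [Subgroup.coe_mul, Subgroup.coe_mul, hx, hy, ← Golay.permOf_comp vX vY, ← Golay.permOf_comp vY vX, xy])
  have eg : g⁻¹ = g := inv_eq_of_mul_eq_one_right (Subtype.ext (by
    rw [Subgroup.coe_mul, hg, ← Golay.permOf_comp vG vG, g2, Golay.permOf_idP]; rfl))
  have egx : g * x * g⁻¹ = x := by
    rw [eg]; refine el_inj (P := X) ?_ hx
    rw [Subgroup.coe_mul, Subgroup.coe_mul, hg, hx, ← Golay.permOf_comp vG vX,
      ← Golay.permOf_comp (Golay.valid_comp vG vX) vG, gx]
  have egy : g * y * g⁻¹ = y⁻¹ := by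
    rw [eg, inv_eq_of_mul_eq_one_right ey]
    refine el_inj (P := Golay.comp Y Y) ?_ (by rw [Subgroup.coe_mul, hy, Golay.permOf_comp vY vY])
    rw [Subgroup.coe_mul, Subgroup.coe_mul, hg, hy, ← Golay.permOf_comp vG vY,
      ← Golay.permOf_comp (Golay.valid_comp vG vY) vG, gy]
  obtain ⟨a, ha⟩ := hσ x
  obtain ⟨b, hb⟩ := hσ y
  obtain ⟨c, hgc⟩ := hσ g
  refine ⟨Subgroup.closure (σ '' {a, b}), ?_, fun z _ hzo hmem => ?_⟩
  · have hcard : Nat.card ↥(Subgroup.closure (σ '' {a, b})) = T.N := card_gen T hT _ (by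
      rw [Set.image_pair σ, ha, hb, hTg]; exact pair_image hx hy)
    intro hd
    refine hdiv ?_
    have hmul := (Subgroup.closure (σ '' {a, b})).card_mul_index
    rw [hcard] at hmul
    rwa [← hmul, Nat.mul_div_cancel_left]
    exact hcard ▸ Nat.card_pos
  · have hab := odd_two_gen σ hker (p := 3) (by decide) (x := a) (y := b) (g := c) (by rw [ha, ex])
      (by rw [ha, hb]; exact exy) (by rw [hgc, ha, egx]) (by rw [hgc, hb, egy])
    refine no_elt_of_comm _ (comm_of_gens σ hker _ ?_) Nat.prime_three hzo hmem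
    rintro u (rfl | rfl) v (rfl | rfl)
    exacts [Commute.refl _, hab, hab.symm, Commute.refl _]

/-- An extraspecial Sylow 3-subgroup. -/
theorem three_part_ex (hσ : Function.Surjective σ) (hker : σ.ker ≤ Subgroup.center Δ) (inM : ℕ → Bool)
    (hM : ∀ P, inM P = true → Golay.permOf P ∈ M ∧ Golay.valid P = true) {X Y G : ℕ}
    (hc : exCheck inM X Y G = true) (T : PTbl) (hT : T.check = true) (hTg : T.gens = [X, Y])
    (hdiv : ¬ 3 ∣ Nat.card M / T.N) :
    ∃ Q : Subgroup M, ¬ 3 ∣ Q.index ∧ ∀ z ∈ σ.ker, orderOf z = 3 → z ∈ ⁅Q.comap σ, Q.comap σ⁆ → False := by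
  simp only [exCheck, Bool.and_eq_true, beq_iff_eq, Bool.not_eq_true', beq_eq_false_iff_ne] at hc
  obtain ⟨⟨⟨⟨⟨⟨⟨⟨⟨⟨⟨⟨hX, hY⟩, hG⟩, x3⟩, y3⟩, g2⟩, hcan⟩, hc1⟩, c3⟩, xc⟩, yc⟩, gx⟩, gy⟩ := hc
  set cP := Golay.comp (Golay.comp (Golay.comp X Y) (Golay.comp X X)) (Golay.comp Y Y)
  obtain ⟨x, hx⟩ := exists_el inM hM hX
  obtain ⟨y, hy⟩ := exists_el inM hM hY
  obtain ⟨g, hg⟩ := exists_el inM hM hG
  have vX := (hM X hX).2
  have vY := (hM Y hY).2
  have vG := (hM G hG).2
  have vXY := Golay.valid_comp vX vY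
  have vXX := Golay.valid_comp vX vX
  have vYY := Golay.valid_comp vY vY
  have vc : Golay.valid cP = true := Golay.valid_comp (Golay.valid_comp vXY vXX) vYY
  have ex : x * (x * x) = 1 := Subtype.ext (by
    rw [Subgroup.coe_mul, Subgroup.coe_mul, hx, ← Golay.permOf_comp vX vX,
      ← Golay.permOf_comp vX vXX, x3, Golay.permOf_idP]; rfl)
  have ey : y * (y * y) = 1 := Subtype.ext (by
    rw [Subgroup.coe_mul, Subgroup.coe_mul, hy, ← Golay.permOf_comp vY vY,
      ← Golay.permOf_comp vY vYY, y3, Golay.permOf_idP]; rfl)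
  have ec : ((⁅x, y⁆ : M) : Equiv.Perm Cfsg.GolayPt) = Golay.permOf cP := by
    rw [commutatorElement_def, inv_eq_of_mul_eq_one_right ex, inv_eq_of_mul_eq_one_right ey, Subgroup.coe_mul,
      Subgroup.coe_mul, Subgroup.coe_mul, Subgroup.coe_mul, Subgroup.coe_mul, hx, hy, ← Golay.permOf_comp vX vX,
      ← Golay.permOf_comp vY vY, ← Golay.permOf_comp vX vY, ← Golay.permOf_comp vXY vXX,
      ← Golay.permOf_comp (Golay.valid_comp vXY vXX) vYY]
  have ecord : orderOf ⁅x, y⁆ = 3 := by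
    have : Fact (Nat.Prime 3) := ⟨Nat.prime_three⟩
    refine orderOf_eq_prime (Subtype.ext ?_) fun e => hc1 ?_
    · rw [Subgroup.coe_pow, ec, pow_succ', sq, ← Golay.permOf_comp vc vc,
        ← Golay.permOf_comp vc (Golay.valid_comp vc vc), c3, Golay.permOf_idP]; rfl
    · refine canon_inj hcan (by decide +kernel) ?_
      rw [← ec, e, Golay.permOf_idP]; rfl
  have exc : Commute x ⁅x, y⁆ := Subtype.ext (by
    rw [Subgroup.coe_mul, Subgroup.coe_mul, hx, ec, ← Golay.permOf_comp vX vc, ← Golay.permOf_comp vc vX, xc])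
  have eyc : Commute y ⁅x, y⁆ := Subtype.ext (by
    rw [Subgroup.coe_mul, Subgroup.coe_mul, hy, ec, ← Golay.permOf_comp vY vc, ← Golay.permOf_comp vc vY, yc])
  have eg : g⁻¹ = g := inv_eq_of_mul_eq_one_right (Subtype.ext (by
    rw [Subgroup.coe_mul, hg, ← Golay.permOf_comp vG vG, g2, Golay.permOf_idP]; rfl))
  have egx : g * x * g⁻¹ = x⁻¹ := by
    rw [eg, inv_eq_of_mul_eq_one_right ex]
    refine el_inj (P := Golay.comp X X) ?_ (by rw [Subgroup.coe_mul, hx, Golay.permOf_comp vX vX])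
    rw [Subgroup.coe_mul, Subgroup.coe_mul, hg, hx, ← Golay.permOf_comp vG vX,
      ← Golay.permOf_comp (Golay.valid_comp vG vX) vG, gx]
  have egy : g * y * g⁻¹ = y⁻¹ := by
    rw [eg, inv_eq_of_mul_eq_one_right ey]
    refine el_inj (P := Golay.comp Y Y) ?_ (by rw [Subgroup.coe_mul, hy, Golay.permOf_comp vY vY])
    rw [Subgroup.coe_mul, Subgroup.coe_mul, hg, hy, ← Golay.permOf_comp vG vY,
      ← Golay.permOf_comp (Golay.valid_comp vG vY) vG, gy]
  obtain ⟨a, ha⟩ := hσ x
  obtain ⟨b, hb⟩ := hσ y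
  obtain ⟨c, hgc⟩ := hσ g
  have hab : σ ⁅a, b⁆ = ⁅x, y⁆ := by rw [map_commutatorElement, ha, hb]
  refine ⟨Subgroup.closure (σ '' {a, b}), ?_, fun z hz hzo hmem => ?_⟩
  · have hcard : Nat.card ↥(Subgroup.closure (σ '' {a, b})) = T.N := card_gen T hT _ (by
      rw [Set.image_pair σ, ha, hb, hTg]; exact pair_image hx hy)
    intro hd
    refine hdiv ?_
    have hmul := (Subgroup.closure (σ '' {a, b})).card_mul_index
    rw [hcard] at hmul
    rwa [← hmul, Nat.mul_div_cancel_left]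
    exact hcard ▸ Nat.card_pos
  · have h1 := extraspecial_odd hker Nat.prime_three (by norm_num) (x := a) (y := b) (g := c)
      (by rw [ha, pow_succ', sq]; exact ex) (by rw [hab, ecord]) (by rw [ha, hab]; exact exc)
      (by rw [hb, hab]; exact eyc) (by rw [hgc, ha, egx]) (by rw [hgc, hb, egy]) hz hmem
    rw [h1, orderOf_one] at hzo
    exact absurd hzo (by norm_num)

end Cfsg.Agent.Spor.Mult
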