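import Cfsg.Prelude.Def_Spor_Mathieu
import Cfsg.Agent.S0382
import Cfsg.Agent.Lib.Spor.MultFinish
import Cfsg.Agent.Lib.Spor.Mult12Data
import Cfsg.Agent.Lib.Spor.Golay.M24Facts

/-!
Stem extensions of the dodecad stabiliser: once the lifts of two chosen commuting involutions commute, the kernel
is trivial; hence every stem kernel is generated by the commutator of those lifts, of order at most two.
-/

set_option autoImplicit false
set_option maxRecDepth 100000
set_option linter.style.haveILetI false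
set_option linter.unusedSectionVars false
set_option Elab.async false

open scoped commutatorElement Pointwise

universe u

namespace Cfsg.Agent.Spor.Mult.D12

open Cfsg.Agent.Spor

/-- A packed permutation lying in the group. -/
def inM12 (P : ℕ) : Bool := Golay.inM24 P && (Golay.imgMask (Golay.get P) 340831 == 340831)

theorem sq_eq : Cfsg.Spor.squareDodecad = Golay.pts 340831 := by decide +kernel

theorem sq_mem : Cfsg.Spor.squareDodecad ∈ Cfsg.dodecads := by
  rw [sq_eq]
  exact Golay.mem_dodecads.mpr ⟨340831, Golay.mem_weightList.mpr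
    ⟨Golay.mem_codeList.mpr (by decide +kernel), by decide +kernel⟩, rfl⟩

theorem inM_sound (P : ℕ) (h : inM12 P = true) :
    Golay.permOf P ∈ Cfsg.Spor.M12 ∧ Golay.valid P = true := by
  simp only [inM12, Bool.and_eq_true, beq_iff_eq] at h
  have hv : Golay.valid P = true := by
    have h1 := h.1
    simp only [Golay.inM24, Bool.and_eq_true] at h1
    exact h1.1
  refine ⟨Subgroup.mem_inf.2 ⟨Golay.permOf_mem_M24 h.1, ?_⟩, hv⟩
  rw [MulAction.mem_stabilizer_iff, sq_eq, Golay.permOf_smul_pts hv, h.2]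

theorem card_group : Nat.card ↥Cfsg.Spor.M12 = 95040 := by
  rw [← Cfsg.Agent.S0382.result _ sq_mem]
  exact Nat.card_congr
    { toFun := fun g => ⟨⟨g.1, g.2.1⟩, g.2.2⟩
      invFun := fun g => ⟨g.1.1, ⟨g.1.2, g.2⟩⟩
      left_inv := fun g => rfl
      right_inv := fun g => rfl }

/-- The chosen element of the group. -/
noncomputable def elt (P : ℕ) : Cfsg.Spor.M12 :=
  haveI := Classical.dec (Golay.permOf P ∈ Cfsg.Spor.M12)
  if h : Golay.permOf P ∈ Cfsg.Spor.M12 then ⟨Golay.permOf P, h⟩ else 1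

theorem elt_val {P : ℕ} (h : inM12 P = true) :
    ((elt P : Cfsg.Spor.M12) : Equiv.Perm Cfsg.GolayPt) = Golay.permOf P := by
  simp [elt, (inM_sound P h).1]

theorem elt_mul {P Q : ℕ} (hP : inM12 P = true) (hQ : inM12 Q = true) :
    elt (Golay.comp P Q) = elt P * elt Q := by
  have e := Golay.permOf_comp (inM_sound P hP).2 (inM_sound Q hQ).2
  have h : Golay.permOf (Golay.comp P Q) ∈ Cfsg.Spor.M12 := by
    rw [e]; exact mul_mem (inM_sound P hP).1 (inM_sound Q hQ).1
  refine Subtype.ext ?_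
  rw [Subgroup.coe_mul, elt_val hP, elt_val hQ, ← e]
  simp [elt, h]

theorem elt_one : elt Golay.idP = 1 := by
  refine Subtype.ext ?_
  have h : Golay.permOf Golay.idP ∈ Cfsg.Spor.M12 := by rw [Golay.permOf_idP]; exact one_mem _
  simp [elt, Golay.permOf_idP]

/-- Whether an involution is a listed conjugate of the chosen representative of its class. -/
def conjOk : Bool :=
  conjT.all fun c => inM12 c.1 && inM12 c.2.1 &&
    (Golay.comp c.2.1 (if c.2.2 then sB else sA) == Golay.comp c.1 c.2.1)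

def inB (P : ℕ) : Bool := conjT.any fun c => (c.1 == P) && c.2.2

def inA (P : ℕ) : Bool := conjT.any fun c => (c.1 == P) && !c.2.2

def good (P : ℕ) : Bool := (P == Golay.idP) || conjT.any fun c => c.1 == P

def baseOk : Bool :=
  inM12 sA && inM12 sB && inM12 pS && inM12 pT && (Golay.comp sA sA == Golay.idP) &&
    (Golay.comp sB sB == Golay.idP) && (Golay.comp pS pT == Golay.comp pT pS) &&
    inA pS && inA pT && inA (Golay.comp pS pT) && (Golay.comp pS pS == Golay.idP) &&
    (Golay.comp pT pT == Golay.idP) && conjOk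

def tripleOk : Bool :=
  Two.tripleOk tB && ((Two.seven tB).all fun x => inM12 x && inB x)

def sylOk : Bool :=
  decide (syl.length = 3) && (syl.all fun u => inM12 u && good u) &&
    (sq.all fun w => (w.all fun s => decide (s < 3)) && good (evP (fun s => syl.getD s Golay.idP) w)) &&
    (rels == ((List.range 3).map fun s => [s, s]) ++ (sq.map fun w => w ++ w))

theorem base_ok : baseOk = true := by decide +kernel

theorem triple_ok : tripleOk = true := by decide +kernel

theorem syl_ok : sylOk = true := by decide +kernel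

theorem cert_ok : cert.check = true := by decide +kernel

theorem tbl_ok : tbl.check = true := by decide +kernel

theorem small_ok : (threeTbl.check && fiveTbl.check && elevenTbl.check) = true := by decide +kernel

theorem gens_ok : (exCheck inM12 (threeTbl.genOf 0) (threeTbl.genOf 1) threeG && inM12 (fiveTbl.genOf 0) &&
    inM12 (elevenTbl.genOf 0)) = true := by
  decide +kernel

section TwoPart

variable {Δ : Type*} [Group Δ] [Finite Δ] {σ : Δ →* Cfsg.Spor.M12}

theorem two_part (H : TwoExt σ)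
    (hP : ∀ a b, σ a = elt pS → σ b = elt pT → Commute a b) :
    ∃ Q : Subgroup Cfsg.Spor.M12, ¬ 2 ∣ Q.index ∧
      ∀ z ∈ σ.ker, orderOf z = 2 → z ∈ ⁅Q.comap σ, Q.comap σ⁆ → False := by
  have hb := base_ok
  simp only [baseOk, conjOk, Bool.and_eq_true, beq_iff_eq, List.all_eq_true] at hb
  obtain ⟨⟨⟨⟨⟨⟨⟨⟨⟨⟨⟨⟨hA, hB⟩, hS⟩, hT⟩, hA2⟩, hB2⟩, hST⟩, iS⟩, iT⟩, iST⟩, hS2⟩, hT2⟩, hconj⟩ := hb
  have conjE : ∀ {x : ℕ}, inA x = true → ∃ g, g * elt sA = elt x * g := by
    intro x hx
    simp only [inA, List.any_eq_true, Bool.and_eq_true, beq_iff_eq, Bool.not_eq_true'] at hx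
    obtain ⟨⟨w, g, b⟩, hc, rfl, rfl⟩ := hx
    obtain ⟨⟨hw, hg⟩, he⟩ := hconj _ hc
    simp only [Bool.false_eq_true, if_false] at he
    exact ⟨elt g, by rw [← elt_mul hg hA, ← elt_mul hw hg, he]⟩
  have conjB : ∀ {x : ℕ}, inB x = true → ∃ g, g * elt sB = elt x * g := by
    intro x hx
    simp only [inB, List.any_eq_true, Bool.and_eq_true, beq_iff_eq] at hx
    obtain ⟨⟨w, g, b⟩, hc, rfl, rfl⟩ := hx
    obtain ⟨⟨hw, hg⟩, he⟩ := hconj _ hc
    simp only [if_true] at he
    exact ⟨elt g, by rw [← elt_mul hg hB, ← elt_mul hw hg, he]⟩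
  -- the pure class
  have hB1 : Inv1 σ (elt sB) := by
    have ht := triple_ok
    generalize htB : tB = t at ht
    obtain ⟨a, b, c⟩ := t
    simp only [tripleOk, htB, Two.tripleOk, List.all_eq_true, Bool.and_eq_true, beq_iff_eq] at ht
    obtain ⟨⟨⟨⟨hsq3, hab⟩, hac⟩, hbc⟩, h7⟩ := ht
    have ma := (h7 a (by simp [Two.seven])).1
    have mb := (h7 b (by simp [Two.seven])).1
    have mc := (h7 c (by simp [Two.seven])).1
    have mab := (h7 (Golay.comp a b) (by simp [Two.seven])).1
    refine H.inv1_pure (by rw [← elt_mul hB hB, hB2, elt_one]) (a := elt a) (b := elt b) (c := elt c)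
      (by rw [← elt_mul ma ma, (hsq3 a (by simp)).2, elt_one])
      (by rw [← elt_mul mb mb, (hsq3 b (by simp)).2, elt_one])
      (by rw [← elt_mul mc mc, (hsq3 c (by simp)).2, elt_one])
      (show _ = _ by rw [← elt_mul ma mb, ← elt_mul mb ma, hab])
      (show _ = _ by rw [← elt_mul ma mc, ← elt_mul mc ma, hac])
      (show _ = _ by rw [← elt_mul mb mc, ← elt_mul mc mb, hbc]) fun y hy => ?_
    obtain ⟨x, hx, rfl⟩ : ∃ x ∈ Two.seven (a, b, c), elt x = y := by
      simp only [← elt_mul ma mb, ← elt_mul ma mc, ← elt_mul mb mc, ← elt_mul mab mc, List.mem_cons,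
        List.not_mem_nil, or_false] at hy
      simp only [Two.seven, List.mem_cons, List.not_mem_nil, or_false, exists_eq_or_imp, exists_eq_left]
      rcases hy with rfl | rfl | rfl | rfl | rfl | rfl | rfl <;> simp
    exact conjB (h7 x hx).2
  -- the other class
  have hA1 : Inv1 σ (elt sA) := by
    intro s hs
    have hk : s * s ∈ σ.ker := by
      rw [MonoidHom.mem_ker, map_mul, hs, ← elt_mul hA hA, hA2, elt_one]
    have e : ∀ {x : ℕ} (t : Δ), inA x = true → σ t = elt x → t * t = s * s := by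
      intro x t hx ht
      obtain ⟨g, hg⟩ := conjE hx
      obtain ⟨v, hv⟩ := H.surj g
      rw [H.sq_congr (t := v * s * v⁻¹) (by rw [map_mul, map_mul, map_inv, hv, hs, hg, ht, mul_inv_cancel_right]),
        show v * s * v⁻¹ * (v * s * v⁻¹) = v * (s * s) * v⁻¹ by group,
        Subgroup.mem_center_iff.1 (H.cen hk) v, mul_inv_cancel_right]
    obtain ⟨a, ha⟩ := H.surj (elt pS)
    obtain ⟨b, hb⟩ := H.surj (elt pT)
    have h3 := e (a * b) iST (by rw [map_mul, ha, hb, elt_mul hS hT])
    rw [(hP a b ha hb).symm.mul_mul_mul_comm a b, e a iS ha, e b iT hb] at h3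
    exact mul_left_cancel (h3.trans (mul_one _).symm)
  have goodI : ∀ x, good x = true → Inv1 σ (elt x) := by
    intro x hx
    simp only [good, Bool.or_eq_true, beq_iff_eq, List.any_eq_true] at hx
    rcases hx with rfl | ⟨⟨w, g, b⟩, hc, rfl⟩
    · rw [elt_one]; exact H.inv1_one
    · obtain ⟨⟨hw, hg⟩, he⟩ := hconj _ hc
      cases b
      · simp only [Bool.false_eq_true, if_false] at he
        exact H.inv1_conj hA1 (g := elt g) (by rw [← elt_mul hg hA, ← elt_mul hw hg, he])
      · simp only [if_true] at he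
        exact H.inv1_conj hB1 (g := elt g) (by rw [← elt_mul hg hB, ← elt_mul hw hg, he])
  -- the section over the Sylow subgroup
  have hs := syl_ok
  simp only [sylOk, Bool.and_eq_true, decide_eq_true_eq, List.all_eq_true, beq_iff_eq] at hs
  obtain ⟨⟨⟨hlen, hu⟩, hsq⟩, hrel⟩ := hs
  set gen : ℕ → ℕ := fun s => syl.getD s Golay.idP with hgen
  have hgenM : ∀ s, s < 3 → inM12 (gen s) = true ∧ good (gen s) = true := fun s hs => by
    refine hu _ ?_
    simp only [hgen, List.getD_eq_getElem _ _ (show s < syl.length by omega)]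
    exact List.getElem_mem _
  choose h hσ using fun s => H.surj (elt (gen s))
  have hinv : ∀ s, s < 3 → h s * h s = 1 := fun s hs => goodI _ (hgenM s hs).2 _ (hσ s)
  have hev : ∀ w : List ℕ, (∀ s ∈ w, s < 3) → σ (Coset.ev h w) = elt (evP gen w) := by
    intro w hw
    induction w with
    | nil => simp [Coset.ev, evP, elt_one]
    | cons s w ih =>
      have hm := hgenM s (hw s (by simp))
      have ht : ∀ t ∈ w, t < 3 := fun t ht => hw t (List.mem_cons_of_mem _ ht)
      obtain ⟨hv, he⟩ := evP_sound gen w fun t htw => (inM_sound _ (hgenM t (ht t htw)).1).2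
      have hmem : Golay.permOf (evP gen w) ∈ Cfsg.Spor.M12 := by
        rw [he]; exact Coset.ev_mem _ fun t htw => (inM_sound _ (hgenM t (ht t htw)).1).1
      refine Subtype.ext ?_
      rw [Coset.ev, map_mul, ih ht, hσ, Subgroup.coe_mul, elt_val hm.1]
      show _ = ((elt (Golay.comp (gen s) (evP gen w)) : Cfsg.Spor.M12) : Equiv.Perm Cfsg.GolayPt)
      have hmem' : Golay.permOf (Golay.comp (gen s) (evP gen w)) ∈ Cfsg.Spor.M12 := by
        rw [Golay.permOf_comp (inM_sound _ hm.1).2 hv]; exact mul_mem (inM_sound _ hm.1).1 hmem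
      rw [show ((elt (Golay.comp (gen s) (evP gen w)) : Cfsg.Spor.M12) : Equiv.Perm Cfsg.GolayPt) =
          Golay.permOf (Golay.comp (gen s) (evP gen w)) by simp only [elt, dif_pos hmem'],
        show ((elt (evP gen w) : Cfsg.Spor.M12) : Equiv.Perm Cfsg.GolayPt) = Golay.permOf (evP gen w) by
          simp only [elt, dif_pos hmem],
        Golay.permOf_comp (inM_sound _ hm.1).2 hv]
  have hrels : ∀ w ∈ cert.rels, (∀ s ∈ w, s < 3) ∧ Coset.ev h w = 1 := by
    intro w hw
    rw [show cert.rels = rels from rfl, hrel, List.mem_append] at hw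
    rcases hw with hw | hw
    · simp only [List.mem_map, List.mem_range] at hw
      obtain ⟨s, hs, rfl⟩ := hw
      exact ⟨by simp [hs], by simp [Coset.ev, hinv s hs]⟩
    · simp only [List.mem_map] at hw
      obtain ⟨v, hv, rfl⟩ := hw
      obtain ⟨hlt, hg⟩ := hsq v hv
      refine ⟨fun s hs => ?_, ?_⟩
      · rcases List.mem_append.1 hs with hs | hs <;> exact hlt s hs
      · rw [Coset.ev_append]; exact goodI _ hg _ (hev v hlt)
  let S : Subgroup Δ := Subgroup.closure {x | ∃ s < 3, h s = x}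
  let g' : ℕ → S := fun s => if hs : s < 3 then ⟨h s, Subgroup.subset_closure ⟨s, hs, rfl⟩⟩ else 1
  have hg'v : ∀ w : List ℕ, (∀ s ∈ w, s < 3) → ((Coset.ev g' w : S) : Δ) = Coset.ev h w := by
    intro w hw
    induction w with
    | nil => rfl
    | cons s w ih =>
      simp only [Coset.ev, Subgroup.coe_mul, ih fun t ht => hw t (List.mem_cons_of_mem _ ht)]
      simp only [g', dif_pos (hw s (by simp))]
  have hSgen : Subgroup.closure {x | ∃ s < cert.n, g' s = x} = ⊤ := by
    refine Subgroup.map_injective S.subtype_injective ?_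
    rw [MonoidHom.map_closure, ← MonoidHom.range_eq_map, Subgroup.range_subtype]
    refine congrArg Subgroup.closure (Set.ext fun x => ?_)
    constructor
    · rintro ⟨_, ⟨s, hs, rfl⟩, rfl⟩
      exact ⟨s, hs, by simp [g', show s < 3 from hs]⟩
    · rintro ⟨s, hs, rfl⟩; exact ⟨g' s, ⟨s, hs, rfl⟩, by simp [g', hs]⟩
  obtain ⟨-, hle⟩ := cert.index_le g' cert_ok (H := ⊥)
    (fun s hs => by
      refine Subtype.ext ?_
      have hs' : s < 3 := hs
      simp only [g', dif_pos hs', Subgroup.coe_mul]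
      exact hinv s hs')
    hSgen (fun w hw => Subtype.ext (by rw [hg'v w (hrels w hw).1]; exact (hrels w hw).2))
    (by intro w hw; simp [cert] at hw)
  rw [Subgroup.index_bot] at hle
  have hQ : (S.map σ).map Cfsg.Spor.M12.subtype = Subgroup.closure {x | ∃ P ∈ tbl.gens, Golay.permOf P = x} := by
    rw [MonoidHom.map_closure, MonoidHom.map_closure]
    refine congrArg Subgroup.closure (Set.ext fun x => ?_)
    constructor
    · rintro ⟨_, ⟨_, ⟨s, hs, rfl⟩, rfl⟩, rfl⟩
      refine ⟨gen s, ?_, ?_⟩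
      · show gen s ∈ syl
        simp only [hgen, List.getD_eq_getElem _ _ (show s < syl.length by omega)]
        exact List.getElem_mem _
      · rw [Subgroup.coe_subtype, hσ, elt_val (hgenM s hs).1]
    · rintro ⟨P, hP, rfl⟩
      obtain ⟨s, hs, rfl⟩ := List.getElem_of_mem (show P ∈ syl from hP)
      have hs' : s < 3 := by omega
      refine ⟨_, ⟨_, ⟨s, hs', rfl⟩, rfl⟩, ?_⟩
      rw [Subgroup.coe_subtype, hσ, elt_val (hgenM s hs').1]
      simp only [hgen, List.getD_eq_getElem _ _ hs]
  have hcardQ : Nat.card ↥(S.map σ) = tbl.N := by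
    rw [← tbl.card_closure tbl_ok, ← hQ, Subgroup.card_map_of_injective Cfsg.Spor.M12.subtype_injective]
  have hbij : Function.Bijective (σ.subgroupMap S) := by
    refine (Nat.bijective_iff_surjective_and_card _).2 ⟨MonoidHom.subgroupMap_surjective _ _, ?_⟩
    refine le_antisymm ?_ (Nat.card_le_card_of_surjective _ (MonoidHom.subgroupMap_surjective _ _))
    rw [hcardQ]; exact hle
  refine ⟨S.map σ, ?_, fun z hz hzo hmem => ?_⟩
  · have hmul := (S.map σ).card_mul_index
    rw [hcardQ, card_group, show tbl.N = 64 from rfl] at hmul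
    intro hd
    obtain ⟨k, hk⟩ := hd
    omega
  · have h1 := no_ker_of_section H.cen S (fun s hs e => congrArg Subtype.val
      (hbij.1 (show σ.subgroupMap S ⟨s, hs⟩ = σ.subgroupMap S 1 by rw [map_one]; exact Subtype.ext e))) hz hmem
    rw [h1, orderOf_one] at hzo
    exact absurd hzo (by norm_num)

end TwoPart

section Quot

variable {G : Type*} [Group G] {Δ : Type*} [Group Δ] {σ : Δ →* G}

/-- A quotient of a stem extension by a part of its kernel. -/
theorem stem_quot (hσ : Cfsg.IsStemExtension σ) (K : Subgroup Δ) [K.Normal] (hK : K ≤ σ.ker) :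
    Cfsg.IsStemExtension (QuotientGroup.lift K σ hK) := by
  refine ⟨fun x => ?_, ?_, ?_⟩
  · obtain ⟨y, rfl⟩ := hσ.1 x; exact ⟨QuotientGroup.mk y, rfl⟩
  · intro q hq
    induction q using QuotientGroup.induction_on with
    | _ y =>
      refine Subgroup.mem_center_iff.2 fun r => ?_
      induction r using QuotientGroup.induction_on with
      | _ g => rw [← QuotientGroup.mk_mul, ← QuotientGroup.mk_mul, Subgroup.mem_center_iff.1 (hσ.2.1 hq) g]
  · intro q hq
    induction q using QuotientGroup.induction_on with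
    | _ y =>
      have h1 : QuotientGroup.mk' K y ∈ (commutator Δ).map (QuotientGroup.mk' K) := ⟨y, hσ.2.2 hq, rfl⟩
      have hle : (commutator Δ).map (QuotientGroup.mk' K) ≤ commutator (Δ ⧸ K) := by
        rw [commutator_def, Subgroup.map_commutator]; exact Subgroup.commutator_mono le_top le_top
      exact hle h1

/-- Lifts of two elements commute. -/
def CommLifts (σ : Δ →* G) (x y : G) : Prop := ∀ a b, σ a = x → σ b = y → Commute a b

theorem comm_quot {x y : G} (K : Subgroup Δ) [K.Normal] (hK : K ≤ σ.ker)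
    (h : ∀ a b, σ a = x → σ b = y → ⁅a, b⁆ ∈ K) : CommLifts (QuotientGroup.lift K σ hK) x y := by
  intro q r hq hr
  induction q using QuotientGroup.induction_on with
  | _ a =>
    induction r using QuotientGroup.induction_on with
    | _ b =>
      refine commutatorElement_eq_one_iff_commute.1 ?_
      rw [show ⁅(a : Δ ⧸ K), (b : Δ ⧸ K)⁆ = ((⁅a, b⁆ : Δ) : Δ ⧸ K) from
        (map_commutatorElement (QuotientGroup.mk' K) a b).symm]
      exact (QuotientGroup.eq_one_iff _).2 (h a b hq hr)

end Quot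

theorem prime_case {p : ℕ} (hp : p.Prime) {Δ : Type} [Group Δ] [Finite Δ] (σ : Δ →* Cfsg.Spor.M12)
    (hσ : Cfsg.IsStemExtension σ) (hexp : ∀ z ∈ σ.ker, z ^ p = 1) (hP : CommLifts σ (elt pS) (elt pT)) :
    σ.ker = ⊥ := by
  refine ker_eq_bot σ hσ fun q hq hqdvd => ?_
  have hqp : q = p := by
    have : Fact q.Prime := ⟨hq⟩
    obtain ⟨z, hz⟩ := exists_prime_orderOf_dvd_card' q hqdvd
    have h1 : orderOf (z : Δ) ∣ p := orderOf_dvd_of_pow_eq_one (hexp _ z.2)
    rw [Subgroup.orderOf_coe, hz] at h1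
    exact (Nat.prime_dvd_prime_iff_eq hq hp).1 h1
  subst hqp
  have hs := small_ok
  simp only [Bool.and_eq_true] at hs
  obtain ⟨⟨s3, s5⟩, s11⟩ := hs
  have hg := gens_ok
  simp only [Bool.and_eq_true] at hg
  obtain ⟨⟨g3, g5⟩, g11⟩ := hg
  by_cases h2 : q = 2
  · subst h2
    exact two_part ⟨hσ.1, hσ.2.1, fun z hz => by rw [← pow_two]; exact hexp z hz⟩ hP
  by_cases h3 : q = 3
  · subst h3
    exact three_part_ex hσ.1 hσ.2.1 inM12 inM_sound g3 threeTbl s3 rfl (by rw [card_group]; decide +kernel)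
  by_cases h5 : q = 5
  · subst h5
    exact cyclic_part hσ.1 hσ.2.1 inM12 inM_sound hq g5 fiveTbl s5 rfl (by rw [card_group]; decide +kernel)
  by_cases h11 : q = 11
  · subst h11
    exact cyclic_part hσ.1 hσ.2.1 inM12 inM_sound hq g11 elevenTbl s11 rfl (by rw [card_group]; decide +kernel)
  refine ⟨⊥, ?_, fun z hz hzo hmem => no_elt_of_comm _ ?_ hq hzo hmem⟩
  · rw [Subgroup.index_bot, card_group]
    intro hd
    have hf : (95040 : ℕ) = 2 ^ 6 * 3 ^ 3 * 5 * 11 := by norm_num
    rw [hf] at hd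
    have pr : ∀ r : ℕ, r.Prime → ∀ k, q ∣ r ^ k → q = r := fun r hr k h =>
      (Nat.prime_dvd_prime_iff_eq hq hr).1 (hq.dvd_of_dvd_pow h)
    rcases (Nat.Prime.dvd_mul hq).1 hd with hd | hd
    · rcases (Nat.Prime.dvd_mul hq).1 hd with hd | hd
      · rcases (Nat.Prime.dvd_mul hq).1 hd with hd | hd
        · exact h2 (pr 2 Nat.prime_two _ hd)
        · exact h3 (pr 3 Nat.prime_three _ hd)
      · exact h5 ((Nat.prime_dvd_prime_iff_eq hq (by norm_num)).1 hd)
    · exact h11 ((Nat.prime_dvd_prime_iff_eq hq (by norm_num)).1 hd)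
  · intro u hu v hv
    rw [MonoidHom.comap_bot] at hv
    exact Subgroup.mem_center_iff.1 (hσ.2.1 hv) u

/-- A stem extension in which the two lifts commute is trivial. -/
theorem ker_bot {Δ : Type} [Group Δ] [Finite Δ] (σ : Δ →* Cfsg.Spor.M12) (hσ : Cfsg.IsStemExtension σ)
    (hP : CommLifts σ (elt pS) (elt pT)) : σ.ker = ⊥ := by
  by_contra hne
  obtain ⟨p, hp, hdvd⟩ := Nat.exists_prime_and_dvd (fun e => hne (Subgroup.card_eq_one.1 e) : Nat.card σ.ker ≠ 1)
  have : Fact p.Prime := ⟨hp⟩
  let powP : σ.ker →* Δ :=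
    { toFun := fun z => (z : Δ) ^ p
      map_one' := by simp
      map_mul' := fun a b => by
        show ((a : Δ) * b) ^ p = _
        exact Commute.mul_pow (Subgroup.mem_center_iff.1 (hσ.2.1 b.2) (a : Δ)) p }
  have hKker : powP.range ≤ σ.ker := by
    rintro _ ⟨z, rfl⟩; exact pow_mem z.2 p
  haveI : powP.range.Normal := ⟨fun n hn g => by
    rwa [Subgroup.mem_center_iff.1 (hσ.2.1 (hKker hn)) g, mul_inv_cancel_right]⟩
  have hb := prime_case hp _ (stem_quot hσ powP.range hKker) (fun q hq => by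
    induction q using QuotientGroup.induction_on with
    | _ y =>
      rw [← QuotientGroup.mk_pow]
      exact (QuotientGroup.eq_one_iff _).2 ⟨⟨y, hq⟩, rfl⟩)
    (comm_quot _ hKker fun a b ha hb => by
      rw [commutatorElement_eq_one_iff_commute.2 (hP a b ha hb)]; exact one_mem _)
  have hsurj : Function.Surjective fun w : σ.ker => w ^ p := fun w => by
    obtain ⟨v, hv⟩ := (show (w : Δ) ∈ powP.range from (QuotientGroup.eq_one_iff _).1 (by
      have : (QuotientGroup.mk (w : Δ) : Δ ⧸ powP.range) ∈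
          (QuotientGroup.lift powP.range σ hKker).ker := w.2
      rwa [hb, Subgroup.mem_bot] at this))
    exact ⟨v, Subtype.ext hv⟩
  obtain ⟨z, hz⟩ := exists_prime_orderOf_dvd_card' p hdvd
  have h1 : z = 1 := (Finite.injective_iff_surjective.2 hsurj)
    (show z ^ p = (1 : σ.ker) ^ p by rw [one_pow, ← hz, pow_orderOf_eq_one])
  rw [h1, orderOf_one] at hz
  exact hp.ne_one hz.symm

/-- Every stem kernel is a homomorphic image of the group of order two. -/
theorem upper (Δ : Type) [Group Δ] [Finite Δ] (σ : Δ →* Cfsg.Spor.M12) (hσ : Cfsg.IsStemExtension σ) :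
    ∃ π : Multiplicative (ZMod 2) →* σ.ker, Function.Surjective π := by
  obtain ⟨a, ha⟩ := hσ.1 (elt pS)
  obtain ⟨b, hb⟩ := hσ.1 (elt pT)
  have h0 := base_ok
  simp only [baseOk, Bool.and_eq_true, beq_iff_eq] at h0
  obtain ⟨⟨⟨⟨⟨⟨⟨⟨⟨⟨⟨⟨-, -⟩, hS⟩, hT⟩, -⟩, -⟩, hST⟩, -⟩, -⟩, -⟩, hS2⟩, -⟩, -⟩ := h0
  have hcomm : Commute (elt pS) (elt pT) := show _ = _ by rw [← elt_mul hS hT, ← elt_mul hT hS, hST]
  set γ := ⁅a, b⁆ with hγ
  have hγk : γ ∈ σ.ker := by
    rw [MonoidHom.mem_ker, map_commutatorElement, ha, hb]; exact commutatorElement_eq_one_iff_commute.2 hcomm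
  have hγc := Subgroup.mem_center_iff.1 (hσ.2.1 hγk)
  have hγ2 : γ * γ = 1 := by
    have ha2 : σ (a * a) = 1 := by rw [map_mul, ha, ← elt_mul hS hS, hS2, elt_one]
    have e : ⁅a * a, b⁆ = 1 := commutatorElement_eq_one_iff_commute.2
      (Subgroup.mem_center_iff.1 (hσ.2.1 ha2) b).symm
    rw [show ⁅a * a, b⁆ = a * ⁅a, b⁆ * a⁻¹ * ⁅a, b⁆ by simp only [commutatorElement_def]; group, ← hγ, hγc a,
      mul_inv_cancel_right] at e
    exact e
  have hK : Subgroup.zpowers γ ≤ σ.ker := Subgroup.zpowers_le.2 hγk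
  haveI : (Subgroup.zpowers γ).Normal := ⟨fun n hn g => by
    rwa [Subgroup.mem_center_iff.1 (hσ.2.1 (hK hn)) g, mul_inv_cancel_right]⟩
  have hbot := ker_bot _ (stem_quot hσ _ hK) (comm_quot _ hK fun a' b' ha' hb' => by
    rw [bracket_congr hσ.2.1 (ha'.trans ha.symm) (hb'.trans hb.symm)]; exact Subgroup.mem_zpowers γ)
  let f : Multiplicative (ZMod 2) →* σ.ker :=
    { toFun := fun x => if x = 1 then 1 else ⟨γ, hγk⟩
      map_one' := if_pos rfl
      map_mul' := fun x y => by
        have key : ∀ x : Multiplicative (ZMod 2), x = 1 ∨ x = Multiplicative.ofAdd 1 := by decide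
        have hne : (Multiplicative.ofAdd (1 : ZMod 2)) ≠ 1 := by decide
        have htt : Multiplicative.ofAdd (1 : ZMod 2) * Multiplicative.ofAdd 1 = 1 := by decide
        rcases key x with rfl | rfl <;> rcases key y with rfl | rfl <;>
          simp only [one_mul, mul_one, htt, hne, if_true, if_false]
        exact Subtype.ext hγ2.symm }
  refine ⟨f, fun k => ?_⟩
  have hk : (QuotientGroup.mk (k : Δ) : Δ ⧸ Subgroup.zpowers γ) ∈
      (QuotientGroup.lift _ σ hK).ker := k.2
  rw [hbot, Subgroup.mem_bot] at hk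
  obtain ⟨n, hn⟩ := Subgroup.mem_zpowers_iff.1 ((QuotientGroup.eq_one_iff _).1 hk)
  rcases Int.emod_two_eq_zero_or_one n with h | h
  · refine ⟨1, Subtype.ext ?_⟩
    obtain ⟨j, rfl⟩ := Int.dvd_of_emod_eq_zero h
    rw [map_one, ← hn, zpow_mul, zpow_two, hγ2, one_zpow]
    rfl
  · have e : f (Multiplicative.ofAdd 1) = ⟨γ, hγk⟩ :=
      by
      show (if Multiplicative.ofAdd (1 : ZMod 2) = 1 then (1 : σ.ker) else ⟨γ, hγk⟩) = _
      exact if_neg (by decide)
    refine ⟨Multiplicative.ofAdd 1, ?_⟩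
    obtain ⟨j, rfl⟩ : ∃ j, n = 2 * j + 1 := ⟨n / 2, by omega⟩
    rw [zpow_add, zpow_mul, zpow_two, hγ2, one_zpow, one_mul, zpow_one] at hn
    rw [e]
    exact Subtype.ext hn

end Cfsg.Agent.Spor.Mult.D12
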