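import Cfsg.Agent.Lib.Spor.Mult12
import Cfsg.Agent.Lib.Spor.Golay.AutM12

/-!
The double cover of the dodecad stabiliser: signed permutations of the twelve points of the dodecad preserving a
self-dual ternary code, paired with the permutations they induce.
-/

set_option autoImplicit false
set_option maxRecDepth 100000
set_option linter.style.haveILetI false
set_option linter.unusedSectionVars false
set_option Elab.async false

open scoped commutatorElement Pointwise

namespace Cfsg.Agent.Spor.Mult.D12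

open Cfsg.Agent.Spor

abbrev Sym := Equiv.Perm Cfsg.GolayPt

/-- The permutations of the group, in the order of the lifts. -/
def gensP : List ℕ := [Golay.Aut.c12.A, Golay.Aut.c12.C, Golay.Aut.c12.T]

def gP (s : ℕ) : ℕ := gensP.getD s Golay.idP

def gL (s : ℕ) : ℕ := lifts.getD s Golay.idP

/-- The generating pairs. -/
noncomputable def gPair (s : ℕ) : Sym × Sym := (Golay.permOf (gP s), Golay.permOf (gL s))

/-- The cover. -/
noncomputable def cover : Subgroup (Sym × Sym) := Subgroup.closure {x | ∃ s < 3, gPair s = x}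

/-- The point of the dodecad below a signed point. -/
def below (x : Cfsg.GolayPt) : Cfsg.GolayPt := Golay.pt (dPts.getD (Golay.idx x / 2) 0)

/-- The negation of the signs. -/
noncomputable def omega12 : Sym := Golay.permOf flipP

/-- The code words as functions on signed points. -/
def word (k : Fin 6) : Cfsg.GolayPt → ZMod 3 :=
  fun x => ((Coset.fld 2 (codeT.getD k 0) (Golay.idx x) : ℕ) : ZMod 3)

/-- The code. -/
def code : Submodule (ZMod 3) (Cfsg.GolayPt → ZMod 3) := Submodule.span (ZMod 3) (Set.range word)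

def coeff (s : ℕ) (k l : Fin 6) : ZMod 3 := (((codeImg.getD s []).getD k []).getD l 0 : ℕ)

/-- The sign of a signed point. -/
def sgn (j : ℕ) : ZMod 3 := if j % 2 = 0 then 1 else -1

def genOk : Bool :=
  (List.range 3).all fun s => Golay.valid (gL s) && inM12 (gP s) && canon (gL s) &&
    (List.range 24).all fun j =>
      (Golay.get (gP s) (dPts.getD (j / 2) 0) == dPts.getD (Golay.get (gL s) j / 2) 0) &&
        (Golay.get (gL s) (Golay.get flipP j) == Golay.get flipP (Golay.get (gL s) j))

def pointsOk : Bool :=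
  Golay.valid flipP && (Golay.comp flipP flipP == Golay.idP) &&
    (List.range 24).all fun j => (Golay.get flipP j / 2 == j / 2) && !(Golay.get flipP j == j) &&
      decide (dPts.getD (j / 2) 24 < 24) &&
      (List.range 24).all fun i => !(dPts.getD (i / 2) 0 == dPts.getD (j / 2) 0) || (i / 2 == j / 2)

theorem gen_ok : genOk = true := by decide +kernel

theorem points_ok : pointsOk = true := by decide +kernel

theorem word_ok : ∀ s : Fin 3, ∀ k : Fin 6, ∀ j : Fin 24,
    ((Coset.fld 2 (codeT.getD k 0) (Golay.get (gL s) j) : ℕ) : ZMod 3) =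
      ∑ l : Fin 6, coeff s k l * ((Coset.fld 2 (codeT.getD l 0) j : ℕ) : ZMod 3) := by
  decide +kernel

theorem odd_ok : ∀ k : Fin 6, ∀ j : Fin 24,
    ((Coset.fld 2 (codeT.getD k 0) (Golay.get flipP j) : ℕ) : ZMod 3) =
      -((Coset.fld 2 (codeT.getD k 0) j : ℕ) : ZMod 3) := by
  decide +kernel

theorem dual_ok : ∀ k l : Fin 6, ∑ i : Fin 12, ((Coset.fld 2 (codeT.getD k 0) (2 * i) : ℕ) : ZMod 3) *
    ((Coset.fld 2 (codeT.getD l 0) (2 * i) : ℕ) : ZMod 3) = 0 := by
  decide +kernel

/-- The coefficient of a product of two words in the `m`-th combination. -/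
def combC (m : Fin 11) (k l : Fin 6) : ZMod 3 :=
  ((combT.getD m []).map fun c => if c.2.1 = (k : ℕ) ∧ c.2.2 = (l : ℕ) then (c.1 : ZMod 3) else 0).sum

theorem comb_ok : ∀ m : Fin 11, ∀ i : Fin 12,
    ∑ k : Fin 6, ∑ l : Fin 6, combC m k l * (((Coset.fld 2 (codeT.getD k 0) (2 * i) : ℕ) : ZMod 3) *
      ((Coset.fld 2 (codeT.getD l 0) (2 * i) : ℕ) : ZMod 3)) =
      (if (i : ℕ) = (m : ℕ) + 1 then 1 else 0) - (if (i : ℕ) = 0 then 1 else 0) := by
  decide +kernel

/-- The conditions satisfied by the pairs in the cover. -/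
noncomputable def Good : Submonoid (Sym × Sym) where
  carrier := {x | x.1 ∈ Cfsg.Spor.M12 ∧ (∀ p, x.1 (below p) = below (x.2 p)) ∧ Commute x.2 omega12 ∧
    ∀ v ∈ code, (fun p => v (x.2 p)) ∈ code}
  one_mem' := ⟨one_mem _, fun p => rfl, Commute.one_left _, fun v hv => hv⟩
  mul_mem' := by
    rintro x y ⟨x1, x2, x3, x4⟩ ⟨y1, y2, y3, y4⟩
    refine ⟨mul_mem x1 y1, fun p => ?_, x3.mul_left y3, fun v hv => ?_⟩
    · simp only [Prod.fst_mul, Prod.snd_mul, Equiv.Perm.mul_apply, y2, x2]
    · simpa only [Prod.snd_mul, Equiv.Perm.mul_apply] using y4 _ (x4 v hv)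

theorem gPair_good {s : ℕ} (hs : s < 3) : gPair s ∈ Good := by
  have h := gen_ok
  simp only [genOk, List.all_eq_true, List.mem_range, Bool.and_eq_true, beq_iff_eq] at h
  obtain ⟨⟨⟨hv, hm⟩, -⟩, hj⟩ := h s hs
  have hp := points_ok
  simp only [pointsOk, List.all_eq_true, List.mem_range, Bool.and_eq_true, beq_iff_eq,
    decide_eq_true_eq] at hp
  obtain ⟨⟨hfv, -⟩, hpt⟩ := hp
  have hP := inM_sound _ hm
  refine ⟨hP.1, fun p => ?_, ?_, fun v hv' => ?_⟩
  · obtain ⟨e, -⟩ := hj _ (Golay.idx_lt p)
    refine Golay.idx_injective ?_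
    have h1 : dPts.getD (Golay.idx p / 2) 0 < 24 := by
      have := (hpt _ (Golay.idx_lt p)).1.2
      by_cases hl : Golay.idx p / 2 < dPts.length
      · rw [List.getD_eq_getElem _ _ hl] at this ⊢; exact this
      · rw [List.getD_eq_default _ _ (by omega)] at this; omega
    have h2 : dPts.getD (Golay.get (gL s) (Golay.idx p) / 2) 0 < 24 :=
      e ▸ (Golay.valid_iff.1 hP.2).2 _ h1
    show Golay.idx (Golay.permOf (gP s) (below p)) = Golay.idx (below (Golay.permOf (gL s) p))
    rw [Golay.idx_permOf hP.2, below, below, Golay.idx_pt h1, Golay.idx_permOf hv, Golay.idx_pt h2, e]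
  · show _ * _ = _ * _
    refine Equiv.ext fun p => Golay.idx_injective ?_
    simp only [gPair, omega12, Equiv.Perm.mul_apply, Golay.idx_permOf hv, Golay.idx_permOf hfv]
    exact (hj _ (Golay.idx_lt p)).2
  · refine Submodule.span_induction (p := fun v _ => (fun p => v ((gPair s).2 p)) ∈ code) ?_ ?_ ?_ ?_ hv'
    · rintro _ ⟨k, rfl⟩
      have e : (fun p => word k ((gPair s).2 p)) = ∑ l : Fin 6, coeff s k l • word l := by
        funext p
        simp only [word, gPair, Golay.idx_permOf hv, Finset.sum_apply, Pi.smul_apply, smul_eq_mul]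
        exact word_ok ⟨s, hs⟩ k ⟨Golay.idx p, Golay.idx_lt p⟩
      rw [e]
      exact Submodule.sum_mem _ fun l _ => Submodule.smul_mem _ _ (Submodule.subset_span ⟨l, rfl⟩)
    · exact Submodule.zero_mem _
    · intro u w _ _ hu hw; exact Submodule.add_mem _ hu hw
    · intro c u _ hu; exact Submodule.smul_mem _ c hu

theorem cover_good : ∀ x ∈ cover, x ∈ Good := by
  intro x hx
  have h1 : x ∈ Submonoid.closure {x | ∃ s < 3, gPair s = x} := by
    rw [← Subgroup.closure_toSubmonoid_of_finite]; exact hx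
  exact (Submonoid.closure_le.2 (by rintro _ ⟨s, hs, rfl⟩; exact gPair_good hs)) h1

/-- The projection. -/
noncomputable def proj : cover →* Cfsg.Spor.M12 :=
  ((MonoidHom.fst Sym Sym).comp cover.subtype).codRestrict _ fun x => (cover_good _ x.2).1

theorem proj_surjective : Function.Surjective proj := by
  intro g
  have hg : (g : Sym) ∈ Golay.Aut.c12.grp := by
    have h := g.2
    simp only [Cfsg.Spor.M12, Subgroup.mem_inf, MulAction.mem_stabilizer_iff] at h
    refine Golay.mem_Fix.2 ⟨h.1, fun m hm => ?_, fun _ hb => absurd hb List.not_mem_nil⟩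
    rw [show Golay.Aut.c12.M = [Golay.Aut.sqMask] from rfl, List.mem_singleton] at hm
    rw [hm, show Golay.pts Golay.Aut.sqMask = Cfsg.Spor.squareDodecad from sq_eq.symm]
    exact h.2
  have hle : Subgroup.closure {Golay.permOf Golay.Aut.c12.A, Golay.permOf Golay.Aut.c12.C,
      Golay.permOf Golay.Aut.c12.T} ≤ cover.map (MonoidHom.fst Sym Sym) := by
    rw [Subgroup.closure_le]
    have hm : ∀ s < 3, Golay.permOf (gP s) ∈ cover.map (MonoidHom.fst Sym Sym) := fun s hs =>
      ⟨_, Subgroup.subset_closure ⟨s, hs, rfl⟩, rfl⟩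
    rintro x (rfl | rfl | rfl)
    · exact hm 0 (by norm_num)
    · exact hm 1 (by norm_num)
    · exact hm 2 (by norm_num)
  obtain ⟨x, hx, he⟩ := hle (Golay.Aut.gen12 hg)
  exact ⟨⟨x, hx⟩, Subtype.ext he⟩

theorem flip_apply_ne (p : Cfsg.GolayPt) : omega12 p ≠ p := by
  intro e
  have hp := points_ok
  simp only [pointsOk, List.all_eq_true, List.mem_range, Bool.and_eq_true, beq_iff_eq,
    Bool.not_eq_true', beq_eq_false_iff_ne] at hp
  have h1 := congrArg Golay.idx e
  rw [omega12, Golay.idx_permOf hp.1.1] at h1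
  exact (hp.2 _ (Golay.idx_lt p)).1.1.2 h1

/-- The kernel of the projection consists of the two scalars. -/
theorem proj_ker {x : cover} (hx : proj x = 1) : (x : Sym × Sym) = 1 ∨ (x : Sym × Sym) = (1, omega12) := by
  obtain ⟨-, hbel, hcom, hcode⟩ := cover_good _ x.2
  have h1 : (x : Sym × Sym).1 = 1 := congrArg Subtype.val hx
  set τ := (x : Sym × Sym).2 with hτ
  have hp := points_ok
  simp only [pointsOk, List.all_eq_true, List.mem_range, Bool.and_eq_true, beq_iff_eq,
    Bool.not_eq_true', beq_eq_false_iff_ne, decide_eq_true_eq, Bool.or_eq_true] at hp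
  obtain ⟨⟨hfv, -⟩, hpt⟩ := hp
  have hlt : ∀ j, j < 24 → dPts.getD (j / 2) 0 < 24 := fun j hj => by
    have := (hpt j hj).1.2
    by_cases hl : j / 2 < dPts.length
    · rw [List.getD_eq_getElem _ _ hl] at this ⊢; exact this
    · rw [List.getD_eq_default _ _ (by omega)] at this; omega
  have hor : ∀ p, τ p = p ∨ τ p = omega12 p := by
    intro p
    have e := congrArg Golay.idx (hbel p)
    rw [h1, Equiv.Perm.one_apply, below, below, Golay.idx_pt (hlt _ (Golay.idx_lt p)),
      Golay.idx_pt (hlt _ (Golay.idx_lt (τ p)))] at e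
    have h2 : Golay.idx p / 2 = Golay.idx (τ p) / 2 :=
      ((hpt _ (Golay.idx_lt (τ p))).2 _ (Golay.idx_lt p)).resolve_left fun h => h e
    obtain ⟨⟨⟨hw, hne⟩, -⟩, -⟩ := hpt _ (Golay.idx_lt p)
    have h3 : Golay.idx (τ p) = Golay.idx p ∨ Golay.idx (τ p) = Golay.get flipP (Golay.idx p) := by omega
    rcases h3 with h3 | h3
    · exact Or.inl (Golay.idx_injective h3)
    · exact Or.inr (Golay.idx_injective (by rw [h3, omega12, Golay.idx_permOf hfv]))
  -- the signs
  let d : Fin 12 → ZMod 3 := fun i => if τ (Golay.pt (2 * i)) = Golay.pt (2 * i) then 1 else -1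
  let W : Fin 6 → Fin 12 → ZMod 3 := fun k i => ((Coset.fld 2 (codeT.getD k 0) (2 * i) : ℕ) : ZMod 3)
  have hWd : ∀ k (i : Fin 12), word k (τ (Golay.pt (2 * i))) = d i * W k i := by
    intro k i
    have hi : 2 * (i : ℕ) < 24 := by have := i.2; omega
    simp only [d]
    split
    · next h => rw [h, one_mul]; simp only [word, W, Golay.idx_pt hi]
    · next h =>
      rw [(hor _).resolve_left h]
      simp only [word, W, omega12, Golay.idx_permOf hfv, Golay.idx_pt hi]
      rw [neg_one_mul]
      exact odd_ok k ⟨2 * i, hi⟩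
  have horth : ∀ k l : Fin 6, ∑ i, d i * (W k i * W l i) = 0 := by
    intro k l
    have key : ∀ u ∈ code, ∑ i : Fin 12, u (Golay.pt (2 * i)) * W l i = 0 := by
      intro u hu
      refine Submodule.span_induction (p := fun u _ => ∑ i : Fin 12, u (Golay.pt (2 * i)) * W l i = 0)
        ?_ ?_ ?_ ?_ hu
      · rintro _ ⟨m, rfl⟩
        have e : ∀ i : Fin 12, word m (Golay.pt (2 * i)) = W m i := fun i => by
          simp only [word, W, Golay.idx_pt (show 2 * (i : ℕ) < 24 by have := i.2; omega)]
        simp only [e]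
        exact dual_ok m l
      · simp
      · intro u w _ _ hu hw; simp [add_mul, Finset.sum_add_distrib, hu, hw]
      · intro c u _ hu; simp [mul_assoc, ← Finset.mul_sum, hu]
    rw [← key _ (hcode _ (Submodule.subset_span ⟨k, rfl⟩))]
    refine Finset.sum_congr rfl fun i _ => ?_
    rw [hWd, mul_assoc]
  have hconst : ∀ i : Fin 12, d i = d 0 := by
    intro i
    by_cases hi0 : i = 0
    · rw [hi0]
    have hi' : (i : ℕ) ≠ 0 := fun h => hi0 (Fin.ext h)
    have hi2 := i.2
    let m : Fin 11 := ⟨i - 1, by omega⟩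
    have e : ∑ j : Fin 12, d j * ((if (j : ℕ) = (m : ℕ) + 1 then 1 else 0) - (if (j : ℕ) = 0 then 1 else 0)) = 0 := by
      simp only [← comb_ok m, Finset.mul_sum]
      rw [Finset.sum_comm]
      refine Finset.sum_eq_zero fun k _ => ?_
      rw [Finset.sum_comm]
      refine Finset.sum_eq_zero fun l _ => ?_
      have := horth k l
      rw [show (∑ j : Fin 12, d j * (combC m k l * (W k j * W l j))) = combC m k l * ∑ j, d j * (W k j * W l j) by
        rw [Finset.mul_sum]; exact Finset.sum_congr rfl fun j _ => by ring, this, mul_zero]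
    simp only [mul_sub, mul_ite, mul_one, mul_zero, Finset.sum_sub_distrib] at e
    rw [sub_eq_zero] at e
    have r1 : ∑ j : Fin 12, (if (j : ℕ) = (m : ℕ) + 1 then d j else 0) = d i := by
      rw [Finset.sum_eq_single i (fun j _ hj => if_neg fun h => hj (Fin.ext (by simp only [m] at h; omega)))
        (fun h => absurd (Finset.mem_univ i) h), if_pos (show (i : ℕ) = (m : ℕ) + 1 by simp only [m]; omega)]
    have r2 : ∑ j : Fin 12, (if (j : ℕ) = 0 then d j else 0) = d 0 := by
      simp [Fin.val_eq_zero_iff, Finset.sum_ite_eq']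
    rw [← r1, e, r2]
  have hom : ∀ p, τ (omega12 p) = omega12 (τ p) := fun p => Equiv.congr_fun hcom.eq p
  -- every point is one of the twelve or its negative
  have hrep : ∀ p, ∃ i : Fin 12, p = Golay.pt (2 * i) ∨ p = omega12 (Golay.pt (2 * i)) := by
    intro p
    have hlt24 := Golay.idx_lt p
    refine ⟨⟨Golay.idx p / 2, by omega⟩, ?_⟩
    have hi : 2 * (Golay.idx p / 2) < 24 := by omega
    obtain ⟨⟨⟨hw, hne⟩, -⟩, -⟩ := hpt _ hi
    rcases Nat.mod_two_eq_zero_or_one (Golay.idx p) with h | h
    · left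
      refine Golay.idx_injective ?_
      rw [Golay.idx_pt hi]
      show Golay.idx p = 2 * (Golay.idx p / 2)
      omega
    · right
      refine Golay.idx_injective ?_
      rw [omega12, Golay.idx_permOf hfv, Golay.idx_pt hi]
      show Golay.idx p = Golay.get flipP (2 * (Golay.idx p / 2))
      omega
  rcases (show d 0 = 1 ∨ d 0 = -1 by simp only [d]; split <;> simp) with h0 | h0
  · left
    refine Prod.ext h1 (Equiv.ext fun p => ?_)
    have hfix : ∀ i : Fin 12, τ (Golay.pt (2 * i)) = Golay.pt (2 * i) := fun i => by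
      have := (hconst i).trans h0
      simp only [d] at this
      split at this
      · assumption
      · exact absurd this (by decide)
    obtain ⟨i, rfl | rfl⟩ := hrep p
    · exact hfix i
    · show τ _ = _; rw [hom, hfix]; rfl
  · right
    refine Prod.ext h1 (Equiv.ext fun p => ?_)
    have hfl : ∀ i : Fin 12, τ (Golay.pt (2 * i)) = omega12 (Golay.pt (2 * i)) := fun i => by
      have := (hconst i).trans h0
      simp only [d] at this
      split at this
      · exact absurd this (by decide)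
      · next h => exact (hor _).resolve_left h
    obtain ⟨i, rfl | rfl⟩ := hrep p
    · exact hfl i
    · show τ _ = _; rw [hom, hfl]

/-- A word in the generating pairs. -/
theorem ev_pair (w : List ℕ) (hw : ∀ s ∈ w, s < 3) :
    Coset.ev gPair w = (Golay.permOf (evP gP w), Golay.permOf (evP gL w)) := by
  have h := gen_ok
  simp only [genOk, List.all_eq_true, List.mem_range, Bool.and_eq_true] at h
  induction w with
  | nil => simp [Coset.ev, evP, Golay.permOf_idP, Prod.one_eq_mk]
  | cons s w ih =>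
    have ht : ∀ t ∈ w, t < 3 := fun t ht => hw t (List.mem_cons_of_mem _ ht)
    obtain ⟨⟨⟨hv, hm⟩, -⟩, -⟩ := h s (hw s (by simp))
    rw [Coset.ev, ih ht, evP, evP, Golay.permOf_comp (inM_sound _ hm).2
      (evP_sound gP w fun t h' => (inM_sound _ (h t (ht t h')).1.1.2).2).1,
      Golay.permOf_comp hv (evP_sound gL w fun t h' => (h t (ht t h')).1.1.1).1]
    rfl

def scalarOk : Bool :=
  let A := evP gP wordS
  let B := evP gP wordT
  let a := evP gL wordS
  let b := evP gL wordT
  (wordS.all fun s => decide (s < 3)) && (wordT.all fun s => decide (s < 3)) &&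
    Golay.valid A && Golay.valid B && Golay.valid a && Golay.valid b &&
    (Golay.comp A B == Golay.comp B A) && (Golay.comp a b == Golay.comp flipP (Golay.comp b a))

theorem scalar_ok : scalarOk = true := by decide +kernel

/-- The projection is a stem extension with kernel of order two. -/
theorem cover_stem : Cfsg.IsStemExtension proj ∧ Nat.card proj.ker = 2 := by
  have h := scalar_ok
  simp only [scalarOk, Bool.and_eq_true, List.all_eq_true, decide_eq_true_eq, beq_iff_eq] at h
  obtain ⟨⟨⟨⟨⟨⟨⟨hS, hT⟩, vA⟩, vB⟩, va⟩, vb⟩, eAB⟩, eab⟩ := h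
  have hgen : ∀ w : List ℕ, (∀ s ∈ w, s < 3) → Coset.ev gPair w ∈ cover := fun w hw =>
    Coset.ev_mem _ fun s hs => Subgroup.subset_closure ⟨s, hw s hs, rfl⟩
  let a : cover := ⟨_, hgen wordS hS⟩
  let b : cover := ⟨_, hgen wordT hT⟩
  have hfv : Golay.valid flipP = true := by decide +kernel
  have hz : ((⁅a, b⁆ : cover) : Sym × Sym) = (1, omega12) := by
    have e : (a : Sym × Sym) * (b : Sym × Sym) =
        ((1, omega12) : Sym × Sym) * ((b : Sym × Sym) * (a : Sym × Sym)) := by
      simp only [a, b, ev_pair _ hS, ev_pair _ hT, Prod.mk_mul_mk, one_mul, omega12, ← Golay.permOf_comp vA vB,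
        ← Golay.permOf_comp vB vA, ← Golay.permOf_comp va vb, ← Golay.permOf_comp vb va,
        ← Golay.permOf_comp hfv (Golay.valid_comp vb va), eAB, eab]
    rw [commutatorElement_def, Subgroup.coe_mul, Subgroup.coe_mul, Subgroup.coe_mul, Subgroup.coe_inv,
      Subgroup.coe_inv, e]
    group
  have hzk : ⁅a, b⁆ ∈ proj.ker := Subtype.ext (by
    show ((⁅a, b⁆ : cover) : Sym × Sym).1 = 1
    rw [hz])
  have hz1 : ⁅a, b⁆ ≠ 1 := fun e => by
    have h1 : ((⁅a, b⁆ : cover) : Sym × Sym) = 1 := by rw [e]; rfl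
    rw [hz] at h1
    exact flip_apply_ne (Golay.pt 0) (Equiv.congr_fun (congrArg Prod.snd h1) _)
  have hker : ∀ x ∈ proj.ker, x = 1 ∨ x = ⁅a, b⁆ := fun x hx => by
    rcases proj_ker hx with h | h
    · exact Or.inl (Subtype.ext h)
    · exact Or.inr (Subtype.ext (h.trans hz.symm))
  have hzc : ⁅a, b⁆ ∈ commutator cover :=
    Subgroup.commutator_mem_commutator (Subgroup.mem_top a) (Subgroup.mem_top b)
  generalize ⁅a, b⁆ = z at hz hzk hz1 hker hzc
  refine ⟨⟨proj_surjective, fun x hx => ?_, fun x hx => ?_⟩, ?_⟩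
  · refine Subgroup.mem_center_iff.2 fun g => ?_
    rcases hker x hx with rfl | rfl
    · simp
    · refine Subtype.ext ?_
      rw [Subgroup.coe_mul, Subgroup.coe_mul, hz]
      exact Prod.ext (by simp) (cover_good _ g.2).2.2.1.eq
  · rcases hker x hx with rfl | rfl
    · exact one_mem _
    · exact hzc
  · have hone : (⟨z, hzk⟩ : proj.ker) ≠ 1 := fun e => hz1 (Subtype.ext_iff.1 e)
    refine (Nat.card_eq_two_iff' (1 : proj.ker)).2 ⟨⟨z, hzk⟩, hone, fun y hy => ?_⟩
    refine Subtype.ext ?_
    rcases hker y.1 y.2 with h | h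
    · exact absurd (Subtype.ext h) hy
    · exact h

theorem multiplier : Cfsg.HasCyclicSchurMultiplier ↥Cfsg.Spor.M12 2 := by
  refine ⟨⟨↥cover, inferInstance, inferInstance, proj, cover_stem.1, ?_⟩, fun Γ _ _ σ hσ => upper Γ σ hσ⟩
  haveI : Fact (Nat.Prime 2) := ⟨Nat.prime_two⟩
  exact ⟨mulEquivOfPrimeCardEq cover_stem.2
    ((Nat.card_congr Multiplicative.toAdd).trans (Nat.card_zmod 2))⟩

end Cfsg.Agent.Spor.Mult.D12
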