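import Cfsg.Prelude.Def_Spor_Mathieu
import Cfsg.Agent.Lib.Spor.MultFinish
import Cfsg.Agent.Lib.Spor.Mult24Data
import Cfsg.Agent.Lib.Spor.Golay.M24Facts

/-! The checks for the multiplier, case 24. -/

set_option autoImplicit false
set_option maxRecDepth 100000
set_option Elab.async false

namespace Cfsg.Agent.Spor.Mult.D24

open Cfsg.Agent.Spor

/-- A packed permutation lying in the group. -/
def inM24 (P : ℕ) : Bool := Golay.inM24 P

theorem inM_sound (P : ℕ) (h : inM24 P = true) : Golay.permOf P ∈ Cfsg.M24 ∧ Golay.valid P = true := by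
  refine ⟨Golay.permOf_mem_M24 h, ?_⟩
  simp only [inM24, Golay.inM24, Bool.and_eq_true] at h
  exact h.1

theorem card_group : Nat.card ↥Cfsg.M24 = 244823040 := Golay.card_M24

theorem checkA_ok : two.checkA inM24 = true := by decide +kernel

theorem checkB_ok : two.checkB inM24 = true := by decide +kernel

theorem cert_ok : cert.check = true := by decide +kernel

theorem tbl_ok : tbl.check = true := by decide +kernel

theorem small_ok : (threeTbl.check && fiveTbl.check && sevenTbl.check && elevenTbl.check && twentyThreeTbl.check) = true := by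
  decide +kernel

theorem gens_ok : ((exCheck inM24 (threeTbl.genOf 0) (threeTbl.genOf 1) threeG) && inM24 (fiveTbl.genOf 0) &&
    inM24 (sevenTbl.genOf 0) && inM24 (elevenTbl.genOf 0) && inM24 (twentyThreeTbl.genOf 0)) = true := by
  decide +kernel

theorem multiplier : Cfsg.HasCyclicSchurMultiplier ↥Cfsg.M24 1 := by
  refine trivial_of_prime fun p hp Δ _ _ σ hσ hexp => ker_eq_bot σ hσ fun q hq hqdvd => ?_
  have hqp : q = p := by
    have : Fact q.Prime := ⟨hq⟩
    obtain ⟨z, hz⟩ := exists_prime_orderOf_dvd_card' q hqdvd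
    have h1 : orderOf (z : Δ) ∣ p := orderOf_dvd_of_pow_eq_one (hexp _ z.2)
    rw [Subgroup.orderOf_coe, hz] at h1
    exact (Nat.prime_dvd_prime_iff_eq hq hp).1 h1
  subst hqp
  have hs := small_ok
  simp only [Bool.and_eq_true] at hs
  obtain ⟨⟨⟨⟨s3, s5⟩, s7⟩, s11⟩, s23⟩ := hs
  have hg := gens_ok
  simp only [Bool.and_eq_true] at hg
  obtain ⟨⟨⟨⟨g3, g5⟩, g7⟩, g11⟩, g23⟩ := hg
  by_cases h2 : q = 2
  · subst h2
    refine two_no_ker ⟨hσ.1, hσ.2.1, fun z hz => by rw [← sq]; exact hexp z hz⟩ two inM24 inM_sound checkA_ok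
      checkB_ok cert cert_ok rfl rfl rfl tbl tbl_ok rfl rfl ?_
    rw [card_group]; decide +kernel
  by_cases h3 : q = 3
  · subst h3
    exact three_part_ex hσ.1 hσ.2.1 inM24 inM_sound g3 threeTbl s3 rfl (by rw [card_group]; decide +kernel)
  by_cases h5 : q = 5
  · subst h5
    exact cyclic_part hσ.1 hσ.2.1 inM24 inM_sound hq g5 fiveTbl s5 rfl (by rw [card_group]; decide +kernel)
  by_cases h7 : q = 7
  · subst h7
    exact cyclic_part hσ.1 hσ.2.1 inM24 inM_sound hq g7 sevenTbl s7 rfl (by rw [card_group]; decide +kernel)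
  by_cases h11 : q = 11
  · subst h11
    exact cyclic_part hσ.1 hσ.2.1 inM24 inM_sound hq g11 elevenTbl s11 rfl (by rw [card_group]; decide +kernel)
  by_cases h23 : q = 23
  · subst h23
    exact cyclic_part hσ.1 hσ.2.1 inM24 inM_sound hq g23 twentyThreeTbl s23 rfl (by rw [card_group]; decide +kernel)
  -- no other prime divides the order
  refine ⟨⊥, ?_, fun z hz hzo hmem => no_elt_of_comm _ ?_ hq hzo hmem⟩
  · rw [Subgroup.index_bot, card_group]
    intro hd
    have hf : (244823040 : ℕ) = 2 ^ 10 * 3 ^ 3 * 5 * 7 * 11 * 23 := by norm_num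
    rw [hf] at hd
    have pr : ∀ r : ℕ, r.Prime → ∀ k, q ∣ r ^ k → q = r := fun r hr k h =>
      (Nat.prime_dvd_prime_iff_eq hq hr).1 (hq.dvd_of_dvd_pow h)
    rcases (Nat.Prime.dvd_mul hq).1 hd with hd | hd
    · rcases (Nat.Prime.dvd_mul hq).1 hd with hd | hd
      · rcases (Nat.Prime.dvd_mul hq).1 hd with hd | hd
        · rcases (Nat.Prime.dvd_mul hq).1 hd with hd | hd
          · rcases (Nat.Prime.dvd_mul hq).1 hd with hd | hd
            · exact h2 (pr 2 Nat.prime_two _ hd)
            · exact h3 (pr 3 Nat.prime_three _ hd)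
          · exact h5 ((Nat.prime_dvd_prime_iff_eq hq (by norm_num)).1 hd)
        · exact h7 ((Nat.prime_dvd_prime_iff_eq hq (by norm_num)).1 hd)
      · exact h11 ((Nat.prime_dvd_prime_iff_eq hq (by norm_num)).1 hd)
    · exact h23 ((Nat.prime_dvd_prime_iff_eq hq (by norm_num)).1 hd)
  · intro u hu v hv
    rw [MonoidHom.comap_bot] at hv
    exact Subgroup.mem_center_iff.1 (hσ.2.1 hv) u

end Cfsg.Agent.Spor.Mult.D24
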