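import Cfsg.Agent.Lib.Spor.MultCore
import Cfsg.Agent.Lib.Spor.Golay.Perm

/-!
Certificates for subgroups of `M₂₄` as packed permutations, and the two-part of a trivial multiplier.
-/

set_option autoImplicit false
set_option linter.style.haveILetI false
set_option linter.unusedSectionVars false

open scoped commutatorElement

namespace Cfsg.Agent.Spor.Mult

open Cfsg.Agent.Spor

/-- A complete invariant of a permutation of the points. -/
def key (x : Equiv.Perm Cfsg.GolayPt) : ℕ := Golay.pack 24 fun i => Golay.idx (x (Golay.pt i))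

theorem pack_congr : ∀ n : ℕ, ∀ f g : ℕ → ℕ, (∀ i, i < n → f i = g i) → Golay.pack n f = Golay.pack n g := by
  intro n
  induction n with
  | zero => intros; rfl
  | succ n ih =>
    intro f g hfg
    simp only [Golay.pack]
    first
      | rw [hfg n (by omega), ih f g fun i hi => hfg i (by omega)]
      | rw [hfg 0 (by omega), ih _ _ fun i hi => hfg (i + 1) (by omega)]

theorem key_permOf {P : ℕ} (h : Golay.valid P = true) : key (Golay.permOf P) = Golay.pack 24 (Golay.get P) :=
  pack_congr 24 _ _ fun i hi => by rw [Golay.idx_permOf h, Golay.idx_pt hi]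

/-- Canonical packed permutation. -/
def canon (P : ℕ) : Bool := Golay.valid P && (Golay.pack 24 (Golay.get P) == P)

theorem canon_inj {P Q : ℕ} (hP : canon P = true) (hQ : canon Q = true) (h : Golay.permOf P = Golay.permOf Q) :
    P = Q := by
  simp only [canon, Bool.and_eq_true, beq_iff_eq] at hP hQ
  rw [← hP.2, ← hQ.2, ← key_permOf hP.1, ← key_permOf hQ.1, h]

/-- A complete listing of a generated subgroup. -/
structure PTbl where
  N : ℕ
  gens : List ℕ
  elt : ℕ → ℕ
  tgt : ℕ → ℕ → ℕ
  par : ℕ → ℕ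
  ord : ℕ → ℕ

namespace PTbl

variable (T : PTbl)

def genOf (s : ℕ) : ℕ := T.gens.getD s 0

def okAt (i : ℕ) : Bool :=
  canon (T.elt i) && decide (T.ord i < T.N) &&
    (decide (i + 1 = T.N) || decide (T.elt (T.ord i) < T.elt (T.ord (i + 1)))) &&
    ((i == 0) || (decide (T.par i / T.gens.length < i) &&
      (T.elt i == Golay.comp (T.elt (T.par i / T.gens.length)) (T.genOf (T.par i % T.gens.length))))) &&
    (List.range T.gens.length).all fun s =>
      decide (T.tgt i s < T.N) && (T.elt (T.tgt i s) == Golay.comp (T.elt i) (T.genOf s))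

def check : Bool :=
  decide (0 < T.N) && (T.elt 0 == Golay.idP) && (T.gens.all Golay.valid) && (List.range T.N).all T.okAt

theorem card_closure (h : T.check = true) :
    Nat.card ↥(Subgroup.closure {x | ∃ P ∈ T.gens, Golay.permOf P = x}) = T.N := by
  simp only [check, Bool.and_eq_true, decide_eq_true_eq, List.all_eq_true, List.mem_range, beq_iff_eq] at h
  obtain ⟨⟨⟨hN, h0⟩, hg⟩, hok⟩ := h
  simp only [okAt, Bool.and_eq_true, decide_eq_true_eq, List.all_eq_true, List.mem_range, beq_iff_eq,
    Bool.or_eq_true] at hok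
  set H := Subgroup.closure {x | ∃ P ∈ T.gens, Golay.permOf P = x}
  have hgen : ∀ s, s < T.gens.length → T.genOf s ∈ T.gens := fun s hs => by
    rw [genOf, List.getD_eq_getElem _ _ hs]; exact List.getElem_mem hs
  have hv : ∀ i, i < T.N → Golay.valid (T.elt i) = true := fun i hi => by
    have := (hok i hi).1.1.1.1
    simp only [canon, Bool.and_eq_true] at this
    exact this.1
  have hmem : ∀ i, i < T.N → Golay.permOf (T.elt i) ∈ H := by
    intro i
    induction i using Nat.strong_induction_on with
    | _ i ih =>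
      intro hi
      rcases (hok i hi).1.2 with h' | ⟨h1, h2⟩
      · rw [h', h0, Golay.permOf_idP]; exact one_mem _
      · have hlen : 0 < T.gens.length := by
          rcases Nat.eq_zero_or_pos T.gens.length with e | e
          · have h3 : T.gens = [] := List.eq_nil_of_length_eq_zero e
            have h4 := (hok i hi).2
            exfalso
            have hs : T.genOf (T.par i % T.gens.length) = 0 := by simp [genOf, h3]
            have h5 := hv i hi
            rw [h2, hs] at h5
            exact absurd h5 (by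
              simp only [Golay.valid_iff]
              rintro ⟨hsurj, -⟩
              obtain ⟨a, ha, hae⟩ := hsurj 0 (by norm_num)
              obtain ⟨b, hb, hbe⟩ := hsurj 1 (by norm_num)
              have g0 : ∀ j, Golay.get 0 j = 0 := fun j => by simp [Golay.get]
              rw [Golay.get_comp _ _ ha, g0] at hae
              rw [Golay.get_comp _ _ hb, g0] at hbe
              omega)
          · exact e
        have hs := Nat.mod_lt (T.par i) hlen
        rw [h2, Golay.permOf_comp (hv _ (by omega)) (hg _ (hgen _ hs))]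
        exact mul_mem (ih _ h1 (by omega)) (Subgroup.subset_closure ⟨_, hgen _ hs, rfl⟩)
  let f : Fin T.N → H := fun i => ⟨Golay.permOf (T.elt i), hmem i i.2⟩
  have hsurj : Function.Surjective f := by
    rintro ⟨x, hx⟩
    have step : ∀ P ∈ T.gens, ∀ y, (∃ i < T.N, Golay.permOf (T.elt i) = y) →
        ∃ i < T.N, Golay.permOf (T.elt i) = y * Golay.permOf P := by
      rintro P hP y ⟨i, hi, rfl⟩
      obtain ⟨s, hs, rfl⟩ := List.getElem_of_mem hP
      obtain ⟨h1, h2⟩ := (hok i hi).2 s hs
      refine ⟨_, h1, ?_⟩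
      rw [h2, genOf, List.getD_eq_getElem _ _ hs, Golay.permOf_comp (hv i hi) (hg _ hP)]
    suffices ∀ y, (∃ i < T.N, Golay.permOf (T.elt i) = y) → ∃ i < T.N, Golay.permOf (T.elt i) = y * x by
      obtain ⟨i, hi, e⟩ := this 1 ⟨0, hN, by rw [h0, Golay.permOf_idP]⟩
      exact ⟨⟨i, hi⟩, Subtype.ext (by simpa [f] using e)⟩
    refine Subgroup.closure_induction (p := fun a _ => ∀ y, (∃ i < T.N, Golay.permOf (T.elt i) = y) →
      ∃ i < T.N, Golay.permOf (T.elt i) = y * a) ?_ ?_ ?_ ?_ hx
    · rintro a ⟨P, hP, rfl⟩ y hy; exact step P hP y hy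
    · intro y hy; simpa using hy
    · intro a b _ _ ha hb y hy; rw [← mul_assoc]; exact hb _ (ha y hy)
    · intro a _ ha
      have key : ∀ n : ℕ, ∀ y, (∃ i < T.N, Golay.permOf (T.elt i) = y) →
          ∃ i < T.N, Golay.permOf (T.elt i) = y * a ^ n := by
        intro n
        induction n with
        | zero => intro y hy; simpa using hy
        | succ n ih => intro y hy; rw [pow_succ, ← mul_assoc]; exact ha _ (ih y hy)
      have hinv : a⁻¹ = a ^ (orderOf a - 1) := by
        refine inv_eq_of_mul_eq_one_left ?_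
        rw [← pow_succ, Nat.sub_add_cancel (orderOf_pos a), pow_orderOf_eq_one]
      rw [hinv]
      exact key _
  refine le_antisymm ((Nat.card_le_card_of_surjective f hsurj).trans_eq (by simp)) ?_
  have hord : ∀ i < T.N, T.ord i < T.N := fun i hi => (hok i hi).1.1.1.2
  let g : Fin T.N → H := fun i => f ⟨T.ord i, hord i i.2⟩
  have hmono : ∀ i j, i < j → j < T.N → T.elt (T.ord i) < T.elt (T.ord j) := by
    intro i j hij hj
    induction hij with
    | refl => exact ((hok i (by omega)).1.1.2).resolve_left (by omega)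
    | @step k hk ih => exact (ih (by omega)).trans (((hok k (by omega)).1.1.2).resolve_left (by omega))
  have hinj : Function.Injective g := fun i j e => by
    have e' := canon_inj (hok _ (hord i i.2)).1.1.1.1 (hok _ (hord j j.2)).1.1.1.1 (congrArg Subtype.val e)
    rcases lt_trichotomy (i : ℕ) j with h' | h' | h'
    · exact absurd e' (hmono _ _ h' j.2).ne
    · exact Fin.ext h'
    · exact absurd e'.symm (hmono _ _ h' i.2).ne
  simpa using Nat.card_le_card_of_injective g hinj

end PTbl

/-- Evaluation of a word of packed permutations. -/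
def evP (g : ℕ → ℕ) : List ℕ → ℕ
  | [] => Golay.idP
  | s :: w => Golay.comp (g s) (evP g w)

theorem evP_sound (g : ℕ → ℕ) : ∀ w : List ℕ, (∀ s ∈ w, Golay.valid (g s) = true) →
    Golay.valid (evP g w) = true ∧ Golay.permOf (evP g w) = Coset.ev (fun s => Golay.permOf (g s)) w
  | [], _ => ⟨Golay.valid_idP, Golay.permOf_idP⟩
  | s :: w, h => by
    obtain ⟨h1, h2⟩ := evP_sound g w fun t ht => h t (List.mem_cons_of_mem _ ht)
    refine ⟨Golay.valid_comp (h s (List.mem_cons_self ..)) h1, ?_⟩
    rw [evP, Coset.ev, Golay.permOf_comp (h s (List.mem_cons_self ..)) h1, h2]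

/-- Data for the two part. -/
structure Two where
  /-- representatives of the involution classes -/
  sA : ℕ
  sB : ℕ
  /-- conjugators `(w, g, isB)` -/
  conj : List (ℕ × ℕ × Bool)
  /-- pure triple -/
  tA : ℕ × ℕ × ℕ
  /-- triple whose last member alone is of the second kind -/
  tB : ℕ × ℕ × ℕ
  /-- the sixteen elements of `V` -/
  V : List ℕ
  /-- basis of `V` and preimages under the bracket with the first element -/
  basis : List ℕ
  pre : List ℕ
  /-- fixed-point-free elements: the first, and one chain for each complement generator -/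
  g0 : ℕ
  chains : List (List ℕ)
  /-- complement generators, conjugation words, squared words -/
  ugens : List ℕ
  img : List (List (List ℕ))
  sq : List (List ℕ)

namespace Two

variable (D : Two)

def gens : List ℕ := D.basis ++ D.ugens

def gen (s : ℕ) : ℕ := D.gens.getD s Golay.idP

def r1 : List (List ℕ) := (List.range (4 + D.ugens.length)).map fun s => [s, s]

def r2 : List (List ℕ) :=
  (List.range 4).flatMap fun i => ((List.range 4).filter fun j => decide (i < j)).map fun j => [i, j, i, j]

def r3 : List (List ℕ) :=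
  (List.range D.ugens.length).flatMap fun u => (List.range 4).map fun i =>
    [4 + u, i, 4 + u] ++ (D.img.getD u []).getD i []

def r4 : List (List ℕ) := D.sq.map fun w => (w.map (4 + ·)) ++ (w.map (4 + ·))

/-- The relators. -/
def rels : List (List ℕ) := D.r1 ++ r2 ++ D.r3 ++ D.r4

def good (isB : Bool) (P : ℕ) : Bool :=
  (P == Golay.idP) || D.conj.any fun c => (c.1 == P) && (c.2.2 == false || isB)

def brk (g x : ℕ) : ℕ := Golay.comp (Golay.comp (Golay.comp g x) (Golay.comp g g)) x

def fpfOk (g : ℕ) : Bool :=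
  Golay.valid g && (Golay.comp g (Golay.comp g g) == Golay.idP) &&
    (D.V.all fun x => D.V.contains (Golay.comp (Golay.comp g x) (Golay.comp g g))) &&
    (D.V.all fun v => D.V.any fun x => brk g x == v) && decide ((D.V.map (brk g)).Nodup)

def tripleOk (t : ℕ × ℕ × ℕ) : Bool :=
  let (a, b, c) := t
  ([a, b, c].all fun x => Golay.valid x && (Golay.comp x x == Golay.idP)) &&
    (Golay.comp a b == Golay.comp b a) && (Golay.comp a c == Golay.comp c a) && (Golay.comp b c == Golay.comp c b)

def seven (t : ℕ × ℕ × ℕ) : List ℕ :=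
  let (a, b, c) := t
  [a, b, c, Golay.comp a b, Golay.comp a c, Golay.comp b c, Golay.comp (Golay.comp a b) c]

def linkOk : List ℕ → Bool
  | [] => true
  | [_] => true
  | a :: b :: l => (Golay.comp a b == Golay.comp b a) && linkOk (b :: l)

def checkA (inM : ℕ → Bool) : Bool :=
  inM D.sA && Golay.valid D.sA && (Golay.comp D.sA D.sA == Golay.idP) &&
    (D.conj.all fun c => canon c.1 && inM c.1 && inM c.2.1 && Golay.valid c.2.1 &&
      (Golay.comp c.2.1 (if c.2.2 then D.sB else D.sA) == Golay.comp c.1 c.2.1)) &&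
    tripleOk D.tA && ((seven D.tA).all fun x => inM x && D.good false x && (x != Golay.idP)) &&
    (D.conj.all (fun c => c.2.2 == false) || (inM D.sB && Golay.valid D.sB && tripleOk D.tB &&
      (D.tB.2.2 == D.sB) && inM D.tB.1 && inM D.tB.2.1 &&
      (([D.tB.1, D.tB.2.1] ++ (seven D.tB).drop 3).all fun x => inM x && D.good false x)))

def checkB (inM : ℕ → Bool) : Bool :=
  (D.V.all fun v => canon v && inM v && D.good true v) && D.V.contains Golay.idP &&
    (D.V.all fun x => D.V.all fun y => D.V.contains (Golay.comp x y)) &&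
    decide (D.basis.length = 4) && decide (D.pre.length = 4) &&
    ((List.range 4).all fun i => D.V.contains (D.gen i) && D.V.contains (D.pre.getD i 0) &&
      (brk D.g0 (D.pre.getD i 0) == D.gen i)) &&
    D.fpfOk D.g0 && inM D.g0 &&
    (D.ugens.all fun u => canon u && inM u && D.good true u) &&
    decide (D.chains.length = D.ugens.length) && decide (D.img.length = D.ugens.length) &&
    ((List.range D.ugens.length).all fun k =>
      let u := D.gen (4 + k)
      let ch := D.chains.getD k []
      (ch.all fun g => D.fpfOk g && inM g) && linkOk (D.g0 :: ch) &&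
        (ch.getLast? == some (Golay.comp (Golay.comp u D.g0) u)) &&
        (D.V.all fun x => D.V.contains (Golay.comp (Golay.comp u x) u)) &&
        (List.range 4).all fun i =>
          let js := (D.img.getD k []).getD i []
          (js.all fun j => decide (j < 4)) &&
            (evP D.gen js == Golay.comp (Golay.comp u (D.gen i)) u)) &&
    (D.sq.all fun w => (w.all fun s => decide (s < D.ugens.length)) &&
      D.good true (evP D.gen (w.map (4 + ·))))

end Two

section Sound

variable {Δ : Type*} [Group Δ] [Finite Δ] {M : Subgroup (Equiv.Perm Cfsg.GolayPt)} {σ : Δ →* M}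

set_option maxHeartbeats 1600000 in
theorem two_no_ker (H : TwoExt σ) (D : Two) (inM : ℕ → Bool)
    (hM : ∀ P, inM P = true → Golay.permOf P ∈ M ∧ Golay.valid P = true)
    (hA : D.checkA inM = true) (hB : D.checkB inM = true) (C : Coset.Cert) (hC : C.check = true)
    (hCn : C.n = 4 + D.ugens.length) (hCr : C.rels = D.rels) (hCs : C.sub = [])
    (T : PTbl) (hT : T.check = true) (hTg : T.gens = D.gens) (hTN : T.N = C.N) (hidx : Odd (Nat.card M / T.N)) :
    ∃ Q : Subgroup M, ¬ 2 ∣ Q.index ∧ ∀ z ∈ σ.ker, orderOf z = 2 → z ∈ ⁅Q.comap σ, Q.comap σ⁆ → False := by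
  classical
  simp only [Two.checkA, Bool.and_eq_true, List.all_eq_true, beq_iff_eq, Bool.or_eq_true] at hA
  obtain ⟨⟨⟨⟨⟨⟨hsA, hsAv⟩, hsA2⟩, hconj⟩, htA⟩, htA7⟩, htB⟩ := hA
  simp only [Two.checkB, Bool.and_eq_true, List.all_eq_true, decide_eq_true_eq, List.mem_range,
    List.contains_iff_mem, beq_iff_eq] at hB
  obtain ⟨⟨⟨⟨⟨⟨⟨⟨⟨⟨⟨⟨hV, hV1⟩, hVmul⟩, hbl⟩, hpl⟩, hbas⟩, hg0⟩, hg0M⟩, hu⟩, hchl⟩, himl⟩, hk⟩, hsq⟩ := hB
  -- packed permutations as elements of `M`
  let el : ℕ → M := fun P => if h : Golay.permOf P ∈ M then ⟨Golay.permOf P, h⟩ else 1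
  have el_val : ∀ {P}, inM P = true → ((el P : M) : Equiv.Perm Cfsg.GolayPt) = Golay.permOf P := fun {P} h => by
    simp [el, (hM P h).1]
  have el_mem : ∀ {P Q}, inM P = true → inM Q = true → Golay.permOf (Golay.comp P Q) ∈ M := fun {P Q} hP hQ => by
    rw [Golay.permOf_comp (hM P hP).2 (hM Q hQ).2]; exact mul_mem (hM P hP).1 (hM Q hQ).1
  have el_eq : ∀ {R} {x : M}, Golay.permOf R = (x : Equiv.Perm Cfsg.GolayPt) → el R = x := fun {R x} e => by
    refine Subtype.ext ?_
    simp only [el, dif_pos (show Golay.permOf R ∈ M from e ▸ x.2)]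
    exact e
  have el_mul : ∀ {P Q}, inM P = true → inM Q = true → el (Golay.comp P Q) = el P * el Q := fun {P Q} hP hQ =>
    el_eq (by rw [Golay.permOf_comp (hM P hP).2 (hM Q hQ).2, Subgroup.coe_mul, el_val hP, el_val hQ])
  have el_one : el Golay.idP = 1 := el_eq (by rw [Golay.permOf_idP]; rfl)
  -- the first class
  have sAinv : el D.sA * el D.sA = 1 := by rw [← el_mul hsA hsA, hsA2, el_one]
  have conjA : ∀ x, inM x = true → D.good false x = true → x ≠ Golay.idP → ∃ g, g * el D.sA = el x * g := by
    intro x hx hg hne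
    simp only [Two.good, Bool.or_eq_true, beq_iff_eq, List.any_eq_true, Bool.and_eq_true] at hg
    obtain ⟨⟨w, g, b⟩, hc, hw, hb⟩ := hg.resolve_left hne
    obtain ⟨⟨⟨⟨-, hw'⟩, hgM⟩, -⟩, he⟩ := hconj _ hc
    simp only [Bool.false_eq_true, or_false] at hb
    subst hw hb
    simp only [Bool.false_eq_true, if_false] at he
    exact ⟨el g, by rw [← el_mul hgM hsA, ← el_mul hw' hgM, he]⟩
  have hA1 : Inv1 σ (el D.sA) := by
    generalize htA' : D.tA = t at htA htA7
    obtain ⟨a, b, c⟩ := t
    simp only [Two.tripleOk, List.all_eq_true, Bool.and_eq_true, beq_iff_eq] at htA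
    obtain ⟨⟨⟨hsq3, hab⟩, hac⟩, hbc⟩ := htA
    have ma := (htA7 a (by simp [Two.seven])).1.1
    have mb := (htA7 b (by simp [Two.seven])).1.1
    have mc := (htA7 c (by simp [Two.seven])).1.1
    have mab := (htA7 (Golay.comp a b) (by simp [Two.seven])).1.1
    refine H.inv1_pure sAinv (a := el a) (b := el b) (c := el c)
      (by rw [← el_mul ma ma, (hsq3 a (by simp)).2, el_one]) (by rw [← el_mul mb mb, (hsq3 b (by simp)).2, el_one])
      (by rw [← el_mul mc mc, (hsq3 c (by simp)).2, el_one])
      (show _ = _ by rw [← el_mul ma mb, ← el_mul mb ma, hab]) (show _ = _ by rw [← el_mul ma mc, ← el_mul mc ma, hac])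
      (show _ = _ by rw [← el_mul mb mc, ← el_mul mc mb, hbc]) fun y hy => ?_
    obtain ⟨x, hx, rfl⟩ : ∃ x ∈ Two.seven (a, b, c), el x = y := by
      simp only [← el_mul ma mb, ← el_mul ma mc, ← el_mul mb mc, ← el_mul mab mc, List.mem_cons,
        List.not_mem_nil, or_false] at hy
      simp only [Two.seven, List.mem_cons, List.not_mem_nil, or_false, exists_eq_or_imp, exists_eq_left]
      rcases hy with rfl | rfl | rfl | rfl | rfl | rfl | rfl <;> simp
    exact conjA x (htA7 x hx).1.1 (htA7 x hx).1.2 (by simpa using (htA7 x hx).2)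
  have inv_idP : Inv1 σ (el Golay.idP) := by rw [el_one]; exact H.inv1_one
  have goodA : ∀ x, inM x = true → D.good false x = true → Inv1 σ (el x) := by
    intro x hx hg
    by_cases hne : x = Golay.idP
    · rw [hne]; exact inv_idP
    · obtain ⟨g, hg⟩ := conjA x hx hg hne; exact H.inv1_conj hA1 hg
  have hB1 : ∀ c ∈ D.conj, c.2.2 = true → Inv1 σ (el D.sB) ∧ inM D.sB = true := by
    intro c hc hcb
    obtain ⟨⟨⟨⟨⟨⟨hsB, -⟩, htB'⟩, hlast⟩, hm1⟩, hm2⟩, hrest⟩ :=
      htB.resolve_left fun hall => by have := hall c hc; simp [hcb] at this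
    refine ⟨?_, hsB⟩
    generalize htB'' : D.tB = t at htB' hlast hm1 hm2 hrest
    obtain ⟨a, b, e⟩ := t
    simp only at hlast hm1 hm2
    subst hlast
    simp only [Two.tripleOk, List.all_eq_true, Bool.and_eq_true, beq_iff_eq] at htB'
    obtain ⟨⟨⟨hsq3, hab⟩, hac⟩, hbc⟩ := htB'
    have hr : ∀ x ∈ [a, b, Golay.comp a b, Golay.comp a D.sB, Golay.comp b D.sB,
        Golay.comp (Golay.comp a b) D.sB], Inv1 σ (el x) := fun x hx => by
      have := hrest x (by simpa [Two.seven] using hx)
      exact goodA x this.1 this.2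
    have mab := (hrest (Golay.comp a b) (by simp [Two.seven])).1
    refine H.inv1_seventh (a := el a) (b := el b) (hr a (by simp)) (hr b (by simp))
      (by rw [← el_mul hm1 hm2]; exact hr _ (by simp)) (by rw [← el_mul hm1 hsB]; exact hr _ (by simp))
      (by rw [← el_mul hm2 hsB]; exact hr _ (by simp))
      (by rw [← el_mul hm1 hm2, ← el_mul mab hsB]; exact hr _ (by simp))
      (by rw [← el_mul hm1 hm1, (hsq3 a (by simp)).2, el_one]) (by rw [← el_mul hm2 hm2, (hsq3 b (by simp)).2, el_one])
      (by rw [← el_mul hsB hsB, (hsq3 D.sB (by simp)).2, el_one])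
      (show _ = _ by rw [← el_mul hm1 hm2, ← el_mul hm2 hm1, hab])
      (show _ = _ by rw [← el_mul hm1 hsB, ← el_mul hsB hm1, hac])
      (show _ = _ by rw [← el_mul hm2 hsB, ← el_mul hsB hm2, hbc])
  have goodI : ∀ x, inM x = true → D.good true x = true → Inv1 σ (el x) := by
    intro x hx hg
    by_cases hne : x = Golay.idP
    · rw [hne]; exact inv_idP
    simp only [Two.good, Bool.or_eq_true, beq_iff_eq, List.any_eq_true, Bool.and_eq_true] at hg
    obtain ⟨⟨w, g, b⟩, hc, hw, -⟩ := hg.resolve_left hne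
    obtain ⟨⟨⟨⟨-, hw'⟩, hgM⟩, -⟩, he⟩ := hconj _ hc
    subst hw
    cases b
    · simp only [Bool.false_eq_true, if_false] at he
      exact H.inv1_conj hA1 (g := el g) (by rw [← el_mul hgM hsA, ← el_mul hw' hgM, he])
    · obtain ⟨h1, h2⟩ := hB1 _ hc rfl
      simp only [if_true] at he
      exact H.inv1_conj h1 (g := el g) (by rw [← el_mul hgM h2, ← el_mul hw' hgM, he])
  -- the set `V`
  let Vs : Set M := {x | ∃ P ∈ D.V, el P = x}
  have vM : ∀ P ∈ D.V, inM P = true := fun P hP => (hV P hP).1.2
  have vI : ∀ P ∈ D.V, Inv1 σ (el P) := fun P hP => goodI P (vM P hP) (hV P hP).2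
  have el_inj : ∀ {P Q}, P ∈ D.V → Q ∈ D.V → el P = el Q → P = Q := fun {P Q} hP hQ e =>
    canon_inj (hV P hP).1.1 (hV Q hQ).1.1 (by rw [← el_val (vM P hP), ← el_val (vM Q hQ), e])
  have vsq : ∀ P ∈ D.V, el P * el P = 1 := fun P hP => by
    obtain ⟨s, hs⟩ := H.surj (el P)
    rw [← hs, ← map_mul, vI P hP s hs, map_one]
  have brk_el : ∀ g, inM g = true → el g * el g * el g = 1 → ∀ P ∈ D.V,
      Golay.permOf (Two.brk g P) = ((⁅el g, el P⁆ : M) : Equiv.Perm Cfsg.GolayPt) := by
    intro g hg h3 P hP
    have vg := (hM g hg).2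
    have vP := (hM P (vM P hP)).2
    rw [commutatorElement_def, inv_eq_of_mul_eq_one_right (show el g * (el g * el g) = 1 by rw [← mul_assoc]; exact h3),
      inv_eq_of_mul_eq_one_right (vsq P hP), Two.brk, Golay.permOf_comp (Golay.valid_comp (Golay.valid_comp vg vP)
        (Golay.valid_comp vg vg)) vP, Golay.permOf_comp (Golay.valid_comp vg vP) (Golay.valid_comp vg vg),
      Golay.permOf_comp vg vP, Golay.permOf_comp vg vg]
    simp only [Subgroup.coe_mul, el_val hg, el_val (vM P hP)]
  have g3 : ∀ g, inM g = true → Golay.comp g (Golay.comp g g) = Golay.idP → el g * el g * el g = 1 := by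
    intro g hg he
    refine Subtype.ext ?_
    rw [Subgroup.coe_mul, Subgroup.coe_mul, el_val hg, mul_assoc, ← Golay.permOf_comp (hM g hg).2 (hM g hg).2,
      ← Golay.permOf_comp (hM g hg).2 (Golay.valid_comp (hM g hg).2 (hM g hg).2), he, Golay.permOf_idP]
    rfl
  have fpf : ∀ g, inM g = true → D.fpfOk g = true → Fpf σ Vs (el g) := by
    intro g hg hf
    simp only [Two.fpfOk, Bool.and_eq_true, List.all_eq_true, List.any_eq_true, beq_iff_eq,
      List.contains_iff_mem, decide_eq_true_eq] at hf
    obtain ⟨⟨⟨⟨-, h3⟩, hmap⟩, hsur⟩, hnd⟩ := hf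
    have e3 := g3 g hg h3
    have vg := (hM g hg).2
    refine ⟨?_, ?_, ?_, ?_, ?_⟩
    · rintro _ ⟨P, hP, rfl⟩ _ ⟨Q, hQ, rfl⟩
      exact ⟨_, hVmul P hP Q hQ, el_mul (vM P hP) (vM Q hQ)⟩
    · rintro _ ⟨P, hP, rfl⟩; exact vI P hP
    · rintro _ ⟨P, hP, rfl⟩
      refine ⟨_, hmap P hP, el_eq ?_⟩
      rw [Golay.permOf_comp (Golay.valid_comp vg (hM P (vM P hP)).2) (Golay.valid_comp vg vg),
        Golay.permOf_comp vg (hM P (vM P hP)).2, Golay.permOf_comp vg vg,
        inv_eq_of_mul_eq_one_right (show el g * (el g * el g) = 1 by rw [← mul_assoc]; exact e3)]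
      simp only [Subgroup.coe_mul, el_val hg, el_val (vM P hP)]
    · rintro _ ⟨P, hP, rfl⟩
      obtain ⟨Q, hQ, hQP⟩ := hsur P hP
      exact ⟨el Q, ⟨Q, hQ, rfl⟩, (el_eq (by rw [← hQP]; exact brk_el g hg e3 Q hQ)).symm⟩
    · rintro _ ⟨P, hP, rfl⟩ _ ⟨Q, hQ, rfl⟩ e
      have hQP : Golay.permOf (Two.brk g P) = Golay.permOf (Two.brk g Q) := by
        rw [brk_el g hg e3 P hP, brk_el g hg e3 Q hQ, e]
      have : P = Q := by
        have hb : Two.brk g P = Two.brk g Q := by
          have hmem : ∀ X ∈ D.V, Two.brk g X ∈ D.V := by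
            intro X hX
            have h1 := hVmul _ (hmap X hX) X hX
            exact h1
          exact canon_inj (hV _ (hmem P hP)).1.1 (hV _ (hmem Q hQ)).1.1 hQP
        exact (List.inj_on_of_nodup_map hnd) hP hQ hb
      rw [this]
  have F0 := fpf D.g0 hg0M hg0
  -- generators of the section
  let q : ℕ → M := fun i => el (D.pre.getD i 0)
  have hq : ∀ i < 4, q i ∈ Vs := fun i hi => ⟨_, (hbas i hi).1.2, rfl⟩
  have hgenV : ∀ i < 4, D.gen i ∈ D.V := fun i hi => (hbas i hi).1.1
  have h03 : el D.g0 * el D.g0 * el D.g0 = 1 := by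
    simp only [Two.fpfOk, Bool.and_eq_true, beq_iff_eq] at hg0
    exact g3 _ hg0M hg0.1.1.1.2
  have hqv : ∀ i < 4, ⁅el D.g0, q i⁆ = el (D.gen i) := fun i hi =>
    (el_eq (by rw [← (hbas i hi).2]; exact brk_el _ hg0M h03 _ (hbas i hi).1.2)).symm
  choose lift hlift using H.surj
  let h : ℕ → Δ := fun s => if s < 4 then secLift H (el D.g0) (q s) else lift (el (D.gen s))
  have hgenu : ∀ k < D.ugens.length, D.gen (4 + k) ∈ D.ugens := fun k hk' => by
    rw [Two.gen, Two.gens, List.getD_append_right _ _ _ _ (by omega), List.getD_eq_getElem _ _ (by omega)]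
    exact List.getElem_mem _
  have hgenM : ∀ s < C.n, inM (D.gen s) = true ∧ Inv1 σ (el (D.gen s)) := by
    intro s hs
    rw [hCn] at hs
    by_cases h4 : s < 4
    · exact ⟨vM _ (hgenV s h4), vI _ (hgenV s h4)⟩
    · obtain ⟨k, rfl⟩ : ∃ k, s = 4 + k := ⟨s - 4, by omega⟩
      have := hu _ (hgenu k (by omega))
      exact ⟨this.1.2, goodI _ this.1.2 this.2⟩
  have hσ : ∀ s, σ (h s) = el (D.gen s) := by
    intro s
    by_cases h4 : s < 4
    · simp only [h, if_pos h4]; rw [secLift_map, hqv s h4]
    · simp only [h, if_neg h4]; exact hlift _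
  have hev : ∀ w : List ℕ, (∀ s ∈ w, s < C.n) → σ (Coset.ev h w) = el (evP D.gen w) := by
    intro w hw
    refine (el_eq ?_).symm
    rw [(evP_sound D.gen w fun s hs => (hM _ (hgenM s (hw s hs)).1).2).2]
    induction w with
    | nil => simp [Coset.ev]
    | cons s w ih =>
      simp only [Coset.ev, map_mul, Subgroup.coe_mul, hσ, el_val (hgenM s (hw s (by simp))).1,
        ← ih fun t ht => hw t (List.mem_cons_of_mem _ ht)]
  have hevM : ∀ w : List ℕ, (∀ s ∈ w, s < C.n) → el (evP D.gen w) = σ (Coset.ev h w) := fun w hw => (hev w hw).symm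
  have hinv : ∀ s < C.n, h s * h s = 1 := fun s hs => (hgenM s hs).2 _ (hσ s)
  have vcomm : ∀ {a b : Δ}, σ a ∈ Vs → σ b ∈ Vs → Commute a b := fun {a b} ha hb => F0.comm H ha hb
  -- products of the chosen lifts of `V`
  have hprod : ∀ js : List ℕ, (∀ j ∈ js, j < 4) → ∃ x ∈ Vs,
      Coset.ev h js = secLift H (el D.g0) x ∧ Coset.ev h js * Coset.ev h js = 1 := by
    intro js hjs
    induction js with
    | nil =>
      refine ⟨el Golay.idP, ⟨_, hV1, rfl⟩, ?_, by simp [Coset.ev]⟩
      obtain ⟨a, ha⟩ := H.surj (el D.g0)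
      rw [← secLift_eq H ha (show σ 1 = el Golay.idP by rw [map_one, el_one])]
      simp [Coset.ev, commutatorElement_def]
    | cons j js ih =>
      obtain ⟨x, hx, he, -⟩ := ih fun t ht => hjs t (List.mem_cons_of_mem _ ht)
      have hj := hjs j (by simp)
      refine ⟨q j * x, F0.mul _ (hq j hj) _ hx, ?_, ?_⟩
      · rw [Coset.ev, he, F0.add H (hq j hj) hx]; simp only [h, if_pos hj]
      · rw [Coset.ev, he, show h j = secLift H (el D.g0) (q j) by simp only [h, if_pos hj],
          ← F0.add H (hq j hj) hx]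
        exact F0.inv1 _ (F0.bracket_mem H (F0.mul _ (hq j hj) _ hx)) _ rfl
  have hrels : ∀ w ∈ C.rels, Coset.ev h w = 1 := by
    intro w hw
    rw [hCr] at hw
    simp only [Two.rels, List.mem_append] at hw
    rcases hw with ((hw | hw) | hw) | hw
    · simp only [Two.r1, List.mem_map, List.mem_range] at hw
      obtain ⟨s, hs, rfl⟩ := hw
      simpa [Coset.ev] using hinv s (by omega)
    · simp only [Two.r2, List.mem_flatMap, List.mem_map, List.mem_filter, List.mem_range, decide_eq_true_eq] at hw
      obtain ⟨i, hi, j, ⟨hj, -⟩, rfl⟩ := hw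
      have hc := vcomm (a := h i) (b := h j) ⟨_, hgenV i hi, (hσ i).symm⟩ ⟨_, hgenV j hj, (hσ j).symm⟩
      simp only [Coset.ev, mul_one]
      rw [← mul_assoc, hc.symm.mul_mul_mul_comm, hinv i (by omega), hinv j (by omega), one_mul]
    · simp only [Two.r3, List.mem_flatMap, List.mem_map, List.mem_range] at hw
      obtain ⟨k, hk', i, hi, rfl⟩ := hw
      obtain ⟨⟨⟨⟨hch, hlink⟩, hlast⟩, hnorm⟩, himg⟩ := hk k hk'
      obtain ⟨hjs, heq⟩ := himg i hi
      set ch := D.chains.getD k []
      set u := D.gen (4 + k) with hu'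
      set js := (D.img.getD k []).getD i []
      have huM : inM u = true := (hgenM (4 + k) (by omega)).1
      have hus : el u * el u = 1 := by
        have := hinv (4 + k) (by omega)
        rw [← hσ, ← map_mul, this, map_one]
      have huinv : (el u)⁻¹ = el u := inv_eq_of_mul_eq_one_right hus
      have hhu : (h (4 + k))⁻¹ = h (4 + k) := inv_eq_of_mul_eq_one_right (hinv _ (by omega))
      obtain ⟨x, hx, hjx, hjsq⟩ := hprod js hjs
      have conjV : ∀ P ∈ D.V, el u * el P * el u ∈ Vs := fun P hP => by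
        refine ⟨_, hnorm P hP, ?_⟩
        refine el_eq ?_
        rw [Golay.permOf_comp (Golay.valid_comp (hM u huM).2 (hM P (vM P hP)).2) (hM u huM).2,
          Golay.permOf_comp (hM u huM).2 (hM P (vM P hP)).2]
        simp only [Subgroup.coe_mul, el_val huM, el_val (vM P hP)]
      have hgu : el (Golay.comp (Golay.comp u D.g0) u) = el u * el D.g0 * el u := by
        refine el_eq ?_
        rw [Golay.permOf_comp (Golay.valid_comp (hM u huM).2 (hM _ hg0M).2) (hM u huM).2,
          Golay.permOf_comp (hM u huM).2 (hM _ hg0M).2]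
        simp only [Subgroup.coe_mul, el_val huM, el_val hg0M]
      have hchain : ((D.g0 :: ch).map el).IsChain Commute := by
        have : ∀ l : List ℕ, (∀ g ∈ l, inM g = true) → Two.linkOk l = true → (l.map el).IsChain Commute := by
          intro l
          induction l with
          | nil => intros; simp
          | cons a l ih =>
            intro hl hlk
            rcases l with _ | ⟨b, l⟩
            · simp
            · simp only [Two.linkOk, Bool.and_eq_true, beq_iff_eq] at hlk
              simp only [List.map_cons, List.isChain_cons_cons]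
              refine ⟨show _ = _ by rw [← el_mul (hl a (by simp)) (hl b (by simp)),
                ← el_mul (hl b (by simp)) (hl a (by simp)), hlk.1], ?_⟩
              exact ih (fun g hg => hl g (List.mem_cons_of_mem _ hg)) hlk.2
        refine this _ (fun g hg => ?_) hlink
        rcases List.mem_cons.1 hg with rfl | hg
        · exact hg0M
        · exact (hch g hg).2
      obtain ⟨qu, hqu, hque⟩ : ∃ qu ∈ Vs, qu = el u * q i * el u := ⟨_, conjV _ (hbas i hi).1.2, rfl⟩
      have hbr : ⁅el D.g0, x⁆ = ⁅el u * el D.g0 * el u, qu⁆ := by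
        rw [hque, ← secLift_map H (el D.g0) x, ← hjx, ← hevM js (fun j hj => by have := hjs j hj; omega), heq]
        have : el (Golay.comp (Golay.comp u (D.gen i)) u) = el u * el (D.gen i) * el u := by
          refine el_eq ?_
          rw [Golay.permOf_comp (Golay.valid_comp (hM u huM).2 (hM _ (vM _ (hgenV i hi))).2) (hM u huM).2,
            Golay.permOf_comp (hM u huM).2 (hM _ (vM _ (hgenV i hi))).2]
          simp only [Subgroup.coe_mul, el_val huM, el_val (vM _ (hgenV i hi))]
        rw [this, ← hqv i hi]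
        have e' : ∀ a b : M, ⁅el u * a * (el u)⁻¹, el u * b * (el u)⁻¹⁆ = el u * ⁅a, b⁆ * (el u)⁻¹ :=
          fun a b => by simp only [commutatorElement_def]; group
        have := e' (el D.g0) (q i)
        rw [huinv] at this
        exact this.symm
      have hsec : secLift H (el D.g0) x = secLift H (el u * el D.g0 * el u) qu := by
        refine Fpf.eq_of_chain H (ch.map el) (el D.g0) _ ?_ ?_ hchain x hx qu hqu hbr
        · intro g hg
          rcases List.mem_cons.1 hg with rfl | hg
          · exact F0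
          · obtain ⟨P, hP, rfl⟩ := List.mem_map.1 hg
            exact fpf P (hch P hP).2 (hch P hP).1
        · rw [List.getLast?_map, hlast, Option.map_some, hgu]
      have hconj' : h (4 + k) * h i * h (4 + k) = Coset.ev h js := by
        rw [hjx, hsec, show h i = secLift H (el D.g0) (q i) by simp only [h, if_pos hi], hque]
        obtain ⟨a, ha⟩ := H.surj (el D.g0)
        obtain ⟨b, hb⟩ := H.surj (q i)
        rw [← secLift_eq H ha hb, ← secLift_eq H (a := h (4 + k) * a * h (4 + k)) (b := h (4 + k) * b * h (4 + k))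
          (by rw [map_mul, map_mul, hσ, ha]) (by rw [map_mul, map_mul, hσ, hb])]
        have e' : ⁅h (4 + k) * a * (h (4 + k))⁻¹, h (4 + k) * b * (h (4 + k))⁻¹⁆ =
            h (4 + k) * ⁅a, b⁆ * (h (4 + k))⁻¹ := by simp only [commutatorElement_def]; group
        rw [hhu] at e'
        exact e'.symm
      rw [Coset.ev_append]
      simp only [Coset.ev, mul_one]
      rw [← mul_assoc (h (4 + k)) (h i), hconj', hjsq]
    · simp only [Two.r4, List.mem_map] at hw
      obtain ⟨v, hv, rfl⟩ := hw
      obtain ⟨hvlt, hvg⟩ := hsq v hv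
      have hlt : ∀ s ∈ v.map (4 + ·), s < C.n := fun s hs => by
        obtain ⟨t, ht, rfl⟩ := List.mem_map.1 hs
        have := hvlt t ht; omega
      rw [Coset.ev_append]
      have hcan : Golay.permOf (evP D.gen (v.map (4 + ·))) ∈ M := by
        rw [(evP_sound D.gen _ fun s hs => (hM _ (hgenM s (hlt s hs)).1).2).2]
        refine Coset.ev_mem _ fun s hs => (hM _ (hgenM s (hlt s hs)).1).1
      have hgood : Inv1 σ (el (evP D.gen (v.map (4 + ·)))) := by
        by_cases h1 : evP D.gen (v.map (4 + ·)) = Golay.idP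
        · rw [h1]; exact inv_idP
        · have h2 := hvg
          simp only [Two.good, Bool.or_eq_true, beq_iff_eq, List.any_eq_true, Bool.and_eq_true] at h2
          obtain ⟨c, hc, hcw, -⟩ := h2.resolve_left h1
          exact goodI _ (hcw ▸ (hconj c hc).1.1.1.2) hvg
      exact hgood _ (hev _ hlt)
  -- the section
  let S : Subgroup Δ := Subgroup.closure {x | ∃ s < C.n, h s = x}
  let g' : ℕ → S := fun s => if hs : s < C.n then ⟨h s, Subgroup.subset_closure ⟨s, hs, rfl⟩⟩ else 1
  have hg'v : ∀ w : List ℕ, (∀ s ∈ w, s < C.n) → ((Coset.ev g' w : S) : Δ) = Coset.ev h w := by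
    intro w hw
    induction w with
    | nil => rfl
    | cons s w ih =>
      simp only [Coset.ev, Subgroup.coe_mul, ih fun t ht => hw t (List.mem_cons_of_mem _ ht)]
      simp only [g', dif_pos (hw s (by simp))]
  have hrlt : ∀ w ∈ C.rels, ∀ s ∈ w, s < C.n := by
    intro w hw s hs
    rw [hCr] at hw
    simp only [Two.rels, List.mem_append] at hw
    rcases hw with ((hw | hw) | hw) | hw
    · simp only [Two.r1, List.mem_map, List.mem_range] at hw
      obtain ⟨t, ht, rfl⟩ := hw
      simp at hs; omega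
    · simp only [Two.r2, List.mem_flatMap, List.mem_map, List.mem_filter, List.mem_range] at hw
      obtain ⟨i, hi, j, ⟨hj, -⟩, rfl⟩ := hw
      simp at hs; omega
    · simp only [Two.r3, List.mem_flatMap, List.mem_map, List.mem_range] at hw
      obtain ⟨k, hk', i, hi, rfl⟩ := hw
      simp only [List.mem_append, List.mem_cons, List.not_mem_nil, or_false] at hs
      rcases hs with (rfl | rfl | rfl) | hs
      · omega
      · omega
      · omega
      · have := (((hk k hk').2) i hi).1 s hs; omega
    · simp only [Two.r4, List.mem_map] at hw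
      obtain ⟨v, hv, rfl⟩ := hw
      simp only [List.mem_append, or_self, List.mem_map] at hs
      obtain ⟨t, ht, rfl⟩ := hs
      have := (hsq v hv).1 t ht; omega
  have hSgen : Subgroup.closure {x | ∃ s < C.n, g' s = x} = ⊤ := by
    refine Subgroup.map_injective S.subtype_injective ?_
    rw [MonoidHom.map_closure, ← MonoidHom.range_eq_map, Subgroup.range_subtype]
    refine congrArg Subgroup.closure (Set.ext fun x => ?_)
    constructor
    · rintro ⟨_, ⟨s, hs, rfl⟩, rfl⟩; exact ⟨s, hs, by simp [g', hs]⟩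
    · rintro ⟨s, hs, rfl⟩; exact ⟨g' s, ⟨s, hs, rfl⟩, by simp [g', hs]⟩
  obtain ⟨-, hle⟩ := C.index_le g' hC (H := ⊥)
    (fun s hs => by refine Subtype.ext ?_; simp only [g', dif_pos hs, Subgroup.coe_mul]; exact hinv s hs)
    hSgen (fun w hw => Subtype.ext (by rw [hg'v w (hrlt w hw)]; exact hrels w hw)) (by rw [hCs]; simp)
  rw [Subgroup.index_bot] at hle
  -- its image
  have hQ : (S.map σ).map M.subtype = Subgroup.closure {x | ∃ P ∈ T.gens, Golay.permOf P = x} := by
    rw [MonoidHom.map_closure, MonoidHom.map_closure]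
    refine congrArg Subgroup.closure (Set.ext fun x => ?_)
    constructor
    · rintro ⟨_, ⟨_, ⟨s, hs, rfl⟩, rfl⟩, rfl⟩
      refine ⟨D.gen s, ?_, ?_⟩
      · rw [hTg, Two.gen, List.getD_eq_getElem _ _ (by simp [Two.gens, hbl]; omega)]
        exact List.getElem_mem _
      · rw [Subgroup.coe_subtype, hσ, el_val (hgenM s hs).1]
    · rintro ⟨P, hP, rfl⟩
      rw [hTg] at hP
      obtain ⟨s, hs, rfl⟩ := List.getElem_of_mem hP
      have hs' : s < C.n := by simp [Two.gens, hbl] at hs; omega
      refine ⟨_, ⟨_, ⟨s, hs', rfl⟩, rfl⟩, ?_⟩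
      rw [Subgroup.coe_subtype, hσ, el_val (hgenM s hs').1, Two.gen, List.getD_eq_getElem _ _ hs]
  have hcardQ : Nat.card ↥(S.map σ) = T.N := by
    rw [← T.card_closure hT, ← hQ, Subgroup.card_map_of_injective M.subtype_injective]
  have hbij : Function.Bijective (σ.subgroupMap S) := by
    refine (Nat.bijective_iff_surjective_and_card _).2 ⟨MonoidHom.subgroupMap_surjective _ _, ?_⟩
    refine le_antisymm ?_ (Nat.card_le_card_of_surjective _ (MonoidHom.subgroupMap_surjective _ _))
    rw [hcardQ, hTN]; exact hle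
  refine ⟨S.map σ, ?_, fun z hz hzo hmem => ?_⟩
  · intro hd
    have hmul := (S.map σ).card_mul_index
    rw [hcardQ] at hmul
    have : (S.map σ).index = Nat.card M / T.N := by
      rw [← hmul, Nat.mul_div_cancel_left]
      have := hcardQ ▸ (Nat.card_pos (α := ↥(S.map σ)))
      omega
    rw [this] at hd
    exact Nat.not_even_iff_odd.2 hidx (even_iff_two_dvd.2 hd)
  · have h1 := no_ker_of_section H.cen S (fun s hs e => congrArg Subtype.val
      (hbij.1 (show σ.subgroupMap S ⟨s, hs⟩ = σ.subgroupMap S 1 by rw [map_one]; exact Subtype.ext e))) hz hmem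
    rw [h1, orderOf_one] at hzo
    exact absurd hzo (by norm_num)

end Sound

end Cfsg.Agent.Spor.Mult
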