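import Cfsg.Agent.Lib.Spor.ReflectionClassThree
import Cfsg.Agent.Lib.Classical.OrthGenRefl
import Cfsg.Agent.Lib.Classical.Transvection
import Cfsg.Agent.Lib.Classical.QuadClass

/-! Orthogonal transvections over the field of two elements. -/

set_option autoImplicit false
set_option linter.style.haveILetI false

namespace Cfsg.Agent.Spor.OrthTwo

open Matrix Cfsg Cfsg.Agent.Classical

instance fact_two : Fact (Nat.Prime 2) := ⟨Nat.prime_two⟩

variable {ι : Type} [Fintype ι] [DecidableEq ι] (Q : QuadraticForm (ZMod 2) (ι → ZMod 2))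

theorem eq_one_two : ∀ t : ZMod 2, t ≠ 0 → t = 1 := by decide

theorem neg_two : ∀ t : ZMod 2, -t = t := by decide

theorem exists_polar_one (hQ : (QuadraticMap.polarBilin Q).Nondegenerate) {v : ι → ZMod 2} (hv : v ≠ 0) :
    ∃ y, QuadraticMap.polar ⇑Q v y = 1 := by
  by_contra hcon
  simp only [not_exists] at hcon
  exact hv (hQ.1 v fun y => by
    by_contra h
    exact hcon y (eq_one_two _ h))

theorem refl_two {v : ι → ZMod 2} (hv : Q v = 1) (x : ι → ZMod 2) :
    reflectionMatrix ⇑Q v *ᵥ x = x + QuadraticMap.polar ⇑Q v x • v := by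
  rw [Classical.reflectionMatrix_mulVec, hv, inv_one, one_mul, sub_eq_add_neg, ← neg_smul, neg_two]

theorem eq_of_refl_eq (hQ : (QuadraticMap.polarBilin Q).Nondegenerate) {v w : ι → ZMod 2} (hv : Q v = 1)
    (hw : Q w = 1) (h : reflectionMatrix ⇑Q v = reflectionMatrix ⇑Q w) : v = w := by
  have hv0 : v ≠ 0 := fun h0 => by rw [h0, QuadraticMap.map_zero] at hv; exact zero_ne_one hv
  obtain ⟨y, hy⟩ := exists_polar_one Q hQ hv0
  have e := congrArg (· *ᵥ y) h
  simp only [refl_two Q hv, refl_two Q hw, add_right_inj, hy, one_smul] at e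
  have hne : QuadraticMap.polar ⇑Q w y ≠ 0 := fun h0 => hv0 (by rw [e, h0, zero_smul])
  rw [eq_one_two _ hne, one_smul] at e
  exact e

/-- The rank one isometries are the reflections. -/
theorem rank_one_iff (hQ : (QuadraticMap.polarBilin Q).Nondegenerate) (g : isometryGroup (ZMod 2) ⇑Q) :
    (((g : GL ι (ZMod 2)) : Matrix ι ι (ZMod 2)) - 1).rank = 1 ↔
      ∃ v, Q v = 1 ∧ ((g : GL ι (ZMod 2)) : Matrix ι ι (ZMod 2)) = reflectionMatrix ⇑Q v := by
  constructor
  · intro h
    obtain ⟨a, φ, ha, hφ, e⟩ := exists_vecMulVec_of_rank_eq_one h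
    have hg : ∀ x, ((g : GL ι (ZMod 2)) : Matrix ι ι (ZMod 2)) *ᵥ x = x + (φ ⬝ᵥ x) • a := fun x => by
      have h1 := congrArg (· *ᵥ x) e
      simp only [Matrix.sub_mulVec, Matrix.one_mulVec, Matrix.vecMulVec_mulVec, op_smul_eq_smul] at h1
      rw [← h1]; abel
    have key : ∀ x, φ ⬝ᵥ x = 1 → QuadraticMap.polar ⇑Q x a = Q a := fun x hx => by
      have h1 := Classical.mem_isometryGroup.1 g.2 x
      rw [hg, hx, one_smul, QuadraticMap.map_add ⇑Q] at h1
      have h2 : ∀ p q r : ZMod 2, p + q + r = p → r = q := by decide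
      exact h2 _ _ _ h1
    obtain ⟨x0, hx0⟩ : ∃ x0, φ ⬝ᵥ x0 = 1 := by
      obtain ⟨j, hj⟩ := Function.ne_iff.mp hφ
      exact ⟨Pi.single j 1, by rw [dotProduct_single, mul_one]; exact eq_one_two _ hj⟩
    have all : ∀ x, QuadraticMap.polar ⇑Q x a = (φ ⬝ᵥ x) * Q a := fun x => by
      by_cases hx : φ ⬝ᵥ x = 0
      · have h1 := key (x + x0) (by rw [dotProduct_add, hx, hx0, zero_add])
        rw [QuadraticMap.polar_add_left, key x0 hx0, add_eq_right] at h1
        rw [h1, hx, zero_mul]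
      · rw [eq_one_two _ hx, one_mul]; exact key x (eq_one_two _ hx)
    have hQa : Q a = 1 := by
      by_contra h0
      refine ha (hQ.1 a fun y => ?_)
      show QuadraticMap.polar ⇑Q a y = 0
      rw [QuadraticMap.polar_comm, all y]
      have : ∀ t : ZMod 2, t ≠ 1 → t = 0 := by decide
      rw [this _ h0, mul_zero]
    refine ⟨a, hQa, Matrix.ext_of_mulVec_single fun i => ?_⟩
    rw [hg, refl_two Q hQa, QuadraticMap.polar_comm, all, hQa, mul_one]
  · rintro ⟨v, hv, e⟩
    have hv0 : v ≠ 0 := fun h0 => by rw [h0, QuadraticMap.map_zero] at hv; exact zero_ne_one hv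
    obtain ⟨y, hy⟩ := exists_polar_one Q hQ hv0
    have e1 : ((g : GL ι (ZMod 2)) : Matrix ι ι (ZMod 2)) - 1 =
        Matrix.vecMulVec v (fun j => QuadraticMap.polar ⇑Q v (Pi.single j 1)) := by
      refine Matrix.ext_of_mulVec_single fun i => ?_
      simp only [e, Matrix.sub_mulVec, Matrix.one_mulVec, refl_two Q hv, add_sub_cancel_left,
        Matrix.vecMulVec_mulVec, op_smul_eq_smul, dotProduct_single, mul_one]
    refine le_antisymm (by rw [e1]; exact Matrix.rank_vecMulVec_le _ _) ?_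
    by_contra h0
    have h0' : (((g : GL ι (ZMod 2)) : Matrix ι ι (ZMod 2)) - 1).rank = 0 := by omega
    rw [Matrix.rank, Submodule.finrank_eq_zero, LinearMap.range_eq_bot] at h0'
    have h1 := LinearMap.congr_fun h0' y
    simp only [Matrix.mulVecLin_apply, Matrix.sub_mulVec, Matrix.one_mulVec, e, refl_two Q hv,
      add_sub_cancel_left, LinearMap.zero_apply, hy, one_smul] at h1
    exact hv0 h1

/-- A nonsingular vector non-orthogonal to two given orthogonal nonsingular vectors. -/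
theorem exists_third (hQ : (QuadraticMap.polarBilin Q).Nondegenerate) (hn : 5 ≤ Fintype.card ι) {u v : ι → ZMod 2}
    (hu : Q u = 1) (hv : Q v = 1) (hne : u ≠ v) :
    ∃ w, Q w = 1 ∧ QuadraticMap.polar ⇑Q u w = 1 ∧ QuadraticMap.polar ⇑Q v w = 1 := by
  let B := QuadraticMap.polarBilin Q
  have hu0 : u ≠ 0 := fun h0 => by rw [h0, QuadraticMap.map_zero] at hu; exact zero_ne_one hu
  have hv0 : v ≠ 0 := fun h0 => by rw [h0, QuadraticMap.map_zero] at hv; exact zero_ne_one hv
  have two : ∀ t : ZMod 2, t = 0 ∨ t = 1 := by decide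
  obtain ⟨y, hy1, hy2⟩ : ∃ y, B u y = 1 ∧ B v y = 1 := by
    obtain ⟨a, ha⟩ := exists_polar_one Q hQ hu0
    obtain ⟨b, hb⟩ := exists_polar_one Q hQ hv0
    rcases two (B v a) with h1 | h1
    · rcases two (B u b) with h2 | h2
      · exact ⟨a + b, by rw [map_add, show B u a = 1 from ha, h2, add_zero],
          by rw [map_add, h1, show B v b = 1 from hb, zero_add]⟩
      · exact ⟨b, h2, hb⟩
    · exact ⟨a, ha, h1⟩
  obtain ⟨a', b', ha1, ha2, hb1, hb2⟩ : ∃ a' b', B u a' = 1 ∧ B v a' = 0 ∧ B u b' = 0 ∧ B v b' = 1 := by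
    obtain ⟨e, he⟩ := exists_polar_one Q hQ (v := u + v) (fun h => hne (by
      funext i
      have h' := congrFun h i
      have : ∀ p q : ZMod 2, p + q = 0 → p = q := by decide
      exact this _ _ h'))
    rw [QuadraticMap.polar_add_left] at he
    change B u e + B v e = 1 at he
    have h3 : ∀ p q : ZMod 2, p + q = 1 → (p = 1 ∧ q = 0) ∨ (p = 0 ∧ q = 1) := by decide
    rcases h3 _ _ he with ⟨h1, h2⟩ | ⟨h1, h2⟩
    · exact ⟨e, y + e, h1, h2, by rw [map_add, hy1, h1]; rfl, by rw [map_add, hy2, h2]; rfl⟩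
    · exact ⟨y + e, e, by rw [map_add, hy1, h1]; rfl, by rw [map_add, hy2, h2]; rfl, h1, h2⟩
  by_contra hcon
  simp only [not_exists, not_and] at hcon
  have hzero : ∀ z, B u z = 0 → B v z = 0 → Q (y + z) = 0 := fun z h1 h2 => by
    rcases two (Q (y + z)) with h | h
    · exact h
    · exfalso
      refine hcon _ h ?_ ?_
      · show B u (y + z) = 1; rw [map_add, hy1, h1, add_zero]
      · show B v (y + z) = 1; rw [map_add, hy2, h2, add_zero]
  have hperp : ∀ z z', B u z = 0 → B v z = 0 → B u z' = 0 → B v z' = 0 → B z z' = 0 := by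
    intro z z' h1 h2 h3 h4
    have q0 := hzero 0 (map_zero _) (map_zero _)
    have q1 := hzero z h1 h2
    have q2 := hzero z' h3 h4
    have q3 := hzero (z + z') (by rw [map_add, h1, h3, add_zero]) (by rw [map_add, h2, h4, add_zero])
    rw [add_zero] at q0
    rw [QuadraticMap.map_add ⇑Q, q0, zero_add] at q1 q2 q3
    rw [QuadraticMap.map_add ⇑Q, QuadraticMap.polar_add_right] at q3
    show QuadraticMap.polar ⇑Q z z' = 0
    linear_combination q3 - q1 - q2
  let L : (ι → ZMod 2) →ₗ[ZMod 2] (Fin 4 → ZMod 2) := LinearMap.pi fun i => B (![u, v, a', b'] i)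
  obtain ⟨x, hx, hx0⟩ : ∃ x ∈ LinearMap.ker L, x ≠ 0 := by
    refine Submodule.exists_mem_ne_zero_of_ne_bot fun hb => ?_
    have := LinearMap.finrank_le_finrank_of_injective (LinearMap.ker_eq_bot.mp hb)
    rw [Module.finrank_pi, Module.finrank_pi, Fintype.card_fin] at this
    omega
  have hx' : L x = 0 := hx
  have x1 : B u x = 0 := congrFun hx' 0
  have x2 : B v x = 0 := congrFun hx' 1
  have xa : B x a' = 0 := by
    show QuadraticMap.polar ⇑Q x a' = 0
    rw [QuadraticMap.polar_comm]; exact congrFun hx' 2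
  have xb : B x b' = 0 := by
    show QuadraticMap.polar ⇑Q x b' = 0
    rw [QuadraticMap.polar_comm]; exact congrFun hx' 3
  refine hx0 (hQ.1 x fun t => ?_)
  have := hperp x (t - B u t • a' - B v t • b') x1 x2
    (by simp only [map_sub, map_smul, ha1, hb1, smul_eq_mul, mul_one, mul_zero]; ring)
    (by simp only [map_sub, map_smul, ha2, hb2, smul_eq_mul, mul_one, mul_zero]; ring)
  show B x t = 0
  simpa [map_sub, map_smul, xa, xb] using this

theorem orthClass (hQ : (QuadraticMap.polarBilin Q).Nondegenerate) (hn : 5 ≤ Fintype.card ι)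
    {f : (ι → ZMod 2) → ZMod 2} (hf : f = ⇑Q) :
    IsThreeTranspositionClass {g : ↥(isometryGroup (ZMod 2) f) |
      (((g : GL ι (ZMod 2)) : Matrix ι ι (ZMod 2)) - 1).rank = 1} := by
  classical
  subst hf
  rw [show {g : ↥(isometryGroup (ZMod 2) ⇑Q) | (((g : GL ι (ZMod 2)) : Matrix ι ι (ZMod 2)) - 1).rank = 1} =
    {g : ↥(isometryGroup (ZMod 2) ⇑Q) | ∃ v, Q v = 1 ∧ ((g : GL ι (ZMod 2)) : Matrix ι ι (ZMod 2)) = reflectionMatrix ⇑Q v} from
    Set.ext fun g => rank_one_iff Q hQ g]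
  have ext' : ∀ a b : isometryGroup (ZMod 2) ⇑Q, ((a : GL ι (ZMod 2)) : Matrix ι ι (ZMod 2)) =
      ((b : GL ι (ZMod 2)) : Matrix ι ι (ZMod 2)) → a = b := fun a b e => Subtype.ext (Units.ext e)
  have hsq : ∀ (d : isometryGroup (ZMod 2) ⇑Q) (v : ι → ZMod 2), Q v = 1 →
      ((d : GL ι (ZMod 2)) : Matrix ι ι (ZMod 2)) = reflectionMatrix ⇑Q v → d * d = 1 := fun d v hv e => ext' _ _ (by
    simp only [Subgroup.coe_mul, Units.val_mul, OneMemClass.coe_one, Units.val_one, e]
    exact ReflThree.reflection_sq (by rw [hv]; exact one_ne_zero))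
  have hconj : ∀ (a b : isometryGroup (ZMod 2) ⇑Q) (u v : ι → ZMod 2), Q u = 1 →
      ((a : GL ι (ZMod 2)) : Matrix ι ι (ZMod 2)) = reflectionMatrix ⇑Q u →
      ((b : GL ι (ZMod 2)) : Matrix ι ι (ZMod 2)) = reflectionMatrix ⇑Q v →
      (((a * b * a⁻¹ : isometryGroup (ZMod 2) ⇑Q) : GL ι (ZMod 2)) : Matrix ι ι (ZMod 2)) =
        reflectionMatrix ⇑Q (v + QuadraticMap.polar ⇑Q u v • u) := fun a b u v hu ea eb => by
    rw [ReflThree.coe_conj eb, ea, refl_two Q hu]
  have hcomm : ∀ (a b : isometryGroup (ZMod 2) ⇑Q) (u v : ι → ZMod 2), Q u = 1 → Q v = 1 →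
      ((a : GL ι (ZMod 2)) : Matrix ι ι (ZMod 2)) = reflectionMatrix ⇑Q u →
      ((b : GL ι (ZMod 2)) : Matrix ι ι (ZMod 2)) = reflectionMatrix ⇑Q v →
      (Commute a b ↔ QuadraticMap.polar ⇑Q u v = 0) := by
    intro a b u v hu hv ea eb
    constructor
    · intro h
      by_contra hne
      have e := hconj a b u v hu ea eb
      rw [h.eq, mul_inv_cancel_right, eb, eq_one_two _ hne, one_smul] at e
      have hQvu : Q (v + u) = 1 := by
        rw [QuadraticMap.map_add ⇑Q, hv, hu, QuadraticMap.polar_comm, eq_one_two _ hne]; rfl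
      have := eq_of_refl_eq Q hQ hv hQvu e
      rw [left_eq_add] at this
      rw [this, QuadraticMap.map_zero] at hu
      exact zero_ne_one hu
    · intro h
      have e := hconj a b u v hu ea eb
      rw [h, zero_smul, add_zero, ← eb] at e
      exact mul_inv_eq_iff_eq_mul.mp (ext' _ _ e)
  refine ThreeTrans.isClass_of_chain ⟨?_, ?_⟩ ?_ ?_ ?_ ?_
  · rintro d ⟨v, hv, e⟩
    refine orderOf_eq_prime (by rw [pow_two]; exact hsq d v hv e) fun h1 => ?_
    have hv0 : v ≠ 0 := fun h0 => by rw [h0, QuadraticMap.map_zero] at hv; exact zero_ne_one hv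
    obtain ⟨y, hy⟩ := exists_polar_one Q hQ hv0
    have := congrArg (· *ᵥ y) e
    simp only [h1, OneMemClass.coe_one, Units.val_one, Matrix.one_mulVec, refl_two Q hv, hy, one_smul, left_eq_add] at this
    exact hv0 this
  · rintro a ⟨u, hu, ea⟩ b ⟨v, hv, eb⟩
    have ia : a⁻¹ = a := inv_eq_of_mul_eq_one_right (hsq a u hu ea)
    have ib : b⁻¹ = b := inv_eq_of_mul_eq_one_right (hsq b v hv eb)
    by_cases h : QuadraticMap.polar ⇑Q u v = 0
    · left
      rw [((hcomm a b u v hu hv ea eb).mpr h).mul_pow, pow_two, pow_two, hsq a u hu ea, hsq b v hv eb, mul_one]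
    · right
      have e : a * b * a⁻¹ = b * a * b⁻¹ := ext' _ _ (by
        rw [hconj a b u v hu ea eb, hconj b a v u hv eb ea, QuadraticMap.polar_comm ⇑Q v u, eq_one_two _ h,
          one_smul, one_smul, add_comm])
      rw [ia, ib] at e
      calc (a * b) ^ 3 = (a * b * a) * (b * a * b) := by simp only [pow_succ, pow_zero, one_mul, mul_assoc]
        _ = (b * a * b) * (b * a * b) := by rw [e]
        _ = b * (a * (b * b) * a) * b := by simp only [mul_assoc]
        _ = 1 := by rw [hsq b v hv eb, mul_one, hsq a u hu ea, mul_one, hsq b v hv eb]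
  · rintro g d ⟨v, hv, e⟩
    exact ⟨_, by rw [Classical.mem_isometryGroup.1 g.2, hv], ReflThree.coe_conj e⟩
  · rw [eq_top_iff, ← OrthAut.reflGroup_eq_top_gen hQ (OrthAut.genQ_of_card (Or.inr (by omega))), OrthAut.reflGroup,
      Subgroup.closure_le]
    rintro _ ⟨v, hv, rfl⟩
    exact Subgroup.subset_closure ⟨v, eq_one_two _ hv, rfl⟩
  · obtain ⟨v, hv⟩ : ∃ v, Q v ≠ 0 := by
      by_contra hcon
      simp only [not_exists, not_not] at hcon
      obtain ⟨i⟩ : Nonempty ι := Fintype.card_pos_iff.mp (by omega)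
      obtain ⟨y, hy⟩ := exists_polar_one Q hQ (v := Pi.single i 1) (fun h => one_ne_zero (α := ZMod 2) (by
        have := congrFun h i; rwa [Pi.single_eq_same] at this))
      rw [QuadraticMap.polar, hcon, hcon, hcon] at hy
      simp at hy
    exact ⟨OrthAut.refl hv, v, eq_one_two _ hv, rfl⟩
  · rintro a ⟨u, hu, ea⟩ b ⟨v, hv, eb⟩ -
    by_cases huv : u = v
    · subst huv; exact Or.inl (ext' _ _ (ea.trans eb.symm))
    right
    obtain ⟨w, hw, h1, h2⟩ := exists_third Q hQ hn hu hv huv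
    have hw0 : Q w ≠ 0 := by rw [hw]; exact one_ne_zero
    refine ⟨OrthAut.refl hw0, ⟨w, hw, rfl⟩, fun h => ?_, fun h => ?_⟩
    · rw [(hcomm a _ u w hu hw ea rfl).mp h] at h1
      exact zero_ne_one h1
    · rw [(hcomm b _ v w hv hw eb rfl).mp h.symm] at h2
      exact zero_ne_one h2

theorem nondeg_plus (m : ℕ) : (QuadraticMap.polarBilin (qfPlus m (ZMod 2))).Nondegenerate := by
  have hB : ∀ x y, QuadraticMap.polar ⇑(qfPlus m (ZMod 2)) x y =
      ∑ i : Fin m, (x (.inl i) * y (.inr i) + x (.inr i) * y (.inl i)) := fun x y => by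
    simp only [QuadraticMap.polar, qfPlus_apply, quadFormPlus, ← Finset.sum_sub_distrib, Pi.add_apply]
    exact Finset.sum_congr rfl fun i _ => by ring
  have key : ∀ x, (∀ y, QuadraticMap.polar ⇑(qfPlus m (ZMod 2)) x y = 0) → x = 0 := fun x hx => by
    funext s
    rcases s with i | i
    · simpa [hB, Pi.single_apply] using hx (Pi.single (.inr i) 1)
    · simpa [hB, Pi.single_apply] using hx (Pi.single (.inl i) 1)
  exact ⟨fun x hx => key x hx, fun y hy => key y fun x => by rw [QuadraticMap.polar_comm]; exact hy x⟩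

theorem nondeg_minus (m : ℕ) : (QuadraticMap.polarBilin (qfMinus m (ZMod 2) 1 1)).Nondegenerate := by
  have hB : ∀ x y, QuadraticMap.polar ⇑(qfMinus m (ZMod 2) 1 1) x y =
      (∑ i : Fin m, (x (.inl (.inl i)) * y (.inl (.inr i)) + x (.inl (.inr i)) * y (.inl (.inl i)))) +
        (x (.inr 0) * y (.inr 1) + x (.inr 1) * y (.inr 0)) := fun x y => by
    have h2 : (2 : ZMod 2) = 0 := rfl
    simp only [QuadraticMap.polar, qfMinus_apply, quadFormMinus, Pi.add_apply, one_mul]
    rw [show (∑ i : Fin m, (x (.inl (.inl i)) + y (.inl (.inl i))) * (x (.inl (.inr i)) + y (.inl (.inr i)))) =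
      (∑ i : Fin m, x (.inl (.inl i)) * x (.inl (.inr i))) + (∑ i : Fin m, y (.inl (.inl i)) * y (.inl (.inr i))) +
      ∑ i : Fin m, (x (.inl (.inl i)) * y (.inl (.inr i)) + x (.inl (.inr i)) * y (.inl (.inl i))) by
        rw [← Finset.sum_add_distrib, ← Finset.sum_add_distrib]; exact Finset.sum_congr rfl fun i _ => by ring]
    linear_combination (x (.inr 0) * y (.inr 0) + x (.inr 1) * y (.inr 1)) * h2
  have key : ∀ x, (∀ y, QuadraticMap.polar ⇑(qfMinus m (ZMod 2) 1 1) x y = 0) → x = 0 := fun x hx => by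
    funext s
    rcases s with (i | i) | j
    · simpa [hB, Pi.single_apply] using hx (Pi.single (.inl (.inr i)) 1)
    · simpa [hB, Pi.single_apply] using hx (Pi.single (.inl (.inl i)) 1)
    · fin_cases j
      · simpa [hB, Pi.single_apply] using hx (Pi.single (.inr 1) 1)
      · simpa [hB, Pi.single_apply] using hx (Pi.single (.inr 0) 1)
  exact ⟨fun x hx => key x hx, fun y hy => key y fun x => by rw [QuadraticMap.polar_comm]; exact hy x⟩

end Cfsg.Agent.Spor.OrthTwo
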