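import Cfsg.Agent.Lib.Spor.ThreeTransFiveHom
import Cfsg.Agent.Lib.Spor.FischerTrichotomy
import Cfsg.Agent.Lib.Spor.ThreeTransPerp

/-! Transpositions whose perpendicular generates a symmetric group of degree 3. -/

set_option autoImplicit false
set_option linter.style.haveILetI false
set_option linter.unusedSectionVars false

namespace Cfsg.Agent.Spor.PetersenLocal

open Cfsg

universe u

variable {G : Type u} [Group G] [Finite G] {D : Set G}

/-- The other members commuting with a member. -/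
def nbr (D : Set G) (d : G) : Set G := {y | y ∈ D ∧ y ≠ d ∧ Commute d y}

theorem nbr_symm {d a : G} (hd : d ∈ D) (ha : a ∈ nbr D d) : d ∈ nbr D a := ⟨hd, ha.2.1.symm, ha.2.2.symm⟩

set_option maxRecDepth 100000 in
set_option synthInstance.maxSize 20000 in
set_option synthInstance.maxHeartbeats 1000000 in
/-- Three points whose links form a colouring of the Petersen graph do not exist. -/
theorem no_colouring :
    ∀ o0 o1 : Fin 3, o0 ≠ o1 → ∀ o2, o1 ≠ o2 → ∀ o3, o2 ≠ o3 → ∀ o4, o3 ≠ o4 → o4 ≠ o0 →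
    ∀ s0, s0 ≠ o0 → s0 ≠ o4 → ∀ s1, s1 ≠ o1 → s1 ≠ o0 → ∀ s2, s2 ≠ o2 → s2 ≠ o1 →
    ∀ s3, s3 ≠ o3 → s3 ≠ o2 → ∀ s4, s4 ≠ o4 → s4 ≠ o3 →
    ∀ n0, n0 ≠ s0 → n0 ≠ s2 → ∀ n2, n2 ≠ s2 → n2 ≠ s4 → n0 ≠ n2 → ∀ n4, n4 ≠ s4 → n4 ≠ s1 → n2 ≠ n4 →
    ∀ n1, n1 ≠ s1 → n1 ≠ s3 → n4 ≠ n1 → ∀ n3, n3 ≠ s3 → n3 ≠ s0 → n1 ≠ n3 → n3 ≠ n0 → False := by
  decide +kernel

theorem twist_key : ∀ p q r s : ZMod 3, -(p * -1 + r * 0) - (p * -(p * 1 + r * 0) + r * (q * 1 + s * 0)) = 0 →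
    q * -1 + s * 0 - (q * -(p * 1 + r * 0) + s * (q * 1 + s * 0)) = 0 →
      p * 1 + r * -0 - (p * (p * 1 + r * 0) + r * -(q * 1 + s * 0)) = 0 →
      -(q * 1 + s * -0) - (q * (p * 1 + r * 0) + s * -(q * 1 + s * 0)) = 0 → p = 0 ∧ q = 0 := by decide +kernel

set_option synthInstance.maxSize 4000 in
set_option synthInstance.maxHeartbeats 400000 in
theorem five_others : ∀ i j : Fin 5, i ≠ j →
    ∃ k l m : Fin 5, i ≠ k ∧ i ≠ l ∧ i ≠ m ∧ j ≠ k ∧ j ≠ l ∧ j ≠ m ∧ k ≠ l ∧ k ≠ m ∧ l ≠ m := by decide +kernel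

theorem perm_three_involutions : ∀ σ : Equiv.Perm (Fin 3), σ ≠ 1 → σ * σ = 1 →
    σ = Equiv.swap 0 1 ∨ σ = Equiv.swap 1 2 ∨ σ = Equiv.swap 0 2 := by decide +kernel

theorem perm_three_noncomm : ∃ σ τ : Equiv.Perm (Fin 3), σ * τ ≠ τ * σ := by decide +kernel

theorem perm_three_conj : ∀ σ τ : Equiv.Perm (Fin 3), σ ≠ 1 → σ * σ = 1 → τ ≠ 1 → τ * τ = 1 → σ ≠ τ →
    σ * τ ≠ τ * σ := by decide +kernel

theorem perm_three_centre : ∀ σ : Equiv.Perm (Fin 3), (∀ τ, σ * τ = τ * σ) → σ = 1 := by decide +kernel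

theorem perm_three_third : ∀ σ τ υ : Equiv.Perm (Fin 3), σ ≠ 1 → σ * σ = 1 → τ ≠ 1 → τ * τ = 1 → σ ≠ τ →
    υ ≠ 1 → υ * υ = 1 → υ = σ ∨ υ = τ ∨ υ = σ * τ * σ := by decide +kernel

variable (hD : IsThreeTranspositionSet D) (hconj : ∀ g : G, ∀ d ∈ D, g * d * g⁻¹ ∈ D)
  (hloc : ∀ d ∈ D, Nonempty (↥(Subgroup.closure (nbr D d)) ≃* Equiv.Perm (Fin 3)))

include hD hconj in
theorem conj_mem_nbr {d a b : G} (ha : a ∈ nbr D d) (hb : b ∈ nbr D d) : a * b * a ∈ nbr D d := by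
  have hc : Commute d (a * b * a) := (ha.2.2.mul_right hb.2.2).mul_right ha.2.2
  refine ⟨by have := hconj a b hb.1; rwa [ThreeTrans.inv_eq hD ha.1] at this, fun e => hb.2.1 ?_, hc⟩
  calc b = a * (a * b * a) * a := by simp [mul_assoc, ThreeTrans.mul_self_mul hD ha.1, ThreeTrans.mul_self hD ha.1]
    _ = d := by rw [e, ← ha.2.2.symm.eq.symm, mul_assoc, ThreeTrans.mul_self hD ha.1, mul_one]

include hD hloc in
theorem nbr_noncomm {d a b : G} (hd : d ∈ D) (ha : a ∈ nbr D d) (hb : b ∈ nbr D d) (hab : a ≠ b) :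
    ¬ Commute a b := fun hc => by
  obtain ⟨e⟩ := hloc d hd
  let a' : Subgroup.closure (nbr D d) := ⟨a, Subgroup.subset_closure ha⟩
  let b' : Subgroup.closure (nbr D d) := ⟨b, Subgroup.subset_closure hb⟩
  have h1 : ∀ x (hx : x ∈ nbr D d), e ⟨x, Subgroup.subset_closure hx⟩ ≠ 1 ∧
      e ⟨x, Subgroup.subset_closure hx⟩ * e ⟨x, Subgroup.subset_closure hx⟩ = 1 := fun x hx =>
    ⟨fun h => ThreeTrans.ne_one hD hx.1 (congrArg Subtype.val ((map_eq_one_iff e e.injective).mp h)),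
      by rw [← map_mul, ← map_one e]; exact congrArg e (Subtype.ext (ThreeTrans.mul_self hD hx.1))⟩
  refine perm_three_conj (e a') (e b') (h1 a ha).1 (h1 a ha).2 (h1 b hb).1 (h1 b hb).2
    (fun h => hab (congrArg Subtype.val (e.injective h))) ?_
  rw [← map_mul, ← map_mul]
  exact congrArg e (Subtype.ext hc.eq)

include hD hloc in
theorem nbr_cases {d a b y : G} (hd : d ∈ D) (ha : a ∈ nbr D d) (hb : b ∈ nbr D d) (hab : a ≠ b)
    (hy : y ∈ nbr D d) : y = a ∨ y = b ∨ y = a * b * a := by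
  obtain ⟨e⟩ := hloc d hd
  have h1 : ∀ x (hx : x ∈ nbr D d), e ⟨x, Subgroup.subset_closure hx⟩ ≠ 1 ∧
      e ⟨x, Subgroup.subset_closure hx⟩ * e ⟨x, Subgroup.subset_closure hx⟩ = 1 := fun x hx =>
    ⟨fun h => ThreeTrans.ne_one hD hx.1 (congrArg Subtype.val ((map_eq_one_iff e e.injective).mp h)),
      by rw [← map_mul, ← map_one e]; exact congrArg e (Subtype.ext (ThreeTrans.mul_self hD hx.1))⟩
  have := perm_three_third _ _ _ (h1 a ha).1 (h1 a ha).2 (h1 b hb).1 (h1 b hb).2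
    (fun h => hab (congrArg Subtype.val (e.injective h))) (h1 y hy).1 (h1 y hy).2
  simp only [← map_mul] at this
  exact this.imp (fun h => congrArg Subtype.val (e.injective h))
    (Or.imp (fun h => congrArg Subtype.val (e.injective h)) (fun h => congrArg Subtype.val (e.injective h)))

include hD hloc in
theorem nbr_pair {d : G} (hd : d ∈ D) : ∃ a ∈ nbr D d, ∃ b ∈ nbr D d, a ≠ b := by
  by_contra hcon
  obtain ⟨e⟩ := hloc d hd
  haveI : IsMulCommutative (Subgroup.closure (nbr D d)) := Subgroup.isMulCommutative_closure fun a ha b hb => by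
    by_cases h : a = b
    · rw [h]
    · exact absurd ⟨a, ha, b, hb, h⟩ hcon
  obtain ⟨σ, τ, h⟩ := perm_three_noncomm
  refine h ?_
  obtain ⟨σ', rfl⟩ := e.surjective σ
  obtain ⟨τ', rfl⟩ := e.surjective τ
  rw [← map_mul, ← map_mul]
  exact congrArg e ((IsMulCommutative.is_comm (M := Subgroup.closure (nbr D d))).comm _ _)

include hD hconj hloc in
theorem nbr_subset {d : G} (hd : d ∈ D) {a b : G} (ha : a ∈ nbr D d) (hb : b ∈ nbr D d) (hab : a ≠ b) {S : Set G}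
    (h1 : a ∈ S) (h2 : b ∈ S) (h3 : a * b * a ∈ S) : nbr D d ⊆ S := fun y hy => by
  rcases nbr_cases hD hloc hd ha hb hab hy with rfl | rfl | rfl
  · exact h1
  · exact h2
  · exact h3

/-- The link of an edge seen from an outside point. -/
def link (y a d : G) : G := a * (d * y * d) * a

include hD hconj in
theorem link_mem {y a d : G} (hy : y ∈ D) (ha : a ∈ D) (hd : d ∈ D) (had : a ≠ d) (hc : Commute a d)
    (hya : ¬ Commute y a) (hyd : ¬ Commute y d) : link y a d ∈ nbr D y := by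
  have h1 : link y a d ∈ D := by
    have := hconj a _ (hconj d y hy)
    rwa [ThreeTrans.inv_eq hD hd, ThreeTrans.inv_eq hD ha] at this
  have h2 : y * link y a d * y = link y a d := by
    have ba := ThreeTrans.braid hD hy ha hya
    have bd := ThreeTrans.braid hD hy hd hyd
    calc y * link y a d * y = y * a * (d * y * d) * (a * y) := by simp only [link, mul_assoc]
      _ = (y * a * y) * d * (y * a * y) := by rw [← bd]; simp only [mul_assoc]
      _ = (a * y * a) * d * (a * y * a) := by rw [ba]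
      _ = a * y * (a * d * a) * y * a := by simp only [mul_assoc]
      _ = a * (y * d * y) * a := by
        rw [hc.eq, mul_assoc d, ThreeTrans.mul_self hD ha, mul_one]; simp only [mul_assoc]
      _ = link y a d := by rw [bd, link]
  refine ⟨h1, fun e => ?_, ?_⟩
  · have h3 : Commute y (a * d) := by
      show y * (a * d) = (a * d) * y
      conv_lhs => rw [← e, link]
      simp only [mul_assoc, ThreeTrans.mul_self_mul hD ha, ThreeTrans.mul_self hD hd, mul_one]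
    exact hya ((ThreeTrans.commute_mul_iff hD ha hd hy had hc).mp h3).1
  · show y * link y a d = link y a d * y
    conv_rhs => rw [← h2]
    rw [mul_assoc, ThreeTrans.mul_self hD hy, mul_one]

include hD hconj in
theorem link_inj {y a d e : G} (hy : y ∈ D) (ha : a ∈ D) (hd : d ∈ D) (he : e ∈ D)
    (hyd : ¬ Commute y d) (hye : ¬ Commute y e) (h : link y a d = link y a e) : d = e := by
  simp only [link, mul_assoc] at h
  have h' := mul_left_cancel h
  simp only [← mul_assoc] at h'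
  have h'' := mul_right_cancel h'
  rw [← ThreeTrans.braid hD hy hd hyd, ← ThreeTrans.braid hD hy he hye] at h''
  exact mul_left_cancel (mul_right_cancel h'')

include hD in
theorem link_symm {y a d : G} (ha : a ∈ D) (hd : d ∈ D) (hc : Commute a d) : link y a d = link y d a := by
  calc link y a d = (a * d) * y * (d * a) := by simp only [link, mul_assoc]
    _ = (d * a) * y * (a * d) := by rw [hc.eq]
    _ = link y d a := by simp only [link, mul_assoc]

section caseA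

variable {a b d x : G} (hd : d ∈ D) (ha : a ∈ nbr D d) (hb : b ∈ nbr D d) (hab : a ≠ b)
  (hx : x ∈ nbr D a) (hx' : x ∈ nbr D b) (hxd : x ≠ d)

include hD hconj hloc hd ha hb hab hx hx' hxd in
/-- The component of a pair of interchangeable members. -/
theorem comp_A : (nbr D d = {a, b, a * b * a}) ∧ (nbr D x = {a, b, a * b * a}) ∧
    nbr D a = {d, x, d * x * d} ∧ nbr D b = {d, x, d * x * d} ∧
    nbr D (a * b * a) = {d, x, d * x * d} ∧ nbr D (d * x * d) = {a, b, a * b * a} := by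
  have eq_of : ∀ {p q r : G}, p ∈ D → q ∈ nbr D p → r ∈ nbr D p → q ≠ r → nbr D p = {q, r, q * r * q} := by
    intro p q r hp hq hr hne
    refine Set.Subset.antisymm (fun y hy => nbr_cases hD hloc hp hq hr hne hy) ?_
    rintro y (rfl | rfl | rfl)
    · exact hq
    · exact hr
    · exact conj_mem_nbr hD hconj hq hr
  have da := nbr_symm hd ha
  have db := nbr_symm hd hb
  have hxa := nbr_symm ha.1 hx
  have hxb := nbr_symm hb.1 hx'
  have hc := conj_mem_nbr hD hconj ha hb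
  have hcx := conj_mem_nbr hD hconj hxa hxb
  have hf := conj_mem_nbr hD hconj da hx
  have hf' := conj_mem_nbr hD hconj db hx'
  exact ⟨eq_of hd ha hb hab, eq_of hx.1 hxa hxb hab, eq_of ha.1 da hx hxd.symm, eq_of hb.1 db hx' hxd.symm,
    eq_of hc.1 (nbr_symm hd hc) (nbr_symm hx.1 hcx) hxd.symm,
    eq_of hf.1 (nbr_symm ha.1 hf) (nbr_symm hb.1 hf') hab⟩

include hD hconj hloc hd ha hb hab hx hx' hxd in
theorem no_outside (h3 : ∀ e ∈ D, Nat.card (pCore 3 ↥(Subgroup.centralizer ({e} : Set G))) = 3) {y : G} (hy : y ∈ D)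
    (hout : y ∉ ({a, b, a * b * a, d, x, d * x * d} : Set G)) : False := by
  obtain ⟨nd, nx, na, nb, nc, nf⟩ := comp_A hD hconj hloc hd ha hb hab hx hx' hxd
  obtain ⟨C, eC⟩ : ∃ C : Set G, C = {a, b, a * b * a, d, x, d * x * d} := ⟨_, rfl⟩
  rw [← eC] at hout
  have hCD : ∀ z ∈ C, z ∈ D := by
    rw [eC]
    rintro z (rfl | rfl | rfl | rfl | rfl | rfl)
    · exact ha.1
    · exact hb.1
    · exact (conj_mem_nbr hD hconj ha hb).1
    · exact hd
    · exact hx.1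
    · exact (conj_mem_nbr hD hconj (nbr_symm hd ha) hx).1
  have hclosed : ∀ z ∈ C, nbr D z ⊆ C := by
    rw [eC]
    rintro z (rfl | rfl | rfl | rfl | rfl | rfl)
    · rw [na]; rintro w (rfl | rfl | rfl) <;> simp
    · rw [nb]; rintro w (rfl | rfl | rfl) <;> simp
    · rw [nc]; rintro w (rfl | rfl | rfl) <;> simp
    · rw [nd]; rintro w (rfl | rfl | rfl) <;> simp
    · rw [nx]; rintro w (rfl | rfl | rfl) <;> simp
    · rw [nf]; rintro w (rfl | rfl | rfl) <;> simp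
  have hyC : ∀ w ∈ D, w ∉ C → ∀ z ∈ C, ¬ Commute w z := fun w hw hwC z hz hc => by
    by_cases e : w = z
    · exact hwC (e ▸ hz)
    · exact hwC (hclosed z hz ⟨hw, e, hc.symm⟩)
  have haC : a ∈ C := by rw [eC]; simp
  have hdC : d ∈ C := by rw [eC]; simp
  let H := Subgroup.closure D
  let E : Set H := {z | (z : G) ∈ D}
  have hEmem : ∀ z, z ∈ D → z ∈ H := fun z hz => Subgroup.subset_closure hz
  have hcl : IsThreeTranspositionClass E := by
    refine ThreeTrans.isClass_of_chain ⟨fun z hz => by rw [← Subgroup.orderOf_coe]; exact hD.1 _ hz, fun p hp q hq => ?_⟩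
      (fun g z hz => hconj g z hz) (ThreeTrans.closure_preimage D) ⟨⟨y, hEmem y hy⟩, hy⟩ ?_
    · exact (hD.2 _ hp _ hq).imp (fun h => Subtype.ext (by simpa using h)) (fun h => Subtype.ext (by simpa using h))
    · intro p hp q hq hpq
      by_cases e : p = q
      · exact Or.inl e
      right
      have hpq' : Commute (p : G) q := congrArg Subtype.val hpq
      have hne : (p : G) ≠ q := fun h => e (Subtype.ext h)
      have lift : ∀ r s : H, Commute r s → Commute (r : G) s := fun r s h => congrArg Subtype.val h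
      by_cases hp' : (p : G) ∈ C
      · have hq' := hclosed _ hp' (show (q : G) ∈ nbr D p from ⟨hq, hne.symm, hpq'⟩)
        exact ⟨⟨y, hEmem y hy⟩, hy, fun h => hyC y hy hout _ hp' (lift _ _ h).symm,
          fun h => hyC y hy hout _ hq' (lift _ _ h)⟩
      · have hq' : (q : G) ∉ C := fun hq' => hp' (hclosed _ hq' ⟨hp, hne, hpq'.symm⟩)
        exact ⟨⟨a, hEmem a ha.1⟩, ha.1, fun h => hyC _ hp hp' a haC (lift _ _ h),
          fun h => hyC _ hq hq' a haC (lift _ _ h).symm⟩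
  have perp : ∀ p q : G, ∀ hp : p ∈ D, ∀ hq : q ∈ D, nbr D p = nbr D q →
      ∃ hm : p * q ∈ H, (⟨p * q, hm⟩ : H) ∈ pCore 3 H := by
    intro p q hp hq e
    refine ⟨mul_mem (hEmem p hp) (hEmem q hq), ThreeTrans.mul_mem_core_three (D := E) hcl
      (a := ⟨p, hEmem p hp⟩) (b := ⟨q, hEmem q hq⟩) ⟨hp, hq, Set.ext fun z => ?_⟩⟩
    have h' := Set.ext_iff.mp e (z : G)
    simp only [nbr, Set.mem_setOf_eq] at h'
    refine ⟨fun ⟨h1, h2, h3⟩ => ?_, fun ⟨h1, h2, h3⟩ => ?_⟩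
    · obtain ⟨g1, g2, g3⟩ := h'.mp ⟨h1, fun ee => h2 (Subtype.ext ee), congrArg Subtype.val h3⟩
      exact ⟨g1, fun ee => g2 (congrArg Subtype.val ee), Subtype.ext g3⟩
    · obtain ⟨g1, g2, g3⟩ := h'.mpr ⟨h1, fun ee => h2 (Subtype.ext ee), congrArg Subtype.val h3⟩
      exact ⟨g1, fun ee => g2 (congrArg Subtype.val ee), Subtype.ext g3⟩
  obtain ⟨huH, huN⟩ := perp a b ha.1 hb.1 (na.trans nb.symm)
  obtain ⟨hvH, hvN⟩ := perp d x hd hx.1 (nd.trans nx.symm)
  obtain ⟨u, eu⟩ : ∃ u, u = a * b := ⟨_, rfl⟩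
  obtain ⟨v, ev⟩ : ∃ v, v = d * x := ⟨_, rfl⟩
  haveI : Fact (Nat.Prime 3) := ⟨Nat.prime_three⟩
  let N : Subgroup G := (pCore 3 H).map H.subtype
  haveI hHn : H.Normal := ⟨fun z hz g => by
    induction hz using Subgroup.closure_induction with
    | mem w hw => exact Subgroup.subset_closure (hconj g w hw)
    | one => simp
    | mul p q _ _ hp hq => rw [show g * (p * q) * g⁻¹ = g * p * g⁻¹ * (g * q * g⁻¹) by group]; exact mul_mem hp hq
    | inv p _ hp => rw [show g * p⁻¹ * g⁻¹ = (g * p * g⁻¹)⁻¹ by group]; exact inv_mem hp⟩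
  haveI hNn : N.Normal := ConjAct.normal_of_characteristic_of_normal
  have huN' : u ∈ N := eu ▸ ⟨_, huN, rfl⟩
  have hvN' : v ∈ N := ev ▸ ⟨_, hvN, rfl⟩
  have cad : Commute a d := ha.2.2.symm
  have hnab : ¬ Commute a b := nbr_noncomm hD hloc hd ha hb hab
  have hndx : ¬ Commute d x := nbr_noncomm hD hloc ha.1 (nbr_symm hd ha) hx hxd.symm
  have hu3 : u ^ 3 = 1 := eu ▸ (hD.2 a ha.1 b hb.1).resolve_left fun h => hnab (by
    have := inv_eq_of_mul_eq_one_right (show (a * b) * (a * b) = 1 by rw [← pow_two, h])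
    rw [mul_inv_rev, ThreeTrans.inv_eq hD ha.1, ThreeTrans.inv_eq hD hb.1] at this
    exact this.symm)
  have hv3 : v ^ 3 = 1 := ev ▸ (hD.2 d hd x hx.1).resolve_left fun h => hndx (by
    have := inv_eq_of_mul_eq_one_right (show (d * x) * (d * x) = 1 by rw [← pow_two, h])
    rw [mul_inv_rev, ThreeTrans.inv_eq hD hd, ThreeTrans.inv_eq hD hx.1] at this
    exact this.symm)
  have hu1 : u ≠ 1 := fun h => hab (by
    rw [eu] at h; exact (eq_inv_of_mul_eq_one_left h).trans (ThreeTrans.inv_eq hD hb.1))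
  have hv1 : v ≠ 1 := fun h => hxd (by
    rw [ev] at h; exact ((eq_inv_of_mul_eq_one_right h).trans (ThreeTrans.inv_eq hD hd)))
  have aua : a * u * a⁻¹ = u⁻¹ := by
    rw [eu, mul_inv_rev, ThreeTrans.inv_eq hD ha.1, ThreeTrans.inv_eq hD hb.1]
    simp [mul_assoc, ThreeTrans.mul_self_mul hD ha.1]
  have ava : a * v * a⁻¹ = v := by
    rw [ev, (cad.mul_right hx.2.2).eq, mul_inv_cancel_right]
  have dud : d * u * d⁻¹ = u := by
    rw [eu, (ha.2.2.mul_right hb.2.2).eq, mul_inv_cancel_right]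
  have dvd' : d * v * d⁻¹ = v⁻¹ := by
    rw [ev, mul_inv_rev, ThreeTrans.inv_eq hD hd, ThreeTrans.inv_eq hD hx.1]
    simp [mul_assoc, ThreeTrans.mul_self_mul hD hd]
  have huv : Commute u v := by
    rw [eu, ev]
    exact ((cad.mul_right hx.2.2).mul_left (hb.2.2.symm.mul_right hx'.2.2))
  have ou : orderOf u = 3 := orderOf_eq_prime hu3 hu1
  have ov : orderOf v = 3 := orderOf_eq_prime hv3 hv1
  -- the part of the core centralising `d`
  have hcent : ∀ n ∈ N, Commute n d → n ∈ Subgroup.zpowers u := by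
    let K : Subgroup (Subgroup.centralizer ({d} : Set G)) := N.subgroupOf _
    have hK : K ≤ pCore 3 _ := by
      refine Grp.le_pCore (hNn.subgroupOf _) ?_
      exact (((Grp.pCore_isPGroup (p := 3) (G := H)).map H.subtype).comap_of_injective
        (Subgroup.centralizer ({d} : Set G)).subtype Subtype.val_injective)
    have hcard : Nat.card K ≤ 3 := (Subgroup.card_le_of_le hK).trans (h3 d hd).le
    have huc : u ∈ Subgroup.centralizer ({d} : Set G) := Subgroup.mem_centralizer_singleton_iff.mpr (by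
      rw [eu]; exact (ha.2.2.mul_right hb.2.2).eq.symm)
    have hle : Subgroup.zpowers (⟨u, huc⟩ : Subgroup.centralizer ({d} : Set G)) ≤ K :=
      Subgroup.zpowers_le.mpr huN'
    have heq := Subgroup.eq_of_le_of_card_ge hle (by rw [Nat.card_zpowers, ← Subgroup.orderOf_coe, ou]; exact hcard)
    intro n hn hc
    have : (⟨n, Subgroup.mem_centralizer_singleton_iff.mpr hc.eq⟩ : Subgroup.centralizer ({d} : Set G)) ∈ K := hn
    rw [← heq, Subgroup.mem_zpowers_iff] at this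
    obtain ⟨k, hk⟩ := this
    exact Subgroup.mem_zpowers_iff.mpr ⟨k, by simpa using congrArg Subtype.val hk⟩
  -- the core has order nine
  have hspan : ∀ n ∈ N, ∃ i j : ℤ, n = u ^ i * v ^ j := by
    rintro n ⟨⟨n, hnH⟩, hn, rfl⟩
    have hp := ThreeTrans.perpThree_of_core (D := E) hcl (a := ⟨d, hEmem d hd⟩)
      (b := ⟨n, hnH⟩ * ⟨d, hEmem d hd⟩ * ⟨n, hnH⟩⁻¹) hd (hconj n d hd) (by
        rw [show (⟨d, hEmem d hd⟩ : H) * (⟨n, hnH⟩ * ⟨d, hEmem d hd⟩ * ⟨n, hnH⟩⁻¹) =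
          (⟨d, hEmem d hd⟩ * ⟨n, hnH⟩ * ⟨d, hEmem d hd⟩⁻¹) * ⟨n, hnH⟩⁻¹ by
            rw [show (⟨d, hEmem d hd⟩ : H)⁻¹ = ⟨d, hEmem d hd⟩ from Subtype.ext (ThreeTrans.inv_eq hD hd)]; group]
        exact mul_mem ((inferInstance : (pCore 3 H).Normal).conj_mem _ hn _) (inv_mem hn))
    have hwa : n * d * n⁻¹ ∈ nbr D a := by
      obtain ⟨g1, g2, g3⟩ := (Set.ext_iff.mp hp.2.2 ⟨a, hEmem a ha.1⟩).mp
        ⟨ha.1, fun e => ha.2.1 (congrArg Subtype.val e), Subtype.ext ha.2.2⟩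
      exact ⟨hconj n d hd, fun e => g2 (Subtype.ext e.symm), (congrArg Subtype.val g3).symm⟩
    rw [na] at hwa
    obtain ⟨m, hm⟩ : ∃ m : ℤ, n * d * n⁻¹ = v ^ m * d * (v ^ m)⁻¹ := by
      have hbr := ThreeTrans.braid hD hd hx.1 hndx
      rcases hwa with e | e | e
      · exact ⟨0, by simp only [zpow_zero, one_mul, inv_one, mul_one]; exact e⟩
      · refine ⟨1, e.trans ?_⟩
        rw [zpow_one, ev, mul_inv_rev, ThreeTrans.inv_eq hD hd, ThreeTrans.inv_eq hD hx.1]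
        calc x = x * x * (x) := by simp [ThreeTrans.mul_self hD hx.1]
          _ = d * (d * x * d) * d := by
            simp only [mul_assoc, ThreeTrans.mul_self_mul hD hd, ThreeTrans.mul_self hD hd, ThreeTrans.mul_self hD hx.1, mul_one, one_mul]
          _ = d * (x * d * x) * d := by rw [hbr]
          _ = _ := by simp only [mul_assoc]
      · refine ⟨-1, e.trans ?_⟩
        rw [zpow_neg_one, inv_inv, ev, mul_inv_rev, ThreeTrans.inv_eq hD hd, ThreeTrans.inv_eq hD hx.1]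
        calc d * x * d = x * d * x := hbr
          _ = _ := by simp only [mul_assoc, ThreeTrans.mul_self_mul hD hd]
    have hmem : (v ^ m)⁻¹ * n ∈ N := mul_mem (inv_mem (zpow_mem hvN' m)) ⟨_, hn, rfl⟩
    have hc : Commute ((v ^ m)⁻¹ * n) d := by
      refine mul_inv_eq_iff_eq_mul.mp ?_
      calc (v ^ m)⁻¹ * n * d * ((v ^ m)⁻¹ * n)⁻¹ = (v ^ m)⁻¹ * (n * d * n⁻¹) * v ^ m := by group
        _ = d := by rw [hm]; group
    obtain ⟨k, hk⟩ := Subgroup.mem_zpowers_iff.mp (hcent _ hmem hc)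
    exact ⟨k, m, by
      show n = _
      rw [(huv.zpow_zpow k m).eq, hk, mul_inv_cancel_left]⟩
  -- the action of the outside point is contradictory
  obtain ⟨p, q, hpq⟩ := hspan _ (hNn.conj_mem u huN' y)
  obtain ⟨r, s, hrs⟩ := hspan _ (hNn.conj_mem v hvN' y)
  have lin : ∀ z : G, ∀ i j : ℤ, z * (u ^ i * v ^ j) * z⁻¹ = (z * u * z⁻¹) ^ i * (z * v * z⁻¹) ^ j := fun z i j => by
    rw [conj_zpow, conj_zpow]; group
  have mulform : ∀ i j k l : ℤ, u ^ i * v ^ j * (u ^ k * v ^ l) = u ^ (i + k) * v ^ (j + l) := fun i j k l => by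
    rw [mul_assoc, ← mul_assoc (v ^ j), ((huv.zpow_zpow k j).symm).eq, zpow_add, zpow_add]
    simp only [mul_assoc]
  have cy : ∀ i j : ℤ, y * (u ^ i * v ^ j) * y⁻¹ = u ^ (p * i + r * j) * v ^ (q * i + s * j) := fun i j => by
    rw [lin, hpq, hrs, (huv.zpow_zpow p q).mul_zpow, (huv.zpow_zpow r s).mul_zpow, ← zpow_mul, ← zpow_mul, ← zpow_mul,
      ← zpow_mul, mulform]
  have ca : ∀ i j : ℤ, a * (u ^ i * v ^ j) * a⁻¹ = u ^ (-i) * v ^ j := fun i j => by
    rw [lin, aua, ava, inv_zpow']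
  have cd : ∀ i j : ℤ, d * (u ^ i * v ^ j) * d⁻¹ = u ^ i * v ^ (-j) := fun i j => by
    rw [lin, dud, dvd', inv_zpow']
  have inj : ∀ i j k l : ℤ, u ^ i * v ^ j = u ^ k * v ^ l → (3 : ℤ) ∣ i - k ∧ (3 : ℤ) ∣ j - l := by
    intro i j k l h
    have h0 : u ^ (i - k) * v ^ (j - l) = 1 := by
      have h' := congrArg (fun z => z * (u ^ (-k) * v ^ (-l))) h
      simp only [mulform, add_neg_cancel, zpow_zero, mul_one] at h'
      rw [sub_eq_add_neg, sub_eq_add_neg]; exact h'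
    have h1 := ca (i - k) (j - l)
    rw [h0, mul_one, mul_inv_cancel] at h1
    have h2 : u ^ (i - k) = u ^ (-(i - k)) := mul_right_cancel (h0.trans h1)
    have h3 : u ^ (2 * (i - k)) = 1 := by rw [two_mul, zpow_add]; nth_rewrite 2 [h2]; rw [← zpow_add, add_neg_cancel, zpow_zero]
    rw [← orderOf_dvd_iff_zpow_eq_one, ou] at h3
    have h4 : (3 : ℤ) ∣ i - k := (Int.prime_three.dvd_or_dvd h3).resolve_left (by norm_num)
    refine ⟨h4, ?_⟩
    rw [show u ^ (i - k) = 1 from orderOf_dvd_iff_zpow_eq_one.mp (ou.symm ▸ h4), one_mul, ← orderOf_dvd_iff_zpow_eq_one,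
      ov] at h0
    exact h0
  have braidC : ∀ z, z ∈ D → ¬ Commute y z → ∀ w : G, z * (y * (z * w * z⁻¹) * y⁻¹) * z⁻¹ = y * (z * (y * w * y⁻¹) * z⁻¹) * y⁻¹ := by
    intro z hz hc w
    have e := ThreeTrans.braid hD hy hz hc
    calc z * (y * (z * w * z⁻¹) * y⁻¹) * z⁻¹ = (z * y * z) * w * (z * y * z)⁻¹ := by group
      _ = (y * z * y) * w * (y * z * y)⁻¹ := by rw [e]
      _ = _ := by group
  have e1 := braidC a ha.1 (hyC y hy hout a haC) (u ^ (1 : ℤ) * v ^ (0 : ℤ))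
  rw [ca, cy, ca, cy, ca, cy] at e1
  have e2 := braidC d hd (hyC y hy hout d hdC) (u ^ (1 : ℤ) * v ^ (0 : ℤ))
  rw [cd, cy, cd, cy, cd, cy] at e2
  obtain ⟨a1, a2⟩ := inj _ _ _ _ e1
  obtain ⟨b1, b2⟩ := inj _ _ _ _ e2
  obtain ⟨kp, kq⟩ := twist_key p q r s
    (by have := (ZMod.intCast_zmod_eq_zero_iff_dvd _ 3).mpr a1; push_cast at this ⊢; linear_combination this)
    (by have := (ZMod.intCast_zmod_eq_zero_iff_dvd _ 3).mpr a2; push_cast at this ⊢; linear_combination this)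
    (by have := (ZMod.intCast_zmod_eq_zero_iff_dvd _ 3).mpr b1; push_cast at this ⊢; linear_combination this)
    (by have := (ZMod.intCast_zmod_eq_zero_iff_dvd _ 3).mpr b2; push_cast at this ⊢; linear_combination this)
  rw [orderOf_dvd_iff_zpow_eq_one.mp (ou.symm ▸ (ZMod.intCast_zmod_eq_zero_iff_dvd p 3).mp kp),
    orderOf_dvd_iff_zpow_eq_one.mp (ov.symm ▸ (ZMod.intCast_zmod_eq_zero_iff_dvd q 3).mp kq), one_mul] at hpq
  exact hu1 (by simpa using conj_eq_one_iff.mp hpq)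

include hD hconj hloc hd ha hb hab hx hx' hxd in
theorem prod_iso (h3 : ∀ e ∈ D, Nat.card (pCore 3 ↥(Subgroup.centralizer ({e} : Set G))) = 3) :
    Nonempty (↥(Subgroup.closure D) ≃* Equiv.Perm (Fin 3) × Equiv.Perm (Fin 3)) := by
  obtain ⟨nd, nx, na, nb, nc, nf⟩ := comp_A hD hconj hloc hd ha hb hab hx hx' hxd
  obtain ⟨e1⟩ := hloc d hd
  obtain ⟨e2⟩ := hloc a ha.1
  have hall : D ⊆ nbr D d ∪ nbr D a := by
    intro y hy
    rw [nd, na]
    by_contra hcon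
    exact no_outside hD hconj hloc hd ha hb hab hx hx' hxd h3 hy (fun h => hcon (by
      rcases h with rfl | rfl | rfl | rfl | rfl | rfl <;> simp))
  have hgen : ∀ p ∈ nbr D d, ∀ q ∈ nbr D a, Commute p q := by
    intro p hp q hq
    have key : ∀ p', nbr D p' = {d, x, d * x * d} → q ∈ nbr D p' := fun p' e => by rw [e, ← na]; exact hq
    rw [nd] at hp
    rcases hp with rfl | rfl | rfl
    · exact hq.2.2
    · exact (key _ nb).2.2
    · exact (key _ nc).2.2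
  have hcomm : ∀ (m : Subgroup.closure (nbr D d)) (n : Subgroup.closure (nbr D a)),
      Commute ((Subgroup.closure (nbr D d)).subtype m) ((Subgroup.closure (nbr D a)).subtype n) := by
    intro m n
    have h1 : Subgroup.closure (nbr D a) ≤ Subgroup.centralizer (Subgroup.closure (nbr D d) : Set G) := by
      rw [Subgroup.centralizer_closure, Subgroup.closure_le]
      exact fun q hq => Subgroup.mem_centralizer_iff.mpr fun p hp => (hgen p hp q hq).eq
    exact Subgroup.mem_centralizer_iff.mp (h1 n.2) m m.2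
  let f := MonoidHom.noncommCoprod _ _ hcomm
  have hinj : Function.Injective f := by
    rw [injective_iff_map_eq_one]
    rintro ⟨m, n⟩ hmn
    rw [MonoidHom.noncommCoprod_apply] at hmn
    have hm : m = 1 := by
      refine e1.injective ((perm_three_centre _ fun τ => ?_).trans (map_one e1).symm)
      obtain ⟨m', rfl⟩ := e1.surjective τ
      rw [← map_mul, ← map_mul]
      refine congrArg e1 (Subtype.ext ?_)
      have hc := (hcomm m' n).inv_right
      rw [← eq_inv_of_mul_eq_one_left hmn] at hc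
      exact hc.eq.symm
    subst hm
    have : n = 1 := Subtype.ext (by simpa using hmn)
    rw [this]; rfl
  have hr : f.range = Subgroup.closure D := by
    rw [MonoidHom.noncommCoprod_range, Subgroup.range_subtype, Subgroup.range_subtype, ← Subgroup.closure_union]
    exact le_antisymm (Subgroup.closure_mono (Set.union_subset (fun y hy => hy.1) (fun y hy => hy.1)))
      (Subgroup.closure_mono hall)
  exact ⟨((MonoidHom.ofInjective hinj).trans (MulEquiv.subgroupCongr hr)).symm.trans (e1.prodCongr e2)⟩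

end caseA

include hD hconj hloc in
theorem five_iso
    (hB : ∀ d ∈ D, ∀ a ∈ nbr D d, ∀ b ∈ nbr D d, a ≠ b → ∀ x ∈ nbr D a, x ∈ nbr D b → x = d) {d : G} (hd : d ∈ D) :
    Nonempty (↥(Subgroup.closure D) ≃* Equiv.Perm (Fin 5)) := by
  obtain ⟨a, ha, b, hb, hab⟩ := nbr_pair hD hloc hd
  obtain ⟨e, he, hed⟩ : ∃ e ∈ nbr D b, e ≠ d := by
    obtain ⟨p, hp, q, hq, hpq⟩ := nbr_pair hD hloc hb.1
    by_cases h : p = d
    · exact ⟨q, hq, fun h' => hpq (h.trans h'.symm)⟩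
    · exact ⟨p, hp, h⟩
  have hnab : ¬ Commute a b := nbr_noncomm hD hloc hd ha hb hab
  have hde : ¬ Commute d e := nbr_noncomm hD hloc hb.1 (nbr_symm hd hb) he hed.symm
  have hea : ¬ Commute e a := fun h => hed (hB d hd a ha b hb hab e
    ⟨he.1, fun e' => hnab (e' ▸ he.2.2.symm), h.symm⟩ he)
  obtain ⟨φ, hinj, f1, f2, f3, f4⟩ := FiveHom.exists_hom_s5 hD hd he.1 ha.1 hb.1 hde hea hnab ha.2.2 hb.2.2
    he.2.2.symm ha.2.1.symm
  have hswap : ∀ i j : Fin 5, i ≠ j → φ (Equiv.swap i j) ∈ D := by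
    have hc : ∀ i j : Fin 5, i ≠ j → ∃ σ : Equiv.Perm (Fin 5), σ * Equiv.swap 0 1 * σ⁻¹ = Equiv.swap i j := fun i j h =>
      isConj_iff.mp (Equiv.Perm.isConj_swap (by decide) h)
    intro i j h
    obtain ⟨σ, e'⟩ := hc i j h
    rw [← e', map_mul, map_mul, map_inv, f1]
    exact hconj _ _ hd
  obtain ⟨T, eT⟩ : ∃ T : Set G, T = {z | ∃ i j : Fin 5, i ≠ j ∧ φ (Equiv.swap i j) = z} := ⟨_, rfl⟩
  have hclosed : ∀ z ∈ T, nbr D z ⊆ T := by
    rw [eT]
    rintro _ ⟨i, j, hij, rfl⟩ w hw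
    obtain ⟨k, l, hk, hl, h1, h2, h3⟩ : ∃ k l : Fin 5 × Fin 5, k.1 ≠ k.2 ∧ l.1 ≠ l.2 ∧
        Equiv.swap i j ≠ Equiv.swap k.1 k.2 ∧ Equiv.swap i j ≠ Equiv.swap l.1 l.2 ∧
        Equiv.swap k.1 k.2 ≠ Equiv.swap l.1 l.2 ∧
        Equiv.swap i j * Equiv.swap k.1 k.2 = Equiv.swap k.1 k.2 * Equiv.swap i j ∧
        Equiv.swap i j * Equiv.swap l.1 l.2 = Equiv.swap l.1 l.2 * Equiv.swap i j := by
      obtain ⟨k, l, m, h⟩ := five_others i j hij
      have hdis : ∀ {p q : Fin 5}, i ≠ p → i ≠ q → j ≠ p → j ≠ q → p ≠ q →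
          Equiv.swap i j ≠ Equiv.swap p q ∧ Equiv.swap i j * Equiv.swap p q = Equiv.swap p q * Equiv.swap i j := by
        intro p q h1 h2 h3 h4 h5
        refine ⟨fun e => ?_, ?_⟩
        · have := congrArg (fun σ : Equiv.Perm (Fin 5) => σ i) e
          simp [Equiv.swap_apply_left, Equiv.swap_apply_of_ne_of_ne h1 h2] at this
          exact hij this.symm
        · refine Equiv.Perm.Disjoint.commute (Equiv.Perm.disjoint_iff_eq_or_eq.mpr fun x => ?_)
          by_cases hxi : x = i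
          · subst hxi; exact Or.inr (Equiv.swap_apply_of_ne_of_ne h1 h2)
          by_cases hxj : x = j
          · subst hxj; exact Or.inr (Equiv.swap_apply_of_ne_of_ne h3 h4)
          exact Or.inl (Equiv.swap_apply_of_ne_of_ne hxi hxj)
      obtain ⟨g1, g2, g3, g4, g5, g6, g7, g8, g9⟩ := h
      refine ⟨(k, l), (k, m), g7, g8, (hdis g1 g2 g4 g5 g7).1, (hdis g1 g3 g4 g6 g8).1, fun e => ?_,
        (hdis g1 g2 g4 g5 g7).2, (hdis g1 g3 g4 g6 g8).2⟩
      have := congrArg (fun σ : Equiv.Perm (Fin 5) => σ k) e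
      simp at this
      exact g9 this
    have hm1 : φ (Equiv.swap k.1 k.2) ∈ nbr D (φ (Equiv.swap i j)) :=
      ⟨hswap _ _ hk, fun e => h1 (hinj e).symm, by show _ * _ = _ * _; rw [← map_mul, ← map_mul, h3.2.1]⟩
    have hm2 : φ (Equiv.swap l.1 l.2) ∈ nbr D (φ (Equiv.swap i j)) :=
      ⟨hswap _ _ hl, fun e => h2 (hinj e).symm, by show _ * _ = _ * _; rw [← map_mul, ← map_mul, h3.2.2]⟩
    refine nbr_subset (S := {z | ∃ i j : Fin 5, i ≠ j ∧ φ (Equiv.swap i j) = z}) hD hconj hloc (hswap i j hij) hm1 hm2 (fun e => h3.1 (hinj e)) ⟨_, _, hk, rfl⟩ ⟨_, _, hl, rfl⟩ ?_ hw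
    refine ⟨Equiv.swap k.1 k.2 l.1, Equiv.swap k.1 k.2 l.2, fun e => hl ((Equiv.swap k.1 k.2).injective e), ?_⟩
    rw [Equiv.swap_apply_apply, map_mul, map_mul, map_inv, ThreeTrans.inv_eq hD (hswap _ _ hk)]
  have hout : ∀ y ∈ D, y ∈ T := by
    intro y hy
    by_contra hyT
    have hnc : ∀ i j : Fin 5, i ≠ j → ¬ Commute y (φ (Equiv.swap i j)) := fun i j hij hc => by
      have hz : φ (Equiv.swap i j) ∈ T := by rw [eT]; exact ⟨i, j, hij, rfl⟩
      by_cases e : y = φ (Equiv.swap i j)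
      · exact hyT (e ▸ hz)
      · exact hyT (hclosed _ hz ⟨hy, e, hc.symm⟩)
    obtain ⟨p, hp, q, hq, hpq⟩ := nbr_pair hD hloc hy
    classical
    let col : G → Fin 3 := fun z => if z = p then 0 else if z = q then 1 else 2
    have hcol : ∀ z w, z ∈ nbr D y → w ∈ nbr D y → col z = col w → z = w := by
      intro z w hz hw h
      have hr : p * q * p ≠ p := fun e => hpq (mul_right_cancel (e.trans (one_mul p).symm) |> fun e' => by
        calc p = p * (p * q) := by rw [e', mul_one]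
          _ = q := ThreeTrans.mul_self_mul hD hp.1 q)
      have hr' : p * q * p ≠ q := fun e => nbr_noncomm hD hloc hy hp hq hpq (by
        show p * q = q * p
        conv_rhs => rw [← e]
        rw [mul_assoc, ThreeTrans.mul_self hD hp.1, mul_one])
      rcases nbr_cases hD hloc hy hp hq hpq hz with rfl | rfl | rfl <;>
        rcases nbr_cases hD hloc hy hp hq hpq hw with rfl | rfl | rfl <;>
        simp_all [col, hpq.symm, hr, hr']
    let sw : Fin 5 × Fin 5 → G := fun e => φ (Equiv.swap e.1 e.2)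
    let f : Fin 5 × Fin 5 → Fin 5 × Fin 5 → Fin 3 := fun e e' => col (link y (sw e) (sw e'))
    have ne_of : ∀ u v w : Fin 5 × Fin 5, u.1 ≠ u.2 → v.1 ≠ v.2 → w.1 ≠ w.2 →
        Equiv.swap u.1 u.2 * Equiv.swap v.1 v.2 = Equiv.swap v.1 v.2 * Equiv.swap u.1 u.2 →
        Equiv.swap u.1 u.2 * Equiv.swap w.1 w.2 = Equiv.swap w.1 w.2 * Equiv.swap u.1 u.2 →
        Equiv.swap u.1 u.2 ≠ Equiv.swap v.1 v.2 → Equiv.swap u.1 u.2 ≠ Equiv.swap w.1 w.2 →
        Equiv.swap v.1 v.2 ≠ Equiv.swap w.1 w.2 → f u v ≠ f u w ∧ f u v = f v u := by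
      intro u v w hu hv hw cuv cuw nuv nuw nvw
      have c1 : Commute (sw u) (sw v) := by show _ * _ = _ * _; rw [← map_mul, ← map_mul, cuv]
      have c2 : Commute (sw u) (sw w) := by show _ * _ = _ * _; rw [← map_mul, ← map_mul, cuw]
      refine ⟨fun h => nvw (hinj ?_), congrArg col (link_symm hD (hswap _ _ hu) (hswap _ _ hv) c1)⟩
      exact link_inj hD hconj hy (hswap _ _ hu) (hswap _ _ hv) (hswap _ _ hw) (hnc _ _ hv) (hnc _ _ hw)
        (hcol _ _ (link_mem hD hconj hy (hswap _ _ hu) (hswap _ _ hv) (fun e => nuv (hinj e)) c1 (hnc _ _ hu) (hnc _ _ hv))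
          (link_mem hD hconj hy (hswap _ _ hu) (hswap _ _ hw) (fun e => nuw (hinj e)) c2 (hnc _ _ hu) (hnc _ _ hw)) h)
    let U : Fin 5 → Fin 5 × Fin 5 := ![(0, 1), (2, 3), (0, 4), (1, 2), (3, 4)]
    let W : Fin 5 → Fin 5 × Fin 5 := ![(2, 4), (1, 4), (1, 3), (0, 3), (0, 2)]
    have adj : ∀ i : Fin 5, (U i).1 ≠ (U i).2 ∧ (W i).1 ≠ (W i).2 ∧
        Equiv.swap (U i).1 (U i).2 * Equiv.swap (U (i+1)).1 (U (i+1)).2 = Equiv.swap (U (i+1)).1 (U (i+1)).2 * Equiv.swap (U i).1 (U i).2 ∧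
        Equiv.swap (U i).1 (U i).2 * Equiv.swap (W i).1 (W i).2 = Equiv.swap (W i).1 (W i).2 * Equiv.swap (U i).1 (U i).2 ∧
        Equiv.swap (W i).1 (W i).2 * Equiv.swap (W (i+2)).1 (W (i+2)).2 = Equiv.swap (W (i+2)).1 (W (i+2)).2 * Equiv.swap (W i).1 (W i).2 ∧
        Equiv.swap (U i).1 (U i).2 ≠ Equiv.swap (U (i+1)).1 (U (i+1)).2 ∧
        Equiv.swap (U i).1 (U i).2 ≠ Equiv.swap (W i).1 (W i).2 ∧
        Equiv.swap (W i).1 (W i).2 ≠ Equiv.swap (W (i+2)).1 (W (i+2)).2 ∧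
        Equiv.swap (U i).1 (U i).2 ≠ Equiv.swap (U (i+2)).1 (U (i+2)).2 ∧
        Equiv.swap (U i).1 (U i).2 ≠ Equiv.swap (W (i+1)).1 (W (i+1)).2 ∧
        Equiv.swap (U i).1 (U i).2 ≠ Equiv.swap (W (i+4)).1 (W (i+4)).2 ∧
        Equiv.swap (W i).1 (W i).2 ≠ Equiv.swap (W (i+4)).1 (W (i+4)).2 ∧
        Equiv.swap (U i).1 (U i).2 ≠ Equiv.swap (W (i+2)).1 (W (i+2)).2 ∧
        Equiv.swap (U i).1 (U i).2 ≠ Equiv.swap (W (i+3)).1 (W (i+3)).2 := by
      decide +kernel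
    have ix : ∀ i : Fin 5, i + 1 + 1 = i + 2 ∧ i + 2 + 2 = i + 4 ∧ i + 1 + 4 = i ∧ i + 2 + 3 = i := by decide
    have uu : ∀ i, f (U i) (U (i+1)) ≠ f (U (i+1)) (U (i+1+1)) := fun i => by
      have A := adj i; have B := adj (i+1); have C := adj (i+1+1)
      obtain ⟨-, e⟩ := ne_of (U i) (U (i+1)) (U (i+1)) A.1 B.1 B.1 A.2.2.1 A.2.2.1 A.2.2.2.2.2.1 A.2.2.2.2.2.1
      |> fun _ => (⟨trivial, congrArg col (link_symm hD (hswap _ _ A.1) (hswap _ _ B.1)
        (by show _ * _ = _ * _; rw [← map_mul, ← map_mul, A.2.2.1]))⟩ : True ∧ f (U i) (U (i+1)) = f (U (i+1)) (U i))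
      rw [e]
      exact (ne_of (U (i+1)) (U i) (U (i+1+1)) B.1 A.1 C.1 A.2.2.1.symm B.2.2.1 A.2.2.2.2.2.1.symm B.2.2.2.2.2.1
        (by rw [(ix i).1]; exact A.2.2.2.2.2.2.2.2.1)).1
    have su : ∀ i, f (U (i+1)) (W (i+1)) ≠ f (U (i+1)) (U (i+1+1)) ∧ f (U (i+1)) (W (i+1)) ≠ f (U i) (U (i+1)) := fun i => by
      have A := adj i; have B := adj (i+1); have C := adj (i+1+1)
      refine ⟨(ne_of (U (i+1)) (W (i+1)) (U (i+1+1)) B.1 B.2.1 C.1 B.2.2.2.1 B.2.2.1 B.2.2.2.2.2.2.1 B.2.2.2.2.2.1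
        (fun e => C.2.2.2.2.2.2.2.2.2.2.1 (by rw [show i + 1 + 1 + 4 = i + 1 from (ix (i+1)).2.2.1]; exact e.symm))).1, ?_⟩
      rw [show f (U i) (U (i+1)) = f (U (i+1)) (U i) from congrArg col (link_symm hD (hswap _ _ A.1) (hswap _ _ B.1)
        (by show _ * _ = _ * _; rw [← map_mul, ← map_mul, A.2.2.1]))]
      exact (ne_of (U (i+1)) (W (i+1)) (U i) B.1 B.2.1 A.1 B.2.2.2.1 A.2.2.1.symm B.2.2.2.2.2.2.1 A.2.2.2.2.2.1.symm
        A.2.2.2.2.2.2.2.2.2.1.symm).1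
    have nn : ∀ i, f (W i) (W (i+2)) ≠ f (U i) (W i) ∧ f (W i) (W (i+2)) ≠ f (U (i+2)) (W (i+2)) ∧
        f (W i) (W (i+2)) ≠ f (W (i+2)) (W (i+2+2)) := fun i => by
      have A := adj i; have B := adj (i+2); have C := adj (i+2+2)
      have e : f (W i) (W (i+2)) = f (W (i+2)) (W i) := congrArg col (link_symm hD (hswap _ _ A.2.1) (hswap _ _ B.2.1)
        (by show _ * _ = _ * _; rw [← map_mul, ← map_mul, A.2.2.2.2.1]))
      refine ⟨?_, ?_, ?_⟩
      · rw [show f (U i) (W i) = f (W i) (U i) from congrArg col (link_symm hD (hswap _ _ A.1) (hswap _ _ A.2.1)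
          (by show _ * _ = _ * _; rw [← map_mul, ← map_mul, A.2.2.2.1]))]
        exact (ne_of (W i) (W (i+2)) (U i) A.2.1 B.2.1 A.1 A.2.2.2.2.1 A.2.2.2.1.symm A.2.2.2.2.2.2.2.1 A.2.2.2.2.2.2.1.symm
          A.2.2.2.2.2.2.2.2.2.2.2.2.1.symm).1
      · rw [e, show f (U (i+2)) (W (i+2)) = f (W (i+2)) (U (i+2)) from congrArg col (link_symm hD (hswap _ _ B.1) (hswap _ _ B.2.1)
          (by show _ * _ = _ * _; rw [← map_mul, ← map_mul, B.2.2.2.1]))]
        exact (ne_of (W (i+2)) (W i) (U (i+2)) B.2.1 A.2.1 B.1 A.2.2.2.2.1.symm B.2.2.2.1.symm A.2.2.2.2.2.2.2.1.symm B.2.2.2.2.2.2.1.symm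
          (fun e' => B.2.2.2.2.2.2.2.2.2.2.2.2.2 (by rw [(ix i).2.2.2]; exact e'.symm))).1
      · rw [e]
        exact (ne_of (W (i+2)) (W i) (W (i+2+2)) B.2.1 A.2.1 C.2.1 A.2.2.2.2.1.symm B.2.2.2.2.1 A.2.2.2.2.2.2.2.1.symm B.2.2.2.2.2.2.2.1
          (by rw [(ix i).2.1]; exact A.2.2.2.2.2.2.2.2.2.2.2.1)).1
    exact no_colouring (f (U 0) (U 1)) (f (U 1) (U 2)) (uu 0) (f (U 2) (U 3)) (uu 1) (f (U 3) (U 4)) (uu 2)
      (f (U 4) (U 0)) (uu 3) (uu 4)
      (f (U 0) (W 0)) (su 4).1 (su 4).2 (f (U 1) (W 1)) (su 0).1 (su 0).2 (f (U 2) (W 2)) (su 1).1 (su 1).2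
      (f (U 3) (W 3)) (su 2).1 (su 2).2 (f (U 4) (W 4)) (su 3).1 (su 3).2
      (f (W 0) (W 2)) (nn 0).1 (nn 0).2.1 (f (W 2) (W 4)) (nn 2).1 (nn 2).2.1 (nn 0).2.2
      (f (W 4) (W 1)) (nn 4).1 (nn 4).2.1 (nn 2).2.2 (f (W 1) (W 3)) (nn 1).1 (nn 1).2.1 (nn 4).2.2
      (f (W 3) (W 0)) (nn 3).1 (nn 3).2.1 (nn 1).2.2 (nn 3).2.2
  refine ⟨((MonoidHom.ofInjective hinj).trans (MulEquiv.subgroupCongr ?_)).symm⟩
  refine le_antisymm ?_ ((Subgroup.closure_le _).mpr fun y hy => ?_)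
  · rw [MonoidHom.range_eq_map, ← Equiv.Perm.closure_isSwap, MonoidHom.map_closure, Subgroup.closure_le]
    rintro _ ⟨σ, ⟨i, j, hij, rfl⟩, rfl⟩
    exact Subgroup.subset_closure (hswap i j hij)
  · obtain ⟨i, j, -, h⟩ := eT ▸ hout y hy
    exact ⟨_, h⟩

include hD hconj hloc in
theorem classification (h3 : ∀ e ∈ D, Nat.card (pCore 3 ↥(Subgroup.centralizer ({e} : Set G))) = 3) (hne : D.Nonempty) :
    Nonempty (↥(Subgroup.closure D) ≃* Equiv.Perm (Fin 5)) ∨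
      Nonempty (↥(Subgroup.closure D) ≃* Equiv.Perm (Fin 3) × Equiv.Perm (Fin 3)) := by
  by_cases hA : ∃ d ∈ D, ∃ a ∈ nbr D d, ∃ b ∈ nbr D d, a ≠ b ∧ ∃ x, x ∈ nbr D a ∧ x ∈ nbr D b ∧ x ≠ d
  · obtain ⟨d, hd, a, ha, b, hb, hab, x, hx, hx', hxd⟩ := hA
    exact Or.inr (prod_iso hD hconj hloc hd ha hb hab hx hx' hxd h3)
  · obtain ⟨d, hd⟩ := hne
    refine Or.inl (five_iso hD hconj hloc (fun e he a ha b hb hab x hx hx' => ?_) hd)
    by_contra h
    exact hA ⟨e, he, a, ha, b, hb, hab, x, hx, hx', h⟩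

end Cfsg.Agent.Spor.PetersenLocal
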