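import Cfsg.Agent.Lib.Spor.Steiner

/-! Projective planes of order four: incidence facts and hyperovals. -/

set_option autoImplicit false

namespace Cfsg.Agent.Spor.PlaneFour

open Finset Cfsg Steiner

variable {α : Type*} [Fintype α] [DecidableEq α]

/-- A projective plane of order four. -/
structure Plane (L : Set (Finset α)) : Prop where
  card : Fintype.card α = 21
  steiner : IsSteinerSystem 2 5 L

/-- A hyperoval. -/
def Oval (L : Set (Finset α)) (H : Finset α) : Prop := H.card = 6 ∧ ∀ l ∈ L, (l ∩ H).card ≤ 2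

/-- The line through two points. -/
noncomputable def ln (L : Set (Finset α)) (p q : α) : Finset α :=
  open Classical in if h : ∃ l ∈ L, p ∈ l ∧ q ∈ l then h.choose else ∅

variable {L : Set (Finset α)} (hP : Plane L)
include hP

theorem exists_line {p q : α} (h : p ≠ q) : ∃ l ∈ L, p ∈ l ∧ q ∈ l := by
  obtain ⟨l, ⟨hl, hs⟩, -⟩ := hP.steiner.2 {p, q} (card_pair h)
  exact ⟨l, hl, hs (mem_insert_self _ _), hs (mem_insert_of_mem (mem_singleton_self _))⟩

theorem ln_spec {p q : α} (h : p ≠ q) : ln L p q ∈ L ∧ p ∈ ln L p q ∧ q ∈ ln L p q := by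
  unfold ln
  rw [dif_pos (exists_line hP h)]
  exact (exists_line hP h).choose_spec

theorem line_unique {l m : Finset α} (hl : l ∈ L) (hm : m ∈ L) {p q : α} (h : p ≠ q) (hpl : p ∈ l) (hql : q ∈ l)
    (hpm : p ∈ m) (hqm : q ∈ m) : l = m :=
  eq_of_common hP.steiner hl hm (s := {p, q}) (insert_subset hpl (singleton_subset_iff.mpr hql))
    (insert_subset hpm (singleton_subset_iff.mpr hqm)) (card_pair h).ge

theorem eq_ln {l : Finset α} (hl : l ∈ L) {p q : α} (h : p ≠ q) (hpl : p ∈ l) (hql : q ∈ l) : l = ln L p q :=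
  line_unique hP hl (ln_spec hP h).1 h hpl hql (ln_spec hP h).2.1 (ln_spec hP h).2.2

theorem point_unique {l m : Finset α} (hl : l ∈ L) (hm : m ∈ L) (hne : l ≠ m) {p q : α} (hpl : p ∈ l) (hql : q ∈ l)
    (hpm : p ∈ m) (hqm : q ∈ m) : p = q :=
  Classical.byContradiction fun h => hne (line_unique hP hl hm h hpl hql hpm hqm)

theorem card_lines : #(blocks L) = 21 := by
  have := blocks_card hP.steiner
  rw [hP.card] at this
  norm_num [Nat.choose] at this
  omega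

theorem card_through (p : α) : #{l ∈ blocks L | p ∈ l} = 5 := by
  have := blocks_through hP.steiner (s := {p}) (by simp)
  rw [hP.card] at this
  norm_num [Nat.choose] at this
  omega

theorem meet {l m : Finset α} (hl : l ∈ L) (hm : m ∈ L) : ∃ p, p ∈ l ∧ p ∈ m := by
  by_cases hlm : l = m
  · subst hlm
    obtain ⟨p, hp⟩ := card_pos.mp (by rw [card_eq hP.steiner hl]; norm_num : 0 < #l)
    exact ⟨p, hp, hp⟩
  obtain ⟨p, hp⟩ := card_pos.mp (by rw [card_eq hP.steiner hl]; norm_num : 0 < #l)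
  by_cases hpm : p ∈ m
  · exact ⟨p, hp, hpm⟩
  have hne : ∀ x ∈ m, p ≠ x := fun x hx e => hpm (e ▸ hx)
  have hinj : Set.InjOn (fun x => ln L p x) m := by
    intro x hx y hy e
    have e' : ln L p x = ln L p y := e
    refine point_unique hP (ln_spec hP (hne x hx)).1 hm (fun h => hpm (h ▸ (ln_spec hP (hne x hx)).2.1))
      (ln_spec hP (hne x hx)).2.2 ?_ hx hy
    rw [e']; exact (ln_spec hP (hne y hy)).2.2
  have himg : m.image (fun x => ln L p x) = ({l ∈ blocks L | p ∈ l} : Finset _) := by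
    refine eq_of_subset_of_card_le (fun k hk => ?_) ?_
    · obtain ⟨x, hx, rfl⟩ := mem_image.mp hk
      exact mem_filter.mpr ⟨mem_blocks.mpr (ln_spec hP (hne x hx)).1, (ln_spec hP (hne x hx)).2.1⟩
    · rw [card_through hP, card_image_of_injOn hinj, card_eq hP.steiner hm]
  obtain ⟨x, hx, e⟩ := mem_image.mp (himg.symm ▸ mem_filter.mpr ⟨mem_blocks.mpr hl, hp⟩ : l ∈ m.image _)
  exact ⟨x, e ▸ (ln_spec hP (hne x hx)).2.2, hx⟩

/-- Four points no three collinear. -/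
theorem exists_quadrangle : ∃ a b c d : α, a ≠ b ∧ a ≠ c ∧ a ≠ d ∧ b ≠ c ∧ b ≠ d ∧ c ≠ d ∧
    c ∉ ln L a b ∧ d ∉ ln L a b ∧ d ∉ ln L a c ∧ d ∉ ln L b c := by
  have h1 : 1 < Fintype.card α := by rw [hP.card]; norm_num
  obtain ⟨x, y, hxy⟩ := Fintype.exists_pair_of_one_lt_card h1
  obtain ⟨hl, hxl, -⟩ := ln_spec hP hxy
  set l := ln L x y
  obtain ⟨z, hz⟩ : ∃ z, z ∉ l := by
    by_contra h
    push Not at h
    have := card_le_card (fun w (_ : w ∈ (univ : Finset α)) => h w)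
    rw [card_univ, hP.card, card_eq hP.steiner hl] at this; omega
  have hxz : x ≠ z := fun e => hz (e ▸ hxl)
  obtain ⟨hm, hxm, hzm⟩ := ln_spec hP hxz
  set m := ln L x z
  have hlm : l ≠ m := fun e => hz (e ▸ hzm)
  have h4 : ∀ k ∈ L, 1 < (k.erase x).card := fun k hk => by
    have := card_le_card (show k ⊆ insert x (k.erase x) from fun w hw => by
      by_cases e : w = x <;> simp [e, hw])
    rw [card_eq hP.steiner hk] at this
    have := card_insert_le x (k.erase x)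
    omega
  obtain ⟨a, ha, b, hb, hab⟩ := one_lt_card.mp (h4 l hl)
  obtain ⟨c, hc, d, hd, hcd⟩ := one_lt_card.mp (h4 m hm)
  rw [mem_erase] at ha hb hc hd
  have hsep : ∀ p q, p ∈ l → p ≠ x → q ∈ m → q ≠ x → p ≠ q ∧ q ∉ l := fun p q hp hpx hq hqx =>
    ⟨fun e => hpx (point_unique hP hl hm hlm hp hxl (e ▸ hq) hxm),
     fun h => hqx (point_unique hP hl hm hlm h hxl hq hxm)⟩
  obtain ⟨hac, hcl⟩ := hsep a c ha.2 ha.1 hc.2 hc.1
  obtain ⟨had, hdl⟩ := hsep a d ha.2 ha.1 hd.2 hd.1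
  obtain ⟨hbc, -⟩ := hsep b c hb.2 hb.1 hc.2 hc.1
  obtain ⟨hbd, -⟩ := hsep b d hb.2 hb.1 hd.2 hd.1
  have hlab : l = ln L a b := eq_ln hP hl hab ha.2 hb.2
  refine ⟨a, b, c, d, hab, hac, had, hbc, hbd, hcd, hlab ▸ hcl, hlab ▸ hdl, fun h => ?_, fun h => ?_⟩
  · obtain ⟨hk, hak, hck⟩ := ln_spec hP hac
    have : ln L a c = m := line_unique hP hk hm hcd hck h hc.2 hd.2
    exact (hsep a a ha.2 ha.1 (this ▸ hak) ha.1).1 rfl
  · obtain ⟨hk, hbk, hck⟩ := ln_spec hP hbc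
    have : ln L b c = m := line_unique hP hk hm hcd hck h hc.2 hd.2
    exact (hsep b b hb.2 hb.1 (this ▸ hbk) hb.1).1 rfl

/-- Through one corner of a quadrangle, a line which is no side carries one point off the six sides. -/
theorem unique_free {a b c d : α} (hab : a ≠ b) (hac : a ≠ c) (had : a ≠ d) (hbc : b ≠ c) (hbd : b ≠ d) (hcd : c ≠ d)
    (h1 : c ∉ ln L a b) (h2 : d ∉ ln L a b) (h3 : d ∉ ln L a c) (h4 : d ∉ ln L b c)
    {k : Finset α} (hk : k ∈ L) (hak : a ∈ k) (hkb : k ≠ ln L a b) (hkc : k ≠ ln L a c) (hkd : k ≠ ln L a d) :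
    ∃! w, w ∈ k ∧ w ∉ ln L a b ∧ w ∉ ln L a c ∧ w ∉ ln L a d ∧ w ∉ ln L b c ∧ w ∉ ln L b d ∧ w ∉ ln L c d := by
  obtain ⟨sab, aab, bab⟩ := ln_spec hP hab
  obtain ⟨sac, aac, cac⟩ := ln_spec hP hac
  obtain ⟨sad, aad, dad⟩ := ln_spec hP had
  obtain ⟨sbc, bbc, cbc⟩ := ln_spec hP hbc
  obtain ⟨sbd, bbd, dbd⟩ := ln_spec hP hbd
  obtain ⟨scd, ccd, dcd⟩ := ln_spec hP hcd
  have abc' : a ∉ ln L b c := fun h => h1 (by rw [← eq_ln hP sbc hab h bbc]; exact cbc)
  have abd' : a ∉ ln L b d := fun h => h2 (by rw [← eq_ln hP sbd hab h bbd]; exact dbd)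
  have acd' : a ∉ ln L c d := fun h => h3 (by rw [← eq_ln hP scd hac h ccd]; exact dcd)
  have bk : b ∉ k := fun h => hkb (eq_ln hP hk hab hak h)
  have ck : c ∉ k := fun h => hkc (eq_ln hP hk hac hak h)
  have dk : d ∉ k := fun h => hkd (eq_ln hP hk had hak h)
  have nbc : k ≠ ln L b c := fun e => bk (e ▸ bbc)
  have nbd : k ≠ ln L b d := fun e => bk (e ▸ bbd)
  have ncd : k ≠ ln L c d := fun e => ck (e ▸ ccd)
  obtain ⟨x, xk, x1⟩ := meet hP hk sbc
  obtain ⟨y, yk, y1⟩ := meet hP hk sbd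
  obtain ⟨z, zk, z1⟩ := meet hP hk scd
  have dbc : ln L b c ≠ ln L b d := fun e => h4 (e ▸ dbd)
  have dbcd : ln L b c ≠ ln L c d := fun e => h4 (e ▸ dcd)
  have dbdcd : ln L b d ≠ ln L c d := fun e => h4 (by rw [← eq_ln hP scd hbc (e ▸ bbd) ccd]; exact dcd)
  have xa : x ≠ a := fun e => abc' (e ▸ x1)
  have ya : y ≠ a := fun e => abd' (e ▸ y1)
  have za : z ≠ a := fun e => acd' (e ▸ z1)
  have xy : x ≠ y := fun e => bk (point_unique hP sbc sbd dbc bbc x1 bbd (e ▸ y1) ▸ xk)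
  have xz : x ≠ z := fun e => ck (point_unique hP sbc scd dbcd cbc x1 ccd (e ▸ z1) ▸ xk)
  have yz : y ≠ z := fun e => dk (point_unique hP sbd scd dbdcd dbd y1 dcd (e ▸ z1) ▸ yk)
  have hT : ({a, x, y, z} : Finset α) ⊆ k := by
    intro w hw; simp only [mem_insert, mem_singleton] at hw
    rcases hw with rfl | rfl | rfl | rfl <;> assumption
  have hTc : ({a, x, y, z} : Finset α).card = 4 := by
    rw [card_insert_of_notMem (by simp [xa.symm, ya.symm, za.symm]), card_insert_of_notMem (by simp [xy, xz]),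
      card_pair yz]
  obtain ⟨w, hw⟩ := card_eq_one.mp (show (k \ {a, x, y, z}).card = 1 by
    rw [card_sdiff_of_subset hT, hTc, card_eq hP.steiner hk])
  have hwk : w ∈ k \ {a, x, y, z} := by rw [hw]; exact mem_singleton_self w
  simp only [mem_sdiff, mem_insert, mem_singleton, not_or] at hwk
  obtain ⟨wk, wa, wx, wy, wz⟩ := hwk
  refine ⟨w, ⟨wk, fun h => wa (point_unique hP hk sab hkb wk hak h aab), fun h => wa (point_unique hP hk sac hkc wk hak h aac),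
    fun h => wa (point_unique hP hk sad hkd wk hak h aad), fun h => wx (point_unique hP hk sbc nbc wk xk h x1),
    fun h => wy (point_unique hP hk sbd nbd wk yk h y1), fun h => wz (point_unique hP hk scd ncd wk zk h z1)⟩, ?_⟩
  rintro v ⟨vk, v1, -, -, v4, v5, v6⟩
  have : v ∈ k \ {a, x, y, z} := by
    simp only [mem_sdiff, mem_insert, mem_singleton, not_or]
    exact ⟨vk, fun e => v1 (e ▸ aab), fun e => v4 (e ▸ x1), fun e => v5 (e ▸ y1), fun e => v6 (e ▸ z1)⟩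
  rwa [hw, mem_singleton] at this

/-- The points off the six sides of a quadrangle are two, and a line through a corner contains only one of them. -/
theorem free_points {a b c d : α} (hab : a ≠ b) (hac : a ≠ c) (had : a ≠ d) (hbc : b ≠ c) (hbd : b ≠ d) (hcd : c ≠ d)
    (h1 : c ∉ ln L a b) (h2 : d ∉ ln L a b) (h3 : d ∉ ln L a c) (h4 : d ∉ ln L b c) :
    let U := univ.filter fun w => w ∉ ln L a b ∧ w ∉ ln L a c ∧ w ∉ ln L a d ∧ w ∉ ln L b c ∧ w ∉ ln L b d ∧ w ∉ ln L c d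
    U.card = 2 ∧ ∀ k ∈ L, a ∈ k → (k ∩ U).card ≤ 1 := by
  intro U
  classical
  obtain ⟨sab, aab, bab⟩ := ln_spec hP hab
  obtain ⟨sac, aac, cac⟩ := ln_spec hP hac
  obtain ⟨sad, aad, dad⟩ := ln_spec hP had
  let K := ({l ∈ blocks L | a ∈ l} : Finset _) \ {ln L a b, ln L a c, ln L a d}
  have hKm : ∀ k, k ∈ K ↔ k ∈ L ∧ a ∈ k ∧ k ≠ ln L a b ∧ k ≠ ln L a c ∧ k ≠ ln L a d := fun k => by
    simp [K, and_assoc]
  have d1 : ln L a b ≠ ln L a c := fun e => h1 (e ▸ cac)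
  have d2 : ln L a b ≠ ln L a d := fun e => h2 (e ▸ dad)
  have d3 : ln L a c ≠ ln L a d := fun e => h3 (e ▸ dad)
  have hKc : K.card = 2 := by
    simp only [K]
    rw [card_sdiff_of_subset, card_through hP, card_insert_of_notMem (by simp [d1, d2]), card_pair d3]
    intro k hk
    simp only [mem_insert, mem_singleton] at hk
    rcases hk with rfl | rfl | rfl
    · exact mem_filter.mpr ⟨mem_blocks.mpr sab, aab⟩
    · exact mem_filter.mpr ⟨mem_blocks.mpr sac, aac⟩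
    · exact mem_filter.mpr ⟨mem_blocks.mpr sad, aad⟩
  have hU : ∀ w, w ∈ U → a ≠ w ∧ ln L a w ∈ K := fun w hw => by
    simp only [U, mem_filter, mem_univ, true_and] at hw
    have haw : a ≠ w := fun e => hw.1 (e ▸ aab)
    obtain ⟨s, a1, w1⟩ := ln_spec hP haw
    exact ⟨haw, (hKm _).mpr ⟨s, a1, fun e => hw.1 (e ▸ w1), fun e => hw.2.1 (e ▸ w1), fun e => hw.2.2.1 (e ▸ w1)⟩⟩
  have huq : ∀ k ∈ K, ∀ u v, u ∈ U → v ∈ U → u ∈ k → v ∈ k → u = v := by
    intro k hk u v hu hv uk vk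
    obtain ⟨kL, ak, kb, kc, kd⟩ := (hKm k).mp hk
    simp only [U, mem_filter, mem_univ, true_and] at hu hv
    exact (unique_free hP hab hac had hbc hbd hcd h1 h2 h3 h4 kL ak kb kc kd).unique ⟨uk, hu⟩ ⟨vk, hv⟩
  refine ⟨?_, fun k hk hak => ?_⟩
  · rw [← hKc]
    refine card_bij (fun w _ => ln L a w) (fun w hw => (hU w hw).2) (fun u hu v hv e => ?_) (fun k hk => ?_)
    · exact huq _ (hU u hu).2 u v hu hv (ln_spec hP (hU u hu).1).2.2 (e ▸ (ln_spec hP (hU v hv).1).2.2)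
    · obtain ⟨kL, ak, kb, kc, kd⟩ := (hKm k).mp hk
      obtain ⟨w, ⟨wk, hw⟩, -⟩ := unique_free hP hab hac had hbc hbd hcd h1 h2 h3 h4 kL ak kb kc kd
      have hwU : w ∈ U := mem_filter.mpr ⟨mem_univ _, hw⟩
      exact ⟨w, hwU, (eq_ln hP kL (hU w hwU).1 ak wk).symm⟩
  · rw [card_le_one]
    intro u hu v hv
    rw [mem_inter] at hu hv
    obtain ⟨hau, hku⟩ := hU u hu.2
    rw [← eq_ln hP hk hau hak hu.1] at hku
    exact huq k hku u v hu.2 hv.2 hu.1 hv.1

set_option maxHeartbeats 1000000 in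
theorem exists_oval : ∃ H, Oval L H := by
  classical
  obtain ⟨a, b, c, d, hab, hac, had, hbc, hbd, hcd, h1, h2, h3, h4⟩ := exists_quadrangle hP
  obtain ⟨sab, aab, bab⟩ := ln_spec hP hab
  obtain ⟨sac, aac, cac⟩ := ln_spec hP hac
  obtain ⟨sad, aad, dad⟩ := ln_spec hP had
  obtain ⟨sbc, bbc, cbc⟩ := ln_spec hP hbc
  obtain ⟨sbd, bbd, dbd⟩ := ln_spec hP hbd
  obtain ⟨scd, ccd, dcd⟩ := ln_spec hP hcd
  have sym : ∀ p q, p ≠ q → ln L q p = ln L p q := fun p q h =>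
    eq_ln hP (ln_spec hP h.symm).1 h (ln_spec hP h.symm).2.2 (ln_spec hP h.symm).2.1
  have h5 : c ∉ ln L b d := fun h => h4 (by rw [← eq_ln hP sbd hbc bbd h]; exact dbd)
  have h6 : b ∉ ln L a c := fun h => h1 (by rw [← eq_ln hP sac hab aac h]; exact cac)
  have h7 : b ∉ ln L a d := fun h => h2 (by rw [← eq_ln hP sad hab aad h]; exact dad)
  have h8 : c ∉ ln L a d := fun h => h3 (by rw [← eq_ln hP sad hac aad h]; exact dad)
  have h9 : a ∉ ln L b c := fun h => h1 (by rw [← eq_ln hP sbc hab h bbc]; exact cbc)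
  have h10 : a ∉ ln L b d := fun h => h2 (by rw [← eq_ln hP sbd hab h bbd]; exact dbd)
  have h11 : a ∉ ln L c d := fun h => h3 (by rw [← eq_ln hP scd hac h ccd]; exact dcd)
  have h12 : b ∉ ln L c d := fun h => h4 (by rw [← eq_ln hP scd hbc h ccd]; exact dcd)
  obtain ⟨hU, ka⟩ := free_points hP hab hac had hbc hbd hcd h1 h2 h3 h4
  obtain ⟨-, kb⟩ := free_points hP hab.symm hbc hbd hac had hcd (by rw [sym a b hab]; exact h1)
    (by rw [sym a b hab]; exact h2) h4 h3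
  obtain ⟨-, kc⟩ := free_points hP hac.symm hbc.symm hcd hab had hbd (by rw [sym a c hac]; exact h6)
    (by rw [sym a c hac]; exact h3) (by rw [sym b c hbc]; exact h4) h2
  obtain ⟨-, kd⟩ := free_points hP had.symm hbd.symm hcd.symm hab hac hbc (by rw [sym a d had]; exact h7)
    (by rw [sym a d had]; exact h8) (by rw [sym b d hbd]; exact h5) h1
  set U := univ.filter fun w => w ∉ ln L a b ∧ w ∉ ln L a c ∧ w ∉ ln L a d ∧ w ∉ ln L b c ∧ w ∉ ln L b d ∧ w ∉ ln L c d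
    with hUdef
  have hmU : ∀ w, w ∈ U ↔ w ∉ ln L a b ∧ w ∉ ln L a c ∧ w ∉ ln L a d ∧ w ∉ ln L b c ∧ w ∉ ln L b d ∧ w ∉ ln L c d :=
    fun w => by simp [U]
  have eb : (univ.filter fun w => w ∉ ln L b a ∧ w ∉ ln L b c ∧ w ∉ ln L b d ∧ w ∉ ln L a c ∧ w ∉ ln L a d ∧ w ∉ ln L c d) = U := by
    ext w; rw [hmU]; simp only [mem_filter, mem_univ, true_and, sym a b hab]; exact ⟨fun ⟨ab, bc, bd, ac, ad, cd⟩ => ⟨ab, ac, ad, bc, bd, cd⟩, fun ⟨ab, ac, ad, bc, bd, cd⟩ => ⟨ab, bc, bd, ac, ad, cd⟩⟩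
  have ec : (univ.filter fun w => w ∉ ln L c a ∧ w ∉ ln L c b ∧ w ∉ ln L c d ∧ w ∉ ln L a b ∧ w ∉ ln L a d ∧ w ∉ ln L b d) = U := by
    ext w; rw [hmU]; simp only [mem_filter, mem_univ, true_and, sym a c hac, sym b c hbc]; exact ⟨fun ⟨ac, bc, cd, ab, ad, bd⟩ => ⟨ab, ac, ad, bc, bd, cd⟩, fun ⟨ab, ac, ad, bc, bd, cd⟩ => ⟨ac, bc, cd, ab, ad, bd⟩⟩
  have ed : (univ.filter fun w => w ∉ ln L d a ∧ w ∉ ln L d b ∧ w ∉ ln L d c ∧ w ∉ ln L a b ∧ w ∉ ln L a c ∧ w ∉ ln L b c) = U := by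
    ext w; rw [hmU]; simp only [mem_filter, mem_univ, true_and, sym a d had, sym b d hbd, sym c d hcd]; exact ⟨fun ⟨ad, bd, cd, ab, ac, bc⟩ => ⟨ab, ac, ad, bc, bd, cd⟩, fun ⟨ab, ac, ad, bc, bd, cd⟩ => ⟨ad, bd, cd, ab, ac, bc⟩⟩
  simp only [eb] at kb
  simp only [ec] at kc
  simp only [ed] at kd
  have hna : a ∉ U := fun h => ((hmU a).mp h).1 aab
  have hnb : b ∉ U := fun h => ((hmU b).mp h).1 bab
  have hnc : c ∉ U := fun h => ((hmU c).mp h).2.1 cac
  have hnd : d ∉ U := fun h => ((hmU d).mp h).2.2.1 dad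
  refine ⟨insert a (insert b (insert c (insert d U))), ?_, fun k hk => ?_⟩
  · rw [card_insert_of_notMem (by simp [hab, hac, had, hna]), card_insert_of_notMem (by simp [hbc, hbd, hnb]),
      card_insert_of_notMem (by simp [hcd, hnc]), card_insert_of_notMem hnd, hU]
  · have hout : ∀ (p q : α) (S : Finset α), p ∈ k → q ∈ k → p ≠ q → ln L p q = S → (∀ w ∈ U, w ∉ S) → ∀ w ∈ U, w ∉ k :=
      fun p q S hp hq hpq hS hall w hw hwk => hall w hw (by rw [← hS, ← eq_ln hP hk hpq hp hq]; exact hwk)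
    have qab : a ∈ k → b ∈ k → c ∉ k ∧ d ∉ k ∧ ∀ w ∈ U, w ∉ k := fun p q =>
      ⟨fun h => h1 (eq_ln hP hk hab p q ▸ h), fun h => h2 (eq_ln hP hk hab p q ▸ h),
        hout a b _ p q hab rfl fun w hw => ((hmU w).mp hw).1⟩
    have qac : a ∈ k → c ∈ k → b ∉ k ∧ d ∉ k ∧ ∀ w ∈ U, w ∉ k := fun p q =>
      ⟨fun h => h6 (eq_ln hP hk hac p q ▸ h), fun h => h3 (eq_ln hP hk hac p q ▸ h),
        hout a c _ p q hac rfl fun w hw => ((hmU w).mp hw).2.1⟩
    have qad : a ∈ k → d ∈ k → b ∉ k ∧ c ∉ k ∧ ∀ w ∈ U, w ∉ k := fun p q =>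
      ⟨fun h => h7 (eq_ln hP hk had p q ▸ h), fun h => h8 (eq_ln hP hk had p q ▸ h),
        hout a d _ p q had rfl fun w hw => ((hmU w).mp hw).2.2.1⟩
    have qbc : b ∈ k → c ∈ k → a ∉ k ∧ d ∉ k ∧ ∀ w ∈ U, w ∉ k := fun p q =>
      ⟨fun h => h9 (eq_ln hP hk hbc p q ▸ h), fun h => h4 (eq_ln hP hk hbc p q ▸ h),
        hout b c _ p q hbc rfl fun w hw => ((hmU w).mp hw).2.2.2.1⟩
    have qbd : b ∈ k → d ∈ k → a ∉ k ∧ c ∉ k ∧ ∀ w ∈ U, w ∉ k := fun p q =>
      ⟨fun h => h10 (eq_ln hP hk hbd p q ▸ h), fun h => h5 (eq_ln hP hk hbd p q ▸ h),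
        hout b d _ p q hbd rfl fun w hw => ((hmU w).mp hw).2.2.2.2.1⟩
    have qcd : c ∈ k → d ∈ k → a ∉ k ∧ b ∉ k ∧ ∀ w ∈ U, w ∉ k := fun p q =>
      ⟨fun h => h11 (eq_ln hP hk hcd p q ▸ h), fun h => h12 (eq_ln hP hk hcd p q ▸ h),
        hout c d _ p q hcd rfl fun w hw => ((hmU w).mp hw).2.2.2.2.2⟩
    have hU2 : (k ∩ U).card ≤ 2 := hU ▸ card_le_card inter_subset_right
    have sab' := qab; have sac' := qac
    have hsub : ∀ w ∈ U, w ∈ k → w ∈ k ∩ U := fun w hw hwk => mem_inter.mpr ⟨hwk, hw⟩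
    have hempty : (∀ w ∈ U, w ∉ k) → k ∩ U = ∅ := fun h => eq_empty_of_forall_notMem fun w hw => h w (mem_inter.mp hw).2 (mem_inter.mp hw).1
    have c0 : ∀ (p : α) (S : Finset α), k ∩ insert p S = if p ∈ k then insert p (k ∩ S) else k ∩ S := fun p S => by
      split_ifs with h
      · exact inter_insert_of_mem h
      · exact inter_insert_of_notMem h
    rw [c0 a, c0 b, c0 c, c0 d]
    by_cases pa : a ∈ k <;> by_cases pb : b ∈ k <;> by_cases pc : c ∈ k <;> by_cases pd : d ∈ k <;>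
      simp only [pa, pb, pc, pd, if_true, if_false] <;>
      first
        | exact absurd pc (qab pa pb).1 | exact absurd pd (qab pa pb).2.1
        | exact absurd pd (qac pa pc).2.1 | exact absurd pd (qbc pb pc).2.1
        | (rw [hempty (qab pa pb).2.2]; exact card_insert_le _ _)
        | (rw [hempty (qac pa pc).2.2]; exact card_insert_le _ _)
        | (rw [hempty (qad pa pd).2.2]; exact card_insert_le _ _)
        | (rw [hempty (qbc pb pc).2.2]; exact card_insert_le _ _)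
        | (rw [hempty (qbd pb pd).2.2]; exact card_insert_le _ _)
        | (rw [hempty (qcd pc pd).2.2]; exact card_insert_le _ _)
        | exact (card_insert_le _ _).trans (Nat.add_le_add_right (ka k hk pa) 1)
        | exact (card_insert_le _ _).trans (Nat.add_le_add_right (kb k hk pb) 1)
        | exact (card_insert_le _ _).trans (Nat.add_le_add_right (kc k hk pc) 1)
        | exact (card_insert_le _ _).trans (Nat.add_le_add_right (kd k hk pd) 1)
        | exact hU2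

end Cfsg.Agent.Spor.PlaneFour
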