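import Cfsg.Agent.Lib.Spor.PlaneFour
import Cfsg.Agent.Lib.Spor.SteinerAut

/-! A bound on the automorphism group of a projective plane of order four. -/

set_option autoImplicit false
set_option linter.unusedSectionVars false

namespace Cfsg.Agent.Spor.PlaneFour

open Finset Cfsg Steiner

variable {α : Type*} [Fintype α] [DecidableEq α] {L : Set (Finset α)}

section Free

variable (L)

/-- The points off the six sides. -/
noncomputable def free (a b c d : α) : Finset α :=
  univ.filter fun w => w ∉ ln L a b ∧ w ∉ ln L a c ∧ w ∉ ln L a d ∧ w ∉ ln L b c ∧ w ∉ ln L b d ∧ w ∉ ln L c d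

end Free

variable (hP : Plane L)
include hP

theorem ln_symm {p q : α} (h : p ≠ q) : ln L q p = ln L p q :=
  eq_ln hP (ln_spec hP h.symm).1 h (ln_spec hP h.symm).2.2 (ln_spec hP h.symm).2.1

theorem aut_ln {g : Equiv.Perm α} (hg : g ∈ setSystemAut L) {p q : α} (h : p ≠ q) :
    (ln L p q).image g = ln L (g p) (g q) :=
  eq_ln hP ((SteinerAut.mem_aut.mp hg _).mpr (ln_spec hP h).1) (g.injective.ne h)
    (mem_image_of_mem _ (ln_spec hP h).2.1) (mem_image_of_mem _ (ln_spec hP h).2.2)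

theorem fix_free {g : Equiv.Perm α} (hg : g ∈ setSystemAut L) {a b c d : α} (hab : a ≠ b) (hac : a ≠ c) (had : a ≠ d)
    (hbc : b ≠ c) (hbd : b ≠ d) (hcd : c ≠ d) (ga : g a = a) (gb : g b = b) (gc : g c = c) (gd : g d = d) {w : α}
    (hw : w ∈ free L a b c d) : g w ∈ free L a b c d := by
  simp only [free, mem_filter, mem_univ, true_and] at hw ⊢
  have key : ∀ p q, p ≠ q → g p = p → g q = q → w ∉ ln L p q → g w ∉ ln L p q := fun p q h hp hq hn hm => hn (by
    rw [← hp, ← hq, ← aut_ln hP hg h] at hm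
    obtain ⟨v, hv, e⟩ := mem_image.mp hm
    exact g.injective e ▸ hv)
  exact ⟨key a b hab ga gb hw.1, key a c hac ga gc hw.2.1, key a d had ga gd hw.2.2.1, key b c hbc gb gc hw.2.2.2.1,
    key b d hbd gb gd hw.2.2.2.2.1, key c d hcd gc gd hw.2.2.2.2.2⟩

/-- All lines through a corner are fixed. -/
theorem lines_fixed {g : Equiv.Perm α} (hg : g ∈ setSystemAut L) {a b c d : α} (hab : a ≠ b) (hac : a ≠ c) (had : a ≠ d)
    (hbc : b ≠ c) (hbd : b ≠ d) (hcd : c ≠ d) (h1 : c ∉ ln L a b) (h2 : d ∉ ln L a b) (h3 : d ∉ ln L a c)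
    (h4 : d ∉ ln L b c) (ga : g a = a) (gb : g b = b) (gc : g c = c) (gd : g d = d) (hU : ∀ w ∈ free L a b c d, g w = w)
    {k : Finset α} (hk : k ∈ L) (hak : a ∈ k) : k.image g = k := by
  classical
  obtain ⟨hU2, hone⟩ := free_points hP hab hac had hbc hbd hcd h1 h2 h3 h4
  have hkey : ∀ x, x ≠ a → g x = x → x ∈ k → k.image g = k := fun x hx gx hxk => by
    rw [eq_ln hP hk hx.symm hak hxk, aut_ln hP hg hx.symm, ga, gx]
  by_cases hb : b ∈ k
  · exact hkey b hab.symm gb hb
  by_cases hc : c ∈ k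
  · exact hkey c hac.symm gc hc
  by_cases hd : d ∈ k
  · exact hkey d had.symm gd hd
  obtain ⟨w, ⟨wk, hw⟩, -⟩ := unique_free hP hab hac had hbc hbd hcd h1 h2 h3 h4 hk hak
    (fun e => hb (e ▸ (ln_spec hP hab).2.2)) (fun e => hc (e ▸ (ln_spec hP hac).2.2))
    (fun e => hd (e ▸ (ln_spec hP had).2.2))
  exact hkey w (fun e => hw.1 (e ▸ (ln_spec hP hab).2.1)) (hU w (mem_filter.mpr ⟨mem_univ _, hw⟩)) wk

/-- An automorphism fixing a quadrangle and one free point is trivial. -/
theorem eq_one {g : Equiv.Perm α} (hg : g ∈ setSystemAut L) {a b c d : α} (hab : a ≠ b) (hac : a ≠ c) (had : a ≠ d)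
    (hbc : b ≠ c) (hbd : b ≠ d) (hcd : c ≠ d) (h1 : c ∉ ln L a b) (h2 : d ∉ ln L a b) (h3 : d ∉ ln L a c)
    (h4 : d ∉ ln L b c) (ga : g a = a) (gb : g b = b) (gc : g c = c) (gd : g d = d) {u : α}
    (hu : u ∈ free L a b c d) (gu : g u = u) : g = 1 := by
  classical
  have hU2 : (free L a b c d).card = 2 := (free_points hP hab hac had hbc hbd hcd h1 h2 h3 h4).1
  obtain ⟨v, hv⟩ := card_eq_one.mp (show ((free L a b c d).erase u).card = 1 by rw [card_erase_of_mem hu, hU2])
  have hUfix : ∀ w ∈ free L a b c d, g w = w := fun w hw => by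
    by_cases hwu : w = u
    · rw [hwu, gu]
    have h5 : g w ≠ u := fun e => hwu (g.injective (e.trans gu.symm))
    have : g w ∈ ({v} : Finset α) := hv ▸ mem_erase.mpr ⟨h5, fix_free hP hg hab hac had hbc hbd hcd ga gb gc gd hw⟩
    have hw' : w ∈ ({v} : Finset α) := hv ▸ mem_erase.mpr ⟨hwu, hw⟩
    rw [mem_singleton] at this hw'
    rw [this, hw']
  obtain ⟨sab, aab, bab⟩ := ln_spec hP hab
  obtain ⟨sac, aac, cac⟩ := ln_spec hP hac
  obtain ⟨sbc, bbc, cbc⟩ := ln_spec hP hbc
  have h6 : b ∉ ln L a c := fun h => h1 (by rw [← eq_ln hP sac hab aac h]; exact cac)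
  have La : ∀ k, k ∈ L → a ∈ k → k.image g = k := fun k hk hak =>
    lines_fixed hP hg hab hac had hbc hbd hcd h1 h2 h3 h4 ga gb gc gd hUfix hk hak
  have eb : free L b a c d = free L a b c d := by
    ext w; simp only [free, mem_filter, mem_univ, true_and, ln_symm hP hab]
    exact ⟨fun ⟨ab, bc, bd, ac, ad, cd⟩ => ⟨ab, ac, ad, bc, bd, cd⟩, fun ⟨ab, ac, ad, bc, bd, cd⟩ => ⟨ab, bc, bd, ac, ad, cd⟩⟩
  have ec : free L c a b d = free L a b c d := by
    ext w; simp only [free, mem_filter, mem_univ, true_and, ln_symm hP hac, ln_symm hP hbc]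
    exact ⟨fun ⟨ac, bc, cd, ab, ad, bd⟩ => ⟨ab, ac, ad, bc, bd, cd⟩, fun ⟨ab, ac, ad, bc, bd, cd⟩ => ⟨ac, bc, cd, ab, ad, bd⟩⟩
  have Lb : ∀ k, k ∈ L → b ∈ k → k.image g = k := fun k hk hbk =>
    lines_fixed hP hg hab.symm hbc hbd hac had hcd (by rw [ln_symm hP hab]; exact h1) (by rw [ln_symm hP hab]; exact h2)
      h4 h3 gb ga gc gd (eb.symm ▸ hUfix) hk hbk
  have Lc : ∀ k, k ∈ L → c ∈ k → k.image g = k := fun k hk hck =>
    lines_fixed hP hg hac.symm hbc.symm hcd hab had hbd (by rw [ln_symm hP hac]; exact h6)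
      (by rw [ln_symm hP hac]; exact h3) (by rw [ln_symm hP hbc]; exact h4) h2 gc ga gb gd (ec.symm ▸ hUfix) hk hck
  refine Equiv.ext fun x => ?_
  show g x = x
  have two : ∀ k l, k ∈ L → l ∈ L → k ≠ l → x ∈ k → x ∈ l → k.image g = k → l.image g = l → g x = x :=
    fun k l hk hl hne xk xl ek el =>
      point_unique hP hk hl hne (ek ▸ mem_image_of_mem g xk) xk (el ▸ mem_image_of_mem g xl) xl
  by_cases hxab : x ∈ ln L a b
  · by_cases hxa : x = a
    · rw [hxa, ga]
    have hxc : c ≠ x := fun e => h1 (e ▸ hxab)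
    obtain ⟨sk, ck, xk⟩ := ln_spec hP hxc
    exact two _ _ sk sab (fun e => h1 (e ▸ ck)) xk hxab (Lc _ sk ck) (La _ sab aab)
  · have hax : a ≠ x := fun e => hxab (e ▸ aab)
    have hbx : b ≠ x := fun e => hxab (e ▸ bab)
    obtain ⟨sk, ak, xk⟩ := ln_spec hP hax
    obtain ⟨sl, bl, xl⟩ := ln_spec hP hbx
    exact two _ _ sk sl (fun e => hxab (by rw [← eq_ln hP sk hab ak (e ▸ bl)]; exact xk)) xk xl (La _ sk ak) (Lb _ sl bl)

/-- The three sides of a triangle cover twelve points. -/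
theorem sides_card {a b c : α} (hab : a ≠ b) (h1 : c ∉ ln L a b) :
    12 ≤ (ln L a b ∪ ln L a c ∪ ln L b c).card := by
  classical
  obtain ⟨sab, aab, bab⟩ := ln_spec hP hab
  have hac : a ≠ c := fun e => h1 (e ▸ aab)
  have hbc : b ≠ c := fun e => h1 (e ▸ bab)
  obtain ⟨sac, aac, cac⟩ := ln_spec hP hac
  obtain ⟨sbc, bbc, cbc⟩ := ln_spec hP hbc
  have n1 : ln L a b ≠ ln L a c := fun e => h1 (by rw [e]; exact cac)
  have n2 : ln L a b ≠ ln L b c := fun e => h1 (by rw [e]; exact cbc)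
  have n3 : ln L a c ≠ ln L b c := fun e => n1 (line_unique hP sab sac hab aab bab aac (by rw [e]; exact bbc))
  have one : ∀ k l : Finset α, k ∈ L → l ∈ L → k ≠ l → (k ∩ l).card ≤ 1 := fun k l hk hl hne =>
    card_le_one.mpr fun x hx y hy => point_unique hP hk hl hne
      (mem_inter.mp hx).1 (mem_inter.mp hy).1 (mem_inter.mp hx).2 (mem_inter.mp hy).2
  have e1 := card_union_add_card_inter (ln L a b) (ln L a c)
  have e2 := card_union_add_card_inter (ln L a b ∪ ln L a c) (ln L b c)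
  have e3 : ((ln L a b ∪ ln L a c) ∩ ln L b c).card ≤ (ln L a b ∩ ln L b c).card + (ln L a c ∩ ln L b c).card := by
    rw [union_inter_distrib_right]; exact card_union_le _ _
  have i1 := one _ _ sab sac n1
  have i2 := one _ _ sab sbc n2
  have i3 := one _ _ sac sbc n3
  rw [card_eq hP.steiner sab, card_eq hP.steiner sac] at e1
  rw [card_eq hP.steiner sbc] at e2
  omega

/-- The automorphism group has order at most `21 * 20 * 16 * 9 * 2`. -/
theorem card_aut_le : Nat.card (setSystemAut L) ≤ 120960 := by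
  classical
  obtain ⟨a, b, c, d, hab, hac, had, hbc, hbd, hcd, h1, h2, h3, h4⟩ := exists_quadrangle hP
  have hU2 : (free L a b c d).card = 2 := (free_points hP hab hac had hbc hbd hcd h1 h2 h3 h4).1
  obtain ⟨u, hu⟩ := card_pos.mp (show 0 < (free L a b c d).card by rw [hU2]; norm_num)
  letI : Fintype (setSystemAut L) := Fintype.ofFinite _
  let φ : setSystemAut L → α × α × α × α := fun g => ((g : Equiv.Perm α) a, (g : Equiv.Perm α) b, (g : Equiv.Perm α) c, (g : Equiv.Perm α) d)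
  let S : Finset (α × α × α × α) := univ.biUnion fun a' => (univ.erase a').biUnion fun b' => (univ \ ln L a' b').biUnion fun c' =>
    (univ \ (ln L a' b' ∪ ln L a' c' ∪ ln L b' c')).image fun d' => (a', b', c', d')
  have hS : S.card ≤ 21 * (20 * (16 * 9)) := by
    refine card_biUnion_le.trans ((sum_le_card_nsmul _ _ (20 * (16 * 9)) fun a' _ => ?_).trans (by rw [card_univ, hP.card]; rfl))
    refine card_biUnion_le.trans ((sum_le_card_nsmul _ _ (16 * 9) fun b' hb' => ?_).trans (by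
      rw [card_erase_of_mem (mem_univ _), card_univ, hP.card]; rfl))
    have hne : a' ≠ b' := fun e => (mem_erase.mp hb').1 e.symm
    refine card_biUnion_le.trans ((sum_le_card_nsmul _ _ 9 fun c' hc' => ?_).trans (by
      rw [card_sdiff_of_subset (subset_univ _), card_univ, hP.card, card_eq hP.steiner (ln_spec hP hne).1]; rfl))
    refine card_image_le.trans ?_
    have := sides_card hP hne (mem_sdiff.mp hc').2
    rw [card_sdiff_of_subset (subset_univ _), card_univ, hP.card]
    omega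
  have mem_img : ∀ (g : setSystemAut L) (p q r : α), p ≠ q → r ∉ ln L p q →
      (g : Equiv.Perm α) r ∉ ln L ((g : Equiv.Perm α) p) ((g : Equiv.Perm α) q) := fun g p q r h hn hm => hn (by
    rw [← aut_ln hP g.2 h] at hm
    obtain ⟨v, hv, e⟩ := mem_image.mp hm
    exact (g : Equiv.Perm α).injective e ▸ hv)
  have himg : (univ.image φ) ⊆ S := fun t ht => by
    obtain ⟨g, -, rfl⟩ := mem_image.mp ht
    simp only [S, φ, mem_biUnion, mem_univ, true_and, mem_erase, and_true, mem_sdiff, mem_image, Prod.mk.injEq]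
    refine ⟨_, _, (g : Equiv.Perm α).injective.ne hab.symm, _, mem_img g a b c hab h1, _, ?_, rfl, rfl, rfl, rfl⟩
    simp only [mem_union, not_or]
    exact ⟨⟨mem_img g a b d hab h2, mem_img g a c d hac h3⟩, mem_img g b c d hbc h4⟩
  have fibre : ∀ t ∈ univ.image φ, (univ.filter fun g => φ g = t).card ≤ 2 := fun t ht => by
    obtain ⟨g, -, rfl⟩ := mem_image.mp ht
    have hfix : ∀ k : setSystemAut L, φ k = φ g → ∀ x, x = a ∨ x = b ∨ x = c ∨ x = d →
        ((g⁻¹ * k : setSystemAut L) : Equiv.Perm α) x = x := fun k hk x hx => by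
      simp only [φ, Prod.mk.injEq] at hk
      rw [Subgroup.coe_mul, Subgroup.coe_inv, Equiv.Perm.mul_apply, Equiv.Perm.inv_eq_iff_eq]
      rcases hx with rfl | rfl | rfl | rfl
      exacts [hk.1, hk.2.1, hk.2.2.1, hk.2.2.2]
    rw [← hU2]
    refine card_le_card_of_injOn (fun k : setSystemAut L => ((g⁻¹ * k : setSystemAut L) : Equiv.Perm α) u) (fun k hk => ?_) ?_
    · have hk' := (mem_filter.mp (mem_coe.mp hk)).2
      exact mem_coe.mpr (fix_free hP (g⁻¹ * k).2 hab hac had hbc hbd hcd (hfix k hk' a (Or.inl rfl))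
        (hfix k hk' b (Or.inr (Or.inl rfl))) (hfix k hk' c (Or.inr (Or.inr (Or.inl rfl))))
        (hfix k hk' d (Or.inr (Or.inr (Or.inr rfl)))) hu)
    · intro k hk k' hk' e
      have ek := (mem_filter.mp (mem_coe.mp hk)).2
      have ek' := (mem_filter.mp (mem_coe.mp hk')).2
      have hx : ∀ x, x = a ∨ x = b ∨ x = c ∨ x = d ∨ x = u →
          ((k'⁻¹ * k : setSystemAut L) : Equiv.Perm α) x = x := fun x hx => by
        have h' : (k : Equiv.Perm α) x = (k' : Equiv.Perm α) x := by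
          simp only [φ, Prod.mk.injEq] at ek ek'
          rcases hx with rfl | rfl | rfl | rfl | rfl
          · exact ek.1.trans ek'.1.symm
          · exact ek.2.1.trans ek'.2.1.symm
          · exact ek.2.2.1.trans ek'.2.2.1.symm
          · exact ek.2.2.2.trans ek'.2.2.2.symm
          · simpa using e
        rw [Subgroup.coe_mul, Subgroup.coe_inv, Equiv.Perm.mul_apply, Equiv.Perm.inv_eq_iff_eq]
        exact h'
      exact (inv_mul_eq_one.mp (Subtype.ext (eq_one hP (k'⁻¹ * k).2 hab hac had hbc hbd hcd h1 h2 h3 h4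
        (hx a (Or.inl rfl)) (hx b (Or.inr (Or.inl rfl))) (hx c (Or.inr (Or.inr (Or.inl rfl))))
        (hx d (Or.inr (Or.inr (Or.inr (Or.inl rfl))))) hu (hx u (Or.inr (Or.inr (Or.inr (Or.inr rfl)))))))).symm
  have h := card_le_mul_card_image (f := φ) univ 2 fibre
  have hle : (univ.image φ).card ≤ 21 * (20 * (16 * 9)) := (card_le_card himg).trans hS
  rw [card_univ] at h
  rw [Nat.card_eq_fintype_card]
  omega

end Cfsg.Agent.Spor.PlaneFour
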