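import Cfsg.Agent.Lib.Spor.PlaneFour

/-! A projective plane of order four is determined by one hyperoval. -/

set_option autoImplicit false
set_option maxHeartbeats 800000

namespace Cfsg.Agent.Spor.PlaneFour

open Finset Cfsg Steiner

variable {α : Type*} [Fintype α] [DecidableEq α] {L : Set (Finset α)} {H : Finset α}

section Oval

variable (hP : Plane L) (hH : Oval L H)
include hP hH

/-- A line through a point of a hyperoval has exactly one further point on it. -/
theorem secant_two {k : Finset α} (hk : k ∈ L) {h : α} (hh : h ∈ H) (hhk : h ∈ k) : #(k ∩ H) = 2 := by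
  classical
  refine le_antisymm (hH.2 k hk) ?_
  have hne : ∀ x ∈ H.erase h, h ≠ x := fun x hx => (ne_of_mem_erase hx).symm
  have hinj : Set.InjOn (fun x => ln L h x) (H.erase h) := by
    intro x hx y hy e
    by_contra hxy
    obtain ⟨s, ah, ax⟩ := ln_spec hP (hne x hx)
    have ay : y ∈ ln L h x := by
      rw [show ln L h x = ln L h y from e]; exact (ln_spec hP (hne y hy)).2.2
    have h3 : ({h, x, y} : Finset α).card = 3 := by
      rw [card_insert_of_notMem (by simp [hne x hx, hne y hy]), card_pair hxy]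
    have := card_le_card (show ({h, x, y} : Finset α) ⊆ ln L h x ∩ H by
      intro w hw
      simp only [mem_insert, mem_singleton] at hw
      rcases hw with rfl | rfl | rfl
      · exact mem_inter.mpr ⟨ah, hh⟩
      · exact mem_inter.mpr ⟨ax, mem_of_mem_erase hx⟩
      · exact mem_inter.mpr ⟨ay, mem_of_mem_erase hy⟩)
    have := hH.2 _ s
    omega
  have himg : (H.erase h).image (fun x => ln L h x) = ({l ∈ blocks L | h ∈ l} : Finset _) := by
    refine eq_of_subset_of_card_le (fun l hl => ?_) ?_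
    · obtain ⟨x, hx, rfl⟩ := mem_image.mp hl
      exact mem_filter.mpr ⟨mem_blocks.mpr (ln_spec hP (hne x hx)).1, (ln_spec hP (hne x hx)).2.1⟩
    · rw [card_through hP, card_image_of_injOn hinj, card_erase_of_mem hh, hH.1]
  obtain ⟨x, hx, e⟩ := mem_image.mp (himg.symm ▸ mem_filter.mpr ⟨mem_blocks.mpr hk, hhk⟩ : k ∈ (H.erase h).image _)
  have hxk : x ∈ k := e ▸ (ln_spec hP (hne x hx)).2.2
  have := card_le_card (show ({h, x} : Finset α) ⊆ k ∩ H by
    intro w hw
    simp only [mem_insert, mem_singleton] at hw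
    rcases hw with rfl | rfl
    · exact mem_inter.mpr ⟨hhk, hh⟩
    · exact mem_inter.mpr ⟨hxk, mem_of_mem_erase hx⟩)
  rwa [card_pair (hne x hx)] at this

theorem exists_partner {q : α} (hq : q ∉ H) (h : H) : ∃ b : H, b ≠ h ∧ q ∈ ln L h b := by
  classical
  have hne : q ≠ h := fun e => hq (e ▸ h.2)
  obtain ⟨s, aq, ah⟩ := ln_spec hP hne
  obtain ⟨b, hb, hbh⟩ := exists_mem_ne (s := ln L q h ∩ H) (by rw [secant_two hP hH s h.2 ah]; norm_num) (h : α)
  rw [mem_inter] at hb
  refine ⟨⟨b, hb.2⟩, fun e => hbh (congrArg Subtype.val e), ?_⟩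
  rw [← eq_ln hP s hbh.symm ah hb.1]
  exact aq

theorem partner_unique {q : α} (hq : q ∉ H) {h b b' : H} (hb : b ≠ h) (hb' : b' ≠ h)
    (e : q ∈ ln L h b) (e' : q ∈ ln L h b') : b = b' := by
  classical
  have n1 : (h : α) ≠ b := fun x => hb (Subtype.ext x).symm
  have n2 : (h : α) ≠ b' := fun x => hb' (Subtype.ext x).symm
  obtain ⟨s, a1, a2⟩ := ln_spec hP n1
  obtain ⟨s', c1, c2⟩ := ln_spec hP n2
  have heq : ln L h b = ln L h b' := line_unique hP s s' (fun x => hq (x ▸ h.2) : q ≠ (h : α)) e a1 e' c1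
  by_contra hne
  have hne' : (b : α) ≠ b' := fun x => hne (Subtype.ext x)
  have h3 : ({(h : α), (b : α), (b' : α)} : Finset α).card = 3 := by
    rw [card_insert_of_notMem (by simp [n1, n2]), card_pair hne']
  have := card_le_card (show ({(h : α), (b : α), (b' : α)} : Finset α) ⊆ ln L h b ∩ H by
    intro w hw
    simp only [mem_insert, mem_singleton] at hw
    rcases hw with rfl | rfl | rfl
    · exact mem_inter.mpr ⟨a1, h.2⟩
    · exact mem_inter.mpr ⟨a2, b.2⟩
    · exact mem_inter.mpr ⟨heq ▸ c2, b'.2⟩)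
  have := hH.2 _ s
  omega

theorem exists_tau {q : α} (hq : q ∉ H) :
    ∃ τ : Equiv.Perm H, (∀ h, τ (τ h) = h) ∧ (∀ h, τ h ≠ h) ∧ ∀ a b : H, a ≠ b → (q ∈ ln L a b ↔ τ a = b) := by
  choose f hf1 hf2 using exists_partner hP hH hq
  have hinv : Function.Involutive f := fun h => by
    refine partner_unique hP hH hq (hf1 (f h)) (hf1 h).symm (hf2 (f h)) ?_
    have n : ((f h : H) : α) ≠ h := fun x => hf1 h (Subtype.ext x)
    obtain ⟨s, a1, a2⟩ := ln_spec hP n.symm
    rw [← eq_ln hP s n a2 a1]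
    exact hf2 h
  refine ⟨hinv.toPerm, hinv, hf1, fun a b hab => ⟨fun e => ?_, fun e => ?_⟩⟩
  · exact partner_unique hP hH hq (hf1 a) hab.symm (hf2 a) e
  · subst e; exact hf2 a

theorem tau_inj {p q : α} (hp : p ∉ H)
    (h : ∀ a b : H, a ≠ b → (p ∈ ln L a b ↔ q ∈ ln L a b)) : p = q := by
  classical
  obtain ⟨τ, -, hτf, hτ⟩ := exists_tau hP hH hp
  have : Nonempty H := ⟨⟨_, (card_pos.mp (by rw [hH.1]; norm_num : 0 < #H)).choose_spec⟩⟩
  obtain ⟨a⟩ := this
  obtain ⟨c, hc⟩ : ∃ c : H, c ∉ ({a, τ a} : Finset H) := by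
    by_contra hall
    push Not at hall
    have := card_le_card (fun w (_ : w ∈ (univ : Finset H)) => hall w)
    rw [card_univ, Fintype.card_coe, hH.1] at this
    have := (card_insert_le a ({τ a} : Finset H)).trans (by rw [card_singleton])
    omega
  simp only [mem_insert, mem_singleton, not_or] at hc
  have e1 := (hτ a (τ a) (hτf a).symm).mpr rfl
  have e2 := (hτ c (τ c) (hτf c).symm).mpr rfl
  have n1 : (a : α) ≠ τ a := fun x => hτf a (Subtype.ext x).symm
  have n2 : (c : α) ≠ τ c := fun x => hτf c (Subtype.ext x).symm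
  obtain ⟨s1, a1, b1⟩ := ln_spec hP n1
  obtain ⟨s2, a2, b2⟩ := ln_spec hP n2
  refine point_unique hP s1 s2 (fun e => ?_) e1 ((h a _ (hτf a).symm).mp e1) e2 ((h c _ (hτf c).symm).mp e2)
  have h3 : ({(a : α), ((τ a : H) : α), (c : α)} : Finset α).card = 3 := by
    rw [card_insert_of_notMem (by simp [n1, Subtype.coe_inj, Ne.symm hc.1]), card_pair (by
      intro x; exact hc.2 (Subtype.ext x).symm)]
  have := card_le_card (show ({(a : α), ((τ a : H) : α), (c : α)} : Finset α) ⊆ ln L a (τ a) ∩ H by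
    intro w hw
    simp only [mem_insert, mem_singleton] at hw
    rcases hw with rfl | rfl | rfl
    · exact mem_inter.mpr ⟨a1, a.2⟩
    · exact mem_inter.mpr ⟨b1, (τ a).2⟩
    · exact mem_inter.mpr ⟨e ▸ a2, c.2⟩)
  have := hH.2 _ s1
  omega

theorem externals_le {q : α} (hq : q ∉ H) : #{l ∈ blocks L | q ∈ l ∧ Disjoint l H} ≤ 2 := by
  classical
  have hsub : H.image (fun h => ln L q h) ∪ {l ∈ blocks L | q ∈ l ∧ Disjoint l H} ⊆ {l ∈ blocks L | q ∈ l} := by
    intro l hl
    rw [mem_union] at hl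
    rcases hl with h | h
    · obtain ⟨x, hx, rfl⟩ := mem_image.mp h
      have n : q ≠ x := fun e => hq (e ▸ hx)
      exact mem_filter.mpr ⟨mem_blocks.mpr (ln_spec hP n).1, (ln_spec hP n).2.1⟩
    · rw [mem_filter] at h ⊢; exact ⟨h.1, h.2.1⟩
  have hd : Disjoint (H.image (fun h => ln L q h)) {l ∈ blocks L | q ∈ l ∧ Disjoint l H} := disjoint_left.mpr fun l h1 h2 => by
    obtain ⟨x, hx, rfl⟩ := mem_image.mp h1
    exact disjoint_left.mp (mem_filter.mp h2).2.2 (ln_spec hP (fun e => hq (e ▸ hx) : q ≠ x)).2.2 hx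
  have hfib : #H ≤ 2 * #(H.image fun h => ln L q h) := by
    refine card_le_mul_card_image _ _ fun l hl => ?_
    obtain ⟨x, hx, rfl⟩ := mem_image.mp hl
    refine le_trans (card_le_card fun w hw => ?_) (hH.2 _ (ln_spec hP (fun e => hq (e ▸ hx) : q ≠ x)).1)
    rw [mem_filter] at hw
    exact mem_inter.mpr ⟨hw.2 ▸ (ln_spec hP (fun e => hq (e ▸ hw.1) : q ≠ w)).2.2, hw.1⟩
  have := card_le_card hsub
  rw [card_union_of_disjoint hd, card_through hP] at this
  rw [hH.1] at hfib
  omega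

theorem collinear {S : Finset α} (hS : 4 ≤ #S) (hout : ∀ p ∈ S, p ∉ H)
    (hext : ∀ p ∈ S, ∀ q ∈ S, p ≠ q → Disjoint (ln L p q) H) {p q : α} (hp : p ∈ S) (hq : q ∈ S) (hpq : p ≠ q) :
    S ⊆ ln L p q := by
  classical
  intro r hr
  by_contra hrl
  obtain ⟨spq, ppq, qpq⟩ := ln_spec hP hpq
  have rp : p ≠ r := fun e => hrl (e ▸ ppq)
  have rq : q ≠ r := fun e => hrl (e ▸ qpq)
  obtain ⟨s, hs, hsne⟩ : ∃ s ∈ S, s ∉ ({p, q, r} : Finset α) := by
    by_contra hall
    push Not at hall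
    have := card_le_card (show S ⊆ {p, q, r} from hall)
    have h3 : #({p, q, r} : Finset α) ≤ 3 := card_le_three
    omega
  simp only [mem_insert, mem_singleton, not_or] at hsne
  obtain ⟨sp, sq, sr⟩ := hsne
  have three : ∀ x ∈ S, ∀ l1 l2 l3 : Finset α, l1 ∈ L → l2 ∈ L → l3 ∈ L → x ∈ l1 → x ∈ l2 → x ∈ l3 →
      Disjoint l1 H → Disjoint l2 H → Disjoint l3 H → l1 ≠ l2 → l1 = l3 ∨ l2 = l3 := by
    intro x hx l1 l2 l3 a1 a2 a3 b1 b2 b3 c1 c2 c3 hne
    by_contra hc
    push Not at hc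
    have h3 : ({l1, l2, l3} : Finset (Finset α)).card = 3 := by
      rw [card_insert_of_notMem (by simp [hne, hc.1]), card_pair hc.2]
    have := card_le_card (show ({l1, l2, l3} : Finset (Finset α)) ⊆ {l ∈ blocks L | x ∈ l ∧ Disjoint l H} by
      intro w hw
      simp only [mem_insert, mem_singleton] at hw
      rcases hw with rfl | rfl | rfl
      · exact mem_filter.mpr ⟨mem_blocks.mpr a1, b1, c1⟩
      · exact mem_filter.mpr ⟨mem_blocks.mpr a2, b2, c2⟩
      · exact mem_filter.mpr ⟨mem_blocks.mpr a3, b3, c3⟩)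
    have := externals_le hP hH (hout x hx)
    omega
  obtain ⟨spr, ppr, rpr⟩ := ln_spec hP rp
  obtain ⟨sqr, qqr, rqr⟩ := ln_spec hP rq
  obtain ⟨sps, pps, sps'⟩ := ln_spec hP (Ne.symm sp)
  obtain ⟨sqs, qqs, sqs'⟩ := ln_spec hP (Ne.symm sq)
  obtain ⟨srs, rrs, srs'⟩ := ln_spec hP (Ne.symm sr)
  have npr : ln L p q ≠ ln L p r := fun e => hrl (e ▸ rpr)
  have nqr : ln L p q ≠ ln L q r := fun e => hrl (e ▸ rqr)
  have npq : ln L p r ≠ ln L q r := fun e => npr (line_unique hP spq spr hpq ppq qpq ppr (e ▸ qqr))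
  by_cases hsl : s ∈ ln L p q
  · rcases three r hr _ _ _ spr sqr srs rpr rqr rrs (hext p hp r hr rp) (hext q hq r hr rq)
      (hext r hr s hs (Ne.symm sr)) npq with e | e
    · exact npr (line_unique hP spq spr (Ne.symm sp) ppq hsl ppr (e ▸ srs'))
    · exact nqr (line_unique hP spq sqr (Ne.symm sq) qpq hsl qqr (e ▸ srs'))
  · have e1 := (three p hp _ _ _ spq spr sps ppq ppr pps (hext p hp q hq hpq) (hext p hp r hr rp)
      (hext p hp s hs (Ne.symm sp)) npr).resolve_left fun e => hsl (e ▸ sps')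
    have e2 := (three q hq _ _ _ spq sqr sqs qpq qqr qqs (hext p hp q hq hpq) (hext q hq r hr rq)
      (hext q hq s hs (Ne.symm sq)) nqr).resolve_left fun e => hsl (e ▸ sqs')
    exact npq (line_unique hP spr sqr (Ne.symm sr) rpr (e1 ▸ sps') rqr (e2 ▸ sqs'))

end Oval

theorem card_fpf_six : #(univ.filter fun σ : Equiv.Perm (Fin 6) => (∀ x, σ (σ x) = x) ∧ ∀ x, σ x ≠ x) = 15 := by
  decide +kernel

theorem card_fpf {γ : Type*} [Fintype γ] [DecidableEq γ] (h6 : Fintype.card γ = 6) :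
    #(univ.filter fun σ : Equiv.Perm γ => (∀ x, σ (σ x) = x) ∧ ∀ x, σ x ≠ x) = 15 := by
  rw [← card_fpf_six]
  have e := Fintype.equivFinOfCardEq h6
  refine card_bij (fun σ _ => e.permCongr σ) (fun σ hσ => ?_) (fun a _ b _ h => e.permCongr.injective h) (fun π hπ => ?_)
  · rw [mem_filter] at hσ ⊢
    refine ⟨mem_univ _, fun x => by simp [Equiv.permCongr_apply, hσ.2.1], fun x hx => hσ.2.2 (e.symm x) ?_⟩
    simpa [Equiv.permCongr_apply, ← Equiv.eq_symm_apply] using hx
  · rw [mem_filter] at hπ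
    refine ⟨e.symm.permCongr π, mem_filter.mpr ⟨mem_univ _, fun x => by simp [Equiv.permCongr_apply, hπ.2.1],
      fun x hx => hπ.2.2 (e x) ?_⟩, Equiv.ext fun x => by simp [Equiv.permCongr_apply]⟩
    simpa [Equiv.permCongr_apply, Equiv.symm_apply_eq] using hx

variable {β : Type*} [Fintype β] [DecidableEq β] {L' : Set (Finset β)} {H' : Finset β}

/-- Corresponding points of two planes off the hyperovals. -/
theorem exists_match (hP : Plane L) (hH : Oval L H) (hP' : Plane L') (hH' : Oval L' H') (σ : H ≃ H') {q : α} (hq : q ∉ H) :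
    ∃! q' : β, q' ∉ H' ∧ ∀ a b : H, a ≠ b → (q ∈ ln L a b ↔ q' ∈ ln L' (σ a) (σ b)) := by
  classical
  choose τ hτi hτf hτ using fun p : {p : β // p ∉ H'} => exists_tau hP' hH' p.2
  obtain ⟨μ, hμi, hμf, hμ⟩ := exists_tau hP hH hq
  have h6 : Fintype.card H' = 6 := by rw [Fintype.card_coe]; exact hH'.1
  have himg : (univ : Finset {p : β // p ∉ H'}).image τ = univ.filter fun π : Equiv.Perm H' => (∀ x, π (π x) = x) ∧ ∀ x, π x ≠ x := by
    refine eq_of_subset_of_card_le (fun π hπ => ?_) ?_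
    · obtain ⟨p, -, rfl⟩ := mem_image.mp hπ
      exact mem_filter.mpr ⟨mem_univ _, hτi p, hτf p⟩
    · rw [card_fpf h6, card_image_of_injective _ fun p p' e => Subtype.ext (tau_inj hP' hH' p.2 fun a b hab => by
        rw [hτ p a b hab, hτ p' a b hab, e]), card_univ, Fintype.card_subtype_compl, Fintype.card_coe, hP'.card, hH'.1]
  have hmem : σ.permCongr μ ∈ (univ : Finset {p : β // p ∉ H'}).image τ := by
    rw [himg]
    refine mem_filter.mpr ⟨mem_univ _, fun x => by simp [Equiv.permCongr_apply, hμi], fun x hx => hμf (σ.symm x) ?_⟩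
    simpa [Equiv.permCongr_apply, ← Equiv.eq_symm_apply] using hx
  obtain ⟨p, -, hp⟩ := mem_image.mp hmem
  have hrel : ∀ a b : H, a ≠ b → (q ∈ ln L a b ↔ (p : β) ∈ ln L' (σ a) (σ b)) := fun a b hab => by
    rw [hμ a b hab, hτ p (σ a) (σ b) (fun e => hab (σ.injective e)), hp]
    simp [Equiv.permCongr_apply]
  refine ⟨p, ⟨p.2, hrel⟩, ?_⟩
  rintro p' ⟨hp', h'⟩
  refine tau_inj hP' hH' hp' fun a b hab => ?_
  obtain ⟨a, rfl⟩ := σ.surjective a
  obtain ⟨b, rfl⟩ := σ.surjective b
  have hab' : a ≠ b := fun e => hab (by rw [e])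
  rw [← h' a b hab', hrel a b hab']

theorem line_bij {L : Set (Finset α)} {L' : Set (Finset β)} (hP : Plane L) (hP' : Plane L') (g : α ≃ β)
    (h : ∀ k ∈ L, k.image g ∈ L') : (fun k => k.image g) '' L = L' := by
  classical
  have hinj := Finset.image_injective g.injective
  have he : (blocks L).image (fun k => k.image g) = blocks L' :=
    eq_of_subset_of_card_le (fun k hk => by
      obtain ⟨k0, hk0, rfl⟩ := mem_image.mp hk
      exact mem_blocks.mpr (h k0 (mem_blocks.mp hk0)))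
      (by rw [card_lines hP', card_image_of_injective _ hinj, card_lines hP])
  ext k
  rw [← mem_blocks (B := L'), ← he, mem_image]
  simp only [Set.mem_image, mem_blocks]

/-- Every bijection of hyperovals extends uniquely to the planes. -/
theorem extend (hP : Plane L) (hH : Oval L H) (hP' : Plane L') (hH' : Oval L' H') (σ : H ≃ H') :
    ∃! g : α ≃ β, (fun k => k.image g) '' L = L' ∧ ∀ h : H, g h = σ h := by
  classical
  choose m hm hmu using fun q : {q : α // q ∉ H} => exists_match hP hH hP' hH' σ q.2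
  let f : α → β := fun x => if h : x ∈ H then (σ ⟨x, h⟩ : β) else m ⟨x, h⟩
  have fH : ∀ h : H, f h = σ h := fun h => by simp [f, h.2]
  have fO : ∀ q : {q : α // q ∉ H}, f q = m q := fun q => dif_neg q.2
  have finj : Function.Injective f := by
    intro x y e
    by_cases hx : x ∈ H <;> by_cases hy : y ∈ H
    · rw [fH ⟨x, hx⟩, fH ⟨y, hy⟩] at e
      exact congrArg Subtype.val (σ.injective (Subtype.ext e))
    · exfalso; rw [fH ⟨x, hx⟩, fO ⟨y, hy⟩] at e
      exact (hm ⟨y, hy⟩).1 (e ▸ (σ ⟨x, hx⟩).2)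
    · exfalso; rw [fO ⟨x, hx⟩, fH ⟨y, hy⟩] at e
      exact (hm ⟨x, hx⟩).1 (e.symm ▸ (σ ⟨y, hy⟩).2)
    · refine tau_inj hP hH hx fun a b hab => ?_
      rw [fO ⟨x, hx⟩, fO ⟨y, hy⟩] at e
      rw [(hm ⟨x, hx⟩).2 a b hab, (hm ⟨y, hy⟩).2 a b hab, e]
  let g : α ≃ β := Equiv.ofBijective f ((Fintype.bijective_iff_injective_and_card f).mpr ⟨finj, by rw [hP.card, hP'.card]⟩)
  have gH : ∀ h : H, g h = σ h := fH
  have glines : ∀ k ∈ L, k.image g ∈ L' := by
    intro k hk
    have hkc := card_eq hP.steiner hk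
    by_cases hdis : Disjoint k H
    · set S := k.image g with hS
      have hSc : #S = 5 := by rw [hS, card_image_of_injective _ g.injective, hkc]
      have hout : ∀ p ∈ S, p ∉ H' := by
        intro p hp
        obtain ⟨x, hx, rfl⟩ := mem_image.mp hp
        show f x ∉ H'
        rw [fO ⟨x, fun h => disjoint_left.mp hdis hx h⟩]
        exact (hm _).1
      have hext : ∀ p ∈ S, ∀ q ∈ S, p ≠ q → Disjoint (ln L' p q) H' := by
        intro p hp q hq hpq
        obtain ⟨x, hx, rfl⟩ := mem_image.mp hp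
        obtain ⟨y, hy, rfl⟩ := mem_image.mp hq
        have hxH : x ∉ H := fun h => disjoint_left.mp hdis hx h
        have hyH : y ∉ H := fun h => disjoint_left.mp hdis hy h
        refine disjoint_left.mpr fun z hz hzH => ?_
        obtain ⟨s, p1, q1⟩ := ln_spec hP' hpq
        obtain ⟨c, hc⟩ := σ.surjective ⟨z, hzH⟩
        obtain ⟨b, hb, hxb⟩ := exists_partner hP hH hxH c
        have hne : ((σ c : H') : β) ≠ σ b := fun e => hb (σ.injective (Subtype.ext e)).symm
        have e1 := ((hm ⟨x, hxH⟩).2 c b hb.symm).mp hxb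
        rw [← fO ⟨x, hxH⟩] at e1
        obtain ⟨s', c1, b1⟩ := ln_spec hP' hne
        have hzv : ((σ c : H') : β) = z := congrArg Subtype.val hc
        have heq : ln L' (g x) (g y) = ln L' (σ c) (σ b) :=
          line_unique hP' s s' (fun e : g x = z => hout _ (mem_image_of_mem _ hx) (e ▸ hzH)) p1 hz e1 (hzv ▸ c1)
        have e2 : y ∈ ln L c b := ((hm ⟨y, hyH⟩).2 c b hb.symm).mpr (by
          rw [← fO ⟨y, hyH⟩]; exact heq ▸ q1)
        obtain ⟨s2, c2, -⟩ := ln_spec hP (fun e => hb (Subtype.ext e).symm : (c : α) ≠ b)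
        have hk' : k = ln L c b := line_unique hP hk s2 (fun e => hpq (by rw [e])) hx hy hxb e2
        exact disjoint_left.mp hdis (hk' ▸ c2) c.2
      obtain ⟨p, hp, q, hq, hpq⟩ := one_lt_card.mp (show 1 < #S by omega)
      obtain ⟨s, -, -⟩ := ln_spec hP' hpq
      have := eq_of_subset_of_card_le (collinear hP' hH' (by omega) hout hext hp hq hpq)
        (by rw [card_eq hP'.steiner s, hSc])
      rw [this]; exact s
    · obtain ⟨a, hak, haH⟩ := not_disjoint_iff.mp hdis
      obtain ⟨b, hb, hba⟩ := exists_mem_ne (s := k ∩ H) (by rw [secant_two hP hH hk haH hak]; norm_num) a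
      rw [mem_inter] at hb
      have hk' : k = ln L a b := eq_ln hP hk hba.symm hak hb.1
      have hne : ((σ ⟨a, haH⟩ : H') : β) ≠ σ ⟨b, hb.2⟩ := fun e =>
        hba (congrArg Subtype.val (σ.injective (Subtype.ext e))).symm
      obtain ⟨s, a1, b1⟩ := ln_spec hP' hne
      have hsub : k.image g ⊆ ln L' (σ ⟨a, haH⟩) (σ ⟨b, hb.2⟩) := by
        intro w hw
        obtain ⟨x, hx, rfl⟩ := mem_image.mp hw
        by_cases hxH : x ∈ H
        · have h2 := secant_two hP hH hk haH hak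
          have hpair : k ∩ H = {a, b} := (eq_of_subset_of_card_le (by
            intro w hw; simp only [mem_insert, mem_singleton] at hw
            rcases hw with rfl | rfl
            · exact mem_inter.mpr ⟨hak, haH⟩
            · exact mem_inter.mpr hb) (by rw [h2, card_pair hba.symm])).symm
          have := mem_inter.mpr ⟨hx, hxH⟩
          rw [hpair, mem_insert, mem_singleton] at this
          rcases this with rfl | rfl
          · show f _ ∈ _; rw [fH ⟨_, hxH⟩]; exact a1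
          · show f _ ∈ _; rw [fH ⟨_, hxH⟩]; exact b1
        · show f x ∈ _
          rw [fO ⟨x, hxH⟩]
          exact ((hm ⟨x, hxH⟩).2 ⟨a, haH⟩ ⟨b, hb.2⟩ (fun e => hba (congrArg Subtype.val e).symm)).mp (hk' ▸ hx)
      rw [eq_of_subset_of_card_le hsub (by rw [card_eq hP'.steiner s, card_image_of_injective _ g.injective, hkc])]
      exact s
  refine ⟨g, ⟨line_bij hP hP' g glines, gH⟩, ?_⟩
  rintro g' ⟨hl', hH''⟩
  refine Equiv.ext fun x => ?_
  show g' x = f x
  by_cases hx : x ∈ H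
  · rw [fH ⟨x, hx⟩]; exact hH'' ⟨x, hx⟩
  rw [fO ⟨x, hx⟩]
  refine hmu ⟨x, hx⟩ _ ⟨fun h => ?_, fun a b hab => ?_⟩
  · obtain ⟨c, hc⟩ := σ.surjective ⟨_, h⟩
    have : g' (c : α) = g' x := by rw [hH'' c, hc]
    exact hx (g'.injective this ▸ c.2)
  · have n : (a : α) ≠ b := fun e => hab (Subtype.ext e)
    obtain ⟨s, a1, b1⟩ := ln_spec hP n
    have himg : (ln L a b).image g' ∈ L' := hl' ▸ ⟨_, s, rfl⟩
    have : (ln L a b).image g' = ln L' (σ a) (σ b) :=
      eq_ln hP' himg (fun e => hab (σ.injective (Subtype.ext e))) (hH'' a ▸ mem_image_of_mem _ a1) (hH'' b ▸ mem_image_of_mem _ b1)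
    rw [← this]
    exact (g'.injective.mem_finset_image).symm

end Cfsg.Agent.Spor.PlaneFour
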