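import Mathlib
import Cfsg.Prelude.Def_CaseTheorems

/-!
Lifting commuting transvections through an elementary abelian normal subgroup of order sixteen gives
an elementary abelian section of order thirty-two.
-/

set_option autoImplicit false

namespace Cfsg.Agent.Spor.RankFourQuot

open Matrix

abbrev M4 := Matrix (Fin 4) (Fin 4) (ZMod 2)
abbrev F4 := Fin 4 → ZMod 2

def t1 : M4 := !![1,0,1,0; 0,1,0,0; 0,0,1,0; 0,0,0,1]
def t2 : M4 := !![1,0,0,0; 0,1,0,1; 0,0,1,0; 0,0,0,1]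
def t3 : M4 := !![1,0,1,1; 0,1,1,1; 0,0,1,0; 0,0,0,1]
def sA : M4 := !![0,0,1,0; 0,0,0,1; 1,0,1,0; 0,1,0,1]
def sB : M4 := !![0,0,1,1; 0,0,1,0; 0,1,1,0; 1,1,0,1]

variable {G : Type*} [Group G] [Finite G]

/-- A lift of an element without fixed points is conjugate to each of the others. -/
theorem conj_of_lift {H : Type*} [Group H] (V : Subgroup G) [V.Normal] (ρ : G →* H) (hker : ρ.ker = V)
    (c : G) (hfpf : ∀ v ∈ V, c * v = v * c → v = 1) (y : G) (hy : ρ y = ρ c) :
    ∃ w ∈ V, y = w * c * w⁻¹ := by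
  let f : V → V := fun w => ⟨(w : G) * (c * (w : G)⁻¹ * c⁻¹),
    mul_mem w.2 (Subgroup.Normal.conj_mem inferInstance _ (inv_mem w.2) c)⟩
  have hf : Function.Injective f := by
    intro a b e
    have e1 : (a : G) * (c * (a : G)⁻¹ * c⁻¹) = (b : G) * (c * (b : G)⁻¹ * c⁻¹) := congrArg Subtype.val e
    have h1 : (a : G) * c * (a : G)⁻¹ = (b : G) * c * (b : G)⁻¹ := by
      have := congrArg (· * c) e1
      simpa [mul_assoc] using this
    have h2 : c * ((b : G)⁻¹ * a) = (b : G)⁻¹ * a * c := by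
      calc c * ((b : G)⁻¹ * a) = (b : G)⁻¹ * ((b : G) * c * (b : G)⁻¹) * a := by group
        _ = (b : G)⁻¹ * a * c := by rw [← h1]; group
    exact Subtype.ext (eq_of_inv_mul_eq_one
      (hfpf _ (mul_mem (inv_mem b.2) a.2) h2)).symm
  have hV : y * c⁻¹ ∈ V := by
    rw [← hker, MonoidHom.mem_ker, map_mul, map_inv, hy, mul_inv_cancel]
  obtain ⟨w, hw⟩ := Finite.injective_iff_surjective.1 hf ⟨_, hV⟩
  refine ⟨w, w.2, ?_⟩
  have e1 : (w : G) * (c * (w : G)⁻¹ * c⁻¹) = y * c⁻¹ := congrArg Subtype.val hw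
  have := congrArg (· * c) e1
  simpa [mul_assoc] using this.symm

/-- An involution of the image which moves a fixed-point-free element to a commuting one lifts to an
involution. -/
theorem involution_lift {H : Type*} [Group H] (V : Subgroup G) [V.Normal] (ρ : G →* H) (hker : ρ.ker = V)
    (x c : G) (hx : ρ x * ρ x = 1)
    (hc : ρ c * (ρ x * ρ c * (ρ x)⁻¹) = ρ x * ρ c * (ρ x)⁻¹ * ρ c)
    (hfpf : ∀ c', ρ c' = ρ c → ∀ v ∈ V, c' * v = v * c' → v = 1) :
    ∃ n, ρ n = ρ x ∧ n * n = 1 := by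
  have h1 : ∀ w ∈ V, ρ w = 1 := fun w hw => by rwa [← MonoidHom.mem_ker, hker]
  have hfpf' : ∀ e, ρ e = ρ (x * c * x⁻¹) → ∀ v ∈ V, e * v = v * e → v = 1 := by
    intro e he v hv hcv
    have h2 := hfpf (x⁻¹ * e * x) (by simp [he, mul_assoc]) (x⁻¹ * v * x)
      (by simpa using Subgroup.Normal.conj_mem inferInstance v hv x⁻¹) (by
        calc x⁻¹ * e * x * (x⁻¹ * v * x) = x⁻¹ * (e * v) * x := by group
          _ = x⁻¹ * (v * e) * x := by rw [hcv]
          _ = x⁻¹ * v * x * (x⁻¹ * e * x) := by group)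
    calc v = x * (x⁻¹ * v * x) * x⁻¹ := by group
      _ = 1 := by rw [h2]; group
  -- a lift of the conjugate commuting with the lift of the element
  obtain ⟨w, hw, hwe⟩ := conj_of_lift V ρ hker c (hfpf c rfl) (x * c * x⁻¹ * c * (x * c * x⁻¹)⁻¹) (by
    simp only [map_mul, map_inv]
    rw [← hc, mul_inv_cancel_right])
  set e := w⁻¹ * (x * c * x⁻¹) with he
  have hρe : ρ e = ρ (x * c * x⁻¹) := by rw [he, map_mul, map_inv, h1 w hw, inv_one, one_mul]
  have hec : e * c = c * e := by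
    calc e * c = w⁻¹ * (x * c * x⁻¹ * c * (x * c * x⁻¹)⁻¹) * (x * c * x⁻¹) := by rw [he]; group
      _ = c * e := by rw [hwe, he]; group
  obtain ⟨u, hu, hue⟩ := conj_of_lift V ρ hker e (hfpf' e hρe) (x * c * x⁻¹) hρe.symm
  set n := u⁻¹ * x with hn
  have hρn : ρ n = ρ x := by rw [hn, map_mul, map_inv, h1 u hu, inv_one, one_mul]
  have hnc : n * c * n⁻¹ = e := by
    calc n * c * n⁻¹ = u⁻¹ * (x * c * x⁻¹) * u := by rw [hn]; group
      _ = e := by rw [hue]; group
  have hne : n * e * n⁻¹ = c := by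
    set d := n * e * n⁻¹ with hd
    have hde : d * e = e * d := by
      calc d * e = n * (e * c) * n⁻¹ := by rw [hd, ← hnc]; group
        _ = n * (c * e) * n⁻¹ := by rw [hec]
        _ = e * d := by rw [hd, ← hnc]; group
    have hV : d * c⁻¹ ∈ V := by
      have hi : (ρ x)⁻¹ = ρ x := inv_eq_of_mul_eq_one_right hx
      rw [← hker, MonoidHom.mem_ker, hd]
      simp only [map_mul, map_inv, hρn, hρe, hi]
      rw [show ρ x * (ρ x * ρ c * ρ x) * ρ x = ρ x * ρ x * ρ c * (ρ x * ρ x) by group, hx, one_mul,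
        mul_one, mul_inv_cancel]
    have hcom : e * (d * c⁻¹) = d * c⁻¹ * e := by
      calc e * (d * c⁻¹) = e * d * c⁻¹ := by group
        _ = d * e * c⁻¹ := by rw [hde]
        _ = d * (c⁻¹ * (c * e)) * c⁻¹ := by group
        _ = d * (c⁻¹ * (e * c)) * c⁻¹ := by rw [hec]
        _ = d * c⁻¹ * e := by group
    exact mul_inv_eq_one.1 (hfpf' e hρe _ hV hcom)
  refine ⟨n, hρn, hfpf c rfl (n * n) ?_ ?_⟩
  · rw [← hker, MonoidHom.mem_ker, map_mul, hρn, hx]
  · symm
    calc n * n * c = n * (n * c * n⁻¹) * n⁻¹ * (n * n) := by group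
      _ = c * (n * n) := by rw [hnc, hne]

theorem fixA : ∀ v : F4, sA *ᵥ v = v → v = 0 := by decide +kernel
theorem fixB : ∀ v : F4, sB *ᵥ v = v → v = 0 := by decide +kernel
theorem tPlane : ∀ v : F4, v 2 = 0 ∧ v 3 = 0 → t1 *ᵥ v = v ∧ t2 *ᵥ v = v ∧ t3 *ᵥ v = v := by decide +kernel
theorem tImage : ∀ v : F4, ((t1 *ᵥ v + v) 2 = 0 ∧ (t1 *ᵥ v + v) 3 = 0) ∧
    ((t2 *ᵥ v + v) 2 = 0 ∧ (t2 *ᵥ v + v) 3 = 0) ∧ ((t3 *ᵥ v + v) 2 = 0 ∧ (t3 *ᵥ v + v) 3 = 0) := by
  decide +kernel
theorem tCommon : ∀ v : F4, (t1 *ᵥ v = v ∧ t2 *ᵥ v = v) ∨ (t1 *ᵥ v = v ∧ t3 *ᵥ v = v) ∨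
    (t2 *ᵥ v = v ∧ t3 *ᵥ v = v) → v 2 = 0 ∧ v 3 = 0 := by decide +kernel

/-- The five coset representatives. -/
def five : Fin 5 → M4 := ![1, t1, t2, t3, t1 * t2]
/-- The four representatives modulo the plane. -/
def four : Fin 4 → F4 := ![0, ![0,0,1,0], ![0,0,0,1], ![0,0,1,1]]

theorem five_injective : Function.Injective five := by
  unfold Function.Injective; decide +kernel
theorem four_injective : ∀ i j, (four i + four j) 2 = 0 ∧ (four i + four j) 3 = 0 → i = j := by decide +kernel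

theorem not_rank_four (V : Subgroup G) [V.Normal] (ρ : G →* GL (Fin 4) (ZMod 2)) (ι : V → F4)
    (hker : ρ.ker = V) (hι : Function.Bijective ι) (hadd : ∀ a b : V, ι (a * b) = ι a + ι b)
    (heq : ∀ (g : G) (v : V), (ρ g).val *ᵥ ι v
      = ι ⟨g * v * g⁻¹, Subgroup.Normal.conj_mem inferInstance _ v.2 g⟩)
    (h1 : ∃ g, (ρ g).val = t1) (h2 : ∃ g, (ρ g).val = t2) (h3 : ∃ g, (ρ g).val = t3)
    (hA : ∃ g, (ρ g).val = sA) (hB : ∃ g, (ρ g).val = sB) :
    ¬ Cfsg.SectionalPRankLE 2 4 G := by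
  classical
  intro hrank
  have hone : ι 1 = 0 := by
    have := hadd 1 1
    simpa using this
  have hfix : ∀ (g : G) (v : V), g * v = v * g → (ρ g).val *ᵥ ι v = ι v := by
    intro g v h
    rw [heq]
    congr 1
    exact Subtype.ext (by show g * v * g⁻¹ = v; rw [h, mul_inv_cancel_right])
  have hcomm_of_fix : ∀ (g : G) (v : V), (ρ g).val *ᵥ ι v = ι v → g * v = v * g := by
    intro g v h
    rw [heq] at h
    exact eq_mul_of_mul_inv_eq (congrArg Subtype.val (hι.1 h))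
  have hfpf : ∀ (S : M4), (∀ v : F4, S *ᵥ v = v → v = 0) → ∀ c, (ρ c).val = S →
      ∀ c', ρ c' = ρ c → ∀ v ∈ V, c' * v = v * c' → v = 1 := by
    intro S hS c hc c' hc' v hv hcv
    have h := hfix c' ⟨v, hv⟩ hcv
    rw [hc', hc] at h
    exact congrArg Subtype.val (hι.1 ((hS _ h).trans hone.symm))
  -- the three involutions
  obtain ⟨g1, hg1⟩ := h1
  obtain ⟨g2, hg2⟩ := h2
  obtain ⟨g3, hg3⟩ := h3
  obtain ⟨cA, hcA⟩ := hA
  obtain ⟨cB, hcB⟩ := hB
  have hlift : ∀ (x c : G) (T S : M4), (ρ x).val = T → (ρ c).val = S → T * T = 1 →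
      S * (T * S * T) = T * S * T * S → (∀ v : F4, S *ᵥ v = v → v = 0) →
      ∃ n, (ρ n).val = T ∧ n * n = 1 := by
    intro x c T S hx hc hT hS hSf
    have hxx : ρ x * ρ x = 1 := Units.ext (by rw [Units.val_mul, hx, hT, Units.val_one])
    obtain ⟨n, hn, hn2⟩ := involution_lift V ρ hker x c hxx (by
      rw [inv_eq_of_mul_eq_one_right hxx]
      exact Units.ext (by simp only [Units.val_mul, hx, hc]; exact hS)) (hfpf S hSf c hc)
    exact ⟨n, by rw [hn, hx], hn2⟩
  obtain ⟨n1, hn1, hn1s⟩ := hlift g1 cA t1 sA hg1 hcA (by decide +kernel) (by decide +kernel) fixA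
  obtain ⟨n2, hn2, hn2s⟩ := hlift g2 cA t2 sA hg2 hcA (by decide +kernel) (by decide +kernel) fixA
  obtain ⟨n3, hn3, hn3s⟩ := hlift g3 cB t3 sB hg3 hcB (by decide +kernel) (by decide +kernel) fixB
  -- the plane and its centralizer
  have hval : ∀ (a b : G), (ρ (a * b)).val = (ρ a).val * (ρ b).val := fun a b => by simp
  have hVρ : ∀ v ∈ V, (ρ v).val = 1 := fun v hv => by
    rw [← hker, MonoidHom.mem_ker] at hv; rw [hv, Units.val_one]
  have hVc : ∀ a ∈ V, ∀ b ∈ V, a * b = b * a := fun a ha b hb =>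
    hcomm_of_fix a ⟨b, hb⟩ (by rw [hVρ a ha, Matrix.one_mulVec])
  have hV2 : ∀ v ∈ V, v * v = 1 := fun v hv => by
    have : ι (⟨v, hv⟩ * ⟨v, hv⟩) = ι 1 := by
      rw [hadd, hone]; exact funext fun i => CharTwo.add_self_eq_zero _
    exact congrArg Subtype.val (hι.1 this)
  let U : Subgroup G :=
    { carrier := {u | ∃ hu : u ∈ V, ι ⟨u, hu⟩ 2 = 0 ∧ ι ⟨u, hu⟩ 3 = 0}
      one_mem' := ⟨V.one_mem, by show ι 1 2 = 0 ∧ ι 1 3 = 0; rw [hone]; simp⟩
      mul_mem' := by
        rintro a b ⟨ha, ha2, ha3⟩ ⟨hb, hb2, hb3⟩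
        refine ⟨mul_mem ha hb, ?_⟩
        show ι (⟨a, ha⟩ * ⟨b, hb⟩) 2 = 0 ∧ ι (⟨a, ha⟩ * ⟨b, hb⟩) 3 = 0
        rw [hadd]
        simp [ha2, ha3, hb2, hb3]
      inv_mem' := by
        rintro a ⟨ha, h⟩
        have e : (⟨a⁻¹, inv_mem ha⟩ : V) = ⟨a, ha⟩ :=
          Subtype.ext (inv_eq_of_mul_eq_one_right (hV2 a ha))
        exact ⟨inv_mem ha, by rw [e]; exact h⟩ }
  let H : Subgroup G := Subgroup.centralizer (U : Set G)
  have hVH : V ≤ H := fun v hv => Subgroup.mem_centralizer_iff.2 fun u ⟨hu, _⟩ => hVc u hu v hv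
  have hnH : ∀ n, (ρ n).val = t1 ∨ (ρ n).val = t2 ∨ (ρ n).val = t3 → n ∈ H := fun n hn =>
    Subgroup.mem_centralizer_iff.2 fun u ⟨hu, hu'⟩ => by
      refine (hcomm_of_fix n ⟨u, hu⟩ ?_).symm
      obtain ⟨e1, e2, e3⟩ := tPlane _ hu'
      rcases hn with hn | hn | hn <;> rw [hn] <;> assumption
  let N : Subgroup H := U.subgroupOf H
  haveI hN : N.Normal := ⟨fun a ha g => by
    have h := Subgroup.mem_centralizer_iff.1 g.2 _ (Subgroup.mem_subgroupOf.1 ha)
    rw [show g * a * g⁻¹ = a from Subtype.ext (by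
      show (g : G) * a * (g : G)⁻¹ = a
      rw [← h, mul_inv_cancel_right])]
    exact ha⟩
  let q : H →* H ⧸ N := QuotientGroup.mk' N
  have hqeq : ∀ (x y : H), (x : G)⁻¹ * y ∈ U → q x = q y := fun x y h =>
    QuotientGroup.eq.2 (Subgroup.mem_subgroupOf.2 h)
  -- the generators
  let gens : Set H := {x | (x : G) ∈ V} ∪ {x | (x : G) = n1 ∨ (x : G) = n2 ∨ (x : G) = n3}
  have hgT : ∀ x : H, x ∈ gens → (x : G) ∈ V ∨
      (((ρ (x : G)).val = t1 ∨ (ρ (x : G)).val = t2 ∨ (ρ (x : G)).val = t3) ∧ (x : G) * x = 1) := by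
    rintro x (h | h | h | h)
    · exact .inl h
    all_goals right; rw [h]
    · exact ⟨.inl hn1, hn1s⟩
    · exact ⟨.inr (.inl hn2), hn2s⟩
    · exact ⟨.inr (.inr hn3), hn3s⟩
  -- commutators of the involutions lie in the plane
  have hpair : ∀ a b : G, a * a = 1 → b * b = 1 → (ρ a).val * (ρ b).val = (ρ b).val * (ρ a).val →
      (∀ v : F4, (ρ a).val *ᵥ v = v ∧ (ρ b).val *ᵥ v = v → v 2 = 0 ∧ v 3 = 0) →
      a * b * a * b ∈ U := by
    intro a b ha hb hab hfx
    have hm : a * b * a * b ∈ V := by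
      rw [← hker, MonoidHom.mem_ker]
      apply Units.ext
      rw [hval, hval, hval, Units.val_one, Matrix.mul_assoc (_ * _) _ _, hab, ← Matrix.mul_assoc,
        Matrix.mul_assoc (ρ b).val (ρ a).val (ρ b).val, hab, ← Matrix.mul_assoc, ← hval, hb,
        map_one, Units.val_one, Matrix.one_mul, ← hval, ha, map_one, Units.val_one]
    refine ⟨hm, hfx _ ⟨hfix a ⟨_, hm⟩ ?_, hfix b ⟨_, hm⟩ ?_⟩⟩
    · have hinv : (a * b * a * b)⁻¹ = a * b * a * b := inv_eq_of_mul_eq_one_right (hV2 _ hm)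
      have ai : a⁻¹ = a := inv_eq_of_mul_eq_one_right ha
      have bi : b⁻¹ = b := inv_eq_of_mul_eq_one_right hb
      calc a * (a * b * a * b) = a * a * b * a * b := by simp only [mul_assoc]
        _ = b * a * b := by rw [ha, one_mul]
        _ = (a * b * a * b)⁻¹ * a := by
          simp only [_root_.mul_inv_rev, ai, bi, mul_assoc]
          rw [ha, mul_one]
        _ = a * b * a * b * a := by rw [hinv]
    · have hinv : (a * b * a * b)⁻¹ = a * b * a * b := inv_eq_of_mul_eq_one_right (hV2 _ hm)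
      have ai : a⁻¹ = a := inv_eq_of_mul_eq_one_right ha
      have bi : b⁻¹ = b := inv_eq_of_mul_eq_one_right hb
      calc b * (a * b * a * b) = b * (a * b * a * b)⁻¹ := by rw [hinv]
        _ = b * b * a * b * a := by simp only [_root_.mul_inv_rev, ai, bi, mul_assoc]
        _ = a * b * a * b * b := by
          rw [hb, one_mul, mul_assoc (a * b * a), hb, mul_one]
  have hgc : ∀ x ∈ gens, ∀ y ∈ gens, q x * q y = q y * q x := by
    intro x hx y hy
    rw [← map_mul, ← map_mul]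
    have hvT : ∀ (v t : H), (v : G) ∈ V →
        (((ρ (t : G)).val = t1 ∨ (ρ (t : G)).val = t2 ∨ (ρ (t : G)).val = t3)) →
        q (v * t) = q (t * v) := by
      intro v t hv ht
      refine hqeq _ _ ?_
      have hc : (t : G)⁻¹ * (v : G)⁻¹ * t * v ∈ V :=
        mul_mem (by simpa using Subgroup.Normal.conj_mem inferInstance _ (inv_mem hv) (t : G)⁻¹) hv
      have e : ((v * t : H) : G)⁻¹ * (t * v : H) = (t : G)⁻¹ * (v : G)⁻¹ * t * v := by
        simp [mul_assoc]
      rw [e]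
      refine ⟨hc, ?_⟩
      have e2 : ι ⟨_, hc⟩ = (ρ (t : G)⁻¹).val *ᵥ ι ⟨v, hv⟩ + ι ⟨v, hv⟩ := by
        rw [heq, ← hadd]
        congr 1
        apply Subtype.ext
        show _ = (t : G)⁻¹ * (v : G) * (t : G)⁻¹⁻¹ * v
        simp [inv_eq_of_mul_eq_one_right (hV2 _ hv), mul_assoc]
      have hti : (ρ (t : G)⁻¹).val = (ρ (t : G)).val := by
        have : ρ (t : G) * ρ (t : G) = 1 := by
          refine Units.ext ?_
          rw [Units.val_mul, Units.val_one]
          rcases ht with h | h | h <;> rw [h] <;> decide +kernel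
        rw [map_inv, inv_eq_of_mul_eq_one_right this]
      rw [e2, hti]
      obtain ⟨i1, i2, i3⟩ := tImage (ι ⟨v, hv⟩)
      rcases ht with h | h | h <;> rw [h] <;> assumption
    rcases hgT x hx with hxV | ⟨hxT, hx2⟩ <;> rcases hgT y hy with hyV | ⟨hyT, hy2⟩
    · rw [show x * y = y * x from Subtype.ext (hVc _ hxV _ hyV)]
    · exact hvT x y hxV hyT
    · exact (hvT y x hyV hxT).symm
    · refine hqeq _ _ ?_
      have xi : (x : G)⁻¹ = x := inv_eq_of_mul_eq_one_right hx2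
      have yi : (y : G)⁻¹ = y := inv_eq_of_mul_eq_one_right hy2
      have e : ((x * y : H) : G)⁻¹ * (y * x : H) = (y : G) * x * y * x := by
        simp [mul_assoc, xi, yi]
      rw [e]
      by_cases hxy : (ρ (x : G)).val = (ρ (y : G)).val
      · have hn : ∀ z ∈ gens, (ρ (z : G)).val = t1 ∨ (ρ (z : G)).val = t2 ∨ (ρ (z : G)).val = t3 →
            (z : G) = n1 ∨ (z : G) = n2 ∨ (z : G) = n3 := fun z hz hzT => hz.resolve_left fun hzV => by
          have hzV' : (z : G) ∈ V := hzV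
          rw [hVρ _ hzV'] at hzT
          revert hzT; decide +kernel
        rcases hn x hx hxT with h | h | h <;> rcases hn y hy hyT with k | k | k
        all_goals rw [h, k] at hxy ⊢
        all_goals first
          | (simp [hn1s, hn2s, hn3s, mul_assoc]; done)
          | (simp only [hn1, hn2, hn3] at hxy; exact absurd hxy (by decide +kernel))
      · refine hpair _ _ hy2 hx2 ?_ fun v hv => tCommon v ?_
        · rcases hxT with h | h | h <;> rcases hyT with k | k | k <;> rw [h, k] <;> decide +kernel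
        · rcases hxT with h | h | h <;> rcases hyT with k | k | k
          all_goals rw [h, k] at hv
          all_goals first
            | exact .inl hv
            | exact .inl hv.symm
            | exact .inr (.inl hv)
            | exact .inr (.inl hv.symm)
            | exact .inr (.inr hv)
            | exact .inr (.inr hv.symm)
            | exact absurd (h.trans k.symm) hxy
  -- the section
  let E : Subgroup (H ⧸ N) := Subgroup.closure (q '' gens)
  have hEc : IsMulCommutative E := Subgroup.isMulCommutative_closure (by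
    rintro _ ⟨x, hx, rfl⟩ _ ⟨y, hy, rfl⟩
    exact hgc x hx y hy)
  have hE2 : ∀ a ∈ E, a ^ 2 = 1 := by
    intro a ha
    have hcomm : ∀ a ∈ E, ∀ b ∈ E, Commute a b := fun a ha b hb =>
      congrArg Subtype.val (mul_comm' (⟨a, ha⟩ : E) ⟨b, hb⟩)
    induction ha using Subgroup.closure_induction with
    | mem z hz =>
      obtain ⟨x, hx, rfl⟩ := hz
      rw [← map_pow, show x ^ 2 = 1 from Subtype.ext ?_, map_one]
      rw [sq]
      rcases hgT x hx with h | ⟨_, h⟩
      · exact hV2 _ h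
      · exact h
    | one => exact one_pow 2
    | mul a b ha hb iha ihb => rw [(hcomm a ha b hb).mul_pow, iha, ihb, one_mul]
    | inv a _ iha => rw [inv_pow, iha, inv_one]
  have hle := hrank H N E hEc hE2
  -- twenty of its elements
  obtain ⟨r, hr⟩ : ∃ r : Fin 4 → V, ∀ i, ι (r i) = four i :=
    ⟨fun i => (hι.2 (four i)).choose, fun i => (hι.2 (four i)).choose_spec⟩
  let m : Fin 5 → H := ![1, ⟨n1, hnH n1 (.inl hn1)⟩, ⟨n2, hnH n2 (.inr (.inl hn2))⟩,
    ⟨n3, hnH n3 (.inr (.inr hn3))⟩, ⟨n1, hnH n1 (.inl hn1)⟩ * ⟨n2, hnH n2 (.inr (.inl hn2))⟩]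
  have hm : ∀ j, (ρ (m j : G)).val = five j := by
    intro j
    fin_cases j <;> simp [m, five, hn1, hn2, hn3]
  let rep : Fin 4 × Fin 5 → E := fun p => ⟨q (⟨r p.1, hVH (r p.1).2⟩ * m p.2), by
    have hgen : ∀ x ∈ gens, q x ∈ E := fun x hx => Subgroup.subset_closure ⟨x, hx, rfl⟩
    rw [map_mul]
    refine mul_mem (hgen _ (.inl (r p.1).2)) ?_
    obtain ⟨_, j⟩ := p
    fin_cases j
    · simp [m]
    · exact hgen _ (.inr (.inl rfl))
    · exact hgen _ (.inr (.inr (.inl rfl)))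
    · exact hgen _ (.inr (.inr (.inr rfl)))
    · show q (_ * _) ∈ E
      rw [map_mul]
      exact mul_mem (hgen _ (.inr (.inl rfl))) (hgen _ (.inr (.inr (.inl rfl))))⟩
  have hrep : Function.Injective rep := by
    rintro ⟨i, j⟩ ⟨i', j'⟩ e
    obtain ⟨hu, hu'⟩ := Subgroup.mem_subgroupOf.1 (QuotientGroup.eq.1 (congrArg Subtype.val e))
    have hu1 : (ρ ((((⟨r i, hVH (r i).2⟩ : H) * m j)⁻¹ * (⟨r i', hVH (r i').2⟩ * m j') : H) : G)).val = 1 :=
      hVρ _ hu
    have hj : j = j' := by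
      apply five_injective
      rw [← hm, ← hm]
      have e1 : ρ ((m j : G)) = ρ (m j' : G) := by
        have hb : ∀ v : V, ρ (v : G) = 1 := fun v => Units.ext (by rw [hVρ _ v.2, Units.val_one])
        have h := Units.ext (hu1.trans Units.val_one.symm)
        simp only [Subgroup.coe_mul, Subgroup.coe_inv, map_mul, map_inv, hb, one_mul, mul_one] at h
        exact inv_mul_eq_one.1 h
      rw [e1]
    subst hj
    refine Prod.ext (four_injective i i' ?_) rfl
    rw [← hr, ← hr, ← hadd]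
    have hd : ((r i * r i' : V) : G) ∈ U := by
      have hUc := Subgroup.mem_centralizer_iff.1 (m j).2 _ ⟨hu, hu'⟩
      have e2 : (((⟨r i, hVH (r i).2⟩ : H) * m j)⁻¹ * (⟨r i', hVH (r i').2⟩ * m j) : H) =
          (m j : G)⁻¹ * ((r i : G)⁻¹ * r i') * m j := by simp [mul_assoc]
      have hU0 : (((⟨r i, hVH (r i).2⟩ : H) * m j)⁻¹ * (⟨r i', hVH (r i').2⟩ * m j) : H).1 ∈ U := ⟨hu, hu'⟩
      rw [e2] at hUc hU0
      have e3 : ((r i * r i' : V) : G) = (m j : G)⁻¹ * ((r i : G)⁻¹ * r i') * m j := by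
        rw [inv_eq_of_mul_eq_one_right (hV2 _ (r i).2)] at hUc ⊢
        calc ((r i * r i' : V) : G) = (r i : G) * r i' := rfl
          _ = (m j : G) * ((m j : G)⁻¹ * ((r i : G) * r i') * m j) * (m j : G)⁻¹ := by group
          _ = _ := by rw [← hUc]; group
      rw [e3]
      simpa [inv_eq_of_mul_eq_one_right (hV2 _ (r i).2)] using hU0
    obtain ⟨_, hd'⟩ := hd
    exact hd'
  have hcard := Nat.card_le_card_of_injective rep hrep
  rw [Nat.card_prod, Nat.card_eq_fintype_card, Nat.card_eq_fintype_card, Fintype.card_fin,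
    Fintype.card_fin] at hcard
  norm_num at hle
  omega

end Cfsg.Agent.Spor.RankFourQuot
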