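import Mathlib
import Cfsg.Agent.Lib.Lie.EightSubgroupsLinear
import Cfsg.Agent.Lib.Spor.RankFourQuotLift
import Cfsg.Agent.Lib.Transfer.JordanPrimeCycle

/-!
Subgroups of `GL(4,2)` of order 720 without solvable normal subgroups contain, up to conjugation,
the transvections used for the rank bound; no subgroup has order 5040.
-/

set_option autoImplicit false

namespace Cfsg.Agent.Spor.RankFourQuot

open Equiv Lie.EightSub

theorem card_GL42 : Nat.card (GL (Fin 4) (ZMod 2)) = 20160 := by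
  rw [Matrix.card_GL_field, ZMod.card]
  rfl

theorem card_A8 : Nat.card (alternatingGroup (Fin 8)) = 20160 := by
  have := card_alt 8 (by norm_num)
  rw [show Nat.factorial 8 = 40320 from rfl] at this
  omega

theorem homAlt_bijective : Function.Bijective Recog.GL42.homAlt :=
  (Nat.bijective_iff_injective_and_card _).2 ⟨Recog.GL42.homAlt_injective, by rw [card_GL42, card_A8]⟩

/-- The permutation representation. -/
noncomputable def perm8 : GL (Fin 4) (ZMod 2) →* Perm (Fin 8) :=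
  (alternatingGroup (Fin 8)).subtype.comp Recog.GL42.homAlt

theorem perm8_injective : Function.Injective perm8 :=
  (alternatingGroup (Fin 8)).subtype_injective.comp Recog.GL42.homAlt_injective

open Matrix in
/-- An element whose matrix fixes the form of the pair `{4, 6}` preserves the pair. -/
theorem pair_of_form (g : GL (Fin 4) (ZMod 2))
    (h : g.val * Recog.GL42.frm 4 6 * g.valᵀ = Recog.GL42.frm 4 6) :
    (perm8 g 4 = 4 ∧ perm8 g 6 = 6) ∨ (perm8 g 4 = 6 ∧ perm8 g 6 = 4) :=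
  Recog.GL42.frm_inj _ _ _ _ ((perm8 g).injective.ne (by decide)) (by decide)
    ((Recog.GL42.hom_rel g 4 6 (by decide)).symm.trans h)

/-- No subgroup of order 5040. -/
theorem not_5040 (H : Subgroup (GL (Fin 4) (ZMod 2))) : Nat.card H ≠ 5040 := by
  intro hc
  set K := H.map Recog.GL42.homAlt with hK
  have hKc : Nat.card K = 5040 := by
    rw [hK, Subgroup.card_map_of_injective Recog.GL42.homAlt_injective, hc]
  haveI : IsSimpleGroup (alternatingGroup (Fin 8)) := alternatingGroup.isSimpleGroup (by simp)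
  have hidx : K.index = 4 := by
    have h := K.card_mul_index
    rw [hKc, card_A8] at h
    omega
  let f := MulAction.toPermHom (alternatingGroup (Fin 8)) (alternatingGroup (Fin 8) ⧸ K)
  rcases Subgroup.Normal.eq_bot_or_eq_top (inferInstance : f.ker.Normal) with h | h
  · have h1 := Nat.card_le_card_of_injective f ((MonoidHom.ker_eq_bot_iff f).1 h)
    rw [card_A8, Nat.card_perm, ← Subgroup.index_eq_card, hidx] at h1
    exact absurd h1 (by decide)
  · have hle : f.ker ≤ K := by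
      rw [show f.ker = K.normalCore from (Subgroup.normalCore_eq_ker K).symm]
      exact Subgroup.normalCore_le K
    rw [h, top_le_iff] at hle
    rw [hle, Subgroup.index_top] at hidx
    norm_num at hidx

open Matrix in
/-- A subgroup of order 720 contains a conjugate of each of the five matrices. -/
theorem six_contains (H : Subgroup (GL (Fin 4) (ZMod 2))) (hc : Nat.card H = 720) (hN : NoSolv H) :
    ∃ g : GL (Fin 4) (ZMod 2), ∀ M ∈ [t1, t2, t3, sA, sB],
      ∃ h ∈ H, (g * h * g⁻¹).val = M := by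
  classical
  set K := H.map perm8 with hK
  let e : H ≃* K := H.equivMapOfInjective perm8 perm8_injective
  have hKA : K ≤ alternatingGroup (Fin 8) := by
    rintro _ ⟨x, -, rfl⟩
    exact (Recog.GL42.homAlt x).2
  have hKc : Nat.card K = 720 := by rw [← hc]; exact Nat.card_congr e.symm.toEquiv
  have hKN : NoSolv K := hN.of_equiv e.symm
  haveI : Fact (Nat.Prime 5) := ⟨by norm_num⟩
  obtain ⟨g5, hg5⟩ := exists_prime_orderOf_dvd_card' (G := K) 5 (by rw [hKc]; norm_num)
  obtain ⟨hcyc, hcard⟩ := orderOf_cycle (g := (g5 : Perm (Fin 8))) (p := 5) (by norm_num)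
    (by rw [Subgroup.orderOf_coe, hg5]) (by rw [Fintype.card_fin]; norm_num)
  obtain ⟨a, ha⟩ : ∃ a, a ∈ (g5 : Perm (Fin 8)).support := Finset.card_pos.1 (by omega)
  set O := MulAction.orbit K a with hO
  have hO5 : 5 ≤ Nat.card O := by
    rw [Nat.card_coe_set_eq, ← hcard, ← Set.ncard_coe_finset]
    refine Set.ncard_le_ncard (fun x hx => ?_) (Set.toFinite _)
    obtain ⟨i, hi⟩ := hcyc.exists_zpow_eq (Perm.mem_support.1 ha) (Perm.mem_support.1 hx)
    exact ⟨g5 ^ i, hi⟩
  have hO720 : Nat.card O ∣ 720 := by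
    rw [Nat.card_congr (MulAction.orbitEquivQuotientStabilizer K a), ← Subgroup.index_eq_card, ← hKc]
    exact Subgroup.index_dvd_card _
  have hO8 : Nat.card O ≤ 8 := by
    refine (Nat.card_le_card_of_injective _ Subtype.val_injective).trans ?_
    simp
  obtain ⟨L, ⟨eL⟩, -⟩ := exists_orbit_rep K hKN a hO5
  have hfac : 720 ∣ (Nat.card O).factorial := by
    have h := L.card_subgroup_dvd_card
    rwa [← Nat.card_congr eL.toEquiv, hKc, Nat.card_perm, Nat.card_eq_fintype_card,
      Fintype.card_fin] at h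
  have hne8 : Nat.card O ≠ 8 := by
    intro h8
    haveI : MulAction.IsPretransitive K (Fin 8) := MulAction.IsPretransitive.mk fun u v => by
      have huniv : O = Set.univ := Set.eq_of_subset_of_ncard_le (Set.subset_univ _)
        (by rw [Set.ncard_univ, ← Nat.card_coe_set_eq, h8]; simp) (Set.toFinite _)
      obtain ⟨k, hk⟩ : u ∈ O := huniv ▸ Set.mem_univ u
      obtain ⟨l, hl⟩ : v ∈ O := huniv ▸ Set.mem_univ v
      exact ⟨l * k⁻¹, by rw [mul_smul, ← hk, inv_smul_smul]; exact hl⟩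
    have hle := Transfer.JordanPrimeCycle.alternatingGroup_le_of_cycle (G := K)
      (primitive_of_five K g5 hg5) (p := 5) (by norm_num) (by rw [Fintype.card_fin]) hcyc hcard g5.2
    have h := Nat.card_le_card_of_injective _ (Subgroup.inclusion_injective hle)
    rw [card_A8, hKc] at h
    omega
  have hO6 : Nat.card O = 6 := by
    have key : ∀ c ∈ Finset.Icc 5 8, c ∣ 720 → 720 ∣ c.factorial → c = 6 ∨ c = 8 := by decide +kernel
    exact (key _ (Finset.mem_Icc.2 ⟨hO5, hO8⟩) hO720 hfac).resolve_right hne8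
  obtain ⟨b, c, hbc, hbc'⟩ : ∃ b c, b ≠ c ∧ Oᶜ = {b, c} := by
    refine Set.ncard_eq_two.1 ?_
    have h := Set.ncard_add_ncard_compl O
    rw [← Nat.card_coe_set_eq, hO6, Nat.card_eq_fintype_card, Fintype.card_fin] at h
    omega
  have hpres : ∀ k : K, ((k : Perm (Fin 8)) b = b ∧ (k : Perm (Fin 8)) c = c) ∨
      ((k : Perm (Fin 8)) b = c ∧ (k : Perm (Fin 8)) c = b) := by
    intro k
    have hin : ∀ x ∈ Oᶜ, (k : Perm (Fin 8)) x ∈ Oᶜ := fun x hx hk => hx (by
      have h := MulAction.mem_orbit_of_mem_orbit k⁻¹ hk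
      rwa [show k⁻¹ • ((k : Perm (Fin 8)) x) = x from inv_smul_smul k x] at h)
    rw [hbc'] at hin
    have h1 := hin b (Or.inl rfl)
    have h2 := hin c (Or.inr rfl)
    simp only [Set.mem_insert_iff, Set.mem_singleton_iff] at h1 h2
    have hne := (k : Perm (Fin 8)).injective.ne hbc
    rcases h1 with h1 | h1 <;> rcases h2 with h2 | h2
    · exact absurd (h1.trans h2.symm) hne
    · exact .inl ⟨h1, h2⟩
    · exact .inr ⟨h1, h2⟩
    · exact absurd (h1.trans h2.symm) hne
  -- move the pair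
  obtain ⟨π, hπb, hπc, hπs⟩ : ∃ π : Perm (Fin 8), π b = 4 ∧ π c = 6 ∧ Perm.sign π = 1 := by
    set c' := swap b 4 c with hc'
    have hc4 : c' ≠ 4 := fun h => hbc ((swap b 4).injective (by rw [swap_apply_left, ← hc', h]))
    set π0 := swap c' 6 * swap b 4 with hπ0
    have e1 : π0 b = 4 := by
      rw [hπ0, Perm.mul_apply, swap_apply_left, swap_apply_of_ne_of_ne hc4.symm (by decide)]
    have e2 : π0 c = 6 := by rw [hπ0, Perm.mul_apply, ← hc', swap_apply_left]
    rcases Int.units_eq_one_or (Perm.sign π0) with h | h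
    · exact ⟨π0, e1, e2, h⟩
    · refine ⟨swap 0 1 * π0, ?_, ?_, ?_⟩
      · rw [Perm.mul_apply, e1]; decide
      · rw [Perm.mul_apply, e2]; decide
      · rw [map_mul, h, Perm.sign_swap (by decide)]; decide
  obtain ⟨g, hg⟩ := homAlt_bijective.2 ⟨π, Perm.mem_alternatingGroup.2 hπs⟩
  have hgπ : perm8 g = π := congrArg Subtype.val hg
  refine ⟨g, ?_⟩
  -- the stabilizer of the pair
  let P : Perm (Fin 8) → Prop := fun σ => (σ 4 = 4 ∧ σ 6 = 6) ∨ (σ 4 = 6 ∧ σ 6 = 4)
  let S : Subgroup (Perm (Fin 8)) :=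
    { carrier := {σ | σ ∈ alternatingGroup (Fin 8) ∧ P σ}
      one_mem' := ⟨one_mem _, .inl ⟨rfl, rfl⟩⟩
      mul_mem' := by
        rintro σ τ ⟨hσ, hσP⟩ ⟨hτ, hτP⟩
        refine ⟨mul_mem hσ hτ, ?_⟩
        rcases hσP with ⟨s1, s2⟩ | ⟨s1, s2⟩ <;> rcases hτP with ⟨u1, u2⟩ | ⟨u1, u2⟩ <;>
          simp [P, Perm.mul_apply, s1, s2, u1, u2]
      inv_mem' := by
        rintro σ ⟨hσ, hσP⟩
        refine ⟨inv_mem hσ, ?_⟩
        rcases hσP with ⟨s1, s2⟩ | ⟨s1, s2⟩
        · exact .inl ⟨by rw [Perm.inv_eq_iff_eq, s1], by rw [Perm.inv_eq_iff_eq, s2]⟩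
        · exact .inr ⟨by rw [Perm.inv_eq_iff_eq, s2], by rw [Perm.inv_eq_iff_eq, s1]⟩ }
  have hSc : Nat.card S ≤ 720 := by
    have hinv : ∀ σ : S, ∀ x : Fin 8, ((σ : Perm (Fin 8)) x ≠ 4 ∧ (σ : Perm (Fin 8)) x ≠ 6) ↔ (x ≠ 4 ∧ x ≠ 6) := by
      intro σ x
      have hi := (σ : Perm (Fin 8)).injective
      rcases σ.2.2 with ⟨s1, s2⟩ | ⟨s1, s2⟩
      all_goals
        have a1 := hi.ne_iff (x := x) (y := 4)
        have a2 := hi.ne_iff (x := x) (y := 6)
        rw [s1] at a1
        rw [s2] at a2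
      · exact and_congr a1 a2
      · rw [and_comm]
        exact and_congr a1 a2
    have hfin : Nat.card (Perm {x : Fin 8 // x ≠ 4 ∧ x ≠ 6}) = 720 := by
      rw [Nat.card_perm, Nat.card_eq_fintype_card,
        show Fintype.card {x : Fin 8 // x ≠ 4 ∧ x ≠ 6} = 6 by decide]
      rfl
    rw [← hfin]
    refine Nat.card_le_card_of_injective (fun σ : S => (σ : Perm (Fin 8)).subtypePerm (hinv σ)) ?_
    intro σ τ he
    have hagree : ∀ x, x ≠ 4 → x ≠ 6 → (σ : Perm (Fin 8)) x = (τ : Perm (Fin 8)) x := fun x h4 h6 =>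
      congrArg Subtype.val (DFunLike.congr_fun he (⟨x, h4, h6⟩ : {x : Fin 8 // x ≠ 4 ∧ x ≠ 6}))
    have hd : (σ : Perm (Fin 8))⁻¹ * (τ : Perm (Fin 8)) = 1 ∨
        (σ : Perm (Fin 8))⁻¹ * (τ : Perm (Fin 8)) = swap 4 6 := by
      have hm : P ((σ : Perm (Fin 8))⁻¹ * (τ : Perm (Fin 8))) := (S.mul_mem (S.inv_mem σ.2) τ.2).2
      rcases hm with ⟨d1, d2⟩ | ⟨d1, d2⟩
      · left
        refine Equiv.ext fun x => ?_
        by_cases h4 : x = 4
        · rw [h4, d1]; rfl
        by_cases h6 : x = 6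
        · rw [h6, d2]; rfl
        rw [Perm.mul_apply, ← hagree x h4 h6]
        exact (σ : Perm (Fin 8)).symm_apply_apply x
      · right
        refine Equiv.ext fun x => ?_
        by_cases h4 : x = 4
        · rw [h4, d1, swap_apply_left]
        by_cases h6 : x = 6
        · rw [h6, d2, swap_apply_right]
        rw [Perm.mul_apply, ← hagree x h4 h6, swap_apply_of_ne_of_ne h4 h6]
        exact (σ : Perm (Fin 8)).symm_apply_apply x
    rcases hd with h | h
    · exact Subtype.ext (inv_mul_eq_one.1 h)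
    · exfalso
      have hm := (S.mul_mem (S.inv_mem σ.2) τ.2).1
      rw [h, Perm.mem_alternatingGroup, Perm.sign_swap (by decide)] at hm
      exact absurd hm (by decide)
  set H' := H.map (MulAut.conj g).toMonoidHom with hH'
  have hle : H'.map perm8 ≤ S := by
    rintro _ ⟨_, ⟨h, hh, rfl⟩, rfl⟩
    refine ⟨(Recog.GL42.homAlt _).2, ?_⟩
    have e1 : perm8 (MulAut.conj g h) = π * perm8 h * π⁻¹ := by
      rw [MulAut.conj_apply, map_mul, map_mul, map_inv, hgπ]
    have hb : π⁻¹ 4 = b := by rw [Perm.inv_eq_iff_eq, hπb]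
    have hc' : π⁻¹ 6 = c := by rw [Perm.inv_eq_iff_eq, hπc]
    show P (perm8 (MulAut.conj g h))
    rw [e1]
    rcases hpres ⟨perm8 h, ⟨h, hh, rfl⟩⟩ with ⟨p1, p2⟩ | ⟨p1, p2⟩
    · exact .inl ⟨by simp only [Perm.mul_apply, hb, p1, hπb], by simp only [Perm.mul_apply, hc', p2, hπc]⟩
    · exact .inr ⟨by simp only [Perm.mul_apply, hb, p1, hπc], by simp only [Perm.mul_apply, hc', p2, hπb]⟩
  have hH'c : Nat.card (H'.map perm8) = 720 := by
    rw [Subgroup.card_map_of_injective perm8_injective, hH',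
      Subgroup.card_map_of_injective (MulAut.conj g).injective, hc]
  have heq := Subgroup.eq_of_le_of_card_ge hle (hH'c ▸ hSc)
  intro M hM
  have hM' : M.det ≠ 0 ∧ M * Recog.GL42.frm 4 6 * Mᵀ = Recog.GL42.frm 4 6 := by
    simp only [List.mem_cons, List.not_mem_nil, or_false] at hM
    rcases hM with rfl | rfl | rfl | rfl | rfl <;> decide +kernel
  let gM := GeneralLinearGroup.mkOfDetNeZero M hM'.1
  have hmem : perm8 gM ∈ H'.map perm8 := by
    rw [heq]
    exact ⟨(Recog.GL42.homAlt gM).2, pair_of_form gM hM'.2⟩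
  obtain ⟨x, ⟨h, hh, rfl⟩, hx⟩ := hmem
  exact ⟨h, hh, congrArg Units.val (perm8_injective hx)⟩

end Cfsg.Agent.Spor.RankFourQuot
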