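import Mathlib
import Cfsg.Agent.Lib.Grp.TwoClassCore
import Cfsg.Agent.Lib.Spor.RankFourQuotPerm
import Cfsg.Agent.Lib.Spor.RankFourQuotSix
import Cfsg.Agent.Lib.Spor.RankFourQuotSetup

/-!
Quotients by `O₂` of nonsolvable 2-constrained groups whose two-core has sectional rank at most four.
-/

set_option autoImplicit false

namespace Cfsg.Agent.Spor.RankFourQuot

open Matrix Lie.EightSub

theorem pslThree : Nonempty (GL (Fin 3) (ZMod 2) ≃* Matrix.ProjectiveSpecialLinearGroup (Fin 3) (ZMod 2)) := by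
  have hc : Subgroup.center (Matrix.SpecialLinearGroup (Fin 3) (ZMod 2)) = ⊥ := by
    rw [Subgroup.eq_bot_iff_forall]
    intro A hA
    obtain ⟨r, hr, hA'⟩ := Matrix.SpecialLinearGroup.mem_center_iff.1 hA
    have hr1 : r = 1 := by
      rw [Fintype.card_fin] at hr
      clear hA'
      revert hr
      revert r
      decide
    apply Subtype.ext
    rw [← hA', hr1, map_one]
    rfl
  have hinj : Function.Injective (Matrix.SpecialLinearGroup.toGL :
      Matrix.SpecialLinearGroup (Fin 3) (ZMod 2) → GL (Fin 3) (ZMod 2)) := fun A B h =>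
    Subtype.ext (congrArg (fun g : GL (Fin 3) (ZMod 2) => (g : Matrix (Fin 3) (Fin 3) (ZMod 2))) h)
  have hsur : Function.Surjective (Matrix.SpecialLinearGroup.toGL :
      Matrix.SpecialLinearGroup (Fin 3) (ZMod 2) → GL (Fin 3) (ZMod 2)) := fun g => by
    have hd : (g : Matrix (Fin 3) (Fin 3) (ZMod 2)).det = 1 := by
      have := Matrix.GeneralLinearGroup.det_ne_zero g
      generalize (g : Matrix (Fin 3) (Fin 3) (ZMod 2)).det = d at this ⊢
      revert d
      decide
    exact ⟨⟨g, hd⟩, Units.ext rfl⟩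
  exact ⟨(((QuotientGroup.quotientMulEquivOfEq hc).trans QuotientGroup.quotientBot).trans
    (MulEquiv.ofBijective _ ⟨hinj, hsur⟩)).symm⟩

variable {X : Type*} [Group X] [Finite X]

/-- The faithful representation of the quotient by the two-core. -/
theorem exists_linear (hc : Cfsg.IsPConstrained 2 X) (hO : Cfsg.oddCore X = ⊥)
    (h4 : Cfsg.SectionalPRankLE 2 4 ↥(Cfsg.pCore 2 X)) [(Cfsg.pCore 2 X).Normal] :
    ∃ H : Subgroup (GL (Fin 4) (ZMod 2)), Nonempty (X ⧸ Cfsg.pCore 2 X ≃* H) ∧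
      (512 < Nat.card H → Cfsg.SectionalPRankLE 2 4 X →
        ¬ ∃ g : GL (Fin 4) (ZMod 2), ∀ M ∈ [t1, t2, t3, sA, sB], ∃ h ∈ H, (g * h * g⁻¹).val = M) := by
  haveI : Fact (Nat.Prime 2) := ⟨Nat.prime_two⟩
  haveI : (phiCore X).Normal := phiCore_normal
  obtain ⟨hVn, hV2, hVc⟩ := core_quotient hc hO
  set P := Cfsg.pCore 2 X with hP
  have hP2 : IsPGroup 2 P := Grp.pCore_isPGroup
  set q := QuotientGroup.mk' (phiCore X) with hq
  haveI := hVn
  have hV16 : Nat.card (P.map q) ≤ 16 := by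
    refine sectional_of_surjective (q.subgroupMap P) (q.subgroupMap_surjective P) h4 ⊤ ⊥
      ((⊤ : Subgroup ↥(⊤ : Subgroup (P.map q))).map (QuotientGroup.mk' ⊥)) ?_ ?_ |> le_trans (le_of_eq ?_)
    · rw [Subgroup.card_map_of_injective (f := QuotientGroup.mk' (⊥ : Subgroup ↥(⊤ : Subgroup (P.map q))))]
      · rw [Subgroup.card_top, Subgroup.card_top]
      · rw [← MonoidHom.ker_eq_bot_iff, QuotientGroup.ker_mk']
    · constructor; constructor
      rintro ⟨_, a, -, rfl⟩ ⟨_, b, -, rfl⟩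
      apply Subtype.ext
      show QuotientGroup.mk' _ a * QuotientGroup.mk' _ b = QuotientGroup.mk' _ b * QuotientGroup.mk' _ a
      rw [← map_mul, ← map_mul]
      congr 1
      apply Subtype.ext
      apply Subtype.ext
      exact Subgroup.mem_centralizer_iff.1 (hVc.ge (b : P.map q).2) _ (a : P.map q).2
    · rintro _ ⟨a, -, rfl⟩
      rw [sq, ← map_mul, show a * a = 1 from Subtype.ext (Subtype.ext (hV2 _ (a : P.map q).2)), map_one]
  obtain ⟨ρ, ι, hker, hι, hadd, heq, h512⟩ := exists_rep (P.map q) hV2 hV16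
  rw [hVc] at hker
  let ψ : X →* ρ.range := ρ.rangeRestrict.comp q
  have hψ : Function.Surjective ψ := ρ.rangeRestrict_surjective.comp (QuotientGroup.mk'_surjective _)
  have hψk : ψ.ker = P := by
    rw [← MonoidHom.comap_ker, MonoidHom.ker_rangeRestrict, hker, Subgroup.comap_map_eq,
      hq, QuotientGroup.ker_mk', sup_eq_left.2 phiCore_le]
  refine ⟨ρ.range, ⟨(QuotientGroup.quotientMulEquivOfEq hψk.symm).trans
    (QuotientGroup.quotientKerEquivOfSurjective ψ hψ)⟩, fun hbig hrank => ?_⟩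
  rintro ⟨g, hg⟩
  have hV16' : Nat.card (P.map q) = 16 := by
    have h8 : 8 < Nat.card (P.map q) := by
      by_contra h
      have := h512 (not_lt.1 h)
      omega
    obtain ⟨k, hk⟩ := IsPGroup.iff_card.1 (hP2.map q)
    rw [hk] at h8 hV16 ⊢
    have hk4 : k ≤ 4 := by
      by_contra hh
      have := Nat.pow_le_pow_right (show 0 < 2 by norm_num) (show 5 ≤ k by omega)
      omega
    interval_cases k <;> omega
  have hbij : Function.Bijective ι := (Nat.bijective_iff_injective_and_card _).2 ⟨hι, by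
    rw [hV16']; simp⟩
  have hgi : g⁻¹.val * g.val = 1 := by rw [← Units.val_mul, inv_mul_cancel, Units.val_one]
  have hgi' : g.val * g⁻¹.val = 1 := by rw [← Units.val_mul, mul_inv_cancel, Units.val_one]
  let ρ' : (X ⧸ phiCore X) →* GL (Fin 4) (ZMod 2) := (MulAut.conj g).toMonoidHom.comp ρ
  let ι' : P.map q → F4 := fun v => g.val *ᵥ ι v
  have hex : ∀ M ∈ [t1, t2, t3, sA, sB], ∃ z, (ρ' z).val = M := by
    intro M hM
    obtain ⟨_, ⟨z, rfl⟩, hz⟩ := hg M hM
    exact ⟨z, hz⟩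
  refine not_rank_four (P.map q) ρ' ι' ?_ ?_ ?_ ?_ (hex _ (by simp)) (hex _ (by simp)) (hex _ (by simp))
    (hex _ (by simp)) (hex _ (by simp)) (sectional_of_surjective q (QuotientGroup.mk'_surjective _) hrank)
  · rw [← hker]
    exact MonoidHom.ker_comp_of_injective _ _ (MulAut.conj g).injective
  · refine ⟨fun a b h => hbij.1 ?_, fun x => ?_⟩
    · have := congrArg (g⁻¹.val *ᵥ ·) h
      simpa [ι', Matrix.mulVec_mulVec, hgi] using this
    · obtain ⟨v, hv⟩ := hbij.2 (g⁻¹.val *ᵥ x)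
      exact ⟨v, by simp only [ι', hv, Matrix.mulVec_mulVec, hgi', Matrix.one_mulVec]⟩
  · intro a b
    simp only [ι', hadd, Matrix.mulVec_add]
  · intro z v
    show (MulAut.conj g (ρ z)).val *ᵥ (g.val *ᵥ ι v) = g.val *ᵥ ι _
    rw [← heq z v, MulAut.conj_apply, Units.val_mul, Units.val_mul, Matrix.mulVec_mulVec,
      Matrix.mulVec_mulVec, mul_assoc, hgi, mul_one]

theorem quotient_not_solvable (hns : ¬ Group.IsSolvable X) [(Cfsg.pCore 2 X).Normal] :
    ¬ Group.IsSolvable (X ⧸ Cfsg.pCore 2 X) := by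
  haveI : Fact (Nat.Prime 2) := ⟨Nat.prime_two⟩
  intro h
  haveI := h
  haveI : Group.IsNilpotent ↥(Cfsg.pCore 2 X) := (Grp.pCore_isPGroup (p := 2) (G := X)).isNilpotent
  exact hns (Group.isSolvable_of_ker_le_range (Cfsg.pCore 2 X).subtype
    (QuotientGroup.mk' (Cfsg.pCore 2 X)) (by simp))

theorem main {X : Type*} [Group X] [Finite X] (hns : ¬ Group.IsSolvable X) (hc : Cfsg.IsPConstrained 2 X)
    (hO : Cfsg.oddCore X = ⊥) (h4 : Cfsg.SectionalPRankLE 2 4 ↥(Cfsg.pCore 2 X))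
    [(Cfsg.pCore 2 X).Normal] [(Cfsg.pCore 3 (X ⧸ Cfsg.pCore 2 X)).Normal] :
    (Listed (X ⧸ Cfsg.pCore 2 X) ∨ ThreeByFive (X ⧸ Cfsg.pCore 2 X)) ∧
      (Cfsg.SectionalPRankLE 2 4 X →
        ¬ (Nonempty (X ⧸ Cfsg.pCore 2 X ≃* Equiv.Perm (Fin 6)) ∨ Nonempty (X ⧸ Cfsg.pCore 2 X ≃* Equiv.Perm (Fin 7)) ∨
            Nonempty (X ⧸ Cfsg.pCore 2 X ≃* ↥(alternatingGroup (Fin 8))))) := by
  obtain ⟨H, ⟨e⟩, hH⟩ := exists_linear hc hO h4
  haveI : (Cfsg.pCore 3 H).Normal := Grp.pCore_isNormal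
  have hnsH : ¬ Group.IsSolvable H := fun h => by
    haveI := h
    exact quotient_not_solvable hns (Group.isSolvable_of_isSolvable_injective (f := e.toMonoidHom) e.injective)
  have h2 : Cfsg.pCore 2 H = ⊥ := by
    rw [← pCore_map_equiv e, Grp.TwoClassCore.pCore_quotient_eq_bot _ Grp.pCore_isPGroup rfl, Subgroup.map_bot]
  have hne : H ≠ ⊥ := fun h => hnsH (small_solvable (by rw [h, Subgroup.card_bot]; norm_num))
  refine ⟨(image_cases H hnsH h2).imp (fun hN => (classify H hne hN).of_equiv e) (fun h => h.of_equiv e),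
    fun hrank hQ => ?_⟩
  have hfac : ∀ k : ℕ, Nat.card (Equiv.Perm (Fin k)) = k.factorial := fun k => by
    rw [Nat.card_perm, Nat.card_eq_fintype_card, Fintype.card_fin]
  rcases hQ with ⟨⟨f⟩⟩ | ⟨⟨f⟩⟩ | ⟨⟨f⟩⟩
  · have hc6 : Nat.card H = 720 := by
      rw [← Nat.card_congr e.toEquiv, Nat.card_congr f.toEquiv, hfac]; rfl
    have hN : NoSolv H := by
      refine (image_cases H hnsH h2).resolve_right fun ⟨h3, h5⟩ => ?_
      have h := (Cfsg.pCore 3 H).card_mul_index
      rw [h3, hc6, Subgroup.index_eq_card] at h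
      rcases h5 with ⟨⟨f5⟩⟩ | ⟨⟨f5⟩⟩ <;> rw [Nat.card_congr f5.toEquiv] at h
      · have h60 := card_alt 5 (by norm_num)
        rw [show Nat.factorial 5 = 120 from rfl] at h60
        omega
      · rw [hfac, show Nat.factorial 5 = 120 from rfl] at h
        omega
    exact hH (by omega) hrank (six_contains H hc6 hN)
  · refine not_5040 H ?_
    rw [← Nat.card_congr e.toEquiv, Nat.card_congr f.toEquiv, hfac]; rfl
  · have hc8 : Nat.card H = 20160 := by
      rw [← Nat.card_congr e.toEquiv, Nat.card_congr f.toEquiv, card_A8]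
    have htop : H = ⊤ := Subgroup.eq_top_of_card_eq H (by rw [hc8, card_GL42])
    refine hH (by omega) hrank ⟨1, fun M hM => ?_⟩
    have hdet : M.det ≠ 0 := by
      simp only [List.mem_cons, List.not_mem_nil, or_false] at hM
      rcases hM with rfl | rfl | rfl | rfl | rfl <;> decide +kernel
    exact ⟨GeneralLinearGroup.mkOfDetNeZero M hdet, htop ▸ Subgroup.mem_top _, by simp⟩

end Cfsg.Agent.Spor.RankFourQuot
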