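import Cfsg.Agent.Lib.Spor.SharpTwoKernel

/-!
Jordan: a sharply `k`-transitive group with `k ≥ 4` has degree `k`, `k+1`, `k+2`, or is of degree
11 (`k = 4`) or 12 (`k = 5`).
-/

set_option autoImplicit false

namespace Cfsg.Agent.Spor.Sharp

open Finset

variable {α : Type*} [Fintype α] [DecidableEq α] {G : Subgroup (Equiv.Perm α)}

theorem card_four (hG : Is G 4) (h7 : 7 ≤ Fintype.card α) : Fintype.card α = 11 := by
  classical
  obtain ⟨a, b, hab⟩ := Fintype.exists_pair_of_one_lt_card (show 1 < Fintype.card α by omega)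
  have hR := card_R (a := a) (b := b) hab
  have h2 : 1 < (R a b).card := by omega
  obtain ⟨c, hc, d, hd, hcd⟩ := one_lt_card.mp h2
  obtain ⟨hgrp, heven, hodd⟩ := ker_group hG hab hc hd hcd
  have hF := card_free hG hab hc hd hcd
  let T := univ.filter fun g => Ker a b G g
  have hmT : ∀ g, g ∈ T ↔ Ker a b G g := fun g => by simp [T]
  have hTcard : T.card = (R a b).card := by
    have : T = insert 1 (univ.filter fun g => In a b G g ∧ Free a b g) := by
      ext g
      simp only [hmT, Ker, mem_insert, mem_filter, mem_univ, true_and]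
      exact ⟨fun h => h.2.imp_right fun h' => ⟨h.1, h'⟩, fun h => h.elim (fun e => ⟨e ▸ In.one, Or.inl e⟩) fun h' => ⟨h'.1, Or.inr h'.2⟩⟩
    rw [this, card_insert_of_notMem, hF]
    · omega
    · simp only [mem_filter, not_and]
      exact fun _ _ h => h c hc rfl
  have kone : Ker a b G 1 := ⟨In.one, Or.inl rfl⟩
  have kinv : ∀ t, Ker a b G t → Ker a b G t⁻¹ := fun t ht =>
    ⟨ht.1.inv, ht.2.imp (fun h => by rw [h, inv_one]) Free.inv⟩
  have hinj : ∀ s t, Ker a b G s → Ker a b G t → s c = t c → s = t := by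
    intro s t hs ht e
    rcases (hgrp _ _ (kinv t ht) hs).1.2 with h | h
    · exact (inv_mul_eq_one.mp h).symm
    · exact absurd (show (t⁻¹ * s) c = c by rw [Equiv.Perm.mul_apply, e]; exact t.symm_apply_apply c) (h c hc)
  have hsurj : ∀ u ∈ R a b, ∃ t, Ker a b G t ∧ t c = u := by
    intro u hu
    have h : T.image (fun t => t c) = R a b := by
      refine eq_of_subset_of_card_le (fun v hv => ?_) ?_
      · obtain ⟨t, ht, rfl⟩ := mem_image.mp hv
        exact ((hmT t).mp ht).1.map_R hc
      · rw [card_image_of_injOn fun s hs t ht e => hinj s t ((hmT s).mp hs) ((hmT t).mp ht) e, hTcard]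
    rw [← h, mem_image] at hu
    obtain ⟨t, ht, e⟩ := hu
    exact ⟨t, (hmT t).mp ht, e⟩
  -- the involution interchanging `a` and `b`
  have h4 := four_R hab hc hd hcd
  obtain ⟨y, hy, ya, yb, yc, yd⟩ := hG.tr4 h4 (show Four b a c d from
    ⟨hab.symm, h4.2.2.2.1, h4.2.2.2.2.1, h4.2.1, h4.2.2.1, hcd⟩)
  have yy : y * y = 1 := hG.fix4 h4 (mul_mem hy hy) (by simp [ya, yb]) (by simp [ya, yb]) (by simp [yc]) (by simp [yd])
  have yyp : ∀ u, y (y u) = u := fun u => by rw [← Equiv.Perm.mul_apply, yy]; rfl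
  have yR : ∀ u ∈ R a b, y u ∈ R a b := by
    intro u hu
    rw [mem_R] at hu ⊢
    exact ⟨fun e => hu.2 (by rw [← yyp u, e, ya]), fun e => hu.1 (by rw [← yyp u, e, yb])⟩
  have hconj : ∀ t, Ker a b G t → Ker a b G (y * t * y) := by
    intro t ht
    refine ⟨⟨mul_mem (mul_mem hy ht.1.1) hy, by simp [ya, yb, ht.1.2.2], by simp [ya, yb, ht.1.2.1]⟩, ?_⟩
    rcases ht.2 with rfl | hf
    · left; rw [mul_one, yy]
    · right
      intro u hu e
      refine hf (y u) (yR u hu) ?_
      have := congrArg y e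
      rwa [Equiv.Perm.mul_apply, Equiv.Perm.mul_apply, yyp] at this
  let C := T.filter fun t => y * t * y = t
  let D := T.filter fun t => y * t * y = t⁻¹
  have hCfix : C.card = ((R a b).filter fun u => y u = u).card := by
    refine card_bij (fun t _ => t c) (fun t ht => ?_) (fun s hs t ht e => ?_) (fun u hu => ?_)
    · rw [mem_filter, hmT] at ht
      refine mem_filter.mpr ⟨ht.1.1.map_R hc, ?_⟩
      conv_rhs => rw [← ht.2]
      simp [yc]
    · rw [mem_filter, hmT] at hs ht
      exact hinj s t hs.1 ht.1 e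
    · rw [mem_filter] at hu
      obtain ⟨t, ht, rfl⟩ := hsurj u hu.1
      exact ⟨t, mem_filter.mpr ⟨(hmT t).mpr ht, hinj _ _ (hconj t ht) ht (by simp [yc, hu.2])⟩, rfl⟩
  have hyfix : ((R a b).filter fun u => y u = u).card = (R a b).card % 2 + 2 := by
    obtain ⟨g, hg, g1, g2, g3, g4⟩ := hG.tr4 (show Four c d a b from
      ⟨hcd, h4.2.1.symm, h4.2.2.2.1.symm, h4.2.2.1.symm, h4.2.2.2.2.1.symm, hab⟩) h4
    have hga : g⁻¹ a = c := by rw [Equiv.Perm.inv_eq_iff_eq, g1]
    have hgb : g⁻¹ b = d := by rw [Equiv.Perm.inv_eq_iff_eq, g2]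
    have hne : y ≠ 1 := fun e => hab (by rw [← ya, e]; rfl)
    have hi : Inv a b G (g * y * g⁻¹) :=
      ⟨⟨mul_mem (mul_mem hg hy) (inv_mem hg), by rw [Equiv.Perm.mul_apply, Equiv.Perm.mul_apply, hga, yc, g1],
        by rw [Equiv.Perm.mul_apply, Equiv.Perm.mul_apply, hgb, yd, g2]⟩,
        by rw [show g * y * g⁻¹ * (g * y * g⁻¹) = g * (y * y) * g⁻¹ by group, yy]; group,
        fun e => hne (conj_eq_one_iff.mp e)⟩
    rw [← (fixed_card hG hab hi).2]
    refine card_bij (fun u _ => g u) (fun u hu => ?_) (fun u _ v _ e => g.injective e) (fun v hv => ?_)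
    · rw [mem_filter] at hu ⊢
      exact ⟨mem_univ _, by simp [hu.2]⟩
    · rw [mem_filter] at hv
      refine ⟨g⁻¹ v, mem_filter.mpr ⟨?_, ?_⟩, by simp⟩
      · have e : y (g⁻¹ v) = g⁻¹ v := by
          have := congrArg (fun w => g⁻¹ w) hv.2
          simpa using this
        rw [mem_R]
        exact ⟨fun h => hab (by rw [h, ya] at e; exact e.symm), fun h => hab (by rw [h, yb] at e; exact e)⟩
      · have := congrArg (fun w => g⁻¹ w) hv.2
        simpa using this
  have hle : T.card ≤ C.card * D.card := by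
    have hmap : ∀ t ∈ T, t * (y * t * y) ∈ C := by
      intro t ht
      rw [hmT] at ht
      refine mem_filter.mpr ⟨(hmT _).mpr (hgrp _ _ ht (hconj t ht)).1, ?_⟩
      rw [show y * (t * (y * t * y)) * y = (y * t * y) * t * (y * y) by group, yy, mul_one, (hgrp _ _ (hconj t ht) ht).2]
    calc T.card ≤ D.card * (T.image fun t => t * (y * t * y)).card := by
          refine card_le_mul_card_image _ _ fun k hk => ?_
          obtain ⟨t0, ht0, rfl⟩ := mem_image.mp hk
          refine card_le_card_of_injOn (fun t => t0⁻¹ * t) (fun t ht => ?_) (fun s _ t _ e => mul_left_cancel e)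
          rw [mem_coe, mem_filter, hmT] at ht
          rw [hmT] at ht0
          rw [mem_coe, mem_filter, hmT]
          refine ⟨(hgrp _ _ (kinv t0 ht0) ht.1).1, ?_⟩
          have hyi : y⁻¹ = y := (eq_inv_of_mul_eq_one_left yy).symm
          have e1 : y * t * y = t⁻¹ * (t0 * (y * t0 * y)) := by rw [← ht.2]; group
          have e2 : y * t0⁻¹ * y = (y * t0 * y)⁻¹ := by rw [mul_inv_rev, mul_inv_rev, hyi]; group
          rw [show y * (t0⁻¹ * t) * y = y * t0⁻¹ * (y * y) * t * y by rw [yy]; group,
            show y * t0⁻¹ * (y * y) * t * y = (y * t0⁻¹ * y) * (y * t * y) by group, e2, e1,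
            show t⁻¹ * (t0 * (y * t0 * y)) = (t⁻¹ * t0) * (y * t0 * y) by group,
            (hgrp _ _ (hgrp _ _ (kinv t ht.1) ht0).1 (hconj t0 ht0)).2]
          group
      _ ≤ D.card * C.card := Nat.mul_le_mul_left _ (card_le_card fun k hk => by
          obtain ⟨t, ht, rfl⟩ := mem_image.mp hk; exact hmap t ht)
      _ = C.card * D.card := mul_comm _ _
  rw [hCfix, hyfix, hTcard] at hle
  rcases Nat.mod_two_eq_zero_or_one (R a b).card with h0 | h1
  · exfalso
    have hDC : D.card ≤ 2 := by
      have : D = C := filter_congr fun t ht => by rw [heven h0 t ((hmT t).mp ht)]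
      rw [this, hCfix, hyfix, h0]
    rw [h0] at hle
    have := hle.trans (Nat.mul_le_mul_left 2 hDC)
    omega
  · have hD : D.card ≤ 3 := by
      obtain ⟨j, hj, -⟩ := exists_inv hG hab hc hd hcd
      obtain ⟨w, hw⟩ := card_eq_one.mp ((fixed_card hG hab hj).1.trans h1)
      have hwm := hw.symm ▸ mem_singleton_self w
      rw [mem_filter] at hwm
      obtain ⟨t, ht, htw⟩ := hsurj w hwm.1
      let x := t⁻¹ * j * t
      have hx : Inv a b G x := ⟨((kinv t ht).1.mul hj.1).mul ht.1,
        by rw [show x * x = t⁻¹ * (j * j) * t from (by group : t⁻¹ * j * t * (t⁻¹ * j * t) = t⁻¹ * (j * j) * t), hj.2.1]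
           group,
        fun e => hj.2.2 (by have e' : t⁻¹ * j * t⁻¹⁻¹ = 1 := by rw [inv_inv]; exact e
                            exact conj_eq_one_iff.mp e')⟩
      have xc : x c = c := by
        show t⁻¹ (j (t c)) = c
        rw [htw, hwm.2, Equiv.Perm.inv_eq_iff_eq]; exact htw.symm
      have hxt : ∀ s, Ker a b G s → x (s c) = s⁻¹ c := by
        intro s hs
        rw [← hodd h1 x hx s hs]
        simp [xc]
      have hz : x * y ≠ 1 := fun e => hab (by
        have := congrArg (fun g : Equiv.Perm α => g a) e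
        simpa [ya, hx.1.2.2] using this.symm)
      refine le_trans ?_ (hG.fixed_le (mul_mem hx.1.1 hy) hz)
      refine card_le_card_of_injOn (fun s => s c) (fun s hs => ?_) (fun s hs s' hs' e => ?_)
      · rw [mem_coe, mem_filter, hmT] at hs
        rw [mem_coe, mem_filter]
        refine ⟨mem_univ _, ?_⟩
        have e : y (s c) = s⁻¹ c := by rw [← hs.2]; simp [yc]
        rw [Equiv.Perm.mul_apply, e, hxt _ (kinv s hs.1), inv_inv]
      · rw [mem_coe, mem_filter, hmT] at hs hs'
        exact hinj s s' hs.1 hs'.1 e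
    rw [h1] at hle
    have h9 : (R a b).card ≤ 9 := hle.trans (Nat.mul_le_mul_left 3 hD)
    -- three divides the number of remaining points
    have h3 : 3 ∣ (R a b).card := by
      let N : Subgroup (Equiv.Perm α) :=
        { carrier := {g | Ker a b G g}
          mul_mem' := fun hs ht => (hgrp _ _ hs ht).1
          one_mem' := kone
          inv_mem' := fun hs => kinv _ hs }
      let K : Subgroup (Equiv.Perm α) := N ⊓ Subgroup.centralizer {y}
      have hN : Nat.card N = (R a b).card := by
        rw [← hTcard, Nat.card_eq_fintype_card]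
        exact Fintype.card_of_subtype T fun g => hmT g
      have hK : Nat.card K = C.card := by
        rw [Nat.card_eq_fintype_card]
        refine Fintype.card_of_subtype C fun g => ?_
        rw [mem_filter, hmT, Subgroup.mem_inf, Subgroup.mem_centralizer_singleton_iff]
        refine and_congr Iff.rfl ⟨fun e => ?_, fun e => ?_⟩
        · calc g * y = (y * g * y) * y := by rw [e]
            _ = y * g := by rw [mul_assoc (y * g), yy, mul_one]
        · rw [← e, mul_assoc, yy, mul_one]
      have := Subgroup.card_dvd_of_le (inf_le_left : K ≤ N)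
      rwa [hK, hN, hCfix, hyfix, h1] at this
    omega

/-- The stabiliser of a point, on the other points. -/
theorem Is.step {k : ℕ} (hG : Is G (k + 1)) (p : α) :
    ∃ H : Subgroup (Equiv.Perm {x // x ≠ p}), Is H k := by
  let H : Subgroup (Equiv.Perm {x // x ≠ p}) :=
    { carrier := {σ | Equiv.Perm.ofSubtype σ ∈ G}
      mul_mem' := fun {s t} hs ht => by rw [Set.mem_ofPred_eq, map_mul]; exact mul_mem hs ht
      one_mem' := by rw [Set.mem_ofPred_eq, map_one]; exact one_mem G
      inv_mem' := fun {s} hs => by rw [Set.mem_ofPred_eq, map_inv]; exact inv_mem hs }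
  have ext : ∀ x : Fin k ↪ {x // x ≠ p}, Function.Injective (Fin.cons p (fun i => (x i : α)) : Fin (k + 1) → α) :=
    fun x => Fin.cons_injective_iff.mpr ⟨fun ⟨i, e⟩ => (x i).2 e, fun i j e => x.injective (Subtype.ext e)⟩
  refine ⟨H, ⟨fun x y => ?_, fun σ hσ x hx => ?_⟩⟩
  · obtain ⟨g, hg, e⟩ := hG.trans ⟨_, ext x⟩ ⟨_, ext y⟩
    have gp : g p = p := by simpa using e 0
    have hiff : ∀ z, g z ≠ p ↔ z ≠ p := fun z =>
      not_congr ⟨fun h => g.injective (h.trans gp.symm), fun h => by rw [h, gp]⟩
    refine ⟨g.subtypePerm hiff, ?_, fun i => Subtype.ext (by simpa using e i.succ)⟩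
    show Equiv.Perm.ofSubtype (g.subtypePerm hiff) ∈ G
    rw [Equiv.Perm.ofSubtype_subtypePerm (p := fun z => z ≠ p) hiff (fun z hz h => hz (by rw [h]; exact gp))]
    exact hg
  · have h1 : Equiv.Perm.ofSubtype σ = 1 := hG.fix _ hσ ⟨_, ext x⟩ fun i => by
      refine Fin.cases ?_ (fun j => ?_) i
      · simpa using Equiv.Perm.ofSubtype_apply_of_not_mem σ (by simp)
      · simp [hx j]
    exact Equiv.Perm.ofSubtype_injective (h1.trans (map_one _).symm)

theorem card_ne (p : α) : Fintype.card {x // x ≠ p} = Fintype.card α - 1 := by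
  rw [Fintype.card_subtype_compl, Fintype.card_subtype_eq]

/-- The order. -/
theorem Is.card {k : ℕ} (hG : Is G k) (x : Fin k ↪ α) :
    Nat.card G = (Fintype.card α).descFactorial k := by
  rw [← Fintype.card_fin k, ← Fintype.card_embedding_eq, ← Nat.card_eq_fintype_card]
  refine Nat.card_congr (Equiv.ofBijective (fun g : G => x.trans (g : Equiv.Perm α).toEmbedding) ⟨?_, ?_⟩)
  · intro g h e
    refine Subtype.ext ?_
    have := hG.fix _ (mul_mem (inv_mem h.2) g.2) x fun i => by
      rw [Equiv.Perm.mul_apply, Equiv.Perm.inv_eq_iff_eq]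
      exact DFunLike.congr_fun e i
    exact (inv_mul_eq_one.mp this).symm
  · intro y
    obtain ⟨g, hg, e⟩ := hG.trans x y
    exact ⟨⟨g, hg⟩, Function.Embedding.ext e⟩

theorem five (hG : Is G 5) (h5 : 5 ≤ Fintype.card α) :
    Fintype.card α = 5 ∨ Fintype.card α = 6 ∨ Fintype.card α = 7 ∨ Fintype.card α = 12 := by
  obtain ⟨p⟩ : Nonempty α := Fintype.card_pos_iff.mp (by omega)
  obtain ⟨H, hH⟩ := hG.step p
  have hc := card_ne p
  by_cases h7 : 7 ≤ Fintype.card {x // x ≠ p}
  · have := card_four hH h7; omega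
  · omega

theorem not_six_thirteen (hG : Is G 6) : Fintype.card α ≠ 13 := by
  classical
  intro h13
  obtain ⟨x⟩ : Nonempty (Fin 6 ↪ α) := Function.Embedding.nonempty_of_card_le (by rw [Fintype.card_fin, h13]; norm_num)
  have hcard : Nat.card G = 1235520 := by rw [hG.card x, h13]; rfl
  haveI : Fact (Nat.Prime 13) := ⟨by norm_num⟩
  obtain ⟨P⟩ : Nonempty (Sylow 13 G) := Sylow.nonempty
  have hP : Nat.card (P : Subgroup G) = 13 := by
    have hd : 13 ^ 1 ∣ Nat.card (P : Subgroup G) := P.pow_dvd_card_of_pow_dvd_card (by rw [hcard]; norm_num)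
    obtain ⟨n, hn⟩ := IsPGroup.iff_card.mp P.isPGroup'
    rw [hn] at hd ⊢
    have h2 : 13 ^ n ∣ 1235520 := by rw [← hn, ← hcard]; exact Subgroup.card_subgroup_dvd_card _
    rcases n with _ | _ | n
    · norm_num at hd
    · norm_num
    · exfalso
      have := (pow_dvd_pow 13 (show 2 ≤ n + 1 + 1 by omega)).trans h2
      norm_num at this
  haveI : IsCyclic (P : Subgroup G) := isCyclic_of_prime_card hP
  -- the centraliser
  obtain ⟨s, hs⟩ := IsCyclic.exists_generator (α := (P : Subgroup G))
  set σ : Equiv.Perm α := ((s : G) : Equiv.Perm α) with hσ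
  have hord : orderOf σ = 13 := by
    rw [hσ, orderOf_submonoid, orderOf_submonoid, orderOf_eq_card_of_forall_mem_zpowers hs, hP]
  have hcyc : σ.IsCycle := Equiv.Perm.isCycle_of_prime_order' (by rw [hord]; norm_num) (by rw [hord, h13]; norm_num)
  have hsupp : σ.support = univ := eq_univ_of_card _ (by rw [← hcyc.orderOf, hord, h13])
  obtain ⟨p⟩ : Nonempty α := Fintype.card_pos_iff.mp (by omega)
  have hC : Nat.card (Subgroup.centralizer ((P : Subgroup G) : Set G)) ≤ 13 := by
    refine le_trans ?_ (le_of_eq ((Nat.card_eq_fintype_card (α := α)).trans h13))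
    refine Nat.card_le_card_of_injective (fun g => ((g : G) : Equiv.Perm α) p) fun g h e => ?_
    have hcom : ∀ (g : Subgroup.centralizer ((P : Subgroup G) : Set G)) (i : ℤ),
        ((g : G) : Equiv.Perm α) ((σ ^ i) p) = (σ ^ i) (((g : G) : Equiv.Perm α) p) := fun g i => by
      have h1 : σ * ((g : G) : Equiv.Perm α) = ((g : G) : Equiv.Perm α) * σ :=
        congrArg Subtype.val (Subgroup.mem_centralizer_iff.mp g.2 s s.2)
      have h2 : Commute (σ ^ i) ((g : G) : Equiv.Perm α) := Commute.zpow_left h1 i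
      exact (DFunLike.congr_fun h2.eq p).symm
    refine Subtype.ext (Subtype.ext (Equiv.ext fun q => ?_))
    obtain ⟨i, rfl⟩ := hcyc.exists_zpow_eq (Equiv.Perm.mem_support.mp (hsupp.symm ▸ mem_univ p))
      (Equiv.Perm.mem_support.mp (hsupp.symm ▸ mem_univ q))
    rw [hcom g i, hcom h i]
    exact congrArg _ e
  haveI : IsMulCommutative (P : Subgroup G) := IsCyclic.isMulCommutative
  have hC13 : Nat.card (Subgroup.centralizer ((P : Subgroup G) : Set G)) = 13 := by
    refine le_antisymm hC ?_
    conv_lhs => rw [← hP]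
    exact Subgroup.card_le_of_le (Subgroup.le_centralizer _)
  have hker : ∃ k, k ∣ 12 ∧ Nat.card (Subgroup.normalizer ((P : Subgroup G) : Set G)) = k * 13 := by
    let φ := (P : Subgroup G).normalizerMonoidHom
    refine ⟨Nat.card φ.range, ?_, ?_⟩
    · have := Subgroup.card_subgroup_dvd_card φ.range
      rwa [IsCyclic.card_mulAut, hP, Nat.totient_prime (by norm_num)] at this
    · rw [Subgroup.card_eq_card_quotient_mul_card_subgroup φ.ker,
        Nat.card_congr (QuotientGroup.quotientKerEquivRange φ).toEquiv, Subgroup.normalizerMonoidHom_ker,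
        Nat.card_congr (Subgroup.subgroupOfEquivOfLe (Subgroup.centralizer_le_normalizer _)).toEquiv, hC13]
  have hmul := Subgroup.card_mul_index (Subgroup.normalizer ((P : Subgroup G) : Set G))
  rw [hcard] at hmul
  have hmod := card_sylow_modEq_one 13 G
  rw [Sylow.card_eq_index_normalizer P, Nat.ModEq] at hmod
  obtain ⟨m, hm12, hm⟩ := hker
  rw [hm] at hmul
  have hle : m ≤ 12 := Nat.le_of_dvd (by norm_num) hm12
  have hmod' : (Subgroup.normalizer ((P : Subgroup G) : Set G)).index % 13 = 1 := hmod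
  interval_cases m <;> omega

theorem ge_six : ∀ (k : ℕ), 6 ≤ k → ∀ {α : Type _} [Fintype α] [DecidableEq α] (G : Subgroup (Equiv.Perm α)),
    Is G k → k ≤ Fintype.card α → Fintype.card α = k ∨ Fintype.card α = k + 1 ∨ Fintype.card α = k + 2 := by
  intro k hk
  induction k, hk using Nat.le_induction with
  | base =>
    intro α _ _ G hG hn
    obtain ⟨p⟩ : Nonempty α := Fintype.card_pos_iff.mp (by omega)
    obtain ⟨H, hH⟩ := hG.step p
    have hc := card_ne p
    have h13 := not_six_thirteen hG
    have := five hH (by omega)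
    omega
  | succ k hk ih =>
    intro α _ _ G hG hn
    obtain ⟨p⟩ : Nonempty α := Fintype.card_pos_iff.mp (by omega)
    obtain ⟨H, hH⟩ := hG.step p
    have hc := card_ne p
    have := ih H hH (by omega)
    omega

theorem of_action (G : Subgroup (Equiv.Perm α)) (k : ℕ) [MulAction.IsMultiplyPretransitive G α k]
    (hsharp : ∀ x : Fin k ↪ α, MulAction.stabilizer G x = ⊥) : Is G k := by
  refine ⟨fun x y => ?_, fun g hg x hx => ?_⟩
  · obtain ⟨g, e⟩ := MulAction.exists_smul_eq G x y
    exact ⟨g, g.2, fun i => DFunLike.congr_fun e i⟩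
  · have : (⟨g, hg⟩ : G) ∈ MulAction.stabilizer G x := Function.Embedding.ext hx
    rw [hsharp x, Subgroup.mem_bot] at this
    exact congrArg Subtype.val this

end Cfsg.Agent.Spor.Sharp
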