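import Mathlib

/-!
In a sharply four-transitive permutation group the stabiliser of two points acts sharply
two-transitively on the remaining points.  Its fixed-point-free elements, with `1`, form an
abelian group, found by counting involutions only.
-/

set_option autoImplicit false

namespace Cfsg.Agent.Spor.Sharp

open Finset

variable {α : Type*} [Fintype α] [DecidableEq α]

/-- Sharply `k`-transitive groups of permutations. -/
structure Is (G : Subgroup (Equiv.Perm α)) (k : ℕ) : Prop where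
  trans : ∀ x y : Fin k ↪ α, ∃ g ∈ G, ∀ i, g (x i) = y i
  fix : ∀ g ∈ G, ∀ x : Fin k ↪ α, (∀ i, g (x i) = x i) → g = 1

/-- Four distinct points. -/
def Four (a b c d : α) : Prop := a ≠ b ∧ a ≠ c ∧ a ≠ d ∧ b ≠ c ∧ b ≠ d ∧ c ≠ d

theorem four_injective {a b c d : α} (h : Four a b c d) : Function.Injective ![a, b, c, d] := by
  obtain ⟨h1, h2, h3, h4, h5, h6⟩ := h
  intro i j hij
  fin_cases i <;> fin_cases j <;> simp_all [eq_comm]

variable {G : Subgroup (Equiv.Perm α)}

theorem Is.tr4 (hG : Is G 4) {a b c d a' b' c' d' : α} (h : Four a b c d) (h' : Four a' b' c' d') :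
    ∃ g ∈ G, g a = a' ∧ g b = b' ∧ g c = c' ∧ g d = d' := by
  obtain ⟨g, hg, e⟩ := hG.trans ⟨_, four_injective h⟩ ⟨_, four_injective h'⟩
  exact ⟨g, hg, e 0, e 1, e 2, e 3⟩

theorem Is.fix4 (hG : Is G 4) {a b c d : α} (h : Four a b c d) {g : Equiv.Perm α} (hg : g ∈ G)
    (ha : g a = a) (hb : g b = b) (hc : g c = c) (hd : g d = d) : g = 1 :=
  hG.fix g hg ⟨_, four_injective h⟩ fun i => by fin_cases i <;> assumption

/-- A non-identity element fixes at most three points. -/
theorem Is.fixed_le (hG : Is G 4) {g : Equiv.Perm α} (hg : g ∈ G) (h1 : g ≠ 1) :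
    (univ.filter fun p => g p = p).card ≤ 3 := by
  by_contra h
  push Not at h
  obtain ⟨t, hts, ht⟩ := exists_subset_card_eq (show 4 ≤ _ from h)
  let e : Fin 4 ↪ α := (t.equivFinOfCardEq ht).symm.toEmbedding.trans (Function.Embedding.subtype _)
  exact h1 (hG.fix g hg e fun i => (mem_filter.mp (hts ((t.equivFinOfCardEq ht).symm i).2)).2)

variable (a b : α)

/-- The points other than `a` and `b`. -/
def R : Finset α := univ.filter fun u => u ≠ a ∧ u ≠ b

/-- The elements of `G` fixing `a` and `b`. -/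
def In (G : Subgroup (Equiv.Perm α)) (g : Equiv.Perm α) : Prop := g ∈ G ∧ g a = a ∧ g b = b

/-- Fixed-point-free on the other points. -/
def Free (g : Equiv.Perm α) : Prop := ∀ u ∈ R a b, g u ≠ u

/-- Membership in the kernel. -/
def Ker (G : Subgroup (Equiv.Perm α)) (g : Equiv.Perm α) : Prop := In a b G g ∧ (g = 1 ∨ Free a b g)

/-- An involution fixing `a` and `b`. -/
def Inv (G : Subgroup (Equiv.Perm α)) (g : Equiv.Perm α) : Prop := In a b G g ∧ g * g = 1 ∧ g ≠ 1

variable {a b}

theorem mem_R {u : α} : u ∈ R a b ↔ u ≠ a ∧ u ≠ b := by simp [R]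

theorem four_R (hab : a ≠ b) {u v : α} (hu : u ∈ R a b) (hv : v ∈ R a b) (huv : u ≠ v) : Four a b u v := by
  rw [mem_R] at hu hv
  exact ⟨hab, hu.1.symm, hv.1.symm, hu.2.symm, hv.2.symm, huv⟩

theorem card_R (hab : a ≠ b) : (R a b).card = Fintype.card α - 2 := by
  have : R a b = univ \ {a, b} := by ext u; simp [R]
  rw [this, card_sdiff_of_subset (subset_univ _), card_univ, card_pair hab]

theorem In.one : In a b G 1 := ⟨one_mem G, rfl, rfl⟩

theorem In.mul {g h : Equiv.Perm α} (hg : In a b G g) (hh : In a b G h) : In a b G (g * h) :=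
  ⟨mul_mem hg.1 hh.1, by rw [Equiv.Perm.mul_apply, hh.2.1, hg.2.1], by rw [Equiv.Perm.mul_apply, hh.2.2, hg.2.2]⟩

theorem In.inv {g : Equiv.Perm α} (hg : In a b G g) : In a b G g⁻¹ :=
  ⟨inv_mem hg.1, by rw [Equiv.Perm.inv_eq_iff_eq, hg.2.1], by rw [Equiv.Perm.inv_eq_iff_eq, hg.2.2]⟩

theorem In.map_R {g : Equiv.Perm α} (hg : In a b G g) {u : α} (hu : u ∈ R a b) : g u ∈ R a b := by
  rw [mem_R] at hu ⊢
  exact ⟨fun e => hu.1 (g.injective (e.trans hg.2.1.symm)), fun e => hu.2 (g.injective (e.trans hg.2.2.symm))⟩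

theorem Free.inv {g : Equiv.Perm α} (hg : Free a b g) : Free a b g⁻¹ :=
  fun u hu e => hg u hu (Equiv.Perm.inv_eq_iff_eq.mp e).symm

section
variable (hG : Is G 4) (hab : a ≠ b)
include hG hab

theorem tr2 {u v u' v' : α} (hu : u ∈ R a b) (hv : v ∈ R a b) (huv : u ≠ v) (hu' : u' ∈ R a b)
    (hv' : v' ∈ R a b) (huv' : u' ≠ v') : ∃ g, In a b G g ∧ g u = u' ∧ g v = v' := by
  obtain ⟨g, hg, h1, h2, h3, h4⟩ := hG.tr4 (four_R hab hu hv huv) (four_R hab hu' hv' huv')
  exact ⟨g, ⟨hg, h1, h2⟩, h3, h4⟩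

theorem fix2 {u v : α} (hu : u ∈ R a b) (hv : v ∈ R a b) (huv : u ≠ v) {g : Equiv.Perm α}
    (hg : In a b G g) (h1 : g u = u) (h2 : g v = v) : g = 1 :=
  hG.fix4 (four_R hab hu hv huv) hg.1 hg.2.1 hg.2.2 h1 h2

theorem eq_of_two {u v : α} (hu : u ∈ R a b) (hv : v ∈ R a b) (huv : u ≠ v) {g h : Equiv.Perm α}
    (hg : In a b G g) (hh : In a b G h) (h1 : g u = h u) (h2 : g v = h v) : g = h := by
  have := fix2 hG hab hu hv huv (hh.inv.mul hg) (by simp [h1]) (by simp [h2])
  rwa [inv_mul_eq_one, eq_comm] at this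

theorem exists_moved {g : Equiv.Perm α} (hg : In a b G g) (h1 : g ≠ 1) : ∃ u ∈ R a b, g u ≠ u := by
  by_contra h
  push Not at h
  refine h1 (Equiv.ext fun u => ?_)
  by_cases hu : u ∈ R a b
  · exact h u hu
  · rw [mem_R, not_and_or, not_not, not_not] at hu
    rcases hu with rfl | rfl
    · exact hg.2.1
    · exact hg.2.2

theorem exists_inv {u v : α} (hu : u ∈ R a b) (hv : v ∈ R a b) (huv : u ≠ v) :
    ∃ g, Inv a b G g ∧ g u = v ∧ g v = u := by
  obtain ⟨g, hg, h1, h2⟩ := tr2 hG hab hu hv huv hv hu huv.symm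
  refine ⟨g, ⟨hg, fix2 hG hab hu hv huv (hg.mul hg) (by simp [h1, h2]) (by simp [h1, h2]), fun e => huv ?_⟩, h1, h2⟩
  rw [e] at h1; exact h1

theorem Inv.swap {j : Equiv.Perm α} (hj : Inv a b G j) (u : α) : j (j u) = u := by
  rw [← Equiv.Perm.mul_apply, hj.2.1]; rfl

theorem inv_unique {i j : Equiv.Perm α} (hi : Inv a b G i) (hj : Inv a b G j) {u : α} (hu : u ∈ R a b)
    (hmv : i u ≠ u) (e : i u = j u) : i = j :=
  eq_of_two hG hab hu (hi.1.map_R hu) hmv.symm hi.1 hj.1 e (by
    rw [Inv.swap hG hab hi u, e, Inv.swap hG hab hj u])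

theorem inv_conj {i j : Equiv.Perm α} (hi : Inv a b G i) (hj : Inv a b G j) : ∃ g, In a b G g ∧ g * i * g⁻¹ = j := by
  obtain ⟨u, hu, hmu⟩ := exists_moved hG hab hi.1 hi.2.2
  obtain ⟨v, hv, hmv⟩ := exists_moved hG hab hj.1 hj.2.2
  obtain ⟨g, hg, h1, h2⟩ := tr2 hG hab hu (hi.1.map_R hu) hmu.symm hv (hj.1.map_R hv) hmv.symm
  refine ⟨g, hg, inv_unique hG hab ⟨(hg.mul hi.1).mul hg.inv, ?_, fun e => hi.2.2 (conj_eq_one_iff.mp e)⟩ hj hv ?_ ?_⟩
  · rw [show g * i * g⁻¹ * (g * i * g⁻¹) = g * (i * i) * g⁻¹ by group, hi.2.1]; group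
  · have : (g * i * g⁻¹) v = j v := by simp [← h1, h2]
    rwa [this]
  · simp [← h1, h2]

theorem fixed_le_one {g : Equiv.Perm α} (hg : In a b G g) (h1 : g ≠ 1) :
    ((R a b).filter fun u => g u = u).card ≤ 1 := by
  rw [card_le_one]
  intro u hu v hv
  rw [mem_filter] at hu hv
  by_contra huv
  exact h1 (fix2 hG hab hu.1 hv.1 huv hg hu.2 hv.2)

theorem fixed_card {g : Equiv.Perm α} (hg : Inv a b G g) :
    ((R a b).filter fun u => g u = u).card = (R a b).card % 2 ∧
      (univ.filter fun u => g u = u).card = (R a b).card % 2 + 2 := by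
  have hle := fixed_le_one hG hab hg.1 hg.2.2
  have hsplit : (univ.filter fun u => g u = u) = insert a (insert b ((R a b).filter fun u => g u = u)) := by
    ext u
    simp only [mem_filter, mem_univ, true_and, mem_insert, mem_R]
    constructor
    · intro h
      by_cases h1 : u = a; · exact Or.inl h1
      by_cases h2 : u = b; · exact Or.inr (Or.inl h2)
      exact Or.inr (Or.inr ⟨⟨h1, h2⟩, h⟩)
    · rintro (rfl | rfl | ⟨_, h⟩)
      · exact hg.1.2.1
      · exact hg.1.2.2
      · exact h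
  have hc : (univ.filter fun u => g u = u).card = ((R a b).filter fun u => g u = u).card + 2 := by
    rw [hsplit, card_insert_of_notMem, card_insert_of_notMem]
    · simp [mem_R]
    · simp [mem_R, hab]
  haveI : Fact (Nat.Prime 2) := ⟨Nat.prime_two⟩
  have hm := Equiv.Perm.card_compl_support_modEq (p := 2) (n := 1) (σ := g) (by rw [pow_one, pow_two]; exact hg.2.1)
  have hs : g.supportᶜ = univ.filter fun u => g u = u := by ext u; simp
  rw [hs, hc, Nat.ModEq] at hm
  have h2 : 2 ≤ Fintype.card α := Fintype.one_lt_card_iff.mpr ⟨a, b, hab⟩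
  have hR := card_R (a := a) (b := b) hab
  omega

open Classical in
theorem card_free {c : α} (hc : c ∈ R a b) {d : α} (hd : d ∈ R a b) (hcd : c ≠ d) :
    (univ.filter fun g => In a b G g ∧ Free a b g).card = (R a b).card - 1 := by
  let S := univ.filter fun g => In a b G g
  have hmS : ∀ g, g ∈ S ↔ In a b G g := fun g => by simp [S]
  have hS : S.card = (R a b).offDiag.card := by
    refine card_bij (fun g _ => (g c, g d)) (fun g hg => ?_) (fun g hg h hh e => ?_) (fun p hp => ?_)
    · rw [hmS] at hg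
      rw [mem_offDiag]; exact ⟨hg.map_R hc, hg.map_R hd, fun e => hcd (g.injective e)⟩
    · rw [hmS] at hg hh
      exact eq_of_two hG hab hc hd hcd hg hh (congrArg Prod.fst e) (congrArg Prod.snd e)
    · rw [mem_offDiag] at hp
      obtain ⟨g, hg, h1, h2⟩ := tr2 hG hab hc hd hcd hp.1 hp.2.1 hp.2.2
      exact ⟨g, (hmS g).mpr hg, Prod.ext h1 h2⟩
  have hst : ∀ u ∈ R a b, (S.filter fun g => g u = u).card = (R a b).card - 1 := by
    intro u hu
    obtain ⟨v, hv, hvu⟩ : ∃ v ∈ R a b, v ≠ u := by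
      by_cases h : c = u
      · exact ⟨d, hd, fun e => hcd (h.trans e.symm)⟩
      · exact ⟨c, hc, h⟩
    rw [← card_erase_of_mem hu]
    refine card_bij (fun g _ => g v) (fun g hg => ?_) (fun g hg h hh e => ?_) (fun w hw => ?_)
    · rw [mem_filter, hmS] at hg
      exact mem_erase.mpr ⟨fun e => hvu (g.injective (e.trans hg.2.symm)), hg.1.map_R hv⟩
    · rw [mem_filter, hmS] at hg hh
      exact eq_of_two hG hab hu hv hvu.symm hg.1 hh.1 (hg.2.trans hh.2.symm) e
    · rw [mem_erase] at hw
      obtain ⟨g, hg, h1, h2⟩ := tr2 hG hab hu hv hvu.symm hu hw.2 (Ne.symm hw.1)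
      exact ⟨g, mem_filter.mpr ⟨(hmS g).mpr hg, h1⟩, h2⟩
  have hnon : (S.erase 1).filter (fun g => ¬ Free a b g) =
      (R a b).biUnion fun u => (S.filter fun g => g u = u).erase 1 := by
    ext g
    simp only [mem_filter, mem_erase, mem_biUnion, Free, not_forall, not_not]
    constructor
    · rintro ⟨⟨h1, h2⟩, u, hu, e⟩; exact ⟨u, hu, h1, h2, e⟩
    · rintro ⟨u, hu, h1, h2, e⟩; exact ⟨⟨h1, h2⟩, u, hu, e⟩
  have hnc : ((S.erase 1).filter (fun g => ¬ Free a b g)).card = (R a b).card * ((R a b).card - 2) := by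
    rw [hnon, card_biUnion, sum_congr rfl (fun u hu => by
      rw [card_erase_of_mem (show (1 : Equiv.Perm α) ∈ S.filter (fun g => g u = u) from
        mem_filter.mpr ⟨(hmS 1).mpr In.one, rfl⟩), hst u hu]), sum_const, smul_eq_mul]
    · congr 1
    · intro u hu v hv huv
      rw [Function.onFun, disjoint_left]
      intro g hgu hgv
      simp only [mem_erase, mem_filter, hmS] at hgu hgv
      exact hgu.1 (fix2 hG hab hu hv huv hgu.2.1 hgu.2.2 hgv.2.2)
  have hF : (univ.filter fun g => In a b G g ∧ Free a b g) = (S.erase 1).filter (fun g => Free a b g) := by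
    ext g
    simp only [mem_filter, mem_univ, true_and, mem_erase, hmS]
    exact ⟨fun h => ⟨⟨fun e => h.2 c hc (by rw [e]; rfl), h.1⟩, h.2⟩, fun h => ⟨h.1.2, h.2⟩⟩
  have htot := card_filter_add_card_filter_not (s := S.erase 1) (fun g => Free a b g)
  rw [← hF, hnc, card_erase_of_mem ((hmS 1).mpr In.one), hS, offDiag_card] at htot
  have h2 : 2 ≤ (R a b).card := one_lt_card.mpr ⟨c, hc, d, hd, hcd⟩
  obtain ⟨m, hm⟩ : ∃ m, (R a b).card = m + 2 := ⟨_, (Nat.sub_add_cancel h2).symm⟩
  rw [hm] at htot ⊢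
  have e1 : (m + 2) * (m + 2) - (m + 2) = (m + 2) * (m + 1) := by
    rw [Nat.sub_eq_iff_eq_add (Nat.le_mul_self _)]; ring
  have e2 : (m + 2) * (m + 1) = (m + 2) * m + (m + 2) := by ring
  rw [e1, Nat.add_sub_cancel, e2] at htot
  omega

open Classical in
/-- The structural facts about the kernel. -/
theorem ker_group {c : α} (hc : c ∈ R a b) {d : α} (hd : d ∈ R a b) (hcd : c ≠ d) :
    (∀ s t, Ker a b G s → Ker a b G t → Ker a b G (s * t) ∧ s * t = t * s) ∧
    ((R a b).card % 2 = 0 → ∀ t, Ker a b G t → t⁻¹ = t) ∧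
    ((R a b).card % 2 = 1 → ∀ j, Inv a b G j → ∀ t, Ker a b G t → j * t * j = t⁻¹) := by
  have hcardF := card_free hG hab hc hd hcd
  let J := univ.filter fun g => Inv a b G g
  have hmJ : ∀ g, g ∈ J ↔ Inv a b G g := fun g => by simp [J]
  rcases Nat.mod_two_eq_zero_or_one (R a b).card with h0 | h1
  · have hfree : ∀ j, Inv a b G j → Free a b j := by
      intro j hj u hu e
      have := (fixed_card hG hab hj).1
      rw [h0, card_eq_zero, filter_eq_empty_iff] at this
      exact this hu e
    have hall : ∀ t, In a b G t → Free a b t → Inv a b G t := by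
      intro t ht htf
      have hsub : J ⊆ univ.filter fun g => In a b G g ∧ Free a b g := fun g hg => by
        rw [hmJ] at hg; simp [hg.1, hfree g hg]
      have hge : (R a b).card - 1 ≤ J.card := by
        rw [← card_erase_of_mem hc]
        refine le_trans ?_ (card_image_le (s := J) (f := fun g => g c))
        refine card_le_card fun v hv => ?_
        rw [mem_erase] at hv
        obtain ⟨g, hg, h1, -⟩ := exists_inv hG hab hc hv.2 (Ne.symm hv.1)
        exact mem_image.mpr ⟨g, (hmJ g).mpr hg, h1⟩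
      have heq := eq_of_subset_of_card_le hsub (hcardF ▸ hge)
      rw [← hmJ, heq]; simp [ht, htf]
    have hsq : ∀ t, Ker a b G t → t⁻¹ = t := by
      rintro t ⟨ht, rfl | htf⟩
      · simp
      · exact (eq_inv_of_mul_eq_one_left (hall t ht htf).2.1).symm
    have hmul : ∀ s t, Ker a b G s → Ker a b G t → Ker a b G (s * t) := by
      intro s t hs ht
      refine ⟨hs.1.mul ht.1, ?_⟩
      rcases hs.2 with rfl | hsf
      · rw [one_mul]; exact ht.2
      rcases ht.2 with rfl | htf
      · rw [mul_one]; exact Or.inr hsf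
      by_cases he : s = t
      · left; rw [he]; exact (hall t ht.1 htf).2.1
      right
      intro w hw e
      have hs' := hall s hs.1 hsf
      have e2 : t w = s w := by
        have := congrArg s e
        rwa [Equiv.Perm.mul_apply, Inv.swap hG hab hs'] at this
      exact he (inv_unique hG hab hs' (hall t ht.1 htf) hw (hsf w hw) e2.symm)
    refine ⟨fun s t hs ht => ⟨hmul s t hs ht, ?_⟩, fun _ => hsq, fun h => absurd h (by omega)⟩
    calc s * t = (s * t)⁻¹ := (hsq _ (hmul s t hs ht)).symm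
      _ = t * s := by rw [mul_inv_rev, hsq s hs, hsq t ht]
  · have hex : ∀ u ∈ R a b, ∃ j, Inv a b G j ∧ j u = u := by
      intro u hu
      obtain ⟨j, hj, -⟩ := exists_inv hG hab hc hd hcd
      obtain ⟨w, hw⟩ := card_eq_one.mp ((fixed_card hG hab hj).1.trans h1)
      have hwm := hw.symm ▸ mem_singleton_self w
      rw [mem_filter] at hwm
      by_cases hwu : w = u
      · exact ⟨j, hj, hwu ▸ hwm.2⟩
      obtain ⟨g, hg, hgc, -⟩ := exists_inv hG hab hwm.1 hu hwu
      refine ⟨g * j * g⁻¹, ⟨(hg.1.mul hj.1).mul hg.1.inv, ?_, fun e => hj.2.2 (conj_eq_one_iff.mp e)⟩, ?_⟩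
      · rw [show g * j * g⁻¹ * (g * j * g⁻¹) = g * (j * j) * g⁻¹ by group, hj.2.1]; group
      · simp [← hgc, hwm.2]
    have hJcard : J.card ≤ (R a b).card := by
      have hk : (J.sigma fun j => (R a b).filter fun u => j u ≠ u).card ≤ (R a b).offDiag.card := by
        refine card_le_card_of_injOn (fun p => (p.2, p.1 p.2)) (fun p hp => ?_) (fun p hp p' hp' e => ?_)
        · rw [mem_coe, mem_sigma, hmJ, mem_filter] at hp
          rw [mem_coe, mem_offDiag]; exact ⟨hp.2.1, hp.1.1.map_R hp.2.1, Ne.symm hp.2.2⟩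
        · obtain ⟨j, u⟩ := p
          obtain ⟨j', u'⟩ := p'
          rw [mem_coe, mem_sigma, hmJ, mem_filter] at hp hp'
          simp only [Prod.mk.injEq] at e
          obtain ⟨rfl, e⟩ := e
          obtain rfl := inv_unique hG hab hp.1 hp'.1 hp.2.1 hp.2.2 e
          rfl
      have hmv : ∀ j ∈ J, ((R a b).filter fun u => j u ≠ u).card = (R a b).card - 1 := fun j hj => by
        have := card_filter_add_card_filter_not (s := R a b) (fun u => j u = u)
        rw [(fixed_card hG hab ((hmJ j).mp hj)).1, h1] at this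
        simp only [ne_eq]; omega
      rw [card_sigma, sum_congr rfl hmv, sum_const, smul_eq_mul, offDiag_card] at hk
      have h2 : 2 ≤ (R a b).card := one_lt_card.mpr ⟨c, hc, d, hd, hcd⟩
      refine Nat.le_of_mul_le_mul_right ?_ (show 0 < (R a b).card - 1 by omega)
      rwa [Nat.mul_sub (R a b).card, mul_one]
    have huni : ∀ i j u, Inv a b G i → Inv a b G j → u ∈ R a b → i u = u → j u = u → i = j := by
      intro i j u hi hj hu ei ej
      let f : ∀ j ∈ J, α := fun j hj => (card_eq_one.mp ((fixed_card hG hab ((hmJ j).mp hj)).1.trans h1)).choose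
      have hf : ∀ j (hj : j ∈ J), ((R a b).filter fun u => j u = u) = {f j hj} := fun j hj =>
        (card_eq_one.mp ((fixed_card hG hab ((hmJ j).mp hj)).1.trans h1)).choose_spec
      have hfu : ∀ j (hj : j ∈ J) u, u ∈ R a b → j u = u → u = f j hj := fun j hj u hu e =>
        mem_singleton.mp (hf j hj ▸ mem_filter.mpr ⟨hu, e⟩)
      have hfR : ∀ j (hj : j ∈ J), f j hj ∈ R a b := fun j hj =>
        (mem_filter.mp ((hf j hj).symm ▸ mem_singleton_self _)).1
      exact inj_on_of_surj_on_of_card_le f hfR (fun u hu => by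
        obtain ⟨j, hj, e⟩ := hex u hu
        exact ⟨j, (hmJ j).mpr hj, (hfu j ((hmJ j).mpr hj) u hu e).symm⟩) hJcard ((hmJ i).mpr hi) ((hmJ j).mpr hj)
        ((hfu i ((hmJ i).mpr hi) u hu ei).symm.trans (hfu j ((hmJ j).mpr hj) u hu ej))
    have hJ : (R a b).card ≤ J.card := by
      refine card_le_card_of_injOn (fun u => if h : u ∈ R a b then (hex u h).choose else 1) (fun u hu => ?_) (fun u hu v hv e => ?_)
      · rw [mem_coe] at hu ⊢
        dsimp only
        rw [dif_pos hu, hmJ]; exact (hex u hu).choose_spec.1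
      · rw [mem_coe] at hu hv
        simp only [dif_pos hu, dif_pos hv] at e
        have h3 := (hex v hv).choose_spec
        rw [← e] at h3
        by_contra huv
        exact h3.1.2.2 (fix2 hG hab hu hv huv h3.1.1 (hex u hu).choose_spec.2 h3.2)
    have hprod : ∀ t, Ker a b G t → ∀ j, Inv a b G j → ∃ i, Inv a b G i ∧ t = i * j := by
      intro t ht j hj
      have hsub : J.image (fun i => i * j) ⊆ insert 1 (univ.filter fun g => In a b G g ∧ Free a b g) := by
        intro g hg
        obtain ⟨i, hi, rfl⟩ := mem_image.mp hg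
        rw [hmJ] at hi
        by_cases he : i = j
        · rw [he, hj.2.1]; exact mem_insert_self _ _
        refine mem_insert_of_mem (mem_filter.mpr ⟨mem_univ _, hi.1.mul hj.1, fun w hw e => he ?_⟩)
        have e2 : j w = i w := by
          have := congrArg i e
          rwa [Equiv.Perm.mul_apply, Inv.swap hG hab hi] at this
        by_cases hm : i w = w
        · exact huni i j w hi hj hw hm (e2.trans hm)
        · exact inv_unique hG hab hi hj hw hm e2.symm
      have hcard : (insert 1 (univ.filter fun g => In a b G g ∧ Free a b g)).card ≤ (J.image (fun i => i * j)).card := by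
        rw [card_image_of_injective _ (mul_left_injective j), card_insert_of_notMem, hcardF]
        · have h2 : 1 ≤ (R a b).card := one_le_card.mpr ⟨c, hc⟩
          omega
        · simp only [mem_filter, not_and]
          exact fun _ _ h => h c hc rfl
      have htm : t ∈ J.image (fun i => i * j) := by
        rw [eq_of_subset_of_card_le hsub hcard, mem_insert]
        exact ht.2.imp id fun h => mem_filter.mpr ⟨mem_univ _, ht.1, h⟩
      obtain ⟨i, hi, rfl⟩ := mem_image.mp htm
      exact ⟨i, (hmJ i).mp hi, rfl⟩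
    have hinvm : ∀ i, Inv a b G i → i⁻¹ = i := fun i hi => (eq_inv_of_mul_eq_one_left hi.2.1).symm
    have hkmem : ∀ i k, Inv a b G i → Inv a b G k → Ker a b G (i * k) := by
      intro i k hi hk
      refine ⟨hi.1.mul hk.1, ?_⟩
      by_cases he : i = k
      · left; rw [he, hk.2.1]
      right
      intro w hw e
      apply he
      have e2 : k w = i w := by
        have := congrArg i e
        rwa [Equiv.Perm.mul_apply, Inv.swap hG hab hi] at this
      by_cases hm : i w = w
      · exact huni i k w hi hk hw hm (e2.trans hm)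
      · exact inv_unique hG hab hi hk hw hm e2.symm
    have hmul : ∀ s t, Ker a b G s → Ker a b G t → Ker a b G (s * t) := by
      intro s t hs ht
      obtain ⟨j, hj, -⟩ := exists_inv hG hab hc hd hcd
      obtain ⟨i, hi, rfl⟩ := hprod s hs j hj
      obtain ⟨k, hk, ek⟩ := hprod t⁻¹ ⟨ht.1.inv, ht.2.imp (fun h => by rw [h, inv_one]) Free.inv⟩ j hj
      have : t = j * k := by rw [← inv_inv t, ek, mul_inv_rev, hinvm j hj, hinvm k hk]
      rw [this, show i * j * (j * k) = i * (j * j) * k by group, hj.2.1, mul_one]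
      exact hkmem i k hi hk
    have hinv : ∀ j, Inv a b G j → ∀ t, Ker a b G t → j * t * j = t⁻¹ := by
      intro j hj t ht
      obtain ⟨i, hi, rfl⟩ := hprod t ht j hj
      rw [mul_inv_rev, hinvm i hi, hinvm j hj, show j * (i * j) * j = j * i * (j * j) by group, hj.2.1, mul_one]
    refine ⟨fun s t hs ht => ⟨hmul s t hs ht, ?_⟩, fun h => absurd h (by omega), fun _ => hinv⟩
    obtain ⟨j, hj, -⟩ := exists_inv hG hab hc hd hcd
    have e := hinv j hj _ (hmul s t hs ht)
    have e3 : j * (s * t) * j = s⁻¹ * t⁻¹ := by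
      calc j * (s * t) * j = j * s * (j * j) * t * j := by rw [hj.2.1]; group
        _ = (j * s * j) * (j * t * j) := by group
        _ = _ := by rw [hinv j hj s hs, hinv j hj t ht]
    have e4 : (s * t)⁻¹ = (t * s)⁻¹ := by rw [← e, e3, mul_inv_rev]
    exact inv_injective e4

end

end Cfsg.Agent.Spor.Sharp
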