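import Mathlib
import Cfsg.Prelude.Def_Sporadic_a

/-! Counting in Steiner systems. -/

set_option autoImplicit false

namespace Cfsg.Agent.Spor.Steiner

open Finset

variable {α : Type*} [Fintype α] [DecidableEq α] {t k : ℕ} {B : Set (Finset α)}

/-- The blocks as a finset. -/
noncomputable def blocks (B : Set (Finset α)) : Finset (Finset α) := B.toFinite.toFinset

@[simp] theorem mem_blocks {b : Finset α} : b ∈ blocks B ↔ b ∈ B := by simp [blocks]

theorem ncard_eq_card_filter (P : Finset α → Prop) [DecidablePred P] :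
    {b | b ∈ B ∧ P b}.ncard = #{b ∈ blocks B | P b} := by
  rw [← Set.ncard_coe_finset]
  congr 1
  ext b
  simp

theorem ncard_eq_card : B.ncard = #(blocks B) := by
  rw [blocks, Set.ncard_eq_toFinset_card B]

theorem card_eq (hB : IsSteinerSystem t k B) {b : Finset α} (hb : b ∈ B) : #b = k := hB.1 b hb

theorem eq_of_common (hB : IsSteinerSystem t k B) {b c s : Finset α} (hb : b ∈ B) (hc : c ∈ B)
    (hsb : s ⊆ b) (hsc : s ⊆ c) (hs : t ≤ #s) : b = c := by
  obtain ⟨u, hu, huc⟩ := exists_subset_card_eq hs
  exact (hB.2 u huc).unique ⟨hb, hu.trans hsb⟩ ⟨hc, hu.trans hsc⟩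

theorem card_inter_lt (hB : IsSteinerSystem t k B) {b c : Finset α} (hb : b ∈ B) (hc : c ∈ B)
    (hne : b ≠ c) : #(b ∩ c) < t := by
  by_contra h
  exact hne (eq_of_common hB hb hc inter_subset_left inter_subset_right (by omega))

/-- The number of blocks through a small set. -/
theorem blocks_through (hB : IsSteinerSystem t k B) {s : Finset α} (hs : #s ≤ t) :
    #{b ∈ blocks B | s ⊆ b} * (k - #s).choose (t - #s) =
      (Fintype.card α - #s).choose (t - #s) := by
  have h1 : (({b ∈ blocks B | s ⊆ b}).biUnion fun b => (b \ s).powersetCard (t - #s)) =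
      sᶜ.powersetCard (t - #s) := by
    ext u
    simp only [mem_biUnion, mem_filter, mem_blocks, mem_powersetCard]
    constructor
    · rintro ⟨b, -, hu, huc⟩
      exact ⟨fun x hx => mem_compl.mpr (mem_sdiff.mp (hu hx)).2, huc⟩
    · rintro ⟨hu, huc⟩
      have hd : Disjoint s u :=
        disjoint_left.mpr fun x hx hxu => mem_compl.mp (hu hxu) hx
      obtain ⟨b, ⟨hb, hsub⟩, -⟩ := hB.2 (s ∪ u) (by rw [card_union_of_disjoint hd, huc]; omega)
      refine ⟨b, ⟨hb, subset_union_left.trans hsub⟩, fun x hx => ?_, huc⟩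
      exact mem_sdiff.mpr ⟨hsub (mem_union_right _ hx), mem_compl.mp (hu hx)⟩
  have h2 := congrArg Finset.card h1
  rw [card_powersetCard, card_compl, card_biUnion] at h2
  · rw [← h2, ← smul_eq_mul, ← sum_const]
    refine sum_congr rfl fun b hb => ?_
    simp only [mem_filter, mem_blocks] at hb
    rw [card_powersetCard, card_sdiff, inter_eq_left.mpr hb.2, card_eq hB hb.1]
  · intro b hb c hc hne
    simp only [coe_filter, Set.mem_setOf_eq, mem_blocks] at hb hc
    rw [Function.onFun, disjoint_left]
    intro u hub huc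
    rw [mem_powersetCard] at hub huc
    have hd : Disjoint s u :=
      disjoint_left.mpr fun x hx hxu => (mem_sdiff.mp (hub.1 hxu)).2 hx
    refine hne (eq_of_common hB hb.1 hc.1 (s := s ∪ u)
      (union_subset hb.2 (hub.1.trans sdiff_subset))
      (union_subset hc.2 (huc.1.trans sdiff_subset)) ?_)
    rw [card_union_of_disjoint hd, hub.2]; omega

/-- The number of blocks. -/
theorem blocks_card (hB : IsSteinerSystem t k B) :
    #(blocks B) * k.choose t = (Fintype.card α).choose t := by
  simpa using blocks_through hB (s := ∅) (by simp)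

/-- Double counting of the `j`-subsets of `A` lying in a block. -/
theorem sum_choose_inter (hB : IsSteinerSystem t k B) (A : Finset α) {j l : ℕ} (hj : j ≤ t)
    (hl : l * (k - j).choose (t - j) = (Fintype.card α - j).choose (t - j))
    (hpos : (k - j).choose (t - j) ≠ 0) :
    ∑ b ∈ blocks B, (#(b ∩ A)).choose j = (#A).choose j * l := by
  have : ∀ b : Finset α, (#(b ∩ A)).choose j = #{s ∈ A.powersetCard j | s ⊆ b} := by
    intro b
    rw [← card_powersetCard]
    congr 1
    ext s
    simp only [mem_powersetCard, subset_inter_iff, mem_filter]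
    tauto
  simp only [this, card_filter]
  rw [sum_comm, ← card_powersetCard j A, ← smul_eq_mul, ← sum_const]
  refine sum_congr rfl fun s hs => ?_
  rw [← card_filter]
  have hsc := (mem_powersetCard.mp hs).2
  have := blocks_through hB (s := s) (by omega)
  rw [hsc, ← hl] at this
  exact Nat.eq_of_mul_eq_mul_right (Nat.pos_of_ne_zero hpos) this

/-- The number of blocks meeting `A` in `i` points. -/
noncomputable def meetCount (B : Set (Finset α)) (A : Finset α) (i : ℕ) : ℕ :=
  #{b ∈ blocks B | #(b ∩ A) = i}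

theorem meetCount_eq_ncard (A : Finset α) (i : ℕ) :
    meetCount B A i = {b | b ∈ B ∧ #(b ∩ A) = i}.ncard := (ncard_eq_card_filter _).symm

theorem meetCount_eq_zero {A : Finset α} {i : ℕ} (h : ∀ b ∈ B, #(b ∩ A) ≠ i) :
    meetCount B A i = 0 := by
  simp only [meetCount, card_eq_zero, filter_eq_empty_iff, mem_blocks]
  exact h

theorem meetCount_pos {A b : Finset α} {i : ℕ} (hb : b ∈ B) (h : #(b ∩ A) = i) :
    0 < meetCount B A i :=
  card_pos.mpr ⟨b, mem_filter.mpr ⟨mem_blocks.mpr hb, h⟩⟩

/-- The intersection-number equations. -/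
theorem sum_meetCount (hB : IsSteinerSystem t k B) (A : Finset α) {n j l : ℕ} (hn : #A < n)
    (hj : j ≤ t) (hl : l * (k - j).choose (t - j) = (Fintype.card α - j).choose (t - j))
    (hpos : (k - j).choose (t - j) ≠ 0) :
    ∑ i ∈ range n, meetCount B A i * i.choose j = (#A).choose j * l := by
  rw [← sum_choose_inter hB A hj hl hpos,
    ← sum_fiberwise_of_maps_to (g := fun b => #(b ∩ A)) (t := range n)]
  · refine sum_congr rfl fun i _ => ?_
    rw [meetCount, ← smul_eq_mul, ← sum_const]
    exact sum_congr rfl fun b hb => by rw [(mem_filter.mp hb).2]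
  · exact fun b _ => mem_range.mpr (lt_of_le_of_lt (card_le_card inter_subset_right) hn)

theorem meetCount_self (hB : IsSteinerSystem t k B) (htk : t ≤ k) {b : Finset α} (hb : b ∈ B) :
    meetCount B b k = 1 := by
  rw [meetCount, card_eq_one]
  refine ⟨b, ?_⟩
  ext c
  simp only [mem_filter, mem_blocks, mem_singleton]
  refine ⟨fun ⟨hc, h⟩ => ?_, fun h => ⟨h ▸ hb, by rw [h, inter_self, card_eq hB hb]⟩⟩
  exact eq_of_common hB hc hb inter_subset_left inter_subset_right (by omega)

theorem meetCount_high (hB : IsSteinerSystem t k B) {b : Finset α} (hb : b ∈ B) {i : ℕ}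
    (hti : t ≤ i) (hik : i < k) : meetCount B b i = 0 := by
  refine meetCount_eq_zero fun c hc h => ?_
  by_cases hcb : c = b
  · subst hcb
    rw [inter_self, card_eq hB hb] at h
    omega
  · have := card_inter_lt hB hc hb hcb
    omega

end Cfsg.Agent.Spor.Steiner
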