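import Cfsg.Agent.Lib.Spor.SteinerTables

/-! The block graph and point-block graph counts of an S(3,6,22). -/

set_option autoImplicit false

namespace Cfsg.Agent.Spor.Steiner

open Finset

variable {α : Type*} [Fintype α] [DecidableEq α] {B : Set (Finset α)}

/-- Number of members of the subtype of blocks with a property of the underlying set. -/
theorem ncard_subtype (P : Finset α → Prop) [DecidablePred P] :
    {c : B | P c}.ncard = #{c ∈ blocks B | P c} := by
  rw [← ncard_eq_card_filter, ← Set.ncard_image_of_injective _ Subtype.val_injective]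
  congr 1
  ext c
  simp [and_comm]

/-- Vertices of the point-block graph with a property, split by kind. -/
theorem ncard_option_sum [Fintype B] (F : Option (α ⊕ B) → Prop) [DecidablePred F] :
    {v | F v}.ncard = (if F none then 1 else 0) +
      (#{a : α | F (some (Sum.inl a))} + {c : B | F (some (Sum.inr c))}.ncard) := by
  rw [Set.ncard_eq_toFinset_card', Set.toFinset_setOf, card_filter, Fintype.sum_option,
    Fintype.sum_sum_type, ← card_filter, ← card_filter, Set.ncard_eq_toFinset_card',
    Set.toFinset_setOf]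

theorem sum_inter_mul_inter (hα : Fintype.card α = 22) (hB : IsSteinerSystem 3 6 B)
    {b c : Finset α} (hb : b ∈ B) (hc : c ∈ B) :
    ∑ d ∈ blocks B, #(b ∩ d) * #(c ∩ d) = 180 + 16 * #(b ∩ c) := by
  have hpair : ∀ x y : α, #{d ∈ blocks B | x ∈ d ∧ y ∈ d} = if x = y then 21 else 5 := by
    intro x y
    have hset : {d ∈ blocks B | x ∈ d ∧ y ∈ d} = {d ∈ blocks B | ({x, y} : Finset α) ⊆ d} := by
      ext d; simp [insert_subset_iff]
    rw [hset]
    split
    · next h =>
      subst h
      have := blocks_through hB (s := {x, x}) (by simp)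
      simp [hα, Nat.choose] at this ⊢
      omega
    · next h =>
      have := blocks_through hB (s := {x, y}) (by rw [card_pair h]; omega)
      simp [hα, card_pair h, Nat.choose] at this ⊢
      omega
  have hprod : ∀ d : Finset α, #(b ∩ d) * #(c ∩ d) = #{p ∈ b ×ˢ c | p.1 ∈ d ∧ p.2 ∈ d} := by
    intro d
    rw [← card_product]
    congr 1
    ext p
    simp only [mem_product, mem_inter, mem_filter]
    tauto
  simp only [hprod, card_filter]
  rw [sum_comm]
  simp only [← card_filter, hpair]
  rw [sum_ite, sum_const, sum_const, smul_eq_mul, smul_eq_mul]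
  have h2 : #{p ∈ b ×ˢ c | p.1 = p.2} = #(b ∩ c) := by
    refine card_bij (fun p _ => p.1) ?_ ?_ ?_
    · intro p hp
      simp only [mem_filter, mem_product] at hp
      exact mem_inter.mpr ⟨hp.1.1, hp.2 ▸ hp.1.2⟩
    · intro p hp q hq h
      simp only [mem_filter] at hp hq
      exact Prod.ext h (hp.2 ▸ hq.2 ▸ h)
    · intro x hx
      exact ⟨(x, x), mem_filter.mpr ⟨mem_product.mpr ⟨(mem_inter.mp hx).1, (mem_inter.mp hx).2⟩,
        rfl⟩, rfl⟩
  have h3 := card_filter_add_card_filter_not (s := b ×ˢ c) (fun p => p.1 = p.2)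
  rw [card_product, card_eq hB hb, card_eq hB hc, h2] at h3
  rw [h2]
  omega

theorem common_disjoint622 (hα : Fintype.card α = 22) (hB : IsSteinerSystem 3 6 B)
    {b c : Finset α} (hb : b ∈ B) (hc : c ∈ B) (hne : b ≠ c) :
    #{d ∈ blocks B | Disjoint b d ∧ Disjoint c d} = if Disjoint b c then 0 else 4 := by
  set m := #(b ∩ c) with hm
  have hb6 := card_eq hB hb
  have hc6 := card_eq hB hc
  have hm' : m = 0 ∨ m = 2 := card_inter622 hα hB hb hc hne
  have hbd : ∀ {x d : Finset α}, x ∈ B → d ∈ B → x ≠ d → #(x ∩ d) = 0 ∨ #(x ∩ d) = 2 :=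
    fun hx hd h => card_inter622 hα hB hx hd h
  have key : ∀ d ∈ blocks B, 4 * (if Disjoint b d ∧ Disjoint c d then 1 else 0) +
      2 * #(b ∩ d) + 2 * #(c ∩ d) + (if d ∈ ({b, c} : Finset _) then 6 * m else 0) =
      4 + #(b ∩ d) * #(c ∩ d) + (if d ∈ ({b, c} : Finset _) then 8 + 2 * m else 0) := by
    intro d hd
    rw [mem_blocks] at hd
    simp only [disjoint_iff_inter_eq_empty, ← Finset.card_eq_zero]
    by_cases h1 : b = d
    · subst h1
      simp [hb6, inter_comm c b, ← hm]
      omega
    by_cases h2 : c = d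
    · subst h2
      simp [hc6, ← hm]
      omega
    have hnm : d ∉ ({b, c} : Finset _) := by simp [Ne.symm h1, Ne.symm h2]
    rw [if_neg hnm, if_neg hnm]
    rcases hbd hb hd h1 with e | e <;> rcases hbd hc hd h2 with e' | e' <;> simp [e, e']
  have hsum := sum_congr rfl key
  simp only [sum_add_distrib, ← mul_sum, sum_boole, Nat.cast_id, sum_const, smul_eq_mul,
    sum_ite_mem, sum_inter_mul_inter hα hB hb hc] at hsum
  have hlin : ∀ x ∈ B, ∑ d ∈ blocks B, #(x ∩ d) = 126 := by
    intro x hx
    have := sum_choose_inter hB x (j := 1) (l := 21) (by omega) (by rw [hα]; decide) (by decide)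
    simpa [inter_comm, card_eq hB hx] using this
  have hcap : blocks B ∩ {b, c} = {b, c} := inter_eq_right.mpr (by simp [insert_subset_iff, hb, hc])
  have hn : #(blocks B) = 77 := by
    have := blocks_card hB
    simp [hα, Nat.choose] at this
    omega
  rw [hlin b hb, hlin c hc, hcap, card_pair hne, hn] at hsum
  split
  · next h =>
    have : m = 0 := by rw [hm, card_eq_zero, ← disjoint_iff_inter_eq_empty]; exact h
    omega
  · next h =>
    have : m ≠ 0 := by rw [hm, ne_eq, card_eq_zero, ← disjoint_iff_inter_eq_empty]; exact h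
    omega

/-- Blocks through a point outside a block that miss the block. -/
theorem through_disjoint622 (hα : Fintype.card α = 22) (hB : IsSteinerSystem 3 6 B)
    {b : Finset α} (hb : b ∈ B) {a : α} (ha : a ∉ b) :
    #{d ∈ blocks B | a ∈ d ∧ Disjoint b d} = 6 := by
  have h21 : #{d ∈ blocks B | a ∈ d} = 21 := by
    have := blocks_through hB (s := {a}) (by simp)
    simp [hα, Nat.choose] at this
    omega
  have h5 : ∀ x ∈ b, #{d ∈ blocks B | a ∈ d ∧ x ∈ d} = 5 := by
    intro x hx
    have hne : a ≠ x := fun e => ha (e ▸ hx)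
    have := blocks_through hB (s := {a, x}) (by rw [card_pair hne]; omega)
    simp [hα, card_pair hne, Nat.choose, insert_subset_iff] at this
    omega
  have hsum : ∑ d ∈ {d ∈ blocks B | a ∈ d}, #(b ∩ d) = 30 := by
    simp only [← filter_mem_eq_inter, card_filter]
    rw [sum_comm]
    simp only [← card_filter, filter_filter]
    rw [sum_congr rfl h5, sum_const, card_eq hB hb, smul_eq_mul]
  have key : ∀ d ∈ {d ∈ blocks B | a ∈ d},
      2 * (if Disjoint b d then 1 else 0) + #(b ∩ d) = 2 := by
    intro d hd
    rw [mem_filter, mem_blocks] at hd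
    have hne : b ≠ d := fun e => ha (e ▸ hd.2)
    simp only [disjoint_iff_inter_eq_empty, ← Finset.card_eq_zero]
    rcases card_inter622 hα hB hb hd.1 hne with e | e <;> simp [e]
  have h := sum_congr rfl key
  simp only [sum_add_distrib, ← mul_sum, sum_boole, Nat.cast_id, sum_const, smul_eq_mul,
    filter_filter, hsum, h21] at h
  omega

theorem disjoint_count622 (hα : Fintype.card α = 22) (hB : IsSteinerSystem 3 6 B)
    {b : Finset α} (hb : b ∈ B) : #{d ∈ blocks B | Disjoint b d} = 16 := by
  rw [← (table622 hα hB hb).1, meetCount]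
  congr 1
  refine filter_congr fun d _ => ?_
  rw [card_eq_zero, disjoint_iff_inter_eq_empty, inter_comm]

theorem not_disjoint_self622 (hB : IsSteinerSystem 3 6 B) {b : Finset α} (hb : b ∈ B) :
    ¬Disjoint b b := by
  intro h
  rw [disjoint_self_iff_empty] at h
  have := card_eq hB hb
  simp [h] at this

end Cfsg.Agent.Spor.Steiner
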