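import Cfsg.Agent.Lib.Spor.GolayAbstract

/-! The binary code spanned by a family of subsets of 24 points, and its orthogonal. -/

set_option autoImplicit false

namespace Cfsg.Agent.Spor.SteinerCode

open GolayAbstract Finset

/-- The span of the indicator vectors. -/
def code (D : Set (Finset (Fin 24))) : Submodule (ZMod 2) GolayAbstract.F := Submodule.span (ZMod 2) (ind '' D)

/-- Its orthogonal. -/
noncomputable def perp (D : Set (Finset (Fin 24))) : Submodule (ZMod 2) GolayAbstract.F :=
  dotForm.orthogonal (code D)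

theorem dot_comm (v w : GolayAbstract.F) : ∑ i, v i * w i = ∑ i, w i * v i := sum_congr rfl fun i _ => mul_comm _ _

theorem dot_ind (d : Finset (Fin 24)) (w : GolayAbstract.F) :
    (∑ i, ind d i * w i = 0) ↔ Even (d ∩ supp w).card := by
  rw [dot_eq, supp_ind, ZMod.natCast_eq_zero_iff_even]

theorem ind_mem {D : Set (Finset (Fin 24))} {d : Finset (Fin 24)} (hd : d ∈ D) : ind d ∈ code D :=
  Submodule.subset_span ⟨d, hd, rfl⟩

theorem dot_perp {D : Set (Finset (Fin 24))} {v w : GolayAbstract.F} (hv : v ∈ code D) (hw : w ∈ perp D) :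
    ∑ i, v i * w i = 0 := by
  have := hw v hv
  rwa [dotForm_apply] at this

theorem mem_perp {D : Set (Finset (Fin 24))} {w : GolayAbstract.F} :
    w ∈ perp D ↔ ∀ d ∈ D, Even (d ∩ supp w).card := by
  refine ⟨fun h d hd => (dot_ind d w).mp (dot_perp (ind_mem hd) h), fun h v hv => ?_⟩
  show dotForm v w = 0
  induction hv using Submodule.span_induction with
  | mem v hv => obtain ⟨d, hd, rfl⟩ := hv; rw [dotForm_apply]; exact (dot_ind d w).mpr (h d hd)
  | zero => simp
  | add x y _ _ hx hy => rw [map_add, LinearMap.add_apply, hx, hy, add_zero]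
  | smul t x _ hx => rw [map_smul, LinearMap.smul_apply, hx, smul_zero]

theorem code_le_perp {D : Set (Finset (Fin 24))} (h : ∀ d ∈ D, ∀ d' ∈ D, Even (d ∩ d').card) : code D ≤ perp D := by
  refine Submodule.span_le.mpr ?_
  rintro _ ⟨d, hd, rfl⟩
  rw [SetLike.mem_coe, mem_perp]
  intro d' hd'
  rw [supp_ind]
  exact h d' hd' d hd

theorem code_orth {D : Set (Finset (Fin 24))} (h : ∀ d ∈ D, ∀ d' ∈ D, Even (d ∩ d').card) :
    ∀ v ∈ code D, ∀ w ∈ code D, ∑ i, v i * w i = 0 := fun _ hv _ hw => dot_perp hv (code_le_perp h hw)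

theorem dotForm_nondegenerate : (dotForm : LinearMap.BilinForm (ZMod 2) GolayAbstract.F).Nondegenerate := by
  have key : ∀ v : GolayAbstract.F, (∀ w, dotForm v w = 0) → v = 0 := fun v hv => funext fun i => by
    have h' := hv (Pi.single i 1)
    rw [dotForm_apply] at h'
    simpa [Pi.single_apply, mul_ite] using h'
  exact ⟨key, fun v hv => key v fun w => by rw [dotForm_apply, dot_comm, ← dotForm_apply]; exact hv w⟩

theorem dotForm_refl : (dotForm : LinearMap.BilinForm (ZMod 2) GolayAbstract.F).IsRefl := fun v w h => by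
  rwa [dotForm_apply, dot_comm, ← dotForm_apply]

theorem finrank_add (D : Set (Finset (Fin 24))) :
    Module.finrank (ZMod 2) (code D) + Module.finrank (ZMod 2) (perp D) = 24 := by
  have h1 := LinearMap.BilinForm.finrank_orthogonal dotForm_nondegenerate (code D)
  have h2 := Submodule.finrank_le (code D)
  rw [Module.finrank_fin_fun] at h1 h2
  show _ + Module.finrank (ZMod 2) (dotForm.orthogonal (code D)) = 24
  omega

theorem perp_perp (D : Set (Finset (Fin 24))) : dotForm.orthogonal (perp D) = code D :=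
  LinearMap.BilinForm.orthogonal_orthogonal dotForm_nondegenerate dotForm_refl _

theorem doubly_even {D : Set (Finset (Fin 24))} (h : ∀ d ∈ D, ∀ d' ∈ D, Even (d ∩ d').card)
    (h4 : ∀ d ∈ D, 4 ∣ d.card) {v : GolayAbstract.F} (hv : v ∈ code D) : 4 ∣ (supp v).card := by
  suffices v ∈ code D ∧ 4 ∣ (supp v).card from this.2
  refine Submodule.span_induction ?_ ?_ ?_ ?_ hv
  · rintro _ ⟨d, hd, rfl⟩
    exact ⟨ind_mem hd, by rw [supp_ind]; exact h4 d hd⟩
  · exact ⟨(code D).zero_mem, by rw [show supp (0 : GolayAbstract.F) = ∅ by simp [supp]]; simp⟩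
  · intro x y _ _ hx hy
    refine ⟨(code D).add_mem hx.1 hy.1, ?_⟩
    have he : Even (supp x ∩ supp y).card := by
      have := code_orth h x hx.1 y hy.1
      rwa [dot_eq, ZMod.natCast_eq_zero_iff_even] at this
    have hc := card_supp_sub x y
    rw [show x + y = x - y from funext fun i => by rw [Pi.add_apply, Pi.sub_apply, sub_eq_add_neg, ZMod.neg_eq_self_mod_two]]
    obtain ⟨r, hr⟩ := he
    have := hx.2; have := hy.2
    omega
  · intro t x _ hx
    rcases zcases t with rfl | rfl
    · rw [zero_smul]; exact ⟨(code D).zero_mem, by rw [show supp (0 : GolayAbstract.F) = ∅ by simp [supp]]; simp⟩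
    · rwa [one_smul]

theorem card_classes_le (D : Set (Finset (Fin 24))) (S : Finset (GolayAbstract.F ⧸ perp D)) :
    S.card ≤ 2 ^ Module.finrank (ZMod 2) (code D) := by
  haveI : Fintype (GolayAbstract.F ⧸ perp D) := Fintype.ofFinite _
  refine (card_le_univ S).trans ?_
  rw [← Nat.card_eq_fintype_card, Module.natCard_eq_pow_finrank (K := ZMod 2), Nat.card_zmod]
  have h1 := Submodule.finrank_quotient_add_finrank (perp D)
  have h2 := finrank_add D
  rw [Module.finrank_fin_fun] at h1
  rw [show Module.finrank (ZMod 2) (GolayAbstract.F ⧸ perp D) = Module.finrank (ZMod 2) (code D) by omega]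

theorem cls_perp_eq {D : Set (Finset (Fin 24))} {s t : Finset (Fin 24)} :
    cls (perp D) s = cls (perp D) t → ∀ d ∈ D, Even (d ∩ symmDiff s t).card := by
  intro h d hd
  have := mem_perp.mp (cls_eq_iff.mp h) d hd
  rwa [supp_sub, supp_ind, supp_ind] at this

/-- With no small orthogonal words the span is self-dual of minimum weight 8. -/
theorem hyp_of {D : Set (Finset (Fin 24))} (h : ∀ d ∈ D, ∀ d' ∈ D, Even (d ∩ d').card)
    (hsmall : ∀ A : Finset (Fin 24), 1 ≤ A.card → A.card ≤ 7 → ∃ d ∈ D, ¬ Even (d ∩ A).card) :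
    Hyp (code D) := by
  classical
  have hmin : ∀ w ∈ perp D, w ≠ 0 → 8 ≤ hammingNorm w := by
    intro w hw hne
    have h0 := hammingNorm_pos_iff.mpr hne
    rw [norm_eq] at h0 ⊢
    by_contra hc
    obtain ⟨d, hd, hodd⟩ := hsmall (supp w) h0 (by omega)
    exact hodd (mem_perp.mp hw d hd)
  let A : Finset (Finset (Fin 24)) := powersetCard 0 univ ∪ powersetCard 1 univ ∪ powersetCard 2 univ ∪ powersetCard 3 univ
  have hA : ∀ s : Finset (Fin 24), s ∈ A ↔ s.card ≤ 3 := fun s => by
    simp only [A, mem_union, mem_powersetCard, subset_univ, true_and]; omega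
  have hAcard : A.card = 2325 := by
    have hd : ∀ i j, i ≠ j → Disjoint (powersetCard i (univ : Finset (Fin 24))) (powersetCard j univ) := fun i j hij =>
      disjoint_left.mpr fun s h1 h2 => hij (((mem_powersetCard.mp h1).2).symm.trans (mem_powersetCard.mp h2).2)
    simp only [A]
    rw [card_union_of_disjoint, card_union_of_disjoint, card_union_of_disjoint]
    · simp only [card_powersetCard, card_univ, Fintype.card_fin]; decide
    · exact hd 0 1 (by norm_num)
    · exact disjoint_union_left.mpr ⟨hd 0 2 (by norm_num), hd 1 2 (by norm_num)⟩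
    · exact disjoint_union_left.mpr ⟨disjoint_union_left.mpr ⟨hd 0 3 (by norm_num), hd 1 3 (by norm_num)⟩, hd 2 3 (by norm_num)⟩
  have hinj : Set.InjOn (cls (perp D)) A := by
    intro s hs t ht e
    rw [mem_coe, hA] at hs ht
    by_contra hne
    have hu : symmDiff s t = (s \ t) ∪ (t \ s) := rfl
    have hcard : (symmDiff s t).card ≤ 6 := by
      rw [hu]
      have := card_union_le (s \ t) (t \ s)
      have := card_le_card (sdiff_subset (s := s) (t := t))
      have := card_le_card (sdiff_subset (s := t) (t := s))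
      omega
    have hpos : 1 ≤ (symmDiff s t).card := by
      rw [Nat.one_le_iff_ne_zero, Ne, card_eq_zero]
      exact fun h => hne (symmDiff_eq_bot.mp h)
    obtain ⟨d, hd, hodd⟩ := hsmall _ hpos (by omega)
    exact hodd (cls_perp_eq e d hd)
  have hcl := card_classes_le D (A.image (cls (perp D)))
  rw [card_image_of_injOn hinj, hAcard] at hcl
  have h12 : 12 ≤ Module.finrank (ZMod 2) (code D) := by
    by_contra hlt
    have := Nat.pow_le_pow_right (show 0 < 2 by norm_num) (show Module.finrank (ZMod 2) (code D) ≤ 11 by omega)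
    omega
  have hle := Submodule.finrank_mono (code_le_perp h)
  have hsum := finrank_add D
  exact ⟨by omega, code_orth h, fun w hw => hmin w (code_le_perp h hw)⟩

end Cfsg.Agent.Spor.SteinerCode
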