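import Cfsg.Agent.Lib.Spor.SteinerUnique723

/-! Two points added to a Steiner system S(3,6,22): the words meeting every block evenly. -/

set_option autoImplicit false

namespace Cfsg.Agent.Spor.SteinerCode

open GolayAbstract Finset Cfsg
open scoped Pointwise

variable {β : Type*} [Fintype β] [DecidableEq β]

/-- The doubly extended block. -/
def ext2 (b : Finset β) : Finset (Option (Option β)) := ext1 (ext1 b)

/-- The part off the two new points. -/
def inner22 (A : Finset (Option (Option β))) : Finset β := A.eraseNone.eraseNone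

theorem mem_inner22 {A : Finset (Option (Option β))} {x : β} : x ∈ inner22 A ↔ some (some x) ∈ A := by
  simp [inner22]

theorem card_ext2_inter (b : Finset β) (A : Finset (Option (Option β))) :
    (ext2 b ∩ A).card = (b ∩ inner22 A).card + (if some none ∈ A then 1 else 0) + (if none ∈ A then 1 else 0) := by
  rw [ext2, card_ext1_inter, card_ext1_inter, inner22]
  by_cases h : some none ∈ A <;> simp [h]

theorem card_split (A : Finset (Option (Option β))) :
    A.card = (inner22 A).card + (if some none ∈ A then 1 else 0) + (if none ∈ A then 1 else 0) := by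
  have h := card_ext2_inter (univ : Finset β) A
  have hu : ext2 (univ : Finset β) = univ := by
    ext x
    rcases x with _ | _ | x <;> simp [ext2, ext1]
  rwa [hu, univ_inter, univ_inter] at h

theorem card_ext2 (b : Finset β) : (ext2 b).card = b.card + 2 := by simp [ext2, ext1]

theorem ext2_image (b : Finset β) (g : Equiv.Perm β) :
    ext2 (b.image g) = (ext2 b).image g.optionCongr.optionCongr := by
  rw [ext2, ext1_image, ext1_image, ext2]

variable {B : Set (Finset β)}

/-- The sets of at most seven points meeting all extended blocks evenly. -/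
theorem small622 (hα : Fintype.card β = 22) (hB : IsSteinerSystem 3 6 B) (A : Finset (Option (Option β)))
    (h7 : A.card ≤ 7) (hc : ∀ b ∈ B, Even (ext2 b ∩ A).card) :
    ((none ∈ A ↔ some none ∈ A) ∧ inner22 A = ∅) ∨ (none ∉ A ∧ some none ∉ A ∧ inner22 A ∈ B) := by
  set A' := inner22 A with hA'
  have hcard : A.card = A'.card + (if some none ∈ A then 1 else 0) + (if none ∈ A then 1 else 0) := card_split A
  have hk : A'.card ≤ 7 := by omega
  have e0 := Steiner.sum_meetCount hB A' (n := 8) (by omega) (j := 0) (l := 77) (by omega)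
    (by rw [hα]; decide) (by decide)
  have e1 := Steiner.sum_meetCount hB A' (n := 8) (by omega) (j := 1) (l := 21) (by omega)
    (by rw [hα]; decide) (by decide)
  have e2 := Steiner.sum_meetCount hB A' (n := 8) (by omega) (j := 2) (l := 5) (by omega)
    (by rw [hα]; decide) (by decide)
  have e3 := Steiner.sum_meetCount hB A' (n := 8) (by omega) (j := 3) (l := 1) (by omega)
    (by rw [hα]; decide) (by decide)
  have h8 : ∀ b ∈ B, (b ∩ A').card ≤ 6 := fun b hb =>
    (card_le_card inter_subset_left).trans (Steiner.card_eq hB hb).le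
  have z7 : Steiner.meetCount B A' 7 = 0 := Steiner.meetCount_eq_zero fun b hb => by have := h8 b hb; omega
  by_cases hpar : (none ∈ A ↔ some none ∈ A)
  · have hev : ∀ b ∈ B, Even (b ∩ A').card := fun b hb => by
      have := hc b hb
      rw [card_ext2_inter] at this
      by_cases hn : none ∈ A
      · rw [if_pos hn, if_pos (hpar.mp hn), add_assoc] at this
        exact (Nat.even_add.mp this).mpr (by decide)
      · rw [if_neg hn, if_neg fun h => hn (hpar.mpr h)] at this
        exact this
    have z : ∀ i, Odd i → Steiner.meetCount B A' i = 0 := fun i hi => Steiner.meetCount_eq_zero fun b hb e => by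
      have := hev b hb; rw [e] at this; exact Nat.not_even_iff_odd.mpr hi this
    simp only [Finset.sum_range_succ, Finset.sum_range_zero, z 1 (by decide), z 3 (by decide), z 5 (by decide),
      z7] at e0 e1 e2 e3
    by_cases h0 : A'.card = 0
    · exact Or.inl ⟨hpar, card_eq_zero.mp h0⟩
    right
    have h6 : A'.card = 6 ∧ Steiner.meetCount B A' 6 ≠ 0 := by
      generalize A'.card = k at hk h0 e0 e1 e2 e3
      interval_cases k <;> norm_num [Nat.choose] at e0 e1 e2 e3 <;> omega
    obtain ⟨b, hb⟩ := card_pos.mp (Nat.pos_of_ne_zero (show _ ≠ 0 from h6.2))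
    rw [mem_filter, Steiner.mem_blocks] at hb
    have hsub : A' ⊆ b := by
      have := eq_of_subset_of_card_le (inter_subset_right (s₁ := b) (s₂ := A')) (by rw [hb.2, h6.1])
      intro x hx
      rw [← this] at hx
      exact (mem_inter.mp hx).1
    have hbA : A' = b := eq_of_subset_of_card_le hsub (by rw [h6.1, Steiner.card_eq hB hb.1])
    have hn : none ∉ A := fun hn => by
      rw [if_pos hn, if_pos (hpar.mp hn)] at hcard; omega
    exact ⟨hn, fun h => hn (hpar.mpr h), hbA ▸ hb.1⟩
  · exfalso
    have hone : (if some none ∈ A then 1 else 0) + (if none ∈ A then 1 else 0) = 1 := by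
      by_cases hn : none ∈ A <;> by_cases hs : some none ∈ A <;> simp [hn, hs] at hpar ⊢
    have hev : ∀ b ∈ B, Odd (b ∩ A').card := fun b hb => by
      have := hc b hb
      rwa [card_ext2_inter, add_assoc, hone, Nat.even_add_one, Nat.not_even_iff_odd] at this
    have z : ∀ i, Even i → Steiner.meetCount B A' i = 0 := fun i hi => Steiner.meetCount_eq_zero fun b hb e => by
      have := hev b hb; rw [e] at this; exact Nat.not_odd_iff_even.mpr hi this
    simp only [Finset.sum_range_succ, Finset.sum_range_zero, z 0 (by decide), z 2 (by decide), z 4 (by decide),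
      z 6 (by decide), z7] at e0 e1 e2 e3
    have h6 : A'.card ≤ 6 := by omega
    generalize A'.card = k at h6 e0 e1 e2 e3
    interval_cases k <;> norm_num [Nat.choose] at e0 e1 e2 e3 <;> omega

/-- Membership in a submodule carried along by a permutation. -/
theorem mem_M24_of_maps {C : Submodule (ZMod 2) GolayAbstract.F} (φ : β ≃ Fin 24) (e : β ≃ GolayPt)
    (he : ∀ A : Finset β, A.image e ∈ supports (golayCode : Set (GolayPt → ZMod 2)) ↔ ind (A.image φ) ∈ C)
    (g : Equiv.Perm β) (hg : ∀ w ∈ C, (fun i => w ((φ.permCongr g).symm i)) ∈ C) : e.permCongr g ∈ M24 := by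
  have key : ∀ A : Finset β, ind (A.image φ) ∈ C → ind ((A.image g).image φ) ∈ C := by
    intro A hA
    convert hg _ hA using 1
    funext i
    obtain ⟨x, rfl⟩ := φ.surjective i
    have h1 : φ x ∈ (A.image g).image φ ↔ g.symm x ∈ A := by
      simp only [mem_image, φ.injective.eq_iff, exists_eq_right]
      exact ⟨fun ⟨y, hy, e⟩ => by rw [← e, Equiv.symm_apply_apply]; exact hy, fun hy => ⟨_, hy, g.apply_symm_apply x⟩⟩
    have h2 : (φ.permCongr g).symm (φ x) = φ (g.symm x) :=
      (φ.permCongr g).symm_apply_eq.mpr (by simp [Equiv.permCongr_apply])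
    have h3 : φ (g.symm x) ∈ A.image φ ↔ g.symm x ∈ A := φ.injective.mem_finset_image
    simp [ind, h1, h2, h3]
  rw [MulAction.mem_stabilizer_set]
  intro s
  obtain ⟨A, rfl⟩ : ∃ A : Finset β, A.image e = s := ⟨s.image e.symm, image_preimage e s⟩
  show (A.image e).image (e.permCongr g) ∈ _ ↔ _
  rw [image_image, show (⇑(e.permCongr g) ∘ ⇑e) = ⇑e ∘ ⇑g from funext fun x => by simp [Equiv.permCongr_apply],
    ← image_image, he, he]
  refine ⟨fun h => ?_, key A⟩
  have hpow : ∀ (n : ℕ) (A : Finset β), ind (A.image φ) ∈ C → ind ((A.image (g ^ n : Equiv.Perm β)).image φ) ∈ C := by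
    intro n
    induction n with
    | zero => intro A hA; simpa using hA
    | succ n ih =>
      intro A hA
      have := ih _ (key A hA)
      rwa [image_image (f := ⇑g), ← Equiv.Perm.coe_mul, ← pow_succ] at this
  have hb := hpow (orderOf g - 1) _ h
  rwa [image_image (f := ⇑g), ← Equiv.Perm.coe_mul, ← pow_succ, Nat.sub_add_cancel (orderOf_pos g),
    pow_orderOf_eq_one g, Equiv.Perm.coe_one, image_id] at hb

end Cfsg.Agent.Spor.SteinerCode
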