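import Cfsg.Agent.Lib.Spor.SteinerCode622

/-! Uniqueness of the Steiner system S(3,6,22). -/

set_option autoImplicit false
set_option maxHeartbeats 800000

namespace Cfsg.Agent.Spor.SteinerCode

open GolayAbstract Finset Cfsg
open scoped Pointwise

variable {β : Type*} [Fintype β] [DecidableEq β]

/-- The transposition of the two new points. -/
def sw (β : Type*) [DecidableEq β] : Equiv.Perm (Option (Option β)) := Equiv.swap none (some none)

theorem card_symmDiff_inter {γ : Type*} [DecidableEq γ] (s t : Finset γ) :
    (symmDiff s t).card + (s ∩ t).card = (s ∪ t).card := by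
  have h : symmDiff s t = (s ∪ t) \ (s ∩ t) := by ext x; simp [mem_symmDiff]; tauto
  rw [h, card_sdiff_of_subset inter_subset_union]
  have := card_le_card (inter_subset_union (s := s) (t := t))
  omega

theorem char_add_self (w : GolayAbstract.F) : w + w = 0 := funext fun _ => CharTwo.add_self_eq_zero _

theorem exists_equiv622 {B : Set (Finset β)} (hα : Fintype.card β = 22) (hB : IsSteinerSystem 3 6 B) :
    ∃ e : Option (Option β) ≃ GolayPt, (∀ b, b ∈ B ↔ (ext2 b).image e ∈ octads) ∧ e.permCongr (sw β) ∉ M24 ∧
      ∀ g : Equiv.Perm β, g ∈ setSystemAut B →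
        e.permCongr g.optionCongr.optionCongr ∈ M24 ∨ e.permCongr (g.optionCongr.optionCongr * sw β) ∈ M24 := by
  classical
  obtain ⟨φ⟩ : Nonempty (Option (Option β) ≃ Fin 24) := ⟨Fintype.equivFinOfCardEq (by rw [Fintype.card_option, Fintype.card_option, hα])⟩
  let D : Set (Finset (Fin 24)) := (fun b => (ext2 b).image φ) '' B
  let p0 := φ none
  let p1 := φ (some none)
  have hp01 : p0 ≠ p1 := fun h => by simpa using φ.injective h
  have heven : ∀ d ∈ D, ∀ d' ∈ D, Even (d ∩ d').card := by
    rintro _ ⟨b, hb, rfl⟩ _ ⟨c, hc, rfl⟩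
    rw [image_inter_card, card_ext2_inter]
    have e : inner22 (ext2 c) = c := by ext x; simp [inner22, ext2, ext1]
    rw [e, if_pos (by simp [ext2, ext1]), if_pos (by simp [ext2, ext1])]
    by_cases hbc : b = c
    · rw [hbc, inter_self, Steiner.card_eq hB hc]; decide
    · rcases Steiner.card_inter622 hα hB hb hc hbc with e | e <;> rw [e] <;> decide
  have hfour : ∀ d ∈ D, 4 ∣ d.card := by
    rintro _ ⟨b, hb, rfl⟩
    rw [card_image_of_injective _ φ.injective, card_ext2, Steiner.card_eq hB hb]; decide
  -- the words in question, read on the extended point set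
  have hread : ∀ w : GolayAbstract.F, w ∈ perp D → ∀ b ∈ B, Even (ext2 b ∩ (supp w).image φ.symm).card := by
    intro w hw b hb
    have := mem_perp.mp hw _ ⟨b, hb, rfl⟩
    rwa [← image_preimage φ (supp w), image_inter_card] at this
  have hmemA : ∀ (w : GolayAbstract.F) x, x ∈ (supp w).image φ.symm ↔ w (φ x) = 1 := fun w x => by
    rw [← mem_supp]
    constructor
    · intro h
      obtain ⟨i, hi, rfl⟩ := mem_image.mp h
      rwa [Equiv.apply_symm_apply]
    · intro h
      exact mem_image.mpr ⟨_, h, φ.symm_apply_apply x⟩
  have hclass : ∀ w ∈ perp D, (supp w).card ≤ 7 →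
      (w p0 = w p1 ∧ inner22 ((supp w).image φ.symm) = ∅) ∨
      (w p0 = 0 ∧ w p1 = 0 ∧ inner22 ((supp w).image φ.symm) ∈ B) := by
    intro w hw h7
    rcases small622 hα hB _ (by rwa [card_image_of_injective _ φ.symm.injective]) (hread w hw) with ⟨h1, h2⟩ | ⟨h1, h2, h3⟩
    · left
      rw [hmemA, hmemA] at h1
      refine ⟨?_, h2⟩
      rcases GolayAbstract.zcases (w p0) with a | a <;> rcases GolayAbstract.zcases (w p1) with b | b
      · rw [a, b]
      · exact absurd (h1.mpr b) (by show w p0 ≠ 1; rw [a]; decide)
      · exact absurd (h1.mp a) (by show w p1 ≠ 1; rw [b]; decide)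
      · rw [a, b]
    · rw [hmemA] at h1 h2
      exact Or.inr ⟨(GolayAbstract.zcases (w p0)).resolve_right h1, (GolayAbstract.zcases (w p1)).resolve_right h2, h3⟩
  -- words of the span
  have hpar : ∀ w ∈ code D, w p0 = w p1 := by
    intro w hw
    induction hw using Submodule.span_induction with
    | mem w hw =>
      obtain ⟨d, ⟨b, hb, rfl⟩, rfl⟩ := hw
      simp [ind, p0, p1, ext2, ext1]
    | zero => rfl
    | add x y _ _ hx hy => rw [Pi.add_apply, Pi.add_apply, hx, hy]
    | smul t x _ hx => rw [Pi.smul_apply, Pi.smul_apply, hx]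
  let δ : GolayAbstract.F := ind {p0, p1}
  have hδsupp : (supp δ).card = 2 := by rw [supp_ind, card_pair hp01]
  have hδperp : δ ∈ perp D := by
    rw [mem_perp]
    rintro _ ⟨b, hb, rfl⟩
    rw [supp_ind, inter_eq_right.mpr (by intro i hi; simp only [mem_insert, mem_singleton] at hi; rcases hi with rfl | rfl <;> simp [p0, p1, ext2, ext1]),
      card_pair hp01]
    decide
  have hδS : δ ∉ code D := fun h => by
    have := doubly_even heven hfour h
    rw [hδsupp] at this; omega
  have hSmin : ∀ w ∈ code D, w ≠ 0 → 8 ≤ (supp w).card := by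
    intro w hw hne
    by_contra hlt
    have h4 := doubly_even heven hfour hw
    have hc := card_split ((supp w).image φ.symm)
    rw [card_image_of_injective _ φ.symm.injective] at hc
    have hpos : 0 < (supp w).card := card_pos.mpr (nonempty_iff_ne_empty.mpr fun e => hne (eq_zero_of_supp_empty e))
    rcases hclass w (code_le_perp heven hw) (by omega) with ⟨-, h2⟩ | ⟨a, b, h3⟩
    · rw [h2, card_empty] at hc
      split_ifs at hc <;> omega
    · rw [if_neg (by rw [hmemA]; show w p1 ≠ 1; rw [b]; decide), if_neg (by rw [hmemA]; show w p0 ≠ 1; rw [a]; decide),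
        Steiner.card_eq hB h3] at hc
      omega
  -- counting classes
  let T2 : Finset (Finset (Option (Option β))) :=
    (powersetCard 0 (univ : Finset β) ∪ powersetCard 1 univ ∪ powersetCard 2 univ).image (fun s => s.image fun x => some (some x))
  let T3 : Finset (Finset (Option (Option β))) := (powersetCard 3 (univ : Finset β)).image (fun s => s.image fun x => some (some x))
  let T := insert ({none} : Finset (Option (Option β))) T2
  have hsome : Function.Injective (fun x : β => (some (some x) : Option (Option β))) := fun x y h => by simpa using h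
  have hT2 : ∀ s ∈ T2, none ∉ s ∧ some none ∉ s ∧ s.card ≤ 2 := by
    intro s hs
    obtain ⟨u, hu, rfl⟩ := mem_image.mp hs
    refine ⟨by simp, by simp, ?_⟩
    rw [card_image_of_injective _ hsome]
    simp only [mem_union, mem_powersetCard] at hu
    omega
  have hT3 : ∀ s ∈ T3, none ∉ s ∧ some none ∉ s ∧ s.card = 3 := by
    intro s hs
    obtain ⟨u, hu, rfl⟩ := mem_image.mp hs
    refine ⟨by simp, by simp, ?_⟩
    rw [card_image_of_injective _ hsome, (mem_powersetCard.mp hu).2]
  have hTcard : T.card = 255 := by
    rw [card_insert_of_notMem (fun h => (hT2 _ h).1 (mem_singleton_self _)), card_image_of_injective _ (image_injective hsome),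
      card_union_of_disjoint, card_union_of_disjoint, card_powersetCard, card_powersetCard, card_powersetCard, card_univ, hα]
    · decide
    · exact disjoint_left.mpr fun s h1 h2 => absurd ((mem_powersetCard.mp h1).2.symm.trans (mem_powersetCard.mp h2).2) (by norm_num)
    · exact disjoint_union_left.mpr
        ⟨disjoint_left.mpr fun s h1 h2 => absurd ((mem_powersetCard.mp h1).2.symm.trans (mem_powersetCard.mp h2).2) (by norm_num),
         disjoint_left.mpr fun s h1 h2 => absurd ((mem_powersetCard.mp h1).2.symm.trans (mem_powersetCard.mp h2).2) (by norm_num)⟩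
  let c' : Finset (Option (Option β)) → GolayAbstract.F ⧸ perp D := fun s => cls (perp D) (s.image φ)
  have hdiff : ∀ s t, c' s = c' t → s.card + t.card ≤ 7 →
      ((none ∈ symmDiff s t ↔ some none ∈ symmDiff s t) ∧ inner22 (symmDiff s t) = ∅) ∨
        (none ∉ symmDiff s t ∧ some none ∉ symmDiff s t ∧ inner22 (symmDiff s t) ∈ B) := by
    intro s t e h7
    refine small622 hα hB _ ?_ fun b hb => ?_
    · rw [show symmDiff s t = (s \ t) ∪ (t \ s) from rfl]
      have := card_union_le (s \ t) (t \ s)
      have := card_le_card (sdiff_subset (s := s) (t := t))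
      have := card_le_card (sdiff_subset (s := t) (t := s))
      omega
    · have := cls_perp_eq e _ ⟨b, hb, rfl⟩
      rwa [← image_symmDiff _ _ φ.injective, image_inter_card] at this
  have heq_of_empty : ∀ s t : Finset (Option (Option β)), inner22 (symmDiff s t) = ∅ → none ∉ symmDiff s t →
      some none ∉ symmDiff s t → s = t := by
    intro s t h1 h2 h3
    refine symmDiff_eq_bot.mp (eq_empty_of_forall_notMem fun x hx => ?_)
    rcases x with _ | _ | x
    · exact h2 hx
    · exact h3 hx
    · have := mem_inner22.mpr hx; rw [h1] at this; exact notMem_empty x this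
  have hTinj : Set.InjOn c' T := by
    intro s hs t ht e
    rw [mem_coe, mem_insert] at hs ht
    have hs' : some none ∉ s ∧ s.card ≤ 2 := by
      rcases hs with rfl | hs
      · simp
      · exact (hT2 s hs).2
    have ht' : some none ∉ t ∧ t.card ≤ 2 := by
      rcases ht with rfl | ht
      · simp
      · exact (hT2 t ht).2
    have hn : some none ∉ symmDiff s t := fun h => by
      rw [mem_symmDiff] at h; rcases h with h | h
      · exact hs'.1 h.1
      · exact ht'.1 h.1
    rcases hdiff s t e (by omega) with ⟨h1, h2⟩ | ⟨-, -, h3⟩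
    · exact heq_of_empty s t h2 (fun h => hn (h1.mp h)) hn
    · exfalso
      have := card_split (symmDiff s t)
      rw [Steiner.card_eq hB h3] at this
      have hu : (symmDiff s t).card ≤ 4 := by
        rw [show symmDiff s t = (s \ t) ∪ (t \ s) from rfl]
        have := card_union_le (s \ t) (t \ s)
        have := card_le_card (sdiff_subset (s := s) (t := t))
        have := card_le_card (sdiff_subset (s := t) (t := s))
        omega
      omega
  have hT3fib : T3.card ≤ 2 * (T3.image c').card := by
    refine card_le_mul_card_image _ _ fun q hq => ?_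
    obtain ⟨s, hs, rfl⟩ := mem_image.mp hq
    by_contra hlt
    push Not at hlt
    obtain ⟨t, t', ht, ht', hts, ht's, htt⟩ : ∃ t t', t ∈ T3.filter (fun x => c' x = c' s) ∧ t' ∈ T3.filter (fun x => c' x = c' s) ∧ t ≠ s ∧ t' ≠ s ∧ t ≠ t' := by
      have : 1 < ((T3.filter fun x => c' x = c' s).erase s).card := by
        have := card_erase_of_mem (s := T3.filter fun x => c' x = c' s) (show s ∈ T3.filter (fun x => c' x = c' s) from mem_filter.mpr ⟨hs, rfl⟩)
        omega
      obtain ⟨t, ht, t', ht', hne⟩ := one_lt_card.mp this
      rw [mem_erase] at ht ht'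
      exact ⟨t, t', ht.2, ht'.2, ht.1, ht'.1, hne⟩
    have key : ∀ t ∈ T3.filter (fun x => c' x = c' s), t ≠ s → ∃ b ∈ B, inner22 s ⊆ b ∧ inner22 t = b \ inner22 s := by
      intro t ht hts
      rw [mem_filter] at ht
      obtain ⟨ht, e⟩ := ht
      obtain ⟨a1, a2, a3⟩ := hT3 s hs
      obtain ⟨b1, b2, b3⟩ := hT3 t ht
      have hn0 : none ∉ symmDiff t s := by simp [mem_symmDiff, a1, b1]
      have hn1 : some none ∉ symmDiff t s := by simp [mem_symmDiff, a2, b2]
      rcases hdiff t s e (by omega) with ⟨-, h2⟩ | ⟨-, -, h3⟩
      · exact absurd (heq_of_empty t s h2 hn0 hn1) hts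
      · have h6 := card_split (symmDiff t s)
        rw [if_neg hn0, if_neg hn1, Steiner.card_eq hB h3] at h6
        have hcu : (t ∪ s).card + (t ∩ s).card = 6 := by rw [card_union_add_card_inter, a3, b3]
        have hsd : (symmDiff t s).card + (t ∩ s).card = (t ∪ s).card := card_symmDiff_inter t s
        have hdisj : t ∩ s = ∅ := card_eq_zero.mp (by omega)
        have hd : ∀ x, ¬ (x ∈ t ∧ x ∈ s) := fun x h => by
          have := mem_inter.mpr h; rw [hdisj] at this; exact notMem_empty x this
        refine ⟨_, h3, fun x hx => ?_, ?_⟩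
        · rw [mem_inner22] at hx ⊢
          exact mem_symmDiff.mpr (Or.inr ⟨hx, fun h => hd _ ⟨h, hx⟩⟩)
        · ext x
          rw [mem_sdiff, mem_inner22, mem_inner22, mem_inner22, mem_symmDiff]
          exact ⟨fun h => ⟨Or.inl ⟨h, fun h' => hd _ ⟨h, h'⟩⟩, fun h' => hd _ ⟨h, h'⟩⟩,
            fun h => h.1.elim (fun a => a.1) fun a => absurd a.1 h.2⟩
    obtain ⟨b, hb, hsb, eb⟩ := key t ht hts
    obtain ⟨b', hb', hsb', eb'⟩ := key t' ht' ht's
    have hs3 : (inner22 s).card = 3 := by
      have := card_split s
      obtain ⟨a1, a2, a3⟩ := hT3 s hs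
      rw [if_neg a1, if_neg a2, a3] at this
      omega
    have hbb : b = b' := Steiner.eq_of_common hB hb hb' hsb hsb' (by omega)
    subst hbb
    refine htt ?_
    obtain ⟨a1, a2, -⟩ := hT3 t (mem_filter.mp ht).1
    obtain ⟨b1, b2, -⟩ := hT3 t' (mem_filter.mp ht').1
    ext x
    rcases x with _ | _ | x
    · exact iff_of_false a1 b1
    · exact iff_of_false a2 b2
    · rw [← mem_inner22, ← mem_inner22, eb, eb']
  have hdim11 : 11 ≤ Module.finrank (ZMod 2) (code D) := by
    have hd : Disjoint (T.image c') (T3.image c') := by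
      rw [disjoint_left]
      intro q h1 h2
      obtain ⟨s, hs, rfl⟩ := mem_image.mp h1
      obtain ⟨t, ht, e⟩ := mem_image.mp h2
      obtain ⟨b1, b2, b3⟩ := hT3 t ht
      have hs' : some none ∉ s ∧ s.card ≤ 2 := by
        rcases mem_insert.mp hs with rfl | hs
        · simp
        · exact (hT2 s hs).2
      have hn : some none ∉ symmDiff t s := by simp [mem_symmDiff, hs'.1, b2]
      rcases hdiff t s e (by omega) with ⟨a1, a2⟩ | ⟨-, -, a3⟩
      · have := heq_of_empty t s a2 (fun h => hn (a1.mp h)) hn
        rw [this] at b3; omega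
      · have := card_split (symmDiff t s)
        rw [Steiner.card_eq hB a3] at this
        have hu : (symmDiff t s).card ≤ 5 := by
          rw [show symmDiff t s = (t \ s) ∪ (s \ t) from rfl]
          have := card_union_le (t \ s) (s \ t)
          have := card_le_card (sdiff_subset (s := s) (t := t))
          have := card_le_card (sdiff_subset (s := t) (t := s))
          omega
        omega
    have h1 : T3.card = 1540 := by
      rw [card_image_of_injective _ (image_injective hsome), card_powersetCard, card_univ, hα]; decide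
    have h2 := card_classes_le D (T.image c' ∪ T3.image c')
    rw [card_union_of_disjoint hd, card_image_of_injOn hTinj, hTcard] at h2
    by_contra hlt
    have := Nat.pow_le_pow_right (show 0 < 2 by norm_num) (show Module.finrank (ZMod 2) (code D) ≤ 10 by omega)
    omega
  have hle := Submodule.finrank_mono (code_le_perp heven)
  have hsum := finrank_add D
  have hdim : Module.finrank (ZMod 2) (code D) = 11 ∧ Module.finrank (ZMod 2) (perp D) = 13 := by
    refine (show _ = 11 ∨ Module.finrank (ZMod 2) (code D) = 12 by omega).elim (fun h => ⟨h, by omega⟩) fun h => ?_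
    exfalso
    have := Submodule.eq_of_le_of_finrank_le (code_le_perp heven) (by omega)
    exact hδS (this.symm ▸ hδperp)
  -- a word through exactly one new point
  obtain ⟨x, hx, hxp⟩ : ∃ x ∈ perp D, x p0 + x p1 = 1 := by
    by_contra hnone
    push Not at hnone
    have horth : δ ∈ dotForm.orthogonal (perp D) := fun w hw => by
      show dotForm w δ = 0
      rw [dotForm_apply]
      have h0 : w p0 + w p1 = 0 := (GolayAbstract.zcases _).resolve_right (hnone w hw)
      rw [← h0, ← sum_pair hp01]
      rw [← sum_subset (subset_univ ({p0, p1} : Finset (Fin 24))) (fun i _ hi => by simp [δ, ind, hi])]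
      exact sum_congr rfl fun i hi => by simp [δ, ind, hi]
    rw [perp_perp] at horth
    exact hδS horth
  have hone : (1 : GolayAbstract.F) ∈ code D := by
    by_contra h1
    have h1p : (1 : GolayAbstract.F) ∈ perp D := by
      rw [mem_perp]
      intro d hd
      rw [show supp (1 : GolayAbstract.F) = univ from eq_univ_of_forall fun i => mem_supp.mpr rfl, inter_univ]
      obtain ⟨k, hk⟩ := hfour d hd
      exact ⟨2 * k, by omega⟩
    let S' := code D ⊔ Submodule.span (ZMod 2) {(1 : GolayAbstract.F)}
    have hS'le : S' ≤ perp D := sup_le (code_le_perp heven) ((Submodule.span_singleton_le_iff_mem _ _).mpr h1p)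
    have hself : ∀ u ∈ S', ∀ v ∈ S', ∑ i, u i * v i = 0 := by
      intro u hu v hv
      rw [Submodule.mem_sup] at hu hv
      obtain ⟨u0, hu0, _, hu1, rfl⟩ := hu
      obtain ⟨v0, hv0, _, hv1, rfl⟩ := hv
      obtain ⟨a, rfl⟩ := Submodule.mem_span_singleton.mp hu1
      obtain ⟨b, rfl⟩ := Submodule.mem_span_singleton.mp hv1
      have e1 := code_orth heven u0 hu0 v0 hv0
      have e2 := dot_perp hu0 h1p
      have e3 := dot_perp hv0 h1p
      have e4 : ∑ i : Fin 24, (1 : ZMod 2) = 0 := by simp; decide
      simp only [Pi.one_apply, mul_one] at e2 e3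
      simp only [Pi.add_apply, Pi.smul_apply, Pi.one_apply, smul_eq_mul, mul_one, add_mul, mul_add, sum_add_distrib]
      rw [e1, ← sum_mul, e2, ← mul_sum, e3]
      simp; left; decide
    have hlt : code D < S' := lt_of_le_of_ne le_sup_left fun e =>
      h1 (e.symm ▸ Submodule.mem_sup_right (Submodule.mem_span_singleton_self _))
    have h12 : 12 ≤ Module.finrank (ZMod 2) S' := by
      have := Submodule.finrank_lt_finrank_of_lt hlt; omega
    have horth' : dotForm.orthogonal S' = S' := by
      have hle' : S' ≤ dotForm.orthogonal S' := fun v hv u hu => by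
        show dotForm u v = 0
        rw [dotForm_apply]; exact hself u hu v hv
      have := LinearMap.BilinForm.finrank_orthogonal dotForm_nondegenerate S'
      rw [Module.finrank_fin_fun] at this
      have := Submodule.finrank_mono hle'
      exact (Submodule.eq_of_le_of_finrank_le hle' (by omega)).symm
    have hδ : δ ∈ dotForm.orthogonal S' := fun u hu => by
      show dotForm u δ = 0
      rw [dotForm_apply]
      rw [Submodule.mem_sup] at hu
      obtain ⟨u0, hu0, _, hu1, rfl⟩ := hu
      obtain ⟨a, rfl⟩ := Submodule.mem_span_singleton.mp hu1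
      have e2 := dot_perp hu0 hδperp
      have e4 : ∑ i, δ i = 0 := by
        rw [show ∑ i, δ i = ∑ i, δ i * δ i from sum_congr rfl fun i _ => by
          rcases GolayAbstract.zcases (δ i) with q | q <;> rw [q] <;> rfl, dot_eq, inter_self, hδsupp]
        decide
      simp only [Pi.add_apply, Pi.smul_apply, Pi.one_apply, smul_eq_mul, mul_one, add_mul, sum_add_distrib, ← mul_sum, e2, e4, mul_zero, add_zero]
    rw [horth', Submodule.mem_sup] at hδ
    obtain ⟨s, hs, _, hs1, e⟩ := hδ
    obtain ⟨a, rfl⟩ := Submodule.mem_span_singleton.mp hs1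
    rcases GolayAbstract.zcases a with rfl | rfl
    · rw [zero_smul, add_zero] at e; exact hδS (e ▸ hs)
    · have hs2 : s = δ + 1 := by rw [← e, one_smul, add_assoc, char_add_self, add_zero]
      have h4 := doubly_even heven hfour hs
      have : supp s = univ \ {p0, p1} := by
        ext i
        rw [mem_supp, mem_sdiff, hs2, Pi.add_apply, Pi.one_apply]
        by_cases hi : i ∈ ({p0, p1} : Finset (Fin 24)) <;> simp [δ, ind, hi, CharTwo.add_self_eq_zero]
      rw [this, card_sdiff_of_subset (subset_univ _), card_univ, Fintype.card_fin, card_pair hp01] at h4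
      omega
  have hevenP : ∀ w ∈ perp D, Even (supp w).card := by
    intro w hw
    have := dot_perp hone hw
    rwa [dot_eq, show supp (1 : GolayAbstract.F) = univ from eq_univ_of_forall fun i => mem_supp.mpr rfl, univ_inter,
      ZMod.natCast_eq_zero_iff_even] at this
  let G := code D ⊔ Submodule.span (ZMod 2) {x}
  have hGmem : ∀ w, w ∈ G ↔ w ∈ code D ∨ w + x ∈ code D := by
    intro w
    constructor
    · intro hw
      rw [Submodule.mem_sup] at hw
      obtain ⟨u, hu, _, hv, rfl⟩ := hw
      obtain ⟨a, rfl⟩ := Submodule.mem_span_singleton.mp hv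
      rcases GolayAbstract.zcases a with rfl | rfl
      · left; rwa [zero_smul, add_zero]
      · right; rwa [one_smul, add_assoc, char_add_self, add_zero]
    · rintro (h | h)
      · exact Submodule.mem_sup_left h
      · rw [show w = (w + x) + x by rw [add_assoc, char_add_self, add_zero]]
        exact G.add_mem (Submodule.mem_sup_left h) (Submodule.mem_sup_right (Submodule.mem_span_singleton_self x))
  have hGle : G ≤ perp D := sup_le (code_le_perp heven) ((Submodule.span_singleton_le_iff_mem _ _).mpr hx)
  have hxG : x ∈ G := Submodule.mem_sup_right (Submodule.mem_span_singleton_self x)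
  have hGpar : ∀ w ∈ G, w + x ∈ code D → w p0 + w p1 = 1 := fun w _ h => by
    have := hpar _ h
    rw [Pi.add_apply, Pi.add_apply] at this
    rcases GolayAbstract.zcases (w p0) with a | a <;> rcases GolayAbstract.zcases (w p1) with b | b <;>
      rcases GolayAbstract.zcases (x p0) with c | c <;> rcases GolayAbstract.zcases (x p1) with d | d <;>
      simp [a, b, c, d, CharTwo.add_self_eq_zero] at this hxp ⊢
  have hxS : x ∉ code D := fun h => by
    have := hpar x h
    rw [this, CharTwo.add_self_eq_zero] at hxp
    exact zero_ne_one hxp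
  have hGdim : Module.finrank (ZMod 2) G = 12 := by
    have hlt : code D < G := lt_of_le_of_ne le_sup_left fun e => hxS (e.symm ▸ hxG)
    have h1 : Module.finrank (ZMod 2) (code D) <
        Module.finrank (ZMod 2) ↥(code D ⊔ Submodule.span (ZMod 2) {x}) := Submodule.finrank_lt_finrank_of_lt hlt
    have h2 := Submodule.finrank_add_le_finrank_add_finrank (code D) (Submodule.span (ZMod 2) {x})
    have h3 := finrank_span_le_card (R := ZMod 2) ({x} : Set GolayAbstract.F)
    simp at h3
    show Module.finrank (ZMod 2) ↥(code D ⊔ Submodule.span (ZMod 2) {x}) = 12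
    omega
  have hδG : δ ∉ G := fun h => by
    rcases (hGmem δ).mp h with h' | h'
    · exact hδS h'
    · have := hGpar δ h h'
      simp [δ, ind, CharTwo.add_self_eq_zero] at this
  have hyp : Hyp G := by
    refine ⟨hGdim, fun u hu v hv => ?_, fun w hw hne => ?_⟩
    · have hxx : ∑ i, x i * x i = 0 := by
        rw [dot_eq, inter_self, ZMod.natCast_eq_zero_iff_even]; exact hevenP x hx
      rw [Submodule.mem_sup] at hu hv
      obtain ⟨u0, hu0, _, hu1, rfl⟩ := hu
      obtain ⟨v0, hv0, _, hv1, rfl⟩ := hv
      obtain ⟨a, rfl⟩ := Submodule.mem_span_singleton.mp hu1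
      obtain ⟨b, rfl⟩ := Submodule.mem_span_singleton.mp hv1
      have e1 := code_orth heven u0 hu0 v0 hv0
      have e2 := dot_perp hu0 hx
      have e3 : ∑ i, x i * v0 i = 0 := by rw [dot_comm]; exact dot_perp hv0 hx
      simp only [Pi.add_apply, Pi.smul_apply, smul_eq_mul, add_mul, mul_add, sum_add_distrib]
      rw [e1, show ∑ i, a * x i * v0 i = a * ∑ i, x i * v0 i by rw [mul_sum]; simp [mul_assoc],
        show ∑ i, u0 i * (b * x i) = b * ∑ i, u0 i * x i by rw [mul_sum]; simp [mul_left_comm],
        show ∑ i, a * x i * (b * x i) = a * b * ∑ i, x i * x i by rw [mul_sum]; exact sum_congr rfl fun i _ => by ring,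
        e2, e3, hxx]
      simp
    · rw [norm_eq]
      rcases (hGmem w).mp hw with h | h
      · exact hSmin w h hne
      · by_contra hlt
        rcases hclass w (hGle hw) (by omega) with ⟨h1, -⟩ | ⟨a, b, -⟩
        · have := hGpar w hw h
          rw [h1, CharTwo.add_self_eq_zero] at this
          exact zero_ne_one this
        · have := hGpar w hw h
          rw [a, b, add_zero] at this
          exact zero_ne_one this
  obtain ⟨e, he⟩ := golay_coords hyp φ
  have hP : ∀ w ∈ perp D, w ∈ G ∨ w + δ ∈ G := by
    intro w hw
    have heq : G ⊔ Submodule.span (ZMod 2) {δ} = perp D := by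
      refine Submodule.eq_of_le_of_finrank_le (sup_le hGle ((Submodule.span_singleton_le_iff_mem _ _).mpr hδperp)) ?_
      have hlt : G < G ⊔ Submodule.span (ZMod 2) {δ} := lt_of_le_of_ne le_sup_left fun e =>
        hδG (e.symm ▸ Submodule.mem_sup_right (Submodule.mem_span_singleton_self _))
      have := Submodule.finrank_lt_finrank_of_lt hlt
      omega
    rw [← heq, Submodule.mem_sup] at hw
    obtain ⟨u, hu, _, hv, rfl⟩ := hw
    obtain ⟨a, rfl⟩ := Submodule.mem_span_singleton.mp hv
    rcases GolayAbstract.zcases a with rfl | rfl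
    · left; rwa [zero_smul, add_zero]
    · right; rwa [one_smul, add_assoc, char_add_self, add_zero]
  have hswap : ∀ (w : GolayAbstract.F), (fun i => w ((φ.permCongr (sw β)).symm i)) = w + (w p0 + w p1) • δ := by
    intro w
    funext i
    obtain ⟨y, rfl⟩ := φ.surjective i
    have h2 : (φ.permCongr (sw β)).symm (φ y) = φ (sw β y) :=
      (φ.permCongr (sw β)).symm_apply_eq.mpr (by simp [Equiv.permCongr_apply, sw])
    show w _ = _
    rw [h2]
    rcases y with _ | _ | y
    · simp [sw, δ, ind, p0, p1, CharTwo.add_self_eq_zero, ← add_assoc]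
    · simp [sw, δ, ind, p0, p1, CharTwo.add_self_eq_zero, add_comm (w (φ none)), ← add_assoc]
    · simp [sw, δ, ind, p0, p1, Equiv.swap_apply_of_ne_of_ne]
  refine ⟨e, fun b => ⟨fun hb => ⟨(he _).mpr (Submodule.mem_sup_left (ind_mem ⟨b, hb, rfl⟩)), ?_⟩, fun ⟨hs, hc⟩ => ?_⟩,
    fun hmem => ?_, fun g hg => ?_⟩
  · rw [card_image_of_injective _ e.injective, card_ext2, Steiner.card_eq hB hb]
  · rw [card_image_of_injective _ e.injective, card_ext2] at hc
    have hm := hGle ((he _).mp hs)
    have hb6 : b.card = 6 := by omega
    obtain ⟨s, hsb, hs3⟩ := exists_subset_card_eq (show 3 ≤ b.card by omega)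
    obtain ⟨c, ⟨hcB, hsc⟩, -⟩ := hB.2 s hs3
    have hcc := Steiner.card_eq hB hcB
    have hw : ind ((ext2 b).image φ) + ind ((ext2 c).image φ) ∈ perp D :=
      (perp D).add_mem hm (code_le_perp heven (ind_mem ⟨c, hcB, rfl⟩))
    have hsupp : supp (ind ((ext2 b).image φ) + ind ((ext2 c).image φ)) = (symmDiff (ext2 b) (ext2 c)).image φ := by
      rw [show ind ((ext2 b).image φ) + ind ((ext2 c).image φ) = ind ((ext2 b).image φ) - ind ((ext2 c).image φ) from
        funext fun i => by rw [Pi.add_apply, Pi.sub_apply, sub_eq_add_neg, ZMod.neg_eq_self_mod_two],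
        supp_sub, supp_ind, supp_ind, image_symmDiff _ _ φ.injective]
    have hin : inner22 (symmDiff (ext2 b) (ext2 c)) = symmDiff b c := by
      ext y; simp [inner22, ext2, ext1, mem_symmDiff]
    have hbc : (symmDiff b c).card ≤ 6 := by
      have := card_le_card (subset_inter hsb hsc)
      have := card_union_add_card_inter b c
      have h2 : (symmDiff b c).card + (b ∩ c).card = (b ∪ c).card := card_symmDiff_inter b c
      omega
    have hn0 : none ∉ symmDiff (ext2 b) (ext2 c) := by simp [ext2, ext1, mem_symmDiff]
    have hn1 : some none ∉ symmDiff (ext2 b) (ext2 c) := by simp [ext2, ext1, mem_symmDiff]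
    have hcs := card_split (symmDiff (ext2 b) (ext2 c))
    rw [if_neg hn0, if_neg hn1, hin] at hcs
    rcases hclass _ hw (by rw [hsupp, card_image_of_injective _ φ.injective]; omega) with ⟨-, h2⟩ | ⟨-, -, h3⟩
    · rw [hsupp, show ((symmDiff (ext2 b) (ext2 c)).image φ).image φ.symm = symmDiff (ext2 b) (ext2 c) by
        rw [image_image]; simp, hin] at h2
      exact (symmDiff_eq_bot.mp h2) ▸ hcB
    · exfalso
      rw [hsupp, show ((symmDiff (ext2 b) (ext2 c)).image φ).image φ.symm = symmDiff (ext2 b) (ext2 c) by
        rw [image_image]; simp, hin] at h3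
      -- two blocks through the three common points
      have h6 := Steiner.card_eq hB h3
      have := card_le_card (subset_inter hsb hsc)
      have hd : Disjoint (symmDiff b c) s := disjoint_left.mpr fun y hy hys => by
        rw [mem_symmDiff] at hy
        rcases hy with h | h
        · exact h.2 (hsc hys)
        · exact h.2 (hsb hys)
      have hne : symmDiff b c ≠ c := fun e => by
        rw [e] at hd
        obtain ⟨y, hy⟩ := card_pos.mp (show 0 < s.card by omega)
        exact disjoint_left.mp hd (hsc hy) hy
      rcases Steiner.card_inter622 hα hB h3 hcB hne with e0 | e0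
      all_goals
        have hcapc : symmDiff b c ∩ c = c \ b := by ext y; simp [mem_symmDiff]; tauto
        rw [hcapc] at e0
        have := card_sdiff_add_card_inter c b
        rw [inter_comm c b] at this
        have h2 : (symmDiff b c).card + (b ∩ c).card = (b ∪ c).card := card_symmDiff_inter b c
        have := card_union_add_card_inter b c
        omega
  · have h1 : e.permCongr (sw β) ∈ M24 := hmem
    rw [MulAction.mem_stabilizer_set] at h1
    obtain ⟨A, hA⟩ : ∃ A : Finset (Option (Option β)), ind (A.image φ) = x := ⟨(supp x).image φ.symm, by rw [image_preimage, ind_supp]⟩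
    have h2 := ((h1 (A.image e)).mpr ((he A).mpr (hA ▸ hxG)))
    rw [show (e.permCongr (sw β)) • (A.image e) = (A.image (sw β)).image e from by
      show (A.image e).image _ = _
      rw [image_image, image_image]; congr 1; funext y; simp [Equiv.permCongr_apply], he] at h2
    have h3 : ind ((A.image (sw β)).image φ) = x + δ := by
      have := hswap x
      rw [hxp, one_smul] at this
      rw [← this, ← hA]
      funext i
      obtain ⟨y, rfl⟩ := φ.surjective i
      have h4 : (φ.permCongr (sw β)).symm (φ y) = φ ((sw β).symm y) :=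
        (φ.permCongr (sw β)).symm_apply_eq.mpr (by simp [Equiv.permCongr_apply])
      have h5 : y ∈ A.image (sw β) ↔ (sw β).symm y ∈ A := by
        rw [mem_image]
        exact ⟨fun ⟨z, hz, e⟩ => by rw [← e, Equiv.symm_apply_apply]; exact hz, fun hz => ⟨_, hz, Equiv.apply_symm_apply _ _⟩⟩
      simp [ind, h4, φ.injective.mem_finset_image, h5]
    rw [h3] at h2
    exact hδG (by simpa [← add_assoc, char_add_self] using G.add_mem hxG h2)
  · -- automorphisms keep the span and its orthogonal
    set ψ := φ.permCongr g.optionCongr.optionCongr with hψ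
    have hψD : ∀ d ∈ D, d.image ψ ∈ D := by
      rintro _ ⟨b, hb, rfl⟩
      refine ⟨b.image g, (SteinerAut.mem_aut.mp hg b).mpr hb, ?_⟩
      show (ext2 (b.image g)).image φ = _
      rw [ext2_image, image_image, image_image]
      congr 1; funext y; simp [hψ, Equiv.permCongr_apply]
    have hψP : ∀ w ∈ perp D, (fun i => w (ψ.symm i)) ∈ perp D := by
      intro w hw v hv
      show dotForm v _ = 0
      rw [dotForm_apply]
      have hv' : (fun i => v (ψ i)) ∈ code D := by
        have h := code_perm (D := D) ψ.symm (fun d hd => ?_) hv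
        · simpa using h
        · obtain ⟨b, hb, rfl⟩ := hd
          have hg' : g⁻¹ ∈ setSystemAut B := inv_mem hg
          refine ⟨b.image ⇑g⁻¹, (SteinerAut.mem_aut.mp hg' b).mpr hb, ?_⟩
          show (ext2 (b.image ⇑g⁻¹)).image φ = _
          rw [ext2_image, image_image, image_image]
          congr 1; funext y
          refine (ψ.eq_symm_apply).mpr ?_
          rcases y with _ | _ | y <;> simp [hψ, Equiv.permCongr_apply]
      have := dot_perp hv' hw
      rw [← this]
      exact (Fintype.sum_equiv ψ.symm _ _ fun i => by simp)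
    have hψS : ∀ w ∈ code D, (fun i => w (ψ.symm i)) ∈ code D := fun w hw => code_perm ψ hψD hw
    have hψp : ψ.symm p0 = p0 ∧ ψ.symm p1 = p1 := by
      constructor <;> refine ψ.symm_apply_eq.mpr ?_ <;> simp [hψ, p0, p1, Equiv.permCongr_apply]
    rcases hP _ (hψP x hx) with hxψ | hxψ
    · left
      refine mem_M24_of_maps φ e he _ fun w hw => ?_
      rcases (hGmem w).mp hw with h | h
      · exact Submodule.mem_sup_left (hψS w h)
      · have h2 := G.add_mem (Submodule.mem_sup_left (hψS _ h)) hxψ
        convert h2 using 1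
        funext i
        simp only [Pi.add_apply, hψ]
        rw [add_assoc, CharTwo.add_self_eq_zero, add_zero]
    · right
      refine mem_M24_of_maps φ e he _ fun w hw => ?_
      have hcomp : (fun i => w ((φ.permCongr (g.optionCongr.optionCongr * sw β)).symm i)) =
          fun i => (fun j => w ((φ.permCongr (sw β)).symm j)) (ψ.symm i) := by
        funext i
        congr 1
        refine (Equiv.symm_apply_eq _).mpr ?_
        simp [hψ, Equiv.permCongr_apply, Equiv.Perm.mul_apply]
      rw [hcomp, hswap w]
      have hδψ : (fun i => δ (ψ.symm i)) = δ := by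
        funext i
        show (if ψ.symm i ∈ ({p0, p1} : Finset (Fin 24)) then (1 : ZMod 2) else 0) = if i ∈ _ then 1 else 0
        refine if_congr ?_ rfl rfl
        simp only [mem_insert, mem_singleton]
        have a0 : ψ p0 = p0 := ((ψ.symm_apply_eq).mp hψp.1).symm
        have a1 : ψ p1 = p1 := ((ψ.symm_apply_eq).mp hψp.2).symm
        rw [ψ.symm_apply_eq, ψ.symm_apply_eq, a0, a1]
      rcases (hGmem w).mp hw with h | h
      · have := hpar w h
        rw [this, CharTwo.add_self_eq_zero, zero_smul, add_zero]
        exact Submodule.mem_sup_left (hψS w h)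
      · rw [hGpar w hw h, one_smul]
        have h2 := G.add_mem (Submodule.mem_sup_left (hψS _ h)) hxψ
        convert h2 using 1
        funext i
        simp only [Pi.add_apply]
        rw [show δ (ψ.symm i) = δ i from congrFun hδψ i]
        rw [← add_assoc (w (ψ.symm i) + x (ψ.symm i)), add_assoc (w (ψ.symm i)), CharTwo.add_self_eq_zero, add_zero]

end Cfsg.Agent.Spor.SteinerCode
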