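import Cfsg.Agent.Lib.Spor.ThreeTrans
import Cfsg.Prelude.Def_FischerSpaces

/-! Recognizing a conjugacy class of 3-transpositions. -/

set_option autoImplicit false
set_option linter.style.haveILetI false

namespace Cfsg.Agent.Spor.ThreeTrans

variable {G : Type*} [Group G] {D : Set G}

theorem isConj_of_not_commute (h : IsThreeTranspositionSet D) {a b : G} (ha : a ∈ D) (hb : b ∈ D)
    (hab : ¬ Commute a b) : IsConj a b := by
  refine isConj_iff.mpr ⟨a * b, ?_⟩
  rw [mul_inv_rev, inv_eq h ha, inv_eq h hb, braid h ha hb hab]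
  simp [mul_assoc, mul_self_mul h hb, mul_self h ha]

/-- A conjugation-invariant generating set of 3-transpositions with non-commuting chains is one class. -/
theorem isClass_of_chain (h3 : IsThreeTranspositionSet D) (hconj : ∀ g : G, ∀ d ∈ D, g * d * g⁻¹ ∈ D)
    (hgen : Subgroup.closure D = ⊤) (hne : D.Nonempty)
    (hchain : ∀ a ∈ D, ∀ b ∈ D, Commute a b → a = b ∨ ∃ c ∈ D, ¬ Commute a c ∧ ¬ Commute c b) :
    IsThreeTranspositionClass D := by
  obtain ⟨d, hd⟩ := hne
  refine ⟨h3, ⟨d, hd, Set.ext fun b => ⟨fun hb => ?_, fun hb => ?_⟩⟩, hgen⟩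
  · show IsConj d b
    by_cases hc : Commute d b
    · rcases hchain d hd b hb hc with rfl | ⟨c, hc', h1, h2⟩
      · exact IsConj.refl d
      · exact (isConj_of_not_commute h3 hd hc' h1).trans (isConj_of_not_commute h3 hc' hb h2)
    · exact isConj_of_not_commute h3 hd hb hc
  · obtain ⟨g, rfl⟩ := isConj_iff.mp (show IsConj d b from hb)
    exact hconj g d hd

/-- Pulling the class back to the subgroup it generates. -/
theorem closure_preimage (S : Set G) :
    Subgroup.closure {x : ↥(Subgroup.closure S) | (x : G) ∈ S} = ⊤ :=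
  Subgroup.closure_closure_coe_preimage

end Cfsg.Agent.Spor.ThreeTrans
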