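import Mathlib

/-!
Coordinates for the wreath product of the dihedral group of order 8 by a group of order 2:
a homomorphism from the square of the dihedral group and an involution exchanging the factors.
-/

set_option autoImplicit false

namespace Cfsg.Agent.Spor.WreathD8

universe u v

/-- dihedral group of order 8 -/
abbrev D := DihedralGroup 4

/-- base group -/
abbrev J := D × D

open DihedralGroup in
/-- generator `a` -/
def a : D := sr 0

open DihedralGroup in
/-- generator `b` -/
def b : D := sr 1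

open DihedralGroup in
/-- central involution -/
def z : D := r 2

def a0 : J := (a, 1)
def a1 : J := (1, a)
def b0 : J := (b, 1)
def b1 : J := (1, b)
def e : J := (z, z)

/-- membership in the first four-group -/
def InA (p : D) : Prop := p = 1 ∨ p = z ∨ p = a ∨ p = a * z

/-- membership in the second four-group -/
def InB (p : D) : Prop := p = 1 ∨ p = z ∨ p = b ∨ p = b * z

/-- membership in the center -/
def InZ (p : D) : Prop := p = 1 ∨ p = z

instance : DecidablePred InA := fun _ => by unfold InA; infer_instance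
instance : DecidablePred InB := fun _ => by unfold InB; infer_instance
instance : DecidablePred InZ := fun _ => by unfold InZ; infer_instance

/-- the four-group `A` -/
def A : Subgroup D where
  carrier := {p | InA p}
  one_mem' := Or.inl rfl
  mul_mem' := by
    have : ∀ p q : D, InA p → InA q → InA (p * q) := by decide +kernel
    intro p q hp hq
    exact this p q hp hq
  inv_mem' := by
    have : ∀ p : D, InA p → InA p⁻¹ := by decide +kernel
    intro p hp
    exact this p hp

/-- the four-group `B` -/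
def B : Subgroup D where
  carrier := {p | InB p}
  one_mem' := Or.inl rfl
  mul_mem' := by
    have : ∀ p q : D, InB p → InB q → InB (p * q) := by decide +kernel
    intro p q hp hq
    exact this p q hp hq
  inv_mem' := by
    have : ∀ p : D, InB p → InB p⁻¹ := by decide +kernel
    intro p hp
    exact this p hp

/-- the center -/
def Zc : Subgroup D where
  carrier := {p | InZ p}
  one_mem' := Or.inl rfl
  mul_mem' := by
    have : ∀ p q : D, InZ p → InZ q → InZ (p * q) := by decide +kernel
    intro p q hp hq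
    exact this p q hp hq
  inv_mem' := by
    have : ∀ p : D, InZ p → InZ p⁻¹ := by decide +kernel
    intro p hp
    exact this p hp

def V1 : Subgroup J := A.prod A
def V2 : Subgroup J := B.prod B
def W : Subgroup J := Zc.prod Zc

theorem mem_V1 {x : J} : x ∈ V1 ↔ InA x.1 ∧ InA x.2 := Iff.rfl
theorem mem_V2 {x : J} : x ∈ V2 ↔ InB x.1 ∧ InB x.2 := Iff.rfl
theorem mem_W {x : J} : x ∈ W ↔ InZ x.1 ∧ InZ x.2 := Iff.rfl

theorem top_le_of_gens (U : Subgroup J) (h0 : a0 ∈ U) (h1 : a1 ∈ U) (h2 : b0 ∈ U) (h3 : b1 ∈ U) :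
    ∀ x : J, x ∈ U := by
  have key : ∀ p : D, ∃ i : Fin 4, p = (a * b) ^ (i : ℕ) ∨ p = a * (a * b) ^ (i : ℕ) := by
    decide +kernel
  have hl : ∀ p : D, ((p, 1) : J) ∈ U := by
    intro p
    obtain ⟨i, hi | hi⟩ := key p
    · have e : ((p, 1) : J) = (a0 * b0) ^ (i : ℕ) := by simp [hi, a0, b0, Prod.ext_iff]
      rw [e]
      exact U.pow_mem (U.mul_mem h0 h2) _
    · have e : ((p, 1) : J) = a0 * (a0 * b0) ^ (i : ℕ) := by simp [hi, a0, b0, Prod.ext_iff]
      rw [e]
      exact U.mul_mem h0 (U.pow_mem (U.mul_mem h0 h2) _)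
  have hr : ∀ p : D, ((1, p) : J) ∈ U := by
    intro p
    obtain ⟨i, hi | hi⟩ := key p
    · have e : ((1, p) : J) = (a1 * b1) ^ (i : ℕ) := by simp [hi, a1, b1, Prod.ext_iff]
      rw [e]
      exact U.pow_mem (U.mul_mem h1 h3) _
    · have e : ((1, p) : J) = a1 * (a1 * b1) ^ (i : ℕ) := by simp [hi, a1, b1, Prod.ext_iff]
      rw [e]
      exact U.mul_mem h1 (U.pow_mem (U.mul_mem h1 h3) _)
  rintro ⟨p, q⟩
  have e : ((p, q) : J) = (p, 1) * (1, q) := by simp
  rw [e]
  exact U.mul_mem (hl p) (hr q)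

variable {S : Type u} [Group S]

/-- the parametrization by pairs -/
def h (φ : J →* S) (σ : S) : J × Bool → S
  | (x, false) => φ x
  | (x, true) => σ * φ x

/-- multiplication of parameters -/
def mm : J × Bool → J × Bool → J × Bool
  | (x, i), (y, false) => (x * y, i)
  | (x, i), (y, true) => (x.swap * y, !i)

/-- coordinates of a wreath product -/
structure Frame (P : Subgroup S) where
  φ : J →* S
  σ : S
  sq : σ * σ = 1
  swap : ∀ x : J, σ * φ x * σ = φ x.swap
  inj : Function.Injective (h φ σ)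
  range : ∀ g : S, g ∈ P ↔ ∃ p, h φ σ p = g

theorem h_mul {φ : J →* S} {σ : S} (sq : σ * σ = 1) (swap : ∀ x : J, σ * φ x * σ = φ x.swap)
    (p q : J × Bool) : h φ σ p * h φ σ q = h φ σ (mm p q) := by
  have hs : ∀ x : J, φ x * σ = σ * φ x.swap := fun x => by
    rw [← swap x, mul_assoc, ← mul_assoc σ σ, sq, one_mul]
  rcases p with ⟨x, _ | _⟩ <;> rcases q with ⟨y, _ | _⟩
  · show φ x * φ y = φ (x * y)
    rw [map_mul]
  · show φ x * (σ * φ y) = σ * φ (x.swap * y)
    rw [map_mul, ← mul_assoc, hs, mul_assoc]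
  · show σ * φ x * φ y = σ * φ (x * y)
    rw [map_mul, mul_assoc]
  · show σ * φ x * (σ * φ y) = φ (x.swap * y)
    rw [map_mul, ← mul_assoc, swap]

namespace Frame

variable {P : Subgroup S} (F : Frame P)

theorem φ_mem (x : J) : F.φ x ∈ P := (F.range _).2 ⟨(x, false), rfl⟩

theorem σ_mem : F.σ ∈ P := (F.range _).2 ⟨(1, true), by simp [h]⟩

theorem φ_inj : Function.Injective F.φ := fun x y e => by
  have := @F.inj (x, false) (y, false) e
  exact (Prod.ext_iff.1 this).1

theorem σφ_ne (x y : J) : F.σ * F.φ x ≠ F.φ y := fun e => by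
  have := @F.inj (x, true) (y, false) e
  exact Bool.noConfusion (Prod.ext_iff.1 this).2

theorem cases {g : S} (hg : g ∈ P) : (∃ x, g = F.φ x) ∨ ∃ x, g = F.σ * F.φ x := by
  obtain ⟨⟨x, i⟩, rfl⟩ := (F.range g).1 hg
  cases i
  · exact Or.inl ⟨x, rfl⟩
  · exact Or.inr ⟨x, rfl⟩

theorem inv_σ : F.σ⁻¹ = F.σ := inv_eq_of_mul_eq_one_right F.sq

theorem φσ (x : J) : F.φ x * F.σ = F.σ * F.φ x.swap := by
  rw [← F.swap x, mul_assoc, ← mul_assoc F.σ F.σ, F.sq, one_mul]

include F in
theorem card : Nat.card P = 128 := by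
  have e : Nat.card P = Nat.card (J × Bool) :=
    (Nat.card_eq_of_bijective (fun p => (⟨h F.φ F.σ p, (F.range _).2 ⟨p, rfl⟩⟩ : P))
      ⟨fun p q e => F.inj (congrArg Subtype.val e), fun g => by
        obtain ⟨p, hp⟩ := (F.range g.1).1 g.2
        exact ⟨p, Subtype.ext hp⟩⟩).symm
  rw [e, Nat.card_prod, Nat.card_prod, DihedralGroup.nat_card, Nat.card_eq_fintype_card,
    Fintype.card_bool]

/-- transport along an injective homomorphism -/
def map {T : Type v} [Group T] (f : S →* T) (hf : Function.Injective f) : Frame (P.map f) where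
  φ := f.comp F.φ
  σ := f F.σ
  sq := by rw [← map_mul, F.sq, map_one]
  swap x := by simp only [MonoidHom.comp_apply, ← map_mul, F.swap]
  inj p q e := by
    refine F.inj (hf ?_)
    rcases p with ⟨x, _ | _⟩ <;> rcases q with ⟨y, _ | _⟩ <;> simpa [h] using e
  range g := by
    constructor
    · rintro ⟨p, hp, rfl⟩
      obtain ⟨⟨x, i⟩, rfl⟩ := (F.range p).1 hp
      exact ⟨(x, i), by cases i <;> simp [h]⟩
    · rintro ⟨⟨x, i⟩, rfl⟩
      refine ⟨h F.φ F.σ (x, i), (F.range _).2 ⟨_, rfl⟩, ?_⟩
      cases i <;> simp [h]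

/-- transport along an isomorphism of subgroups -/
noncomputable def ofEquiv {T : Type v} [Group T] {Q : Subgroup T} (F : Frame P) (e : Q ≃* P) :
    Frame Q :=
  have F' : Frame (⊤ : Subgroup P) :=
    { φ := F.φ.codRestrict P F.φ_mem
      σ := ⟨F.σ, F.σ_mem⟩
      sq := Subtype.ext F.sq
      swap := fun x => Subtype.ext (F.swap x)
      inj := fun p q e => F.inj (by
        rcases p with ⟨x, _ | _⟩ <;> rcases q with ⟨y, _ | _⟩ <;>
          exact congrArg Subtype.val e)
      range := fun g => by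
        simp only [Subgroup.mem_top, true_iff]
        obtain ⟨⟨x, i⟩, hp⟩ := (F.range g.1).1 g.2
        exact ⟨(x, i), Subtype.ext (by cases i <;> exact hp)⟩ }
  have G := F'.map (Q.subtype.comp e.symm.toMonoidHom) (Q.subtype_injective.comp e.symm.injective)
  have hQ : (⊤ : Subgroup P).map (Q.subtype.comp e.symm.toMonoidHom) = Q := by
    rw [← Subgroup.map_map, Subgroup.map_top_of_surjective e.symm.toMonoidHom e.symm.surjective,
      ← MonoidHom.range_eq_map, Subgroup.range_subtype]
  hQ ▸ G

/-- two framed groups are isomorphic -/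
theorem nonempty_equiv {T : Type v} [Group T] {Q : Subgroup T} (F : Frame P) (G : Frame Q) :
    Nonempty (P ≃* Q) := by
  let fP : J × Bool ≃ P := Equiv.ofBijective
    (fun p => (⟨h F.φ F.σ p, (F.range _).2 ⟨p, rfl⟩⟩ : P))
    ⟨fun p q e => F.inj (congrArg Subtype.val e), fun g => by
      obtain ⟨p, hp⟩ := (F.range g.1).1 g.2
      exact ⟨p, Subtype.ext hp⟩⟩
  let fQ : J × Bool ≃ Q := Equiv.ofBijective
    (fun p => (⟨h G.φ G.σ p, (G.range _).2 ⟨p, rfl⟩⟩ : Q))
    ⟨fun p q e => G.inj (congrArg Subtype.val e), fun g => by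
      obtain ⟨p, hp⟩ := (G.range g.1).1 g.2
      exact ⟨p, Subtype.ext hp⟩⟩
  refine ⟨{ toEquiv := fP.symm.trans fQ, map_mul' := fun g g' => ?_ }⟩
  obtain ⟨p, rfl⟩ := fP.surjective g
  obtain ⟨q, rfl⟩ := fP.surjective g'
  have e : fP p * fP q = fP (mm p q) := Subtype.ext (h_mul F.sq F.swap p q)
  show fQ (fP.symm (fP p * fP q)) = fQ (fP.symm (fP p)) * fQ (fP.symm (fP q))
  rw [e, Equiv.symm_apply_apply, Equiv.symm_apply_apply, Equiv.symm_apply_apply]
  exact (Subtype.ext (h_mul G.sq G.swap p q)).symm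

/-- exchange the generators of both dihedral groups -/
def twD : D →* D where
  toFun
    | .r i => .r (-i)
    | .sr i => .sr (1 - i)
  map_one' := by decide +kernel
  map_mul' := by decide +kernel

def twist : Frame P where
  φ := F.φ.comp (twD.prodMap twD)
  σ := F.σ
  sq := F.sq
  swap x := by
    simp only [MonoidHom.comp_apply, F.swap]
    rfl
  inj p q e := by
    have : ∀ x : J, twD.prodMap twD (twD.prodMap twD x) = x := by decide +kernel
    have hh : h F.φ F.σ (twD.prodMap twD p.1, p.2) = h F.φ F.σ (twD.prodMap twD q.1, q.2) := by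
      rcases p with ⟨x, _ | _⟩ <;> rcases q with ⟨y, _ | _⟩ <;> exact e
    have h2 := Prod.ext_iff.1 (F.inj hh)
    refine Prod.ext ?_ h2.2
    rw [← this p.1, ← this q.1]
    exact congrArg _ h2.1
  range g := by
    have : ∀ x : J, twD.prodMap twD (twD.prodMap twD x) = x := by decide +kernel
    rw [F.range]
    constructor <;> rintro ⟨⟨x, i⟩, rfl⟩
    · refine ⟨(twD.prodMap twD x, i), ?_⟩
      cases i
      · show F.φ (twD.prodMap twD (twD.prodMap twD x)) = F.φ x
        rw [this]
      · show F.σ * F.φ (twD.prodMap twD (twD.prodMap twD x)) = F.σ * F.φ x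
        rw [this]
    · refine ⟨(twD.prodMap twD x, i), ?_⟩
      cases i <;> rfl

end Frame

/-- action of the dihedral group on four points -/
def act : D →* Equiv.Perm (Fin 4) where
  toFun
    | .r i => Equiv.addRight (show Fin 4 from i)
    | .sr i => (Equiv.neg (Fin 4)).trans (Equiv.addRight (-(show Fin 4 from i)))
  map_one' := by decide +kernel
  map_mul' := by decide +kernel

/-- action of the base group on eight points -/
def phi8 : J →* Equiv.Perm (Fin 8) :=
  (finSumFinEquiv : Fin 4 ⊕ Fin 4 ≃ Fin 8).permCongrHom.toMonoidHom.comp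
    ((Equiv.Perm.sumCongrHom (Fin 4) (Fin 4)).comp (act.prodMap act))

/-- the exchange of the halves -/
def sigma8 : Equiv.Perm (Fin 8) :=
  (finSumFinEquiv : Fin 4 ⊕ Fin 4 ≃ Fin 8).permCongr (Equiv.sumComm (Fin 4) (Fin 4))

/-- every Sylow subgroup of the symmetric group of degree 8 is framed -/
theorem exists_frame_sylow (T : Sylow 2 (Equiv.Perm (Fin 8))) :
    Nonempty (Frame (T : Subgroup (Equiv.Perm (Fin 8)))) := by
  haveI : Fact (Nat.Prime 2) := ⟨Nat.prime_two⟩
  have sq : sigma8 * sigma8 = 1 := by decide +kernel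
  have hsw : ∀ x : J, sigma8 * phi8 x * sigma8 = phi8 x.swap := by decide +kernel
  have hact : Function.Injective act := by
    have : ∀ p q : D, act p = act q → p = q := by decide +kernel
    exact fun p q => this p q
  have hphi : Function.Injective phi8 := by
    intro x y e
    have e1 : (Equiv.Perm.sumCongrHom (Fin 4) (Fin 4)) (act x.1, act x.2) =
        (Equiv.Perm.sumCongrHom (Fin 4) (Fin 4)) (act y.1, act y.2) :=
      (finSumFinEquiv : Fin 4 ⊕ Fin 4 ≃ Fin 8).permCongrHom.injective e
    have e2 := Prod.ext_iff.1 (Equiv.Perm.sumCongrHom_injective e1)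
    exact Prod.ext (hact e2.1) (hact e2.2)
  have hne : ∀ x : J, (phi8 x 0).1 < 4 := by decide +kernel
  have hs4 : ∀ y : Fin 8, y.1 < 4 → ¬ (sigma8 y).1 < 4 := by decide +kernel
  let P0 : Subgroup (Equiv.Perm (Fin 8)) :=
    { carrier := Set.range (h phi8 sigma8)
      one_mem' := ⟨(1, false), by simp [h]⟩
      mul_mem' := by
        rintro _ _ ⟨p, rfl⟩ ⟨q, rfl⟩
        exact ⟨_, (h_mul sq hsw p q).symm⟩
      inv_mem' := by
        rintro _ ⟨⟨x, _ | _⟩, rfl⟩
        · exact ⟨(x⁻¹, false), by simp [h]⟩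
        · refine ⟨(x⁻¹.swap, true), eq_inv_of_mul_eq_one_left ?_⟩
          rw [h_mul sq hsw]
          show phi8 ((x⁻¹.swap).swap * x) = 1
          rw [Prod.swap_swap, inv_mul_cancel, map_one] }
  let F0 : Frame P0 :=
    { φ := phi8
      σ := sigma8
      sq := sq
      swap := hsw
      inj := by
        rintro ⟨x, _ | _⟩ ⟨y, _ | _⟩ e
        · exact Prod.ext (hphi e) rfl
        · exfalso
          have e0 : phi8 x 0 = sigma8 (phi8 y 0) := congrFun (congrArg DFunLike.coe e) 0
          exact hs4 _ (hne y) (e0 ▸ hne x)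
        · exfalso
          have e0 : sigma8 (phi8 x 0) = phi8 y 0 := congrFun (congrArg DFunLike.coe e) 0
          exact hs4 _ (hne x) (e0 ▸ hne y)
        · exact Prod.ext (hphi (mul_left_cancel e)) rfl
      range := fun _ => Iff.rfl }
  have hc : Nat.card P0 = 2 ^ (Nat.card (Equiv.Perm (Fin 8))).factorization 2 := by
    rw [F0.card, ← Sylow.card_eq_multiplicity (p := 2) T, Sylow.card_eq_multiplicity,
      Nat.card_eq_fintype_card, Fintype.card_perm, Fintype.card_fin,
      show Nat.factorial 8 = 2 ^ 7 * 315 from rfl, Nat.factorization_mul (by norm_num) (by norm_num),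
      Nat.Prime.factorization_pow Nat.prime_two]
    simp [Nat.factorization_eq_zero_of_not_dvd (show ¬ 2 ∣ 315 by norm_num)]
  obtain ⟨g, hg⟩ := MulAction.exists_smul_eq (Equiv.Perm (Fin 8)) (Sylow.ofCard P0 hc) T
  have hT : P0.map (MulAut.conj g).toMonoidHom = (T : Subgroup (Equiv.Perm (Fin 8))) := by
    rw [← hg]
    rfl
  exact ⟨hT ▸ F0.map _ (MulAut.conj g).injective⟩

end Cfsg.Agent.Spor.WreathD8
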