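import Mathlib
import Cfsg.Prelude.Def_CaseTheorems
import Cfsg.Agent.Lib.Spor.WreathD8

/-!
A proper subgroup isomorphic to the wreath product of the dihedral group of order 8 by a group of
order 2 inside a 2-group of sectional rank at most 4.
-/

set_option autoImplicit false

namespace Cfsg.Agent.Spor.WreathD8

universe u

variable {S : Type u} [Group S]

theorem D.top_le (U : Subgroup D) (ha : a ∈ U) (hb : b ∈ U) : ∀ p, p ∈ U := by
  have key : ∀ p : D, ∃ i : Fin 4, p = (a * b) ^ (i : ℕ) ∨ p = a * (a * b) ^ (i : ℕ) := by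
    decide +kernel
  intro p
  obtain ⟨i, rfl | rfl⟩ := key p
  · exact U.pow_mem (U.mul_mem ha hb) _
  · exact U.mul_mem ha (U.pow_mem (U.mul_mem ha hb) _)

/-- the homomorphism defined by two involutions -/
def dihHom (u v : S) (hu : u * u = 1) (hv : v * v = 1) (h4 : (u * v) ^ 4 = 1) : D →* S where
  toFun
    | .r i => (u * v) ^ i.val
    | .sr i => u * (u * v) ^ i.val
  map_one' := by
    show (u * v) ^ (0 : ZMod 4).val = 1
    simp
  map_mul' := by
    have hp : ∀ i j : ZMod 4, (u * v) ^ (i + j).val = (u * v) ^ i.val * (u * v) ^ j.val := by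
      intro i j
      rw [ZMod.val_add, ← pow_add, ← pow_eq_pow_mod _ h4]
    have hui : u⁻¹ = u := inv_eq_of_mul_eq_one_right hu
    have hvi : v⁻¹ = v := inv_eq_of_mul_eq_one_right hv
    have hconj : ∀ k : ℕ, u * (u * v) ^ k = ((u * v) ^ k)⁻¹ * u := by
      intro k
      induction k with
      | zero => simp
      | succ k ih =>
        calc u * (u * v) ^ (k + 1) = u * (u * v) ^ k * (u * v) := by rw [pow_succ, mul_assoc]
          _ = ((u * v) ^ k)⁻¹ * u * (u * v) := by rw [ih]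
          _ = ((u * v) ^ k)⁻¹ * ((u * u) * v) := by group
          _ = ((u * v) ^ k)⁻¹ * v := by rw [hu, one_mul]
          _ = ((u * v) ^ k)⁻¹ * ((v⁻¹ * u⁻¹) * u) := by rw [hvi]; group
          _ = ((u * v) ^ (k + 1))⁻¹ * u := by rw [pow_succ', mul_inv_rev, mul_inv_rev]; group
    have hsub : ∀ i j : ZMod 4, (u * v) ^ (j - i).val = ((u * v) ^ i.val)⁻¹ * (u * v) ^ j.val := by
      intro i j
      rw [eq_inv_mul_iff_mul_eq, ← hp, add_sub_cancel]
    rintro (i | i) (j | j)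
    · exact hp i j
    · show u * (u * v) ^ (j - i).val = (u * v) ^ i.val * (u * (u * v) ^ j.val)
      rw [hsub, ← mul_assoc, ← mul_assoc]
      congr 1
      have := hconj i.val
      calc u * ((u * v) ^ i.val)⁻¹ = u * (((u * v) ^ i.val)⁻¹ * u) * u⁻¹ := by group
        _ = u * (u * (u * v) ^ i.val) * u := by rw [← this, hui]
        _ = (u * v) ^ i.val * u := by rw [← mul_assoc, hu, one_mul]
    · show u * (u * v) ^ (i + j).val = u * (u * v) ^ i.val * (u * v) ^ j.val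
      rw [hp, mul_assoc]
    · show (u * v) ^ (j - i).val = u * (u * v) ^ i.val * (u * (u * v) ^ j.val)
      rw [hsub, hconj i.val, ← mul_assoc, mul_assoc _ u u, hu, mul_one]

variable {P : Subgroup S}

namespace Frame

variable (F : Frame P)

theorem φ_conj (y x : J) : F.φ y * F.φ x * (F.φ y)⁻¹ = F.φ (y * x * y⁻¹) := by simp

theorem σ_conj (x : J) : F.σ * F.φ x * F.σ⁻¹ = F.φ x.swap := by rw [F.inv_σ, F.swap]

/-- the image of a subgroup of the base group -/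
def img (U : Subgroup J) : Subgroup S := U.map F.φ

theorem mem_img {U : Subgroup J} {x : J} : F.φ x ∈ F.img U ↔ x ∈ U :=
  Subgroup.mem_map_iff_mem F.φ_inj

theorem img_le (U : Subgroup J) : F.img U ≤ P := by
  rintro _ ⟨x, _, rfl⟩
  exact F.φ_mem x

theorem img_twist_V1 : F.twist.img V1 = F.img V2 := by
  have h12 : ∀ x : J, x ∈ V1 → twD.prodMap twD x ∈ V2 := by
    simp only [mem_V1, mem_V2]
    decide +kernel
  have h21 : ∀ x : J, x ∈ V2 → twD.prodMap twD x ∈ V1 ∧ twD.prodMap twD (twD.prodMap twD x) = x := by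
    simp only [mem_V1, mem_V2]
    decide +kernel
  ext g
  constructor
  · rintro ⟨x, hx, rfl⟩
    exact ⟨_, h12 x hx, rfl⟩
  · rintro ⟨x, hx, rfl⟩
    exact ⟨_, (h21 x hx).1, congrArg F.φ (h21 x hx).2⟩

/-- an element centralizing the base modulo `W` centralizes `W` -/
theorem fix_W {g : S} (hg : ∀ x ∈ [a0, a1, b0, b1], ∃ w ∈ W, g * F.φ x * g⁻¹ = F.φ (w * x)) :
    ∀ w ∈ W, g * F.φ w * g⁻¹ = F.φ w := by
  obtain ⟨w0, hw0, e0⟩ := hg a0 (by simp)
  obtain ⟨w1, hw1, e1⟩ := hg a1 (by simp)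
  obtain ⟨w2, hw2, e2⟩ := hg b0 (by simp)
  obtain ⟨w3, hw3, e3⟩ := hg b1 (by simp)
  let c : S →* S := (MulAut.conj g).toMonoidHom
  have hsq : ∀ p : J, ∀ q : J, p ∈ W → q ∈ W →
      (p * a0 * (q * b0)) ^ 2 = (z, 1) ∧ (p * a1 * (q * b1)) ^ 2 = (1, z) := by
    simp only [mem_W]
    decide +kernel
  let U : Subgroup J := MonoidHom.eqLocus (c.comp F.φ) F.φ
  have hz0 : ((z, 1) : J) ∈ U := by
    show c (F.φ (z, 1)) = F.φ (z, 1)
    have e : ((z, 1) : J) = (a0 * b0) ^ 2 := by decide +kernel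
    nth_rewrite 1 [e]
    rw [map_pow, map_pow, map_mul, map_mul, show c (F.φ a0) = F.φ (w0 * a0) from e0,
      show c (F.φ b0) = F.φ (w2 * b0) from e2, ← map_mul, ← map_pow, (hsq w0 w2 hw0 hw2).1]
  have hz1 : ((1, z) : J) ∈ U := by
    show c (F.φ (1, z)) = F.φ (1, z)
    have e : ((1, z) : J) = (a1 * b1) ^ 2 := by decide +kernel
    nth_rewrite 1 [e]
    rw [map_pow, map_pow, map_mul, map_mul, show c (F.φ a1) = F.φ (w1 * a1) from e1,
      show c (F.φ b1) = F.φ (w3 * b1) from e3, ← map_mul, ← map_pow, (hsq w1 w3 hw1 hw3).2]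
  have hW : ∀ w : J, w ∈ W → w = 1 ∨ w = (z, 1) ∨ w = (1, z) ∨ w = (z, 1) * (1, z) := by
    simp only [mem_W]
    decide +kernel
  intro w hw
  rcases hW w hw with rfl | rfl | rfl | rfl
  · simp
  · exact hz0
  · exact hz1
  · exact U.mul_mem hz0 hz1

/-- no element outside centralizes the Frattini quotient of the base group -/
theorem rank_five (hr : Cfsg.SectionalPRankLE 2 4 S) {g : S} (hgP : g ∉ P)
    (hgg : g * g ∈ F.img W) (hg : ∀ x ∈ [a0, a1, b0, b1], ∃ w ∈ W, g * F.φ x * g⁻¹ = F.φ (w * x)) :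
    False := by
  classical
  set C := Subgroup.centralizer (F.img W : Set S) with hC
  have hWc : ∀ w : J, w ∈ W → ∀ x : J, w * x = x * w := by
    simp only [mem_W]
    decide +kernel
  have hJC : ∀ x, F.φ x ∈ C := by
    intro x
    rw [hC, Subgroup.mem_centralizer_iff]
    rintro _ ⟨w, hw, rfl⟩
    rw [← map_mul, ← map_mul, hWc w hw x]
  have hgC : g ∈ C := by
    rw [hC, Subgroup.mem_centralizer_iff]
    rintro _ ⟨w, hw, rfl⟩
    exact (mul_inv_eq_iff_eq_mul.1 (F.fix_W hg w hw)).symm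
  set K := (F.img W).subgroupOf C
  haveI : K.Normal := ⟨fun k hk c => by
    have e : (c : S) * k * (c : S)⁻¹ = k := by
      rw [← Subgroup.mem_centralizer_iff.1 c.2 k hk, mul_inv_cancel_right]
    show (c : S) * k * (c : S)⁻¹ ∈ F.img W
    rw [e]
    exact hk⟩
  let π := QuotientGroup.mk' K
  let ψ : J →* C ⧸ K := π.comp (F.φ.codRestrict C hJC)
  let γ := π ⟨g, hgC⟩
  have hker : ψ.ker = W := by
    ext x
    rw [MonoidHom.mem_ker]
    show π ⟨F.φ x, hJC x⟩ = 1 ↔ _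
    rw [QuotientGroup.mk'_apply, QuotientGroup.eq_one_iff]
    exact F.mem_img
  have hcomm : ∀ x y : J, ψ x * ψ y = ψ y * ψ x := by
    intro x y
    rw [← mul_inv_eq_one, ← map_mul, ← map_mul, ← map_inv, ← map_mul, ← MonoidHom.mem_ker, hker]
    have : ∀ p q : D, InZ (p * q * (q * p)⁻¹) := by decide +kernel
    exact ⟨this x.1 y.1, this x.2 y.2⟩
  have hsq : ∀ x : J, ψ x * ψ x = 1 := by
    intro x
    rw [← map_mul, ← MonoidHom.mem_ker, hker]
    have : ∀ p : D, InZ (p * p) := by decide +kernel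
    exact ⟨this x.1, this x.2⟩
  have hγx : ∀ x, γ * ψ x = ψ x * γ := by
    let U : Subgroup J := (Subgroup.centralizer ({γ} : Set (C ⧸ K))).comap ψ
    have hU : ∀ x ∈ [a0, a1, b0, b1], x ∈ U := by
      intro x hx
      obtain ⟨w, hw, e⟩ := hg x hx
      show ψ x ∈ Subgroup.centralizer _
      rw [Subgroup.mem_centralizer_singleton_iff, eq_comm, ← mul_inv_eq_iff_eq_mul]
      show π ⟨g, hgC⟩ * π ⟨F.φ x, hJC x⟩ * (π ⟨g, hgC⟩)⁻¹ = ψ x
      rw [← map_mul, ← map_inv, ← map_mul]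
      have e' : (⟨g, hgC⟩ : C) * ⟨F.φ x, hJC x⟩ * (⟨g, hgC⟩ : C)⁻¹ = ⟨F.φ (w * x), hJC _⟩ :=
        Subtype.ext e
      rw [e']
      show ψ (w * x) = ψ x
      rw [map_mul, MonoidHom.mem_ker.1 (hker.symm ▸ hw), one_mul]
    intro x
    exact (Subgroup.mem_centralizer_singleton_iff.1 (top_le_of_gens U (hU a0 (by simp))
      (hU a1 (by simp)) (hU b0 (by simp)) (hU b1 (by simp)) x)).symm
  have hγ : γ * γ = 1 := by
    show π ⟨g, hgC⟩ * π ⟨g, hgC⟩ = 1
    rw [← map_mul, QuotientGroup.mk'_apply, QuotientGroup.eq_one_iff]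
    exact hgg
  let A0 : Subgroup (C ⧸ K) :=
    { carrier := {q | ∃ x, q = ψ x ∨ q = γ * ψ x}
      one_mem' := ⟨1, Or.inl (by simp)⟩
      mul_mem' := by
        rintro p q ⟨x, rfl | rfl⟩ ⟨y, rfl | rfl⟩
        · exact ⟨x * y, Or.inl (by rw [map_mul])⟩
        · exact ⟨x * y, Or.inr (by rw [map_mul, ← mul_assoc, ← hγx, mul_assoc])⟩
        · exact ⟨x * y, Or.inr (by rw [map_mul, mul_assoc])⟩
        · refine ⟨x * y, Or.inl ?_⟩
          rw [map_mul, hγx x, mul_assoc (ψ x) γ, ← mul_assoc γ γ, hγ, one_mul]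
      inv_mem' := by
        rintro p ⟨x, rfl | rfl⟩
        · exact ⟨x, Or.inl (inv_eq_of_mul_eq_one_right (hsq x))⟩
        · refine ⟨x, Or.inr (inv_eq_of_mul_eq_one_right ?_)⟩
          rw [hγx x, mul_assoc (ψ x) γ, ← hγx x, ← mul_assoc γ γ, hγ, one_mul, hsq] }
  have hAc : IsMulCommutative A0 := by
    refine ⟨⟨?_⟩⟩
    rintro ⟨p, x, rfl | rfl⟩ ⟨q, y, rfl | rfl⟩ <;> apply Subtype.ext
    · exact hcomm x y
    · show ψ x * (γ * ψ y) = γ * ψ y * ψ x
      rw [← mul_assoc, ← hγx, mul_assoc, hcomm, mul_assoc]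
    · show γ * ψ x * ψ y = ψ y * (γ * ψ x)
      rw [mul_assoc, hcomm, ← mul_assoc, hγx, mul_assoc]
    · show γ * ψ x * (γ * ψ y) = γ * ψ y * (γ * ψ x)
      rw [hγx x, hγx y, mul_assoc (ψ x) γ, ← mul_assoc γ (ψ y), hγx y, mul_assoc (ψ y) γ γ, hγ,
        mul_one, mul_assoc (ψ y) γ (ψ x * γ), ← mul_assoc γ (ψ x) γ, hγx x, mul_assoc (ψ x) γ γ,
        hγ, mul_one, hcomm]
  have hA2 : ∀ p ∈ A0, p ^ 2 = 1 := by
    rintro p ⟨x, rfl | rfl⟩
    · rw [pow_two, hsq]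
    · rw [pow_two]
      nth_rewrite 1 [hγx x]
      rw [mul_assoc (ψ x) γ, ← mul_assoc γ γ, hγ, one_mul, hsq]
  have hle := hr C K A0 hAc hA2
  have hlt : ψ.range < A0 := by
    refine lt_of_le_of_ne ?_ fun e => ?_
    · rintro _ ⟨x, rfl⟩
      exact ⟨x, Or.inl rfl⟩
    · have hm : γ ∈ A0 := ⟨1, Or.inr (by rw [map_one, mul_one])⟩
      rw [← e] at hm
      obtain ⟨x, hx⟩ := hm
      have hx' : QuotientGroup.mk (s := K) ⟨F.φ x, hJC x⟩ = QuotientGroup.mk ⟨g, hgC⟩ := hx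
      rw [QuotientGroup.eq] at hx'
      have h1 : (F.φ x)⁻¹ * g ∈ P := F.img_le W hx'
      exact hgP (by simpa using P.mul_mem (F.φ_mem x) h1)
  have hc : Nat.card ψ.range = 16 := by
    have e1 := Subgroup.card_mul_index ψ.ker
    rw [Subgroup.index_ker, hker] at e1
    have hW4 : Nat.card W = 4 := by
      rw [show W = Zc.prod Zc from rfl, Nat.card_congr (Subgroup.prodEquiv Zc Zc).toEquiv,
        Nat.card_prod]
      have : Nat.card Zc = 2 := by
        show Nat.card ({p : D | InZ p} : Set D) = 2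
        rw [Nat.card_eq_fintype_card]
        decide +kernel
      rw [this]
    have hJ : Nat.card J = 64 := by rw [Nat.card_prod, DihedralGroup.nat_card]
    rw [hW4, hJ] at e1
    omega
  haveI : Finite A0 := by
    refine Finite.of_surjective (fun p : J × Bool =>
      (⟨if p.2 then γ * ψ p.1 else ψ p.1, p.1, by cases p.2 <;> simp⟩ : A0)) ?_
    rintro ⟨q, x, rfl | rfl⟩
    · exact ⟨(x, false), rfl⟩
    · exact ⟨(x, true), rfl⟩
  have hlt2 : Nat.card ψ.range < Nat.card A0 :=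
    Set.Finite.card_lt_card (Set.toFinite (A0 : Set (C ⧸ K))) (SetLike.coe_ssubset_coe.2 hlt)
  norm_num at hle
  omega

theorem normal_V1 : P ≤ Subgroup.normalizer (F.img V1 : Set S) := by
  have hn : ∀ y x : J, x ∈ V1 → y * x * y⁻¹ ∈ V1 := by
    simp only [mem_V1]
    have : ∀ p q : D, InA q → InA (p * q * p⁻¹) := by decide +kernel
    exact fun y x hx => ⟨this _ _ hx.1, this _ _ hx.2⟩
  intro g hg
  rw [Subgroup.mem_normalizer_iff]
  have key : ∀ g ∈ P, ∀ v ∈ F.img V1, g * v * g⁻¹ ∈ F.img V1 := by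
    rintro g hg _ ⟨x, hx, rfl⟩
    rcases F.cases hg with ⟨y, rfl⟩ | ⟨y, rfl⟩
    · rw [F.φ_conj]
      exact F.mem_img.2 (hn y x hx)
    · rw [show F.σ * F.φ y * F.φ x * (F.σ * F.φ y)⁻¹ =
        F.σ * (F.φ y * F.φ x * (F.φ y)⁻¹) * F.σ⁻¹ by group, F.φ_conj, F.σ_conj]
      exact F.mem_img.2 ⟨(hn y x hx).2, (hn y x hx).1⟩
  intro v
  refine ⟨key g hg v, fun hv => ?_⟩
  simpa [mul_assoc] using key g⁻¹ (P.inv_mem hg) _ hv

theorem comm_V1 : ∀ x ∈ F.img V1, ∀ y ∈ F.img V1, x * y = y * x ∧ x * x = 1 := by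
  rintro _ ⟨x, hx, rfl⟩ _ ⟨y, hy, rfl⟩
  have : ∀ p q : D, InA p → InA q → p * q = q * p ∧ p * p = 1 := by decide +kernel
  exact ⟨by rw [← map_mul, ← map_mul,
      Prod.ext (this _ _ hx.1 hy.1).1 (this _ _ hx.2 hy.2).1 (x := x * y) (y := y * x)],
    by rw [← map_mul, Prod.ext (this _ _ hx.1 hy.1).2 (this _ _ hx.2 hy.2).2 (x := x * x) (y := 1),
      map_one]⟩

theorem card_V1 : Nat.card (F.img V1) = 16 := by
  rw [img, Subgroup.card_map_of_injective F.φ_inj, show V1 = A.prod A from rfl,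
    Nat.card_congr (Subgroup.prodEquiv A A).toEquiv, Nat.card_prod]
  have : Nat.card A = 4 := by
    show Nat.card ({p : D | InA p} : Set D) = 4
    rw [Nat.card_eq_fintype_card]
    decide +kernel
  rw [this]

theorem card_V2 : Nat.card (F.img V2) = 16 := by rw [← F.img_twist_V1, F.twist.card_V1]

/-- the normal elementary abelian subgroups of order 16 -/
theorem classify (V : Subgroup S) (hle : V ≤ P) (hn : ∀ g ∈ P, ∀ v ∈ V, g * v * g⁻¹ ∈ V)
    (hc : ∀ x ∈ V, ∀ y ∈ V, x * y = y * x ∧ x * x = 1) (h16 : Nat.card V = 16) :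
    V = F.img V1 ∨ V = F.img V2 := by
  have hout : ∀ x : J, x.swap * x = 1 →
      (a0.swap * x * a0⁻¹).swap * (b0.swap * x * b0⁻¹) ≠
        (b0.swap * x * b0⁻¹).swap * (a0.swap * x * a0⁻¹) := by decide +kernel
  have hin : ∀ x : J, x * x = 1 → x.swap * x = x * x.swap → x ∈ V1 ∨ x ∈ V2 := by
    simp only [mem_V1, mem_V2]
    decide +kernel
  have hmem : ∀ v ∈ V, v ∈ F.img V1 ∨ v ∈ F.img V2 := by
    intro v hv
    rcases F.cases (hle hv) with ⟨x, rfl⟩ | ⟨x, rfl⟩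
    · have h2 := hn F.σ F.σ_mem _ hv
      rw [F.σ_conj] at h2
      have e1 := (hc _ hv _ hv).2
      have e2 := (hc _ h2 _ hv).1
      rw [← map_mul, ← map_mul] at e2
      rw [← map_mul, ← map_one F.φ] at e1
      exact (hin x (F.φ_inj e1) (F.φ_inj e2)).imp F.mem_img.2 F.mem_img.2
    · exfalso
      have hconj : ∀ y : J, F.φ y * (F.σ * F.φ x) * (F.φ y)⁻¹ =
          F.σ * F.φ (y.swap * x * y⁻¹) := fun y => by
        rw [← mul_assoc, F.φσ, map_mul, map_mul, map_inv]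
        group
      have e1 := (hc _ hv _ hv).2
      rw [show F.σ * F.φ x * (F.σ * F.φ x) = F.σ * F.φ x * F.σ * F.φ x by group, F.swap,
        ← map_mul, ← map_one F.φ] at e1
      have ha := hn _ (F.φ_mem a0) _ hv
      have hb := hn _ (F.φ_mem b0) _ hv
      rw [hconj] at ha hb
      have e2 := (hc _ ha _ hb).1
      have hp : ∀ p q : J, F.σ * F.φ p * (F.σ * F.φ q) = F.φ (p.swap * q) := fun p q => by
        rw [map_mul, ← mul_assoc, F.swap]
      rw [hp, hp] at e2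
      exact hout x (F.φ_inj e1) (F.φ_inj e2)
  have hu : V ≤ F.img V1 ∨ V ≤ F.img V2 := by
    by_contra! hcon
    obtain ⟨p, hp, hp'⟩ := SetLike.not_le_iff_exists.1 hcon.1
    obtain ⟨q, hq, hq'⟩ := SetLike.not_le_iff_exists.1 hcon.2
    have hp2 := (hmem p hp).resolve_left hp'
    have hq1 := (hmem q hq).resolve_right hq'
    rcases hmem _ (V.mul_mem hp hq) with hpq | hpq
    · exact hp' (((F.img V1).mul_mem_cancel_right hq1).1 hpq)
    · exact hq' (((F.img V2).mul_mem_cancel_left hp2).1 hpq)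
  haveI : Finite (F.img V1) := Nat.finite_of_card_ne_zero (by rw [F.card_V1]; norm_num)
  haveI : Finite (F.img V2) := Nat.finite_of_card_ne_zero (by rw [F.card_V2]; norm_num)
  rcases hu with hu | hu
  · exact Or.inl (Subgroup.eq_of_le_of_card_ge hu (by rw [h16, F.card_V1]))
  · exact Or.inr (Subgroup.eq_of_le_of_card_ge hu (by rw [h16, F.card_V2]))

theorem V1_ne_V2 : F.img V1 ≠ F.img V2 := fun e => by
  have h : F.φ a0 ∈ F.img V1 := F.mem_img.2 (by rw [mem_V1]; decide +kernel)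
  rw [e, F.mem_img, mem_V2] at h
  revert h
  decide +kernel

theorem conj_V1 {n : S} (hn : n ∈ Subgroup.normalizer (P : Set S)) :
    (F.img V1).map (MulAut.conj n).toMonoidHom = F.img V1 ∨
      (F.img V1).map (MulAut.conj n).toMonoidHom = F.img V2 := by
  refine F.classify _ ?_ ?_ ?_ ?_
  · rintro _ ⟨v, hv, rfl⟩
    exact (Subgroup.mem_normalizer_iff.1 hn v).1 (F.img_le V1 hv)
  · rintro g hg _ ⟨v, hv, rfl⟩
    have hg' : n⁻¹ * g * n ∈ P := by
      rw [Subgroup.mem_normalizer_iff.1 hn]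
      simpa [mul_assoc] using hg
    exact ⟨_, (Subgroup.mem_normalizer_iff.1 (F.normal_V1 hg') v).1 hv, by simp [mul_assoc]⟩
  · rintro _ ⟨x, hx, rfl⟩ _ ⟨y, hy, rfl⟩
    rw [← map_mul, ← map_mul, ← map_mul, (F.comm_V1 x hx y hy).1, (F.comm_V1 x hx y hy).2, map_one]
    exact ⟨rfl, rfl⟩
  · rw [Subgroup.card_map_of_injective (MulAut.conj n).injective, F.card_V1]

theorem conj_V2 {n : S} (hn : n ∈ Subgroup.normalizer (P : Set S)) :
    (F.img V2).map (MulAut.conj n).toMonoidHom = F.img V1 ∨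
      (F.img V2).map (MulAut.conj n).toMonoidHom = F.img V2 := by
  have := F.twist.conj_V1 hn
  rw [F.img_twist_V1] at this
  have e : F.twist.img V2 = F.img V1 := by
    have h21 : ∀ x : J, x ∈ V2 → twD.prodMap twD x ∈ V1 := by
      simp only [mem_V1, mem_V2]
      decide +kernel
    have h12 : ∀ x : J, x ∈ V1 → twD.prodMap twD x ∈ V2 ∧
        twD.prodMap twD (twD.prodMap twD x) = x := by
      simp only [mem_V1, mem_V2]
      decide +kernel
    ext g
    constructor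
    · rintro ⟨x, hx, rfl⟩
      exact ⟨_, h21 x hx, rfl⟩
    · rintro ⟨x, hx, rfl⟩
      exact ⟨_, (h12 x hx).1, congrArg F.φ (h12 x hx).2⟩
  rw [e] at this
  exact this.symm

/-- conjugation inside the base group -/
theorem exists_nu {n : S} (hn : n ∈ Subgroup.normalizer (P : Set S)) :
    ∃ ν : J →* J, Function.Bijective ν ∧ ∀ x, n * F.φ x * n⁻¹ = F.φ (ν x) := by
  let c : J →* S := (MulAut.conj n).toMonoidHom.comp F.φ
  let U : Subgroup J := F.φ.range.comap c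
  have h1 : ∀ x ∈ V1, x ∈ U := fun x hx => by
    have hm : c x ∈ (F.img V1).map (MulAut.conj n).toMonoidHom := ⟨_, F.mem_img.2 hx, rfl⟩
    rcases F.conj_V1 hn with e | e <;> rw [e] at hm <;>
      exact MonoidHom.mem_range.2 ⟨_, hm.choose_spec.2⟩
  have h2 : ∀ x ∈ V2, x ∈ U := fun x hx => by
    have hm : c x ∈ (F.img V2).map (MulAut.conj n).toMonoidHom := ⟨_, F.mem_img.2 hx, rfl⟩
    rcases F.conj_V2 hn with e | e <;> rw [e] at hm <;>
      exact MonoidHom.mem_range.2 ⟨_, hm.choose_spec.2⟩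
  have hall := top_le_of_gens U (h1 a0 (by rw [mem_V1]; decide +kernel))
    (h1 a1 (by rw [mem_V1]; decide +kernel)) (h2 b0 (by rw [mem_V2]; decide +kernel))
    (h2 b1 (by rw [mem_V2]; decide +kernel))
  have hall' : ∀ x, ∃ y, F.φ y = c x := hall
  choose f hf using hall'
  refine ⟨⟨⟨f, F.φ_inj (by rw [hf, map_one, map_one])⟩, fun x y => F.φ_inj (by
    rw [hf, map_mul, map_mul, hf, hf])⟩, ?_, fun x => (hf x).symm⟩
  have hi : Function.Injective f := fun x y e => by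
    have e' : c x = c y := by rw [← hf, ← hf, e]
    exact F.φ_inj ((MulAut.conj n).injective e')
  exact Finite.injective_iff_bijective.1 hi

theorem nu_noncentral {ν : J →* J} (hν : Function.Bijective ν) : ν a0 ∉ W ∧ ν b0 ∉ W := by
  have hWc : ∀ w : J, w ∈ W → ∀ x : J, w * x = x * w := by
    simp only [mem_W]
    decide +kernel
  have key : ∀ x y : J, x * y ≠ y * x → ν x ∉ W := fun x y hxy hw => hxy (hν.1 (by
    rw [map_mul, map_mul, hWc _ hw (ν y)]))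
  exact ⟨key a0 b0 (by decide +kernel), key b0 a0 (by decide +kernel)⟩

theorem nu_comm {ν : J →* J} (hν : Function.Bijective ν) (y y' : J) :
    ν a0 * y * (ν a0)⁻¹ * y⁻¹ = 1 ∨ ν a0 * y' * (ν a0)⁻¹ * y'⁻¹ = 1 ∨
      ν a0 * y * (ν a0)⁻¹ * y⁻¹ = ν a0 * y' * (ν a0)⁻¹ * y'⁻¹ := by
  have key : ∀ x : J, a0 * x * a0⁻¹ * x⁻¹ = 1 ∨ a0 * x * a0⁻¹ * x⁻¹ = ((z, 1) : J) := by
    decide +kernel
  obtain ⟨x, rfl⟩ := hν.2 y
  obtain ⟨x', rfl⟩ := hν.2 y'
  simp only [← map_inv, ← map_mul]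
  rcases key x with e | e <;> rcases key x' with e' | e' <;> rw [e, e'] <;> simp [map_one]

/-- shape of `n σ n⁻¹` -/
theorem sigma_image {n : S} (hn : n ∈ Subgroup.normalizer (P : Set S)) :
    ∃ q : D, n * F.σ * n⁻¹ = F.σ * F.φ (q, q⁻¹) := by
  obtain ⟨ν, hν, hνx⟩ := F.exists_nu hn
  rcases F.cases ((Subgroup.mem_normalizer_iff.1 hn _).1 F.σ_mem) with ⟨x, hx⟩ | ⟨⟨q, q'⟩, hx⟩
  · exfalso
    obtain ⟨y, rfl⟩ := hν.2 x
    rw [← hνx] at hx
    exact F.σφ_ne 1 y (by rw [map_one, mul_one]; exact mul_left_cancel (mul_right_cancel hx))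
  · refine ⟨q, ?_⟩
    have e1 : F.σ * F.φ (q, q') * (F.σ * F.φ (q, q')) = 1 := by
      rw [← hx, show n * F.σ * n⁻¹ * (n * F.σ * n⁻¹) = n * (F.σ * F.σ) * n⁻¹ by group, F.sq]
      group
    rw [← mul_assoc, F.swap, ← map_mul, ← map_one F.φ] at e1
    have e2 : q' * q = 1 := (Prod.ext_iff.1 (F.φ_inj e1)).1
    rw [hx, eq_inv_of_mul_eq_one_left e2]

variable [Finite S]

/-- the normalizer of `V1` -/
theorem normalizer_V1 (h2 : IsPGroup 2 S) (hr : Cfsg.SectionalPRankLE 2 4 S) :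
    Subgroup.normalizer (F.img V1 : Set S) = P := by
  haveI : Fact (Nat.Prime 2) := ⟨Nat.prime_two⟩
  refine le_antisymm ?_ F.normal_V1
  by_contra hle
  set N := Subgroup.normalizer (F.img V1 : Set S)
  set P' := P.subgroupOf N
  have hP' : P' < ⊤ := lt_top_iff_ne_top.2 fun e => hle (Subgroup.subgroupOf_eq_top.1 e)
  haveI := (h2.to_subgroup N).isNilpotent
  obtain ⟨m, hm, hmP⟩ := SetLike.exists_of_lt (normalizerCondition_of_isNilpotent (G := N) P' hP')
  have hmn : (m : S) ∈ Subgroup.normalizer (P : Set S) := by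
    rw [Subgroup.mem_normalizer_iff]
    intro g
    constructor
    · intro hg
      exact (Subgroup.mem_normalizer_iff.1 hm ⟨g, F.normal_V1 hg⟩).1 hg
    · intro hg
      have hgN : g ∈ N := by
        have := N.mul_mem (N.mul_mem (N.inv_mem m.2) (F.normal_V1 hg)) m.2
        simpa [mul_assoc] using this
      exact (Subgroup.mem_normalizer_iff.1 hm ⟨g, hgN⟩).2 hg
  let Good : S → Prop := fun n =>
    n ∈ Subgroup.normalizer (P : Set S) ∧ n ∈ N ∧ n ∉ P ∧ n * n ∈ P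
  obtain ⟨n, hgood⟩ : ∃ n, Good n := by
    classical
    have hex : ∃ i, (m : S) ^ (2 ^ i) ∈ P := by
      obtain ⟨k, hk⟩ := h2 (m : S)
      exact ⟨k, hk ▸ P.one_mem⟩
    have hi0 : Nat.find hex ≠ 0 := fun e => hmP (by
      have := Nat.find_spec hex
      rwa [e, pow_zero, pow_one] at this)
    refine ⟨(m : S) ^ (2 ^ (Nat.find hex - 1)), Subgroup.pow_mem _ hmn _,
      Subgroup.pow_mem _ m.2 _, Nat.find_min hex (by omega), ?_⟩
    rw [← pow_add, ← two_mul, ← pow_succ', show Nat.find hex - 1 + 1 = Nat.find hex by omega]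
    exact Nat.find_spec hex
  have good_mul : ∀ k ∈ P, ∀ n, Good n → Good (k * n) := by
    rintro k hk n ⟨h1, h1', h1'', h1'''⟩
    refine ⟨Subgroup.mul_mem _ (Subgroup.le_normalizer hk) h1, N.mul_mem (F.normal_V1 hk) h1',
      fun h => h1'' ((P.mul_mem_cancel_left hk).1 h), ?_⟩
    rw [show k * n * (k * n) = k * (n * k * n⁻¹) * (n * n) by group]
    exact P.mul_mem (P.mul_mem hk ((Subgroup.mem_normalizer_iff.1 h1 k).1 hk)) h1'''
  -- the image of `a0`
  have hV1 : ∀ n, Good n → ∀ ν : J →* J, (∀ x, n * F.φ x * n⁻¹ = F.φ (ν x)) → ν a0 ∈ V1 :=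
    fun n hn ν hνx => F.mem_img.1 (hνx a0 ▸ (Subgroup.mem_normalizer_iff.1 hn.2.1 _).1
      (F.mem_img.2 (by rw [mem_V1]; decide +kernel)))
  have htype : ∀ w : J, w ∈ V1 → w ∉ W →
      (w * b0 * w⁻¹ * b0⁻¹ = 1 ∨ w * b1 * w⁻¹ * b1⁻¹ = 1 ∨
        w * b0 * w⁻¹ * b0⁻¹ = w * b1 * w⁻¹ * b1⁻¹) →
      ((w.1 = a ∨ w.1 = a * z) ∧ InZ w.2) ∨ ((w.2 = a ∨ w.2 = a * z) ∧ InZ w.1) := by
    simp only [mem_V1, mem_W]
    decide +kernel
  obtain ⟨ν, hν, hνx⟩ := F.exists_nu hgood.1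
  obtain ⟨n₁, hg₁, w, hw₁, hw₂, he₁⟩ : ∃ n₁, Good n₁ ∧ ∃ w : J, (w.1 = a ∨ w.1 = a * z) ∧ InZ w.2 ∧
      n₁ * F.φ a0 * n₁⁻¹ = F.φ w := by
    rcases htype _ (hV1 n hgood ν hνx) (nu_noncentral hν).1 (nu_comm hν b0 b1) with h | h
    · exact ⟨n, hgood, _, h.1, h.2, hνx a0⟩
    · refine ⟨F.σ * n, good_mul _ F.σ_mem n hgood, (ν a0).swap, h.1, h.2, ?_⟩
      rw [show F.σ * n * F.φ a0 * (F.σ * n)⁻¹ = F.σ * (n * F.φ a0 * n⁻¹) * F.σ⁻¹ by group, hνx,
        F.σ_conj]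
  obtain ⟨n₂, hg₂, c, hc, he₂⟩ : ∃ n₂, Good n₂ ∧ ∃ c : D, InZ c ∧
      n₂ * F.φ a0 * n₂⁻¹ = F.φ (a, c) := by
    obtain ⟨w1, w2⟩ := w
    rcases hw₁ with h | h <;> dsimp only at h hw₂ <;> subst h
    · exact ⟨n₁, hg₁, w2, hw₂, he₁⟩
    · refine ⟨F.φ b0 * n₁, good_mul _ (F.φ_mem b0) n₁ hg₁, w2, hw₂, ?_⟩
      have : ∀ q : D, b0 * ((a * z, q) : J) * b0⁻¹ = (a, q) := by decide +kernel
      rw [show F.φ b0 * n₁ * F.φ a0 * (F.φ b0 * n₁)⁻¹ =
        F.φ b0 * (n₁ * F.φ a0 * n₁⁻¹) * (F.φ b0)⁻¹ by group, he₁, F.φ_conj, this]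
  obtain ⟨n₃, hg₃, he₃, hs₃⟩ : ∃ n₃, Good n₃ ∧ n₃ * F.φ a0 * n₃⁻¹ = F.φ (a, c) ∧
      n₃ * F.σ * n₃⁻¹ = F.σ := by
    obtain ⟨q, hq⟩ := F.sigma_image hg₂.1
    refine ⟨F.φ (1, q⁻¹) * n₂, good_mul _ (F.φ_mem _) n₂ hg₂, ?_, ?_⟩
    · have : ∀ q c : D, InZ c → ((1, q⁻¹) : J) * (a, c) * ((1, q⁻¹) : J)⁻¹ = (a, c) := by
        decide +kernel
      rw [show F.φ (1, q⁻¹) * n₂ * F.φ a0 * (F.φ (1, q⁻¹) * n₂)⁻¹ =
        F.φ (1, q⁻¹) * (n₂ * F.φ a0 * n₂⁻¹) * (F.φ (1, q⁻¹))⁻¹ by group, he₂, F.φ_conj, this q c hc]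
    · rw [show F.φ (1, q⁻¹) * n₂ * F.σ * (F.φ (1, q⁻¹) * n₂)⁻¹ =
        F.φ (1, q⁻¹) * (n₂ * F.σ * n₂⁻¹) * (F.φ (1, q⁻¹))⁻¹ by group, hq, ← mul_assoc, F.φσ,
        mul_assoc, mul_assoc, ← map_inv, ← map_mul, ← map_mul]
      simp [Prod.mk_one_one]
  obtain ⟨ν, hν, hνx⟩ := F.exists_nu hg₃.1
  have hswap : ∀ x, ν x.swap = (ν x).swap := fun x => F.φ_inj (by
    rw [← F.swap (ν x), ← hνx, ← hνx, ← F.swap x,
      show n₃ * (F.σ * F.φ x * F.σ) * n₃⁻¹ =
        (n₃ * F.σ * n₃⁻¹) * (n₃ * F.φ x * n₃⁻¹) * (n₃ * F.σ * n₃⁻¹) by group, hs₃])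
  have hna0 : ν a0 = (a, c) := F.φ_inj ((hνx a0).symm.trans he₃)
  have hna1 : ν a1 = (c, a) := by
    rw [show a1 = a0.swap from rfl, hswap, hna0]
    rfl
  have hV2' : ν b0 ∈ V2 := by
    have hm : F.φ (ν b0) ∈ (F.img V2).map (MulAut.conj n₃).toMonoidHom := by
      rw [← hνx]
      exact ⟨_, F.mem_img.2 (by rw [mem_V2]; decide +kernel), rfl⟩
    rcases F.conj_V2 hg₃.1 with e | e
    · exfalso
      have h1 : (F.img V1).map (MulAut.conj n₃).toMonoidHom = F.img V1 := by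
        refine Subgroup.eq_of_le_of_card_ge ?_ (by
          rw [Subgroup.card_map_of_injective (MulAut.conj n₃).injective])
        rintro _ ⟨v, hv, rfl⟩
        exact (Subgroup.mem_normalizer_iff.1 hg₃.2.1 v).1 hv
      exact F.V1_ne_V2 (Subgroup.map_injective (MulAut.conj n₃).injective (h1.trans e.symm))
    · rw [e] at hm
      exact F.mem_img.1 hm
  have hnb0 : ν b0 * b0⁻¹ ∈ W := by
    have key : ∀ u : J, u ∈ V2 → u ∉ W → u * (1, a) = (1, a) * u ∨ u * (z, a) = (z, a) * u →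
        u * b0⁻¹ ∈ W := by
      simp only [mem_V2, mem_W]
      decide +kernel
    refine key _ hV2' (nu_noncentral hν).2 ?_
    have hu : ν b0 * (c, a) = (c, a) * ν b0 := by
      rw [← hna1, ← map_mul, ← map_mul]
      congr 1
    rcases hc with rfl | rfl
    exacts [Or.inl hu, Or.inr hu]
  have hnb1 : ν b1 * b1⁻¹ ∈ W := by
    rw [show b1 = b0.swap from rfl, hswap]
    exact ⟨hnb0.2, hnb0.1⟩
  have hgens : ∀ x ∈ [a0, a1, b0, b1], ∃ w ∈ W, n₃ * F.φ x * n₃⁻¹ = F.φ (w * x) := by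
    intro x hx
    refine ⟨ν x * x⁻¹, ?_, by rw [hνx, inv_mul_cancel_right]⟩
    have key : ∀ c : D, InZ c → ((a, c) : J) * a0⁻¹ ∈ W ∧ ((c, a) : J) * a1⁻¹ ∈ W := by
      simp only [mem_W]
      decide +kernel
    simp only [List.mem_cons, List.not_mem_nil, or_false] at hx
    rcases hx with rfl | rfl | rfl | rfl
    · rw [hna0]; exact (key c hc).1
    · rw [hna1]; exact (key c hc).2
    · exact hnb0
    · exact hnb1
  have hfix := F.fix_W hgens
  have hsqfix : ∀ x, n₃ * n₃ * F.φ x * (n₃ * n₃)⁻¹ = F.φ x := by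
    let U : Subgroup J := MonoidHom.eqLocus ((MulAut.conj (n₃ * n₃)).toMonoidHom.comp F.φ) F.φ
    have hU : ∀ x ∈ [a0, a1, b0, b1], x ∈ U := by
      intro x hx
      obtain ⟨w, hw, e⟩ := hgens x hx
      show n₃ * n₃ * F.φ x * (n₃ * n₃)⁻¹ = F.φ x
      have hww : ∀ w : J, w ∈ W → w * w = 1 := by
        simp only [mem_W]
        decide +kernel
      rw [show n₃ * n₃ * F.φ x * (n₃ * n₃)⁻¹ = n₃ * (n₃ * F.φ x * n₃⁻¹) * n₃⁻¹ by group, e,
        map_mul, show n₃ * (F.φ w * F.φ x) * n₃⁻¹ =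
          (n₃ * F.φ w * n₃⁻¹) * (n₃ * F.φ x * n₃⁻¹) by group, hfix w hw, e, ← map_mul,
        ← mul_assoc, hww w hw, one_mul]
    exact fun x => top_le_of_gens U (hU a0 (by simp)) (hU a1 (by simp)) (hU b0 (by simp))
      (hU b1 (by simp)) x
  refine F.rank_five hr hg₃.2.2.1 ?_ hgens
  rcases F.cases hg₃.2.2.2 with ⟨d, hd⟩ | ⟨d, hd⟩
  · rw [hd]
    refine F.mem_img.2 ?_
    have hcen : ∀ x, d * x * d⁻¹ = x := fun x => F.φ_inj (by
      rw [← F.φ_conj, ← hd, hsqfix])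
    have key : ∀ d : J, d * a0 * d⁻¹ = a0 → d * a1 * d⁻¹ = a1 → d * b0 * d⁻¹ = b0 →
        d * b1 * d⁻¹ = b1 → d ∈ W := by
      simp only [mem_W]
      decide +kernel
    exact key d (hcen _) (hcen _) (hcen _) (hcen _)
  · exfalso
    have e := hsqfix a0
    rw [hd, show F.σ * F.φ d * F.φ a0 * (F.σ * F.φ d)⁻¹ =
      F.σ * (F.φ d * F.φ a0 * (F.φ d)⁻¹) * F.σ⁻¹ by group, F.φ_conj, F.σ_conj] at e
    have key : ∀ d : J, (d * a0 * d⁻¹).swap ≠ a0 := by decide +kernel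
    exact key d (F.φ_inj e)

theorem normalizer_V2 (h2 : IsPGroup 2 S) (hr : Cfsg.SectionalPRankLE 2 4 S) :
    Subgroup.normalizer (F.img V2 : Set S) = P := by
  rw [← F.img_twist_V1]
  exact F.twist.normalizer_V1 h2 hr

theorem center_eq (h2 : IsPGroup 2 S) (hr : Cfsg.SectionalPRankLE 2 4 S) :
    Subgroup.center S = (Subgroup.center P).map P.subtype ∧
      (∀ g, g ∈ Subgroup.center S ↔ g = 1 ∨ g = F.φ e) := by
  haveI : Fact (Nat.Prime 2) := ⟨Nat.prime_two⟩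
  have hcenP : ∀ g ∈ P, (∀ h ∈ P, g * h = h * g) → g = 1 ∨ g = F.φ e := by
    intro g hg hc
    rcases F.cases hg with ⟨x, rfl⟩ | ⟨x, rfl⟩
    · have key : ∀ x : J, x.swap = x → x * a0 = a0 * x → x * b0 = b0 * x → x = 1 ∨ x = e := by
        decide +kernel
      have e1 : x.swap = x := F.φ_inj (by
        rw [← F.σ_conj, ← hc _ F.σ_mem, mul_inv_cancel_right])
      have e2 : ∀ y, x * y = y * x := fun y => F.φ_inj (by
        rw [map_mul, map_mul, hc _ (F.φ_mem y)])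
      rcases key x e1 (e2 a0) (e2 b0) with rfl | rfl
      · exact Or.inl (map_one _)
      · exact Or.inr rfl
    · exfalso
      have key : ∀ x : J, x * a0 ≠ a1 * x := by decide +kernel
      have e' := hc _ (F.φ_mem a0)
      rw [mul_assoc, ← map_mul, ← mul_assoc (F.φ a0), F.φσ, mul_assoc, ← map_mul] at e'
      exact key x (F.φ_inj (mul_left_cancel e'))
  have hle : ∀ g ∈ Subgroup.center S, g = 1 ∨ g = F.φ e := by
    intro g hg
    rw [Subgroup.mem_center_iff] at hg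
    refine hcenP g ?_ fun h _ => (hg h).symm
    rw [← F.normalizer_V1 h2 hr, Subgroup.mem_normalizer_iff]
    intro v
    rw [← hg v, mul_inv_cancel_right]
  haveI : Nontrivial S := ⟨⟨F.φ a0, 1, fun h => by
    rw [← map_one F.φ] at h
    exact absurd (F.φ_inj h) (by decide +kernel)⟩⟩
  haveI := h2.center_nontrivial
  obtain ⟨⟨g, hg⟩, hg1⟩ := exists_ne (1 : Subgroup.center S)
  have he : F.φ e ∈ Subgroup.center S := by
    rcases hle g hg with rfl | rfl
    · exact absurd (Subtype.ext rfl) hg1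
    · exact hg
  have hiff : ∀ g, g ∈ Subgroup.center S ↔ g = 1 ∨ g = F.φ e := fun g =>
    ⟨hle g, fun h => by rcases h with rfl | rfl; exacts [one_mem _, he]⟩
  refine ⟨?_, hiff⟩
  ext g
  constructor
  · intro hg
    have hgP : g ∈ P := by
      rcases hle g hg with rfl | rfl
      · exact P.one_mem
      · exact F.φ_mem e
    refine ⟨⟨g, hgP⟩, ?_, rfl⟩
    rw [SetLike.mem_coe, Subgroup.mem_center_iff]
    exact fun h => Subtype.ext (Subgroup.mem_center_iff.1 hg h)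
  · rintro ⟨⟨g, hgP⟩, hg, rfl⟩
    rw [SetLike.mem_coe, Subgroup.mem_center_iff] at hg
    exact (hiff g).2 (hcenP g hgP fun h hh => (congrArg Subtype.val (hg ⟨h, hh⟩)).symm)

theorem outer_V1 (h2 : IsPGroup 2 S) (hr : Cfsg.SectionalPRankLE 2 4 S) {n : S}
    (hn : n ∈ Subgroup.normalizer (P : Set S)) (hnP : n ∉ P) :
    (F.img V1).map (MulAut.conj n).toMonoidHom = F.img V2 := by
  refine (F.conj_V1 hn).resolve_left fun e => hnP ?_
  rw [← F.normalizer_V1 h2 hr, Subgroup.mem_normalizer_iff]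
  intro v
  constructor
  · intro hv
    rw [← e]
    exact ⟨v, hv, rfl⟩
  · intro hv
    rw [← e] at hv
    obtain ⟨v', hv', e'⟩ := hv
    rwa [← (MulAut.conj n).injective e']

include F in
theorem outer_mul (h2 : IsPGroup 2 S) (hr : Cfsg.SectionalPRankLE 2 4 S) {n m : S}
    (hn : n ∈ Subgroup.normalizer (P : Set S)) (hnP : n ∉ P)
    (hm : m ∈ Subgroup.normalizer (P : Set S)) (hmP : m ∉ P) : n⁻¹ * m ∈ P := by
  by_contra h
  have e1 := F.outer_V1 h2 hr (Subgroup.mul_mem _ (Subgroup.inv_mem _ hn) hm) h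
  have e2 := F.outer_V1 h2 hr hm hmP
  have e3 := F.outer_V1 h2 hr hn hnP
  have hmap : ((F.img V1).map (MulAut.conj (n⁻¹ * m)).toMonoidHom).map (MulAut.conj n).toMonoidHom =
      (F.img V1).map (MulAut.conj m).toMonoidHom := by
    rw [Subgroup.map_map]
    congr 1
    ext x
    simp [mul_assoc]
  rw [e1, e2] at hmap
  exact F.V1_ne_V2 (Subgroup.map_injective (MulAut.conj n).injective (e3.trans hmap.symm))

end Frame

end Cfsg.Agent.Spor.WreathD8
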