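import Mathlib
import Cfsg.Agent.Lib.Spor.WreathD8Rank

/-!
The normalizer of a wreath product of the dihedral group of order 8 by a group of order 2 modulo
the center.
-/

set_option autoImplicit false

namespace Cfsg.Agent.Spor.WreathD8

universe u

variable {S : Type u} [Group S] [Finite S] {P : Subgroup S}

namespace Frame

variable (F : Frame P)

def aa : J := (a, a)

theorem exists_outer (h2 : IsPGroup 2 S) (hr : Cfsg.SectionalPRankLE 2 4 S) (hP : P ≠ ⊤) :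
    ∃ n : S, n ∈ Subgroup.normalizer (P : Set S) ∧ n ∉ P ∧ n * F.σ * n⁻¹ = F.σ ∧
      (n * n = 1 ∨ n * n = F.φ e) ∧
      (n * F.φ a0 * n⁻¹ = F.φ b1 ∨ n * F.φ a0 * n⁻¹ = F.φ (e * b1)) := by
  haveI : Fact (Nat.Prime 2) := ⟨Nat.prime_two⟩
  haveI := h2.isNilpotent
  obtain ⟨n, hn, hnP⟩ := SetLike.exists_of_lt
    (normalizerCondition_of_isNilpotent (G := S) P (lt_top_iff_ne_top.2 hP))
  have hmulN : ∀ k ∈ P, ∀ n, n ∈ Subgroup.normalizer (P : Set S) → n ∉ P →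
      k * n ∈ Subgroup.normalizer (P : Set S) ∧ k * n ∉ P := fun k hk n hn hnP =>
    ⟨Subgroup.mul_mem _ (Subgroup.le_normalizer hk) hn, fun h => hnP ((P.mul_mem_cancel_left hk).1 h)⟩
  have htype : ∀ w : J, w ∈ V2 → w ∉ W →
      (w * a0 * w⁻¹ * a0⁻¹ = 1 ∨ w * a1 * w⁻¹ * a1⁻¹ = 1 ∨
        w * a0 * w⁻¹ * a0⁻¹ = w * a1 * w⁻¹ * a1⁻¹) →
      ((w.2 = b ∨ w.2 = b * z) ∧ InZ w.1) ∨ ((w.1 = b ∨ w.1 = b * z) ∧ InZ w.2) := by
    simp only [mem_V2, mem_W]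
    decide +kernel
  have hnu : ∀ n, n ∈ Subgroup.normalizer (P : Set S) → n ∉ P → ∀ ν : J →* J,
      (∀ x, n * F.φ x * n⁻¹ = F.φ (ν x)) → ν a0 ∈ V2 := by
    intro n hn hnP ν hνx
    refine F.mem_img.1 ?_
    rw [← F.outer_V1 h2 hr hn hnP, ← hνx]
    exact ⟨_, F.mem_img.2 (by rw [mem_V1]; decide +kernel), rfl⟩
  obtain ⟨ν, hν, hνx⟩ := F.exists_nu hn
  obtain ⟨n₁, hn₁, hP₁, w, hw₂, hw₁, he₁⟩ : ∃ n₁, n₁ ∈ Subgroup.normalizer (P : Set S) ∧ n₁ ∉ P ∧
      ∃ w : J, (w.2 = b ∨ w.2 = b * z) ∧ InZ w.1 ∧ n₁ * F.φ a0 * n₁⁻¹ = F.φ w := by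
    rcases htype _ (hnu n hn hnP ν hνx) (nu_noncentral hν).1 (nu_comm hν a0 a1) with h | h
    · exact ⟨n, hn, hnP, _, h.1, h.2, hνx a0⟩
    · refine ⟨F.σ * n, (hmulN _ F.σ_mem n hn hnP).1, (hmulN _ F.σ_mem n hn hnP).2, (ν a0).swap,
        h.1, h.2, ?_⟩
      rw [show F.σ * n * F.φ a0 * (F.σ * n)⁻¹ = F.σ * (n * F.φ a0 * n⁻¹) * F.σ⁻¹ by group, hνx,
        F.σ_conj]
  obtain ⟨n₂, hn₂, hP₂, w₂, hw, he₂⟩ : ∃ n₂, n₂ ∈ Subgroup.normalizer (P : Set S) ∧ n₂ ∉ P ∧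
      ∃ w : J, (w = b1 ∨ w = e * b1) ∧ n₂ * F.φ a0 * n₂⁻¹ = F.φ w := by
    have key : ∀ w : J, (w.2 = b ∨ w.2 = b * z) → InZ w.1 →
        (w = b1 ∨ w = e * b1) ∨ (a1 * w * a1⁻¹ = b1 ∨ a1 * w * a1⁻¹ = e * b1) := by decide +kernel
    rcases key w hw₂ hw₁ with h | h
    · exact ⟨n₁, hn₁, hP₁, w, h, he₁⟩
    · refine ⟨F.φ a1 * n₁, (hmulN _ (F.φ_mem _) n₁ hn₁ hP₁).1, (hmulN _ (F.φ_mem _) n₁ hn₁ hP₁).2,
        _, h, ?_⟩
      rw [show F.φ a1 * n₁ * F.φ a0 * (F.φ a1 * n₁)⁻¹ =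
        F.φ a1 * (n₁ * F.φ a0 * n₁⁻¹) * (F.φ a1)⁻¹ by group, he₁, F.φ_conj]
  obtain ⟨n₃, hn₃, hP₃, he₃, hs₃⟩ : ∃ n₃, n₃ ∈ Subgroup.normalizer (P : Set S) ∧ n₃ ∉ P ∧
      n₃ * F.φ a0 * n₃⁻¹ = F.φ w₂ ∧ n₃ * F.σ * n₃⁻¹ = F.σ := by
    obtain ⟨q, hq⟩ := F.sigma_image hn₂
    refine ⟨F.φ (q, 1) * n₂, (hmulN _ (F.φ_mem _) n₂ hn₂ hP₂).1,
      (hmulN _ (F.φ_mem _) n₂ hn₂ hP₂).2, ?_, ?_⟩
    · have k1 : ∀ q : D, ((q, 1) : J) * b1 * ((q, 1) : J)⁻¹ = b1 := by decide +kernel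
      have k2 : ∀ q : D, ((q, 1) : J) * (e * b1) * ((q, 1) : J)⁻¹ = e * b1 := by decide +kernel
      rw [show F.φ (q, 1) * n₂ * F.φ a0 * (F.φ (q, 1) * n₂)⁻¹ =
        F.φ (q, 1) * (n₂ * F.φ a0 * n₂⁻¹) * (F.φ (q, 1))⁻¹ by group, he₂, F.φ_conj]
      rcases hw with rfl | rfl
      · rw [k1]
      · rw [k2]
    · rw [show F.φ (q, 1) * n₂ * F.σ * (F.φ (q, 1) * n₂)⁻¹ =
        F.φ (q, 1) * (n₂ * F.σ * n₂⁻¹) * (F.φ (q, 1))⁻¹ by group, hq, ← mul_assoc, F.φσ,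
        mul_assoc, mul_assoc, ← map_inv, ← map_mul, ← map_mul]
      simp [Prod.mk_one_one]
  obtain ⟨ν, hν, hνx⟩ := F.exists_nu hn₃
  have hswap : ∀ x, ν x.swap = (ν x).swap := fun x => F.φ_inj (by
    rw [← F.swap (ν x), ← hνx, ← hνx, ← F.swap x,
      show n₃ * (F.σ * F.φ x * F.σ) * n₃⁻¹ =
        (n₃ * F.σ * n₃⁻¹) * (n₃ * F.φ x * n₃⁻¹) * (n₃ * F.σ * n₃⁻¹) by group, hs₃])
  have hna0 : ν a0 = w₂ := F.φ_inj ((hνx a0).symm.trans he₃)
  have haa : ν aa = (b, b) := by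
    rw [show aa = a0 * a0.swap by decide +kernel, map_mul, hswap, hna0]
    rcases hw with rfl | rfl <;> decide +kernel
  have hnn : n₃ * n₃ ∈ P := by
    have h' := F.outer_mul h2 hr (Subgroup.inv_mem _ hn₃) (fun h => hP₃ (inv_mem_iff.1 h)) hn₃ hP₃
    rwa [inv_inv] at h'
  obtain ⟨p, hp, hpp⟩ : ∃ p : D, n₃ * n₃ = F.φ (p, p) ∧
      (p = 1 ∨ p = z ∨ (b * p * a = 1 ∨ b * p * a = z)) := by
    rcases F.cases hnn with ⟨⟨p, q⟩, hd⟩ | ⟨d, hd⟩
    · have hc : F.σ * (n₃ * n₃) * F.σ⁻¹ = n₃ * n₃ := by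
        have e1 : F.σ * n₃ = n₃ * F.σ := (mul_inv_eq_iff_eq_mul.1 hs₃).symm
        rw [← mul_assoc, e1, mul_assoc n₃, e1, mul_assoc, mul_assoc, mul_inv_cancel, mul_one]
      rw [hd, F.σ_conj] at hc
      have hqp : q = p := (Prod.ext_iff.1 (F.φ_inj hc)).1
      refine ⟨p, by rw [hd, hqp], ?_⟩
      subst hqp
      have hfix : ν ((q, q) : J) = (q, q) := F.φ_inj (by
        rw [← hνx, ← hd]
        group)
      have hbb : ν ((b, b) : J) = (q * a * q⁻¹, q * a * q⁻¹) := F.φ_inj (by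
        rw [← haa, ← hνx, ← hνx, show n₃ * (n₃ * F.φ aa * n₃⁻¹) * n₃⁻¹ =
          (n₃ * n₃) * F.φ aa * (n₃ * n₃)⁻¹ by group, hd, F.φ_conj]
        rfl)
      have key : ∀ p : D, ∃ i : Fin 4, p = (a * b) ^ (i : ℕ) ∨ p = a * (a * b) ^ (i : ℕ) := by
        decide +kernel
      have k1 : ∀ p : D, ∀ i : Fin 4, p = (a * b) ^ (i : ℕ) → p = 1 ∨ p = z ∨
          (b * p * a = 1 ∨ b * p * a = z) := by decide +kernel
      have k2 : ∀ p : D, ∀ i : Fin 4, p = a * (a * b) ^ (i : ℕ) →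
          b * (b * (p * a * p⁻¹)) ^ (i : ℕ) ≠ p := by decide +kernel
      obtain ⟨i, hi | hi⟩ := key q
      · exact k1 q i hi
      · exfalso
        have e1 : ((q, q) : J) = aa * (aa * (b, b)) ^ (i : ℕ) := by
          nth_rewrite 1 [hi]
          nth_rewrite 1 [hi]
          simp [aa, Prod.ext_iff]
        have e2 := hfix
        nth_rewrite 1 [e1] at e2
        rw [map_mul, map_pow, map_mul, haa, hbb] at e2
        exact k2 q i hi (by simpa [Prod.ext_iff] using e2)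
    · exfalso
      have e0 : n₃ * n₃ * F.φ a0 * (n₃ * n₃)⁻¹ = F.φ (ν w₂) := by
        rw [show n₃ * n₃ * F.φ a0 * (n₃ * n₃)⁻¹ = n₃ * (n₃ * F.φ a0 * n₃⁻¹) * n₃⁻¹ by group, he₃,
          hνx]
      rw [hd, show F.σ * F.φ d * F.φ a0 * (F.σ * F.φ d)⁻¹ =
        F.σ * (F.φ d * F.φ a0 * (F.φ d)⁻¹) * F.σ⁻¹ by group, F.φ_conj, F.σ_conj] at e0
      have hv : (d * a0 * d⁻¹).swap = ν w₂ := F.φ_inj e0
      have hcm : ν w₂ * w₂ = w₂ * ν w₂ := by
        have c0 : a0 * w₂ = w₂ * a0 := by rcases hw with rfl | rfl <;> decide +kernel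
        have := congrArg ν c0
        rw [map_mul, map_mul, hna0] at this
        exact this.symm
      have k1 : ∀ d : J, (d * a0 * d⁻¹).swap * b1 ≠ b1 * (d * a0 * d⁻¹).swap := by decide +kernel
      have k2 : ∀ d : J, (d * a0 * d⁻¹).swap * (e * b1) ≠ (e * b1) * (d * a0 * d⁻¹).swap := by
        decide +kernel
      rw [← hv] at hcm
      rcases hw with rfl | rfl
      · exact k1 d hcm
      · exact k2 d hcm
  have hw' : n₃ * F.φ a0 * n₃⁻¹ = F.φ b1 ∨ n₃ * F.φ a0 * n₃⁻¹ = F.φ (e * b1) := by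
    rcases hw with rfl | rfl
    exacts [Or.inl he₃, Or.inr he₃]
  rcases hpp with rfl | rfl | hpp
  · exact ⟨n₃, hn₃, hP₃, hs₃, Or.inl (by rw [hp, Prod.mk_one_one, map_one]), hw'⟩
  · exact ⟨n₃, hn₃, hP₃, hs₃, Or.inr hp, hw'⟩
  · refine ⟨n₃ * F.φ aa, Subgroup.mul_mem _ hn₃ (Subgroup.le_normalizer (F.φ_mem _)),
      fun h => hP₃ ((P.mul_mem_cancel_right (F.φ_mem _)).1 h), ?_, ?_, ?_⟩
    · rw [show n₃ * F.φ aa * F.σ * (n₃ * F.φ aa)⁻¹ =
        n₃ * (F.φ aa * F.σ * (F.φ aa)⁻¹) * n₃⁻¹ by group, F.φσ,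
        show aa.swap = aa from rfl, mul_inv_cancel_right, hs₃]
    · have e1 : n₃ * F.φ aa * (n₃ * F.φ aa) = F.φ ((b, b) * (p, p) * aa) := by
        rw [map_mul, map_mul, ← haa, ← hνx, ← hp]
        group
      rw [e1]
      rcases hpp with h | h
      · left
        rw [show ((b, b) * (p, p) * aa : J) = 1 from Prod.ext h h, map_one]
      · right
        rw [show ((b, b) * (p, p) * aa : J) = e from Prod.ext h h]
    · have e1 : aa * a0 * aa⁻¹ = a0 := by decide +kernel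
      rw [show n₃ * F.φ aa * F.φ a0 * (n₃ * F.φ aa)⁻¹ =
        n₃ * (F.φ aa * F.φ a0 * (F.φ aa)⁻¹) * n₃⁻¹ by group, F.φ_conj, e1]
      exact hw'

include F in
theorem quotient_equiv (h2 : IsPGroup 2 S) (hr : Cfsg.SectionalPRankLE 2 4 S) (hP : P ≠ ⊤) :
    P.relIndex (Subgroup.normalizer (P : Set S)) = 2 ∧
      ∀ [((Subgroup.center S).subgroupOf (Subgroup.normalizer (P : Set S))).Normal],
        Nonempty ((↥(Subgroup.normalizer (P : Set S)) ⧸
          (Subgroup.center S).subgroupOf (Subgroup.normalizer (P : Set S))) ≃* P) := by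
  obtain ⟨n, hn, hnP, hsn, hnn, hna⟩ := F.exists_outer h2 hr hP
  set N := Subgroup.normalizer (P : Set S) with hN
  have hidx : P.relIndex N = 2 := by
    refine Subgroup.index_eq_two_iff.2 ⟨⟨n, hn⟩, fun g => ?_⟩
    simp only [Subgroup.mem_subgroupOf, Subgroup.coe_mul]
    have hnnP : n * n ∈ P := by
      rcases hnn with h | h <;> rw [h]
      · exact P.one_mem
      · exact F.φ_mem _
    by_cases hg : (g : S) ∈ P
    · exact Or.inr ⟨hg, fun h => hnP ((P.mul_mem_cancel_left hg).1 h)⟩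
    · refine Or.inl ⟨?_, hg⟩
      have h' := F.outer_mul h2 hr (Subgroup.inv_mem _ g.2) (fun h => hg (inv_mem_iff.1 h)) hn hnP
      rwa [inv_inv] at h'
  refine ⟨hidx, ?_⟩
  intro _
  obtain ⟨hc, hciff⟩ := F.center_eq h2 hr
  set Z := (Subgroup.center S).subgroupOf N
  let π := QuotientGroup.mk' Z
  have hPN : P ≤ N := Subgroup.le_normalizer
  let ι : P →* N := Subgroup.inclusion hPN
  let κ : J →* N ⧸ Z := π.comp ((F.φ.codRestrict N fun x => hPN (F.φ_mem x)))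
  let s : N ⧸ Z := π ⟨F.σ, hPN F.σ_mem⟩
  let ν : N ⧸ Z := π ⟨n, hn⟩
  have hκe : κ e = 1 := (QuotientGroup.eq_one_iff _).2 ((hciff _).2 (Or.inr rfl))
  have hlift : ∀ (g : S) (hg : g ∈ N) (x : J), g = F.φ x → π ⟨g, hg⟩ = κ x := fun g hg x h => by
    subst h
    rfl
  have hνν : ν * ν = 1 := by
    refine (map_mul π _ _).symm.trans ?_
    rcases hnn with h | h
    · exact (congrArg π (Subtype.ext h : (⟨n, hn⟩ * ⟨n, hn⟩ : N) = 1)).trans (map_one π)
    · exact (hlift (n * n) (N.mul_mem hn hn) e h).trans hκe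
  have hνi : ν⁻¹ = ν := inv_eq_of_mul_eq_one_right hνν
  have hss : s * s = 1 := (map_mul π _ _).symm.trans
    ((congrArg π (Subtype.ext F.sq : (⟨F.σ, hPN F.σ_mem⟩ * ⟨F.σ, hPN F.σ_mem⟩ : N) = 1)).trans
      (map_one π))
  have hsi : s⁻¹ = s := inv_eq_of_mul_eq_one_right hss
  have hsκ : ∀ x, s * κ x * s = κ x.swap := fun x => by
    show π _ * π _ * π _ = _
    rw [← map_mul, ← map_mul]
    exact hlift _ _ _ (F.swap x)
  have hsν : ν * s = s * ν := by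
    have e1 : n * F.σ = F.σ * n := mul_inv_eq_iff_eq_mul.1 hsn
    exact ((map_mul π _ _).symm.trans (congrArg π (Subtype.ext e1 :
      (⟨n, hn⟩ * ⟨F.σ, hPN F.σ_mem⟩ : N) = ⟨F.σ, hPN F.σ_mem⟩ * ⟨n, hn⟩))).trans (map_mul π _ _)
  have hνa : ν * κ a0 * ν = κ b1 := by
    nth_rewrite 2 [← hνi]
    show π _ * π _ * (π _)⁻¹ = _
    rw [← map_inv, ← map_mul, ← map_mul]
    rcases hna with h | h
    · exact hlift _ _ _ h
    · refine (hlift _ _ _ h).trans ?_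
      rw [map_mul, hκe, one_mul]
  have hνb : ν * κ b1 * ν = κ a0 := by
    rw [← hνa, ← mul_assoc, ← mul_assoc, hνν, one_mul, mul_assoc, hνν, mul_one]
  have hν_swap : ∀ x, ν * (s * κ x * s) * ν = s * (ν * κ x * ν) * s := fun x => by
    rw [← mul_assoc, ← mul_assoc, hsν, ← mul_assoc, ← mul_assoc, mul_assoc _ s ν, ← hsν, ← mul_assoc]
  have hνaa : ν * κ aa * ν = κ (b, b) := by
    have e1 : aa = a0 * a0.swap := by decide +kernel
    have e2 : ((b, b) : J) = b1 * b1.swap := by decide +kernel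
    rw [e1, e2, map_mul, map_mul, ← hsκ a0, ← hsκ b1, ← hνa]
    calc ν * (κ a0 * (s * κ a0 * s)) * ν
        = (ν * κ a0 * ν⁻¹) * (ν * (s * κ a0 * s) * ν) := by group
      _ = (ν * κ a0 * ν) * (s * (ν * κ a0 * ν) * s) := by rw [hνi, hν_swap]
  set y := s * κ aa with hy
  set A' := κ a0 with hA
  have hA2 : A' * A' = 1 := by
    rw [hA, ← map_mul, show (a0 * a0 : J) = 1 by decide +kernel, map_one]
  have hy2 : y * y = 1 := by
    rw [hy, ← mul_assoc, hsκ, ← map_mul, show (aa.swap * aa : J) = 1 by decide +kernel, map_one]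
  have hyν2 : y * ν * (y * ν) = κ (a * b, a * b) := by
    calc y * ν * (y * ν) = s * κ aa * (ν * s) * κ aa * ν := by rw [hy]; group
      _ = (s * κ aa * s) * (ν * κ aa * ν) := by rw [hsν]; group
      _ = κ aa.swap * κ (b, b) := by rw [hsκ, hνaa]
      _ = _ := by rw [← map_mul]; rfl
  have h4 : (y * ν) ^ 4 = 1 := by
    rw [show 4 = 2 * 2 from rfl, pow_mul, pow_two, pow_two, hyν2, ← map_mul,
      show ((a * b, a * b) * (a * b, a * b) : J) = e by decide +kernel, hκe]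
  let ψ₁ : D →* N ⧸ Z := dihHom y ν hy2 hνν h4
  have hψa : ψ₁ a = y := by
    show y * (y * ν) ^ (0 : ZMod 4).val = y
    simp
  have hψb : ψ₁ b = ν := by
    show y * (y * ν) ^ (1 : ZMod 4).val = ν
    rw [show (1 : ZMod 4).val = 1 from rfl, pow_one, ← mul_assoc, hy2, one_mul]
  have hAi : A'⁻¹ = A' := inv_eq_of_mul_eq_one_right hA2
  let ψ₂ : D →* N ⧸ Z := (MulAut.conj A').toMonoidHom.comp ψ₁
  -- the images of the generators commute
  have hyA : A' * y * A' = s := by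
    have e1 : (a0.swap * aa * a0 : J) = 1 := by decide +kernel
    calc A' * y * A' = (κ a0 * s) * κ aa * κ a0 := by rw [hy, hA]; group
      _ = s * (s * κ a0 * s) * κ aa * κ a0 := by
        rw [← mul_assoc s (s * κ a0), ← mul_assoc s s, hss, one_mul]
      _ = s := by rw [hsκ, mul_assoc, mul_assoc, ← map_mul, ← map_mul, ← mul_assoc, e1, map_one, mul_one]
  have hνA : A' * ν * A' = κ (a0 * b1) * ν := by
    calc A' * ν * A' = A' * (ν * κ a0 * ν) * ν⁻¹ := by rw [hA]; group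
      _ = κ (a0 * b1) * ν := by rw [hνa, hνi, hA, ← map_mul]
  have c11 : Commute y (A' * y * A') := by
    rw [hyA]
    show y * s = s * y
    rw [hy, mul_assoc, ← mul_assoc s s, hss, one_mul]
    calc s * (κ aa * s) = s * κ aa * s := by group
      _ = κ aa := by rw [hsκ]; rfl
  have c21 : Commute ν (A' * y * A') := by
    rw [hyA]
    exact hsν
  have c12 : Commute y (A' * ν * A') := by
    have e1 : A' * y * A' * ν = ν * (A' * y * A') := c21.eq.symm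
    show y * (A' * ν * A') = A' * ν * A' * y
    calc y * (A' * ν * A') = A' * (A' * y * A' * ν) * A' := by
          rw [← mul_assoc A' (A' * y * A') ν, ← mul_assoc A' (A' * y) A', ← mul_assoc A' A' y, hA2,
            one_mul]
          group
      _ = A' * (ν * (A' * y * A')) * A' := by rw [e1]
      _ = A' * ν * A' * y := by
          rw [mul_assoc A' (ν * (A' * y * A')) A', mul_assoc ν (A' * y * A') A',
            mul_assoc (A' * y) A' A', hA2, mul_one]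
          group
  have c22 : Commute ν (A' * ν * A') := by
    rw [hνA]
    have e1 : ν * κ (a0 * b1) * ν = κ (a0 * b1) := by
      rw [map_mul]
      calc ν * (κ a0 * κ b1) * ν = (ν * κ a0 * ν⁻¹) * (ν * κ b1 * ν) := by group
        _ = κ b1 * κ a0 := by rw [hνi, hνa, hνb]
        _ = κ a0 * κ b1 := by
          rw [← map_mul, ← map_mul, show (b1 * a0 : J) = a0 * b1 by decide +kernel]
    show ν * (κ (a0 * b1) * ν) = κ (a0 * b1) * ν * ν
    rw [← mul_assoc, e1, mul_assoc, hνν, mul_one]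
  have hcc : ∀ p q, Commute (ψ₁ p) (ψ₂ q) := by
    have h' : ∀ q, ∀ u, Commute u (A' * y * A') → Commute u (A' * ν * A') → Commute u (ψ₂ q) := by
      intro q u hu hv
      refine (Subgroup.mem_centralizer_singleton_iff.1 (D.top_le
        ((Subgroup.centralizer ({u} : Set (N ⧸ Z))).comap ψ₂) ?_ ?_ q)).symm
      · rw [Subgroup.mem_comap, Subgroup.mem_centralizer_singleton_iff]
        show A' * ψ₁ a * A'⁻¹ * u = u * (A' * ψ₁ a * A'⁻¹)
        rw [hψa, hAi]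
        exact hu.eq.symm
      · rw [Subgroup.mem_comap, Subgroup.mem_centralizer_singleton_iff]
        show A' * ψ₁ b * A'⁻¹ * u = u * (A' * ψ₁ b * A'⁻¹)
        rw [hψb, hAi]
        exact hv.eq.symm
    intro p q
    refine Subgroup.mem_centralizer_singleton_iff.1 (D.top_le
      ((Subgroup.centralizer ({ψ₂ q} : Set (N ⧸ Z))).comap ψ₁) ?_ ?_ p)
    · rw [Subgroup.mem_comap, Subgroup.mem_centralizer_singleton_iff, hψa]
      exact (h' q y c11 c12).eq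
    · rw [Subgroup.mem_comap, Subgroup.mem_centralizer_singleton_iff, hψb]
      exact (h' q ν c21 c22).eq
  let φ' : J →* N ⧸ Z := ψ₁.noncommCoprod ψ₂ hcc
  have hsw : ∀ x : J, A' * φ' x * A' = φ' x.swap := by
    intro x
    show A' * (ψ₁ x.1 * ψ₂ x.2) * A' = ψ₁ x.2 * ψ₂ x.1
    rw [(hcc x.2 x.1).eq]
    show A' * (ψ₁ x.1 * (A' * ψ₁ x.2 * A'⁻¹)) * A' = A' * ψ₁ x.1 * A'⁻¹ * ψ₁ x.2
    rw [hAi]
    calc A' * (ψ₁ x.1 * (A' * ψ₁ x.2 * A')) * A'
        = A' * ψ₁ x.1 * A' * ψ₁ x.2 * (A' * A') := by group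
      _ = _ := by rw [hA2, mul_one]
  let R : Subgroup (N ⧸ Z) :=
    { carrier := Set.range (h φ' A')
      one_mem' := ⟨(1, false), map_one φ'⟩
      mul_mem' := by
        rintro _ _ ⟨p, rfl⟩ ⟨q, rfl⟩
        exact ⟨_, (h_mul hA2 hsw p q).symm⟩
      inv_mem' := by
        rintro _ ⟨⟨x, _ | _⟩, rfl⟩
        · exact ⟨(x⁻¹, false), map_inv φ' x⟩
        · refine ⟨(x⁻¹.swap, true), eq_inv_of_mul_eq_one_left ?_⟩
          rw [h_mul hA2 hsw]
          show φ' ((x⁻¹.swap).swap * x) = 1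
          rw [Prod.swap_swap, inv_mul_cancel, map_one] }
  have hRψ : ∀ p, ψ₁ p ∈ R ∧ ψ₂ p ∈ R := fun p =>
    ⟨⟨((p, 1), false), by simp [h, φ']⟩, ⟨((1, p), false), by simp [h, φ']⟩⟩
  have hAR : A' ∈ R := ⟨(1, true), by simp [h]⟩
  have hνR : ν ∈ R := hψb ▸ (hRψ b).1
  have hsR : s ∈ R := by
    have e1 : ψ₂ a = s := by
      show A' * ψ₁ a * A'⁻¹ = s
      rw [hAi, hψa, hyA]
    exact e1 ▸ (hRψ a).2
  have hgen : ∀ x, κ x ∈ R := fun x => top_le_of_gens (R.comap κ) hAR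
    (show κ a1 ∈ R by
      rw [show a1 = a0.swap from rfl, ← hsκ]
      exact R.mul_mem (R.mul_mem hsR hAR) hsR)
    (show κ b0 ∈ R by
      rw [show b0 = b1.swap from rfl, ← hsκ, ← hνa]
      exact R.mul_mem (R.mul_mem hsR (R.mul_mem (R.mul_mem hνR hAR) hνR)) hsR)
    (show κ b1 ∈ R by
      rw [← hνa]
      exact R.mul_mem (R.mul_mem hνR hAR) hνR) x
  have hsurj : ∀ g : N ⧸ Z, g ∈ R := by
    have hPR : ∀ g : N, (g : S) ∈ P → π g ∈ R := by
      rintro ⟨g, hgN⟩ hg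
      rcases F.cases hg with ⟨x, rfl⟩ | ⟨x, rfl⟩
      · exact hgen x
      · have e1 : π ⟨F.σ * F.φ x, hgN⟩ = s * κ x := map_mul π ⟨F.σ, hPN F.σ_mem⟩
          ⟨F.φ x, hPN (F.φ_mem x)⟩
        rw [e1]
        exact R.mul_mem hsR (hgen x)
    intro q
    obtain ⟨g, rfl⟩ := QuotientGroup.mk'_surjective Z q
    by_cases hg : (g : S) ∈ P
    · exact hPR g hg
    · have h' : n⁻¹ * (g : S) ∈ P := F.outer_mul h2 hr hn hnP g.2 hg
      have e1 : g = ⟨n, hn⟩ * (⟨n, hn⟩⁻¹ * g) := (mul_inv_cancel_left _ _).symm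
      rw [e1, map_mul]
      exact R.mul_mem hνR (hPR _ h')
  have hcard : Nat.card (N ⧸ Z) = 128 := by
    have e1 := Subgroup.card_eq_card_quotient_mul_card_subgroup Z
    have e2 := Subgroup.card_mul_index (P.subgroupOf N)
    have h1 : (P.subgroupOf N).index = 2 := hidx
    rw [h1, Nat.card_congr (Subgroup.subgroupOfEquivOfLe hPN).toEquiv, F.card] at e2
    have h2 : Nat.card Z = 2 := by
      rw [Nat.card_congr (Subgroup.subgroupOfEquivOfLe (show Subgroup.center S ≤ N from fun g hg => by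
        rcases (hciff g).1 hg with rfl | rfl
        · exact N.one_mem
        · exact hPN (F.φ_mem e))).toEquiv]
      have : (Subgroup.center S : Set S) = {1, F.φ e} := Set.ext fun g => hciff g
      rw [← SetLike.coe_sort_coe, Nat.card_coe_set_eq, this, Set.ncard_pair]
      intro h'
      rw [← map_one F.φ] at h'
      exact absurd (F.φ_inj h') (by decide +kernel)
    rw [h2] at e1
    omega
  let G : Frame (⊤ : Subgroup (N ⧸ Z)) :=
    { φ := φ'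
      σ := A'
      sq := hA2
      swap := hsw
      inj := by
        have hb : Function.Bijective (h φ' A') := by
          refine (Nat.bijective_iff_surjective_and_card _).2 ⟨fun g => hsurj g, ?_⟩
          rw [hcard, Nat.card_prod, Nat.card_prod, DihedralGroup.nat_card, Nat.card_eq_fintype_card,
            Fintype.card_bool]
        exact hb.1
      range := fun g => ⟨fun _ => hsurj g, fun _ => trivial⟩ }
  obtain ⟨eq⟩ := G.nonempty_equiv F
  exact ⟨Subgroup.topEquiv.symm.trans eq⟩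

end Frame

end Cfsg.Agent.Spor.WreathD8
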